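import Cfsg.Agent.Lib.PCore.PSolvable
import Cfsg.Agent.Lib.Coprime.Commutator
import Cfsg.Agent.Lib.PGroup.Frattini
import Cfsg.Agent.Lib.Solvable.Fitting
import Cfsg.Agent.Lib.ModuleTrick.Dedekind
import Cfsg.Agent.Lib.ModuleTrick.Reduced
import Cfsg.Agent.Lib.ModuleTrick.Invariant

/-!
# Reductions for the theorems of Hall and Higman
-/

namespace CfsgLib.HallHigman

open Cfsg CfsgLib.PCore
open scoped IsMulCommutative commutatorElement

/-- In a `p`-soluble group with trivial `O_p`, the core `O_{p'}` contains its centralizer. -/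
theorem centralizer_pPrimeCore_le {G : Type*} [Group G] [Finite G] {p : ℕ} [hp : Fact p.Prime]
    (h : IsPSolvable p G) (h0 : pCore p G = ⊥) :
    Subgroup.centralizer (pPrimeCore p G : Set G) ≤ pPrimeCore p G := by
  set K := pPrimeCore p G with hK
  set C := Subgroup.centralizer (K : Set G) with hC
  by_contra hne
  set Z : Subgroup G := K ⊓ C with hZdef
  set f := QuotientGroup.mk' Z with hf
  have hfs : Function.Surjective f := QuotientGroup.mk'_surjective Z
  set Q := C.map f with hQ
  have hQn : Q.Normal := Subgroup.Normal.map inferInstance f hfs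
  have hnt : Nontrivial Q := by
    rw [Subgroup.nontrivial_iff_ne_bot, hQ, Ne, Subgroup.map_eq_bot_iff, hf, QuotientGroup.ker_mk']
    exact fun h => hne (h.trans inf_le_left)
  have key : ∀ M : Subgroup (G ⧸ Z), M.Normal → M ≤ Q →
      IsPGroup p M ∨ (Nat.card M).Coprime p → M = ⊥ := by
    intro M hMn hMQ hM
    set D := M.comap f with hD
    have hDn : D.Normal := hMn.comap f
    have hDC : D ≤ C := by
      refine (Subgroup.comap_mono hMQ).trans ?_
      rw [hQ, Subgroup.comap_map_eq, hf, QuotientGroup.ker_mk']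
      exact sup_le le_rfl inf_le_right
    have hDZ : D ≤ Z := by
      rcases hM with hM | hM
      · obtain ⟨S⟩ : Nonempty (Sylow p D) := inferInstance
        have htop : Z.subgroupOf D ⊔ (S : Subgroup D) = ⊤ := by
          rw [← Subgroup.index_eq_one]
          have h1 : (Z.subgroupOf D ⊔ (S : Subgroup D)).index ∣ (Z.subgroupOf D).index :=
            Subgroup.index_dvd_of_le le_sup_left
          have h2 : (Z.subgroupOf D ⊔ (S : Subgroup D)).index ∣ (S : Subgroup D).index :=
            Subgroup.index_dvd_of_le le_sup_right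
          have hpw : ∃ k, (Z.subgroupOf D).index = p ^ k := by
            obtain ⟨k, hk⟩ := hM.exists_card_eq
            refine ⟨k, ?_⟩
            change Z.relIndex D = p ^ k
            rw [← card_map_mk', hD, Subgroup.map_comap_eq_self_of_surjective hfs, hk]
          obtain ⟨k, hk⟩ := hpw
          rw [hk] at h1
          exact Nat.eq_one_of_dvd_coprimes
            (Nat.Coprime.pow_left k ((hp.out.coprime_iff_not_dvd).mpr S.not_dvd_index)) h1 h2
        have hSn : (S : Subgroup D).Normal := by
          rw [← Subgroup.normalizer_eq_top_iff, ← top_le_iff, ← htop]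
          refine sup_le (fun z hz => Subgroup.centralizer_le_normalizer _ fun w _ => ?_) Subgroup.le_normalizer
          exact Subtype.ext ((hDC w.2) (z : G) (Subgroup.mem_subgroupOf.mp hz).1).symm
        have h3 : (S : Subgroup D) ≤ pCore p D := le_pCore hSn S.2
        rw [pCore_eq_bot_of_normal D h0, le_bot_iff] at h3
        rw [h3, sup_bot_eq, Subgroup.subgroupOf_eq_top] at htop
        exact htop
      · refine le_inf (le_pPrimeCore hDn ?_) hDC
        rw [hD, hf, card_comap_mk']
        exact Nat.Coprime.mul_left (Nat.Coprime.coprime_dvd_left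
          (Subgroup.card_dvd_of_le inf_le_left) pPrimeCore_coprime) hM
    rw [← Subgroup.map_comap_eq_self_of_surjective hfs M, Subgroup.map_eq_bot_iff, hf,
      QuotientGroup.ker_mk']
    exact hDZ
  rcases pCore_ne_bot_or_pPrimeCore_ne_bot
      (isPSolvable_subgroup (isPSolvable_quotient h Z) Q) with hne' | hne'
  · apply hne'
    rw [← Subgroup.map_eq_bot_iff_of_injective _ Q.subtype_injective]
    exact key _ inferInstance (Subgroup.map_subtype_le _) (Or.inl (pCore_isPGroup.map _))
  · apply hne'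
    rw [← Subgroup.map_eq_bot_iff_of_injective _ Q.subtype_injective]
    exact key _ inferInstance (Subgroup.map_subtype_le _) (Or.inr
      (Nat.Coprime.coprime_dvd_left (Subgroup.card_map_dvd _ _) pPrimeCore_coprime))

/-- `Φ(O_p(G))` as a subgroup of `G`. -/
def frattiniCore (p : ℕ) (G : Type*) [Group G] : Subgroup G :=
  (frattini ↥(pCore p G)).map (pCore p G).subtype

instance frattiniCore_normal (p : ℕ) (G : Type*) [Group G] : (frattiniCore p G).Normal := by
  have : (pCore p G).Normal := CfsgLib.Fitting.pCore_normal p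
  unfold frattiniCore
  infer_instance

theorem frattiniCore_le (p : ℕ) (G : Type*) [Group G] : frattiniCore p G ≤ pCore p G :=
  Subgroup.map_subtype_le _

/-- `O_p` modulo its Frattini subgroup is elementary abelian and self-centralizing. -/
theorem frattini_quotient_props {G : Type*} [Group G] [Finite G] {p : ℕ} [hp : Fact p.Prime]
    (h : IsPSolvable p G) (h0 : pPrimeCore p G = ⊥) :
    (∀ a ∈ (pCore p G).map (QuotientGroup.mk' (frattiniCore p G)),
      ∀ b ∈ (pCore p G).map (QuotientGroup.mk' (frattiniCore p G)), a * b = b * a) ∧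
    (∀ a ∈ (pCore p G).map (QuotientGroup.mk' (frattiniCore p G)), a ^ p = 1) ∧
    Subgroup.centralizer (((pCore p G).map (QuotientGroup.mk' (frattiniCore p G))) : Set _) =
      (pCore p G).map (QuotientGroup.mk' (frattiniCore p G)) := by
  set V := pCore p G with hV
  set Φ := frattiniCore p G with hΦ
  set f := QuotientGroup.mk' Φ with hf
  have hVn : V.Normal := CfsgLib.Fitting.pCore_normal p
  have hVp : IsPGroup p V := pCore_isPGroup
  have hcomm : ∀ a ∈ V.map f, ∀ b ∈ V.map f, a * b = b * a := by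
    rintro _ ⟨a, ha, rfl⟩ _ ⟨b, hb, rfl⟩
    rw [← commutatorElement_eq_one_iff_mul_comm, ← map_commutatorElement]
    refine (QuotientGroup.eq_one_iff _).mpr ⟨⁅(⟨a, ha⟩ : V), ⟨b, hb⟩⁆, ?_, rfl⟩
    exact CfsgLib.PGroup.commutator_le_frattini hVp
      (Subgroup.commutator_mem_commutator (Subgroup.mem_top _) (Subgroup.mem_top _))
  refine ⟨hcomm, ?_, le_antisymm ?_ fun a ha b hb => hcomm b hb a ha⟩
  · rintro _ ⟨a, ha, rfl⟩
    rw [← map_pow]
    exact (QuotientGroup.eq_one_iff _).mpr ⟨_, CfsgLib.PGroup.pow_mem_frattini hVp ⟨a, ha⟩, rfl⟩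
  · set D := (Subgroup.centralizer ((V.map f : Subgroup _) : Set _)).comap f with hD
    have : (V.map f).Normal := hVn.map f (QuotientGroup.mk'_surjective Φ)
    have hDn : D.Normal := Subgroup.Normal.comap inferInstance f
    have hDV : D ≤ V := by
      refine le_pCore hDn ?_
      obtain ⟨k, hk⟩ : ∃ k, Nat.card D = p ^ k := by
        refine ⟨_, Nat.eq_prime_pow_of_unique_prime_dvd Nat.card_pos.ne' fun {q} hq hqd => ?_⟩
        by_contra hqp
        have := Fact.mk hq
        obtain ⟨z, hz⟩ := exists_prime_orderOf_dvd_card' q hqd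
        rw [← Subgroup.orderOf_coe] at hz
        have hcop : (Nat.card (Subgroup.zpowers (z : G))).Coprime (Nat.card (frattini V)) := by
          obtain ⟨j, hj⟩ := (hVp.to_subgroup (frattini V)).exists_card_eq
          rw [Nat.card_zpowers, hz, hj]
          exact Nat.Coprime.pow_right _ ((Nat.coprime_primes hq hp.out).mpr hqp)
        have hcen := CfsgLib.Coprime.le_centralizer_of_trivial_on_frattini (Subgroup.zpowers (z : G)) V
          (Subgroup.le_normalizer_of_normal) hcop fun a ha v hv => by
            have haD : a ∈ D := Subgroup.zpowers_le.mpr z.2 ha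
            have h1 := haD (f v) ⟨v, hv, rfl⟩
            show a * v * a⁻¹ * v⁻¹ ∈ Φ
            refine (QuotientGroup.eq_one_iff _).mp ?_
            show f _ = 1
            rw [map_mul, map_mul, map_mul, map_inv, map_inv, ← h1]
            simp
        have hzV : (z : G) ∈ V := centralizer_pCore_le h h0 (hcen (Subgroup.mem_zpowers _))
        obtain ⟨j, hj⟩ := IsPGroup.iff_orderOf.mp hVp ⟨z, hzV⟩
        rw [Subgroup.orderOf_mk, hz] at hj
        have := (Nat.prime_dvd_prime_iff_eq hq hp.out).mp (hq.dvd_of_dvd_pow (dvd_of_eq hj))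
        exact hqp this
      exact IsPGroup.of_card hk
    intro a ha
    obtain ⟨b, rfl⟩ := QuotientGroup.mk'_surjective Φ a
    exact ⟨b, hDV ha, rfl⟩

/-- An invariant `q`-subgroup on which a given power of a `p`-element acts nontrivially. -/
theorem exists_invariant_not_centralized {X : Type*} [Group X] [Finite X] {p : ℕ} [hp : Fact p.Prime]
    (h : IsPSolvable p X) (h0 : pCore p X = ⊥) (x y : X) (hx : ∃ k, orderOf x = p ^ k)
    (hy : y ∈ Subgroup.zpowers x) (hy1 : y ≠ 1) :
    ∃ (q : ℕ) (_ : Fact q.Prime) (Q : Subgroup X), q ≠ p ∧ IsPGroup q Q ∧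
      x ∈ Subgroup.normalizer (Q : Set X) ∧ y ∉ Subgroup.centralizer (Q : Set X) ∧
      ∃ S : Sylow q X, Q ≤ (S : Subgroup X) := by
  set K := pPrimeCore p X with hK
  have hKn : K.Normal := inferInstance
  obtain ⟨k, hk⟩ := hx
  have hyK : ¬ y ∈ Subgroup.centralizer (K : Set X) := by
    intro hc
    have h1 := centralizer_pPrimeCore_le h h0 hc
    have h2 : orderOf y ∣ Nat.card K := Subgroup.orderOf_mk y h1 ▸ orderOf_dvd_natCard (⟨y, h1⟩ : K)
    have h3 : orderOf y ∣ p ^ k := hk ▸ orderOf_dvd_of_mem_zpowers hy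
    exact hy1 (orderOf_eq_one_iff.mp (Nat.eq_one_of_dvd_coprimes
      (pPrimeCore_coprime.pow_right k) h2 h3))
  have hcop : (Nat.card (Subgroup.zpowers x)).Coprime (Nat.card K) := by
    rw [Nat.card_zpowers, hk]
    exact Nat.Coprime.pow_left k pPrimeCore_coprime.symm
  by_contra hcon
  push Not at hcon
  apply hyK
  have htop : (Subgroup.centralizer ({y} : Set X)).subgroupOf K = ⊤ := by
    apply CfsgLib.Fitting.eq_top_of_forall_sylow_le
    intro q hq hqd
    have := Fact.mk hq
    have hqp : q ≠ p := fun e => not_dvd_card_pPrimeCore (e ▸ hqd)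
    obtain ⟨P, hP⟩ := CfsgLib.Coprime.exists_invariant_sylow (Subgroup.zpowers x) K
      Subgroup.le_normalizer_of_normal hcop (Or.inl inferInstance) q
    refine ⟨P, fun z hz => ?_⟩
    by_contra hzc
    have hQp : IsPGroup q ((P : Subgroup K).map K.subtype) := P.2.map _
    obtain ⟨S, hS⟩ := hQp.exists_le_sylow
    refine hcon q ⟨hq⟩ _ hqp hQp (hP (Subgroup.mem_zpowers x)) ?_ S hS
    intro hyc
    apply hzc
    rw [Subgroup.mem_subgroupOf, Subgroup.mem_centralizer_singleton_iff]
    exact (hyc (z : X) ⟨z, hz, rfl⟩)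
  intro z hz
  have h1 : (⟨z, hz⟩ : K) ∈ (Subgroup.centralizer ({y} : Set X)).subgroupOf K := htop ▸ Subgroup.mem_top _
  rw [Subgroup.mem_subgroupOf, Subgroup.mem_centralizer_singleton_iff] at h1
  exact h1

/-- If all `v x` have order dividing `N`, then `∑_{i<N} s^i = 0` for the action `s` of `x` on `V`. -/
theorem sum_pow_conjEnd_eq_zero {G : Type*} [Group G] (V : Subgroup G) [V.Normal] [IsMulCommutative V]
    (x : G) (N : ℕ) (hN : ∀ v ∈ V, (v * x) ^ N = 1) :
    ∑ i ∈ Finset.range N, (CfsgLib.ModuleTrick.conjEnd V x) ^ i = 0 := by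
  set s := CfsgLib.ModuleTrick.conjEnd V x with hs
  have key : ∀ (v : Additive V) (k : ℕ), (((Additive.toMul v : V) : G) * x) ^ k =
      ((Additive.toMul ((∑ i ∈ Finset.range k, s ^ i) v) : V) : G) * x ^ k := by
    intro v k
    induction k with
    | zero => simp
    | succ k ih =>
      have e : (∑ i ∈ Finset.range (k + 1), s ^ i) = 1 + s * ∑ i ∈ Finset.range k, s ^ i := by
        rw [Finset.sum_range_succ', pow_zero, Finset.mul_sum, add_comm]
        simp [pow_succ']
      rw [pow_succ', ih, e]
      set w := (∑ i ∈ Finset.range k, s ^ i) v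
      show _ = ((Additive.toMul (v + s w) : V) : G) * x ^ (k + 1)
      rw [toMul_add, Subgroup.coe_mul, CfsgLib.ModuleTrick.conjEnd_apply, pow_succ']
      simp [mul_assoc]
  refine AddMonoidHom.ext fun v => ?_
  have h1 := key v N
  rw [hN _ (Additive.toMul v).2] at h1
  have h2 : x ^ N = 1 := by simpa using hN 1 V.one_mem
  rw [h2, mul_one] at h1
  exact Additive.toMul.injective (Subtype.ext h1.symm)

/-- The abelian case of the theorem of Hall and Higman. -/
theorem sum_pow_ne_zero_of_abelian {A : Type*} [AddCommGroup A] {p : ℕ} [hp : Fact p.Prime]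
    (hA : ∀ a : A, p • a = 0) {X : Type*} [Group X] [Finite X] (ρ : X →* AddMonoid.End A)
    (hρ : Function.Injective ρ) (x : X) (m : ℕ) (hx : x ^ p ^ (m + 1) = 1) {q : ℕ} [hq : Fact q.Prime]
    (hqp : q ≠ p) (Q : Subgroup X) (hQ : IsPGroup q Q) (hQc : ∀ a ∈ Q, ∀ b ∈ Q, a * b = b * a)
    (hxQ : x ∈ Subgroup.normalizer (Q : Set X)) (hy : x ^ p ^ m ∉ Subgroup.centralizer (Q : Set X)) :
    ∑ i ∈ Finset.range (p ^ (m + 1)), ρ x ^ i ≠ 0 := by
  have hE : (p : AddMonoid.End A) = 0 := AddMonoidHom.ext fun a =>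
    (AddMonoid.End.natCast_apply p a).trans (hA a)
  let T : Set (AddMonoid.End A) := ρ '' (Q : Set X)
  have hT : ∀ a ∈ T, ∀ b ∈ T, a * b = b * a := by
    rintro _ ⟨a, ha, rfl⟩ _ ⟨b, hb, rfl⟩
    rw [← map_mul, hQc a ha b hb, map_mul]
  have hTc : IsMulCommutative (Subring.closure T) := Subring.isMulCommutative_closure hT
  letI : CommRing (Subring.closure T) :=
    { (Subring.closure T).toRing with mul_comm := fun a b => isMulCommutative_iff.mp hTc a b }
  have hxx : ρ x * ρ x⁻¹ = 1 := by rw [← map_mul, mul_inv_cancel, map_one]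
  have hxx' : ρ x⁻¹ * ρ x = 1 := by rw [← map_mul, inv_mul_cancel, map_one]
  have hcancel : ∀ c, ρ x⁻¹ * (ρ x * c) = c := fun c => by rw [← mul_assoc, hxx', one_mul]
  have hmap : ∀ a ∈ Subring.closure T, ρ x * a * ρ x⁻¹ ∈ Subring.closure T := by
    intro a ha
    induction ha using Subring.closure_induction with
    | mem a ha =>
      obtain ⟨z, hz, rfl⟩ := ha
      rw [← map_mul, ← map_mul]
      exact Subring.subset_closure ⟨_, (Subgroup.mem_normalizer_iff.mp hxQ z).mp hz, rfl⟩
    | zero => simp
    | one => rw [mul_one, hxx]; exact one_mem _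
    | add a b _ _ iha ihb => rw [mul_add, add_mul]; exact add_mem iha ihb
    | neg a _ ih => rw [mul_neg, neg_mul]; exact neg_mem ih
    | mul a b _ _ iha ihb =>
      convert mul_mem iha ihb using 1
      simp [mul_assoc, hcancel]
  let φ : Subring.closure T →+* Subring.closure T :=
    { toFun := fun a => ⟨_, hmap a a.2⟩
      map_one' := Subtype.ext (by simp [hxx])
      map_mul' := fun a b => Subtype.ext (by simp [mul_assoc, hcancel])
      map_zero' := Subtype.ext (by simp)
      map_add' := fun a b => Subtype.ext (by simp [mul_add, add_mul]) }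
  have hφ : ∀ a, ρ x * (Subring.closure T).subtype a = (Subring.closure T).subtype (φ a) * ρ x :=
    fun a => by simp [φ, mul_assoc, hxx']
  have hiter : ∀ k a, (Subring.closure T).subtype (φ^[k] a) * ρ x ^ k =
      ρ x ^ k * (Subring.closure T).subtype a := fun k a =>
    (CfsgLib.ModuleTrick.pow_mul_twist _ φ (ρ x) hφ k a).symm
  have hn : ∀ a, φ^[p ^ (m + 1)] a = a := fun a => by
    apply Subtype.ext
    have h1 := hiter (p ^ (m + 1)) a
    rw [← map_pow, hx, map_one, one_mul, mul_one] at h1
    exact h1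
  obtain ⟨k, hk⟩ := hQ.exists_card_eq
  have hcop : (q ^ k).Coprime p := ((Nat.coprime_primes hq.out hp.out).mpr hqp).pow_left k
  obtain ⟨z, hz, hzy⟩ : ∃ z ∈ Q, z * x ^ p ^ m ≠ x ^ p ^ m * z := by
    by_contra hcon
    push Not at hcon
    exact hy fun z hz => hcon z hz
  refine CfsgLib.ModuleTrick.sum_pow_ne_zero p m hp.out (Subring.closure T).subtype Subtype.val_injective φ
    (ρ x) hφ hn
    (fun a ha => Subtype.ext (CfsgLib.ModuleTrick.eq_zero_of_nilpotent_mem_closure p hE T hT (q ^ k) hcop
      (by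
        rintro _ ⟨w, hw, rfl⟩
        rw [← map_pow, ← hk]
        have : (⟨w, hw⟩ : Q) ^ Nat.card Q = 1 := pow_card_eq_one'
        rw [show w ^ Nat.card Q = 1 from congrArg Subtype.val this, map_one]) a.2
      (ha.map (Subring.closure T).subtype)))
    ⟨⟨ρ z, Subring.subset_closure ⟨z, hz, rfl⟩⟩, fun e => hzy ?_⟩
  have h1 := hiter (p ^ m) ⟨ρ z, Subring.subset_closure ⟨z, hz, rfl⟩⟩
  rw [e] at h1
  simp only [Subring.subtype_apply, ← map_pow, ← map_mul] at h1
  exact hρ h1

end CfsgLib.HallHigman
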