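import Cfsg.Agent.Lib.PCore.PSolvable

/-!
# p-length: quotients, extensions, subdirect products
-/

namespace CfsgLib.HallHigman

open Cfsg CfsgLib.PCore

variable {p : ℕ} {G : Type*} [Group G] [Finite G] {H : Type*} [Group H] [Finite H]

theorem pLengthLE_mono {a b : ℕ} (hab : a ≤ b) (h : PLengthLE p a G) : PLengthLE p b G := by
  unfold PLengthLE at h ⊢
  exact top_le_iff.mp (h.ge.trans (upperPSeries_mono (by omega)))

variable [hp : Fact p.Prime]

theorem relIndex_upper_coprime {n : ℕ} (hn : Even n) :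
    ((upperPSeries p G n).1.relIndex (upperPSeries p G (n + 1)).1).Coprime p := by
  rw [← card_map_mk', upperPSeries_succ_of_even hn,
    Subgroup.map_comap_eq_self_of_surjective (QuotientGroup.mk'_surjective _)]
  exact pPrimeCore_coprime

theorem relIndex_upper_pow {n : ℕ} (hn : ¬ Even n) :
    ∃ m, (upperPSeries p G n).1.relIndex (upperPSeries p G (n + 1)).1 = p ^ m := by
  rw [← card_map_mk', upperPSeries_succ_of_odd hn,
    Subgroup.map_comap_eq_self_of_surjective (QuotientGroup.mk'_surjective _)]
  exact IsPGroup.iff_card.1 pCore_isPGroup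

/-- A normal series with the same alternation of factors, shifted by `s`, lies below the upper series. -/
theorem le_upper_of_series (s : ℕ) (hs : Even s) (L : ℕ → Subgroup G) (hn : ∀ n, (L n).Normal)
    (h0 : L 0 ≤ (upperPSeries p G s).1)
    (he : ∀ n, Even n → ((L n).relIndex (L (n + 1))).Coprime p)
    (ho : ∀ n, ¬ Even n → ∃ m, (L n).relIndex (L (n + 1)) = p ^ m) :
    ∀ n, L n ≤ (upperPSeries p G (n + s)).1 := by
  intro n
  induction n with
  | zero => simpa using h0
  | succ n ih =>
    haveI := hn (n + 1)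
    rw [Nat.succ_add]
    refine le_upperPSeries_succ (fun h => ?_) (fun h => ?_)
    · have hn' : Even n := (Nat.even_add.mp h).mpr hs
      exact Nat.Coprime.coprime_dvd_left (Subgroup.relIndex_dvd_of_le_left _ ih) (he n hn')
    · have hn' : ¬ Even n := fun h' => h (h'.add hs)
      obtain ⟨m, hm⟩ := ho n hn'
      obtain ⟨i, -, hi⟩ := (Nat.dvd_prime_pow hp.out).1 (hm ▸ Subgroup.relIndex_dvd_of_le_left _ ih)
      exact ⟨i, hi⟩

theorem map_upper_le (f : G →* H) (hf : Function.Surjective f) (n : ℕ) :
    (upperPSeries p G n).1.map f ≤ (upperPSeries p H n).1 := by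
  have hdvd : ∀ k, ((upperPSeries p G k).1.map f).relIndex ((upperPSeries p G (k + 1)).1.map f) ∣
      (upperPSeries p G k).1.relIndex (upperPSeries p G (k + 1)).1 := by
    intro k
    rw [Subgroup.relIndex_map_map]
    haveI := (upperPSeries p G k).2
    rw [show (upperPSeries p G (k + 1)).1 ⊔ f.ker =
      ((upperPSeries p G k).1 ⊔ f.ker) ⊔ (upperPSeries p G (k + 1)).1 by
        rw [sup_comm (upperPSeries p G k).1, sup_assoc,
          sup_eq_right.mpr (upperPSeries_le_succ (p := p) k), sup_comm],
      Subgroup.relIndex_sup_left]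
    exact Subgroup.relIndex_dvd_of_le_left _ le_sup_left
  simpa using le_upper_of_series (p := p) 0 (by decide) (fun k => (upperPSeries p G k).1.map f)
    (fun k => (upperPSeries p G k).2.map f hf) (by simp [upperPSeries_zero])
    (fun k hk => Nat.Coprime.coprime_dvd_left (hdvd k) (relIndex_upper_coprime hk))
    (fun k hk => by
      obtain ⟨m, hm⟩ := relIndex_upper_pow (p := p) (G := G) hk
      obtain ⟨i, -, hi⟩ := (Nat.dvd_prime_pow hp.out).1 (hm ▸ hdvd k)
      exact ⟨i, hi⟩) n

theorem pLengthLE_of_surjective (f : G →* H) (hf : Function.Surjective f) {k : ℕ}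
    (h : PLengthLE p k G) : PLengthLE p k H := by
  unfold PLengthLE at h ⊢
  have h1 := map_upper_le (p := p) f hf (2 * k + 1)
  rw [h, Subgroup.map_top_of_surjective _ hf] at h1
  exact top_le_iff.mp h1

theorem pLengthLE_quotient (N : Subgroup G) [N.Normal] {k : ℕ} (h : PLengthLE p k G) :
    PLengthLE p k (G ⧸ N) :=
  pLengthLE_of_surjective (QuotientGroup.mk' N) (QuotientGroup.mk'_surjective N) h

/-- Pulling back the upper series from a quotient by `N ≤` its `s`-th term. -/
theorem comap_upper_le (N : Subgroup G) [N.Normal] {s : ℕ} (hs : Even s)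
    (hN : N ≤ (upperPSeries p G s).1) (n : ℕ) :
    (upperPSeries p (G ⧸ N) n).1.comap (QuotientGroup.mk' N) ≤ (upperPSeries p G (n + s)).1 := by
  have hrel : ∀ k, ((upperPSeries p (G ⧸ N) k).1.comap (QuotientGroup.mk' N)).relIndex
      ((upperPSeries p (G ⧸ N) (k + 1)).1.comap (QuotientGroup.mk' N)) =
      (upperPSeries p (G ⧸ N) k).1.relIndex (upperPSeries p (G ⧸ N) (k + 1)).1 := fun k => by
    rw [Subgroup.relIndex_comap, Subgroup.map_comap_eq_self_of_surjective (QuotientGroup.mk'_surjective N)]
  exact le_upper_of_series (p := p) s hs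
    (fun k => (upperPSeries p (G ⧸ N) k).1.comap (QuotientGroup.mk' N))
    (fun k => (upperPSeries p (G ⧸ N) k).2.comap _)
    (by simpa [upperPSeries_zero, MonoidHom.comap_bot] using hN)
    (fun k hk => by rw [hrel]; exact relIndex_upper_coprime hk)
    (fun k hk => by rw [hrel]; exact relIndex_upper_pow hk) n

/-- A normal `p'`-subgroup does not change the `p`-length. -/
theorem pLengthLE_of_coprime_kernel (N : Subgroup G) [N.Normal] (hN : (Nat.card N).Coprime p) {k : ℕ}
    (h : PLengthLE p k (G ⧸ N)) : PLengthLE p k G := by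
  unfold PLengthLE at h ⊢
  -- the pulled back first term is already below the first term of `G`
  let L : ℕ → Subgroup G := fun n =>
    if n = 0 then ⊥ else (upperPSeries p (G ⧸ N) n).1.comap (QuotientGroup.mk' N)
  have hLn : ∀ n, (L n).Normal := fun n => by
    simp only [L]; split
    · infer_instance
    · exact (upperPSeries p (G ⧸ N) n).2.comap _
  have hrel : ∀ n, (L (n + 1)) = (upperPSeries p (G ⧸ N) (n + 1)).1.comap (QuotientGroup.mk' N) :=
    fun n => by simp [L]
  have key := le_upper_of_series (p := p) 0 (by decide) L hLn (by simp [L, upperPSeries_zero]) ?_ ?_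
    (2 * k + 1)
  · rw [hrel, h, Subgroup.comap_top] at key
    exact top_le_iff.mp key
  · intro n hn
    rw [hrel]
    rcases n with _ | n
    · rw [show L 0 = ⊥ from rfl, Subgroup.relIndex_bot_left, card_comap_mk', upperPSeries_one]
      exact Nat.Coprime.mul_left hN pPrimeCore_coprime
    · rw [hrel, Subgroup.relIndex_comap,
        Subgroup.map_comap_eq_self_of_surjective (QuotientGroup.mk'_surjective N)]
      exact relIndex_upper_coprime hn
  · intro n hn
    rcases n with _ | n
    · exact absurd (by decide) hn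
    · rw [hrel, hrel, Subgroup.relIndex_comap,
        Subgroup.map_comap_eq_self_of_surjective (QuotientGroup.mk'_surjective N)]
      exact relIndex_upper_pow hn

/-- A normal `p`-subgroup raises the `p`-length by at most one. -/
theorem pLengthLE_succ_of_pGroup_kernel (N : Subgroup G) [N.Normal] (hN : IsPGroup p N) {k : ℕ}
    (h : PLengthLE p k (G ⧸ N)) : PLengthLE p (k + 1) G := by
  unfold PLengthLE at h ⊢
  have hle : N ≤ (upperPSeries p G (0 + 2)).1 := by
    obtain ⟨m, hm⟩ := hN.exists_card_eq
    exact le_upperPSeries_add_two (A := ⊥) bot_le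
      (Or.inl ⟨m, by rw [Subgroup.relIndex_bot_left, hm]⟩)
  have h1 := comap_upper_le (p := p) N (s := 2) (by decide) hle (2 * k + 1)
  rw [h, Subgroup.comap_top] at h1
  rw [show 2 * (k + 1) + 1 = 2 * k + 1 + 2 by ring]
  exact top_le_iff.mp h1

theorem pPrimeCore_eq_top_of_pLengthLE_zero (h : PLengthLE p 0 G) : pPrimeCore p G = ⊤ := by
  rw [← upperPSeries_one]; exact h

/-- With trivial `O_{p'}`, passing to `G ⧸ O_p` lowers the `p`-length by one. -/
theorem pLengthLE_quotient_pCore (h0 : pPrimeCore p G = ⊥) {k : ℕ} (h : PLengthLE p (k + 1) G) :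
    PLengthLE p k (G ⧸ pCore p G) := by
  unfold PLengthLE at h ⊢
  set f := QuotientGroup.mk' (pCore p G)
  have hf : Function.Surjective f := QuotientGroup.mk'_surjective _
  have hu1 : (upperPSeries p G 1).1 = ⊥ := by rw [upperPSeries_one, h0]
  let L : ℕ → Subgroup (G ⧸ pCore p G) := fun n => (upperPSeries p G (n + 2)).1.map f
  have hdvd : ∀ n, (L n).relIndex (L (n + 1)) ∣
      (upperPSeries p G (n + 2)).1.relIndex (upperPSeries p G (n + 2 + 1)).1 := by
    intro n
    simp only [L]
    rw [Subgroup.relIndex_map_map]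
    haveI := (upperPSeries p G (n + 2)).2
    rw [show (upperPSeries p G (n + 1 + 2)).1 ⊔ f.ker =
      ((upperPSeries p G (n + 2)).1 ⊔ f.ker) ⊔ (upperPSeries p G (n + 2 + 1)).1 by
        rw [sup_comm (upperPSeries p G (n + 2)).1, sup_assoc,
          sup_eq_right.mpr (upperPSeries_le_succ (p := p) (n + 2)), sup_comm],
      Subgroup.relIndex_sup_left]
    exact Subgroup.relIndex_dvd_of_le_left _ le_sup_left
  have h0' : L 0 ≤ (upperPSeries p (G ⧸ pCore p G) 0).1 := by
    rw [upperPSeries_zero, le_bot_iff, Subgroup.map_eq_bot_iff, QuotientGroup.ker_mk']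
    obtain ⟨m, hm⟩ := relIndex_upper_pow (p := p) (G := G) (n := 1) (by decide)
    rw [hu1, Subgroup.relIndex_bot_left] at hm
    exact le_pCore (upperPSeries p G 2).2 (IsPGroup.of_card hm)
  have key := le_upper_of_series (p := p) 0 (by decide) L
    (fun n => (upperPSeries p G (n + 2)).2.map f hf) h0'
    (fun n hn => Nat.Coprime.coprime_dvd_left (hdvd n)
      (relIndex_upper_coprime (hn.add (by decide))))
    (fun n hn => by
      obtain ⟨m, hm⟩ := relIndex_upper_pow (p := p) (G := G) (n := n + 2)
        (fun h' => hn ((Nat.even_add.mp h').mpr (by decide)))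
      obtain ⟨i, -, hi⟩ := (Nat.dvd_prime_pow hp.out).1 (hm ▸ hdvd n)
      exact ⟨i, hi⟩) (2 * k + 1)
  simp only [L] at key
  rw [show 2 * k + 1 + 2 = 2 * (k + 1) + 1 by ring, h, Subgroup.map_top_of_surjective _ hf,
    add_zero] at key
  exact top_le_iff.mp key

/-- The `p`-length of a subdirect product. -/
theorem pLengthLE_of_inf_eq_bot (M N : Subgroup G) [M.Normal] [N.Normal] (hMN : M ⊓ N = ⊥) {k : ℕ}
    (hM : PLengthLE p k (G ⧸ M)) (hN : PLengthLE p k (G ⧸ N)) : PLengthLE p k G := by
  unfold PLengthLE at hM hN ⊢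
  let A : ℕ → Subgroup G := fun n => (upperPSeries p (G ⧸ M) n).1.comap (QuotientGroup.mk' M)
  let B : ℕ → Subgroup G := fun n => (upperPSeries p (G ⧸ N) n).1.comap (QuotientGroup.mk' N)
  have hA : ∀ n, (A n).Normal := fun n => (upperPSeries p (G ⧸ M) n).2.comap _
  have hB : ∀ n, (B n).Normal := fun n => (upperPSeries p (G ⧸ N) n).2.comap _
  have hdvd : ∀ n, (A n ⊓ B n).relIndex (A (n + 1) ⊓ B (n + 1)) ∣
      (upperPSeries p (G ⧸ M) n).1.relIndex (upperPSeries p (G ⧸ M) (n + 1)).1 *
        (upperPSeries p (G ⧸ N) n).1.relIndex (upperPSeries p (G ⧸ N) (n + 1)).1 := by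
    intro n
    haveI := hA n
    haveI := hB n
    set C := A (n + 1) ⊓ B (n + 1)
    have hBn : B n ≤ B (n + 1) := Subgroup.comap_mono (upperPSeries_le_succ n)
    have hAn : A n ≤ A (n + 1) := Subgroup.comap_mono (upperPSeries_le_succ n)
    rw [← Subgroup.relIndex_mul_relIndex (A n ⊓ B n) (A n ⊓ C) C
      (le_inf inf_le_left (inf_le_inf hAn hBn)) inf_le_right, mul_comm]
    have e1 : (A n ⊓ C).relIndex C = (A n).relIndex C := Subgroup.inf_relIndex_right _ _
    have e2 : (A n ⊓ B n).relIndex (A n ⊓ C) = (B n).relIndex (A n ⊓ C) := by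
      rw [← Subgroup.inf_relIndex_right (B n) (A n ⊓ C)]
      congr 1
      refine le_antisymm (le_inf inf_le_right (le_inf inf_le_left (inf_le_inf hAn hBn))) ?_
      exact le_inf (inf_le_right.trans inf_le_left) inf_le_left
    rw [e1, e2]
    refine Nat.mul_dvd_mul ?_ ?_
    · refine (relIndex_dvd_of_normal_le (inf_le_left : C ≤ A (n + 1))).trans (dvd_of_eq ?_)
      simp only [A]
      rw [Subgroup.relIndex_comap, Subgroup.map_comap_eq_self_of_surjective (QuotientGroup.mk'_surjective M)]
    · refine (relIndex_dvd_of_normal_le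
        (inf_le_right.trans inf_le_right : A n ⊓ C ≤ B (n + 1))).trans (dvd_of_eq ?_)
      simp only [B]
      rw [Subgroup.relIndex_comap, Subgroup.map_comap_eq_self_of_surjective (QuotientGroup.mk'_surjective N)]
  have key := le_upper_of_series (p := p) 0 (by decide) (fun n => A n ⊓ B n)
    (fun n => by haveI := hA n; haveI := hB n; infer_instance)
    (by simp [A, B, upperPSeries_zero, MonoidHom.comap_bot, hMN])
    (fun n hn => Nat.Coprime.coprime_dvd_left (hdvd n)
      (Nat.Coprime.mul_left (relIndex_upper_coprime hn) (relIndex_upper_coprime hn)))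
    (fun n hn => by
      obtain ⟨a, ha⟩ := relIndex_upper_pow (p := p) (G := G ⧸ M) hn
      obtain ⟨b, hb⟩ := relIndex_upper_pow (p := p) (G := G ⧸ N) hn
      have h2 := hdvd n
      rw [ha, hb, ← pow_add] at h2
      obtain ⟨i, -, hi⟩ := (Nat.dvd_prime_pow hp.out).1 h2
      exact ⟨i, hi⟩) (2 * k + 1)
  simp only [A, B, hM, hN, Subgroup.comap_top, inf_idem, add_zero] at key
  exact top_le_iff.mp key

end CfsgLib.HallHigman

namespace CfsgLib.HallHigman

open Cfsg CfsgLib.PCore

variable {p : ℕ} {G : Type*} [Group G] [Finite G] [hp : Fact p.Prime]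

theorem pLengthLE_of_equiv {H : Type*} [Group H] [Finite H] (e : G ≃* H) {k : ℕ} (h : PLengthLE p k G) :
    PLengthLE p k H := pLengthLE_of_surjective e.toMonoidHom e.surjective h

/-- The normal subgroups with quotient of bounded `p`-length are closed under intersection. -/
theorem pLengthLE_quotient_inf (M N : Subgroup G) [M.Normal] [N.Normal] {k : ℕ}
    (hM : PLengthLE p k (G ⧸ M)) (hN : PLengthLE p k (G ⧸ N)) : PLengthLE p k (G ⧸ M ⊓ N) := by
  set f := QuotientGroup.mk' (M ⊓ N)
  have hf : Function.Surjective f := QuotientGroup.mk'_surjective _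
  haveI : (M.map f).Normal := Subgroup.Normal.map inferInstance f hf
  haveI : (N.map f).Normal := Subgroup.Normal.map inferInstance f hf
  refine pLengthLE_of_inf_eq_bot (M.map f) (N.map f) ?_
    (pLengthLE_of_equiv (QuotientGroup.quotientQuotientEquivQuotient _ M inf_le_left).symm hM)
    (pLengthLE_of_equiv (QuotientGroup.quotientQuotientEquivQuotient _ N inf_le_right).symm hN)
  rw [eq_bot_iff]
  rintro _ ⟨⟨a, ha, rfl⟩, ⟨b, hb, hab⟩⟩
  rw [Subgroup.mem_bot]
  refine (QuotientGroup.eq_one_iff a).mpr ⟨ha, ?_⟩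
  have h1 : (b⁻¹ * a) ∈ M ⊓ N := QuotientGroup.eq.mp hab
  simpa using N.mul_mem hb h1.2

end CfsgLib.HallHigman
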