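import Cfsg.Agent.Lib.HallHigman.TwoLengthContra

/-!
# Gross's bound on the `2`-length
-/

namespace CfsgLib.HallHigman

open Cfsg CfsgLib.PCore CfsgLib.ModuleTrick
open scoped IsMulCommutative

universe u

/-- A solvable group whose Sylow `2`-subgroups have exponent dividing `2^(n+1)` has `2`-length at most
`2n + 1`. -/
theorem pLengthLE_two_of_exponent (n : ℕ) : ∀ (G : Type u) [Group G] [Finite G], Group.IsSolvable G →
    (∀ (P : Sylow 2 G), ∀ x ∈ (P : Subgroup G), x ^ 2 ^ (n + 1) = 1) → PLengthLE 2 (2 * n + 1) G := by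
  have := Fact.mk Nat.prime_two
  induction n with
  | zero =>
    intro G _ _ hG hexp
    refine pLengthLE_of_exponent 1 G isPSolvable_of_isSolvable ?_ hexp
    rintro ⟨q, n₀, d, hq, h1, h2, h3, h4, -⟩
    obtain rfl : n₀ = 1 := by omega
    have h5 := Nat.pow_le_pow_right hq.out.pos h3
    have := hq.out.two_le
    rw [pow_one] at h4 h5
    omega
  | succ n ih =>
    intro G _ _ hG hexp
    set m := n + 1 with hm
    refine pLengthLE_of_coprime_kernel (pPrimeCore 2 G) pPrimeCore_coprime ?_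
    have hexpH := pow_eq_one_of_surjective _ (QuotientGroup.mk'_surjective (pPrimeCore 2 G)) hexp
    have hH : IsPSolvable 2 (G ⧸ pPrimeCore 2 G) := isPSolvable_of_isSolvable
    have h0 : pPrimeCore 2 (G ⧸ pPrimeCore 2 G) = ⊥ := pPrimeCore_quotient_eq_bot
    have hHs : Group.IsSolvable (G ⧸ pPrimeCore 2 G) := inferInstance
    set H := G ⧸ pPrimeCore 2 G
    have : (pCore 2 H).Normal := CfsgLib.Fitting.pCore_normal 2
    rw [show 2 * m + 1 = 2 * n + 1 + 1 + 1 by omega]
    refine pLengthLE_succ_of_pGroup_kernel (pCore 2 H) pCore_isPGroup ?_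
    refine pLengthLE_of_coprime_kernel (pPrimeCore 2 (H ⧸ pCore 2 H)) pPrimeCore_coprime ?_
    set H₂ := (H ⧸ pCore 2 H) ⧸ pPrimeCore 2 (H ⧸ pCore 2 H)
    have : (pCore 2 H₂).Normal := CfsgLib.Fitting.pCore_normal 2
    refine pLengthLE_succ_of_pGroup_kernel (pCore 2 H₂) pCore_isPGroup
      (ih (H₂ ⧸ pCore 2 H₂) inferInstance ?_)
    intro Q
    -- the action of `H ⧸ O_2(H)`
    obtain ⟨hcomm, hpow, hcen⟩ := frattini_quotient_props hH h0
    set f1 := QuotientGroup.mk' (frattiniCore 2 H) with hf1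
    set W := (pCore 2 H).map f1 with hW
    have : W.Normal := Subgroup.Normal.map inferInstance f1 (QuotientGroup.mk'_surjective _)
    have : IsMulCommutative W := ⟨⟨fun a b => Subtype.ext (hcomm a a.2 b b.2)⟩⟩
    let c := (conjEnd W).comp f1
    have hker : c.ker = pCore 2 H := by
      rw [← MonoidHom.comap_ker, conjEnd_ker, hcen, hW, Subgroup.comap_map_eq, hf1, QuotientGroup.ker_mk',
        sup_eq_left]
      exact frattiniCore_le 2 H
    let ρ : H ⧸ pCore 2 H →* AddMonoid.End (Additive W) := QuotientGroup.lift (pCore 2 H) c hker.ge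
    have hρ : Function.Injective ρ := by
      rw [injective_iff_map_eq_one]
      intro a
      induction a using QuotientGroup.induction_on with
      | H a => exact fun h => (QuotientGroup.eq_one_iff a).mpr (hker.le h)
    have hA : ∀ a : Additive W, 2 • a = 0 := fun a => by
      apply Additive.toMul.injective
      apply Subtype.ext
      rw [toMul_nsmul, Subgroup.coe_pow]
      exact hpow _ (Additive.toMul a).2
    obtain ⟨V₂, _, _, _, Φ, hΦ⟩ := exists_linear_model hA
    have : CharP (AlgebraicClosure (ZMod 2)) 2 :=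
      charP_of_injective_algebraMap (algebraMap (ZMod 2) (AlgebraicClosure (ZMod 2))).injective 2
    let γ : H ⧸ pCore 2 H →* Module.End (AlgebraicClosure (ZMod 2)) V₂ := Φ.toMonoidHom.comp ρ
    have hπ := QuotientGroup.mk'_surjective (pCore 2 H)
    have hdeg : ∀ a : H ⧸ pCore 2 H, (∃ k : ℕ, a ^ 2 ^ k = 1) →
        a ^ 2 ^ (m + 1) = 1 ∧ (γ a - 1) ^ (2 ^ (m + 1) - 1) = 0 := by
      rintro a ⟨k, hk⟩
      obtain ⟨a₀, rfl⟩ := hπ a
      obtain ⟨j, i, hji, hj⟩ := exists_two_part a₀ k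
      have h1 : QuotientGroup.mk' (pCore 2 H) a₀ = QuotientGroup.mk' (pCore 2 H) (a₀ ^ j) := by
        rw [map_pow]
        conv_lhs => rw [← pow_one (QuotientGroup.mk' (pCore 2 H) a₀)]
        exact pow_eq_pow_iff_modEq.mpr (hj.symm.of_dvd (orderOf_dvd_of_pow_eq_one hk))
      rw [h1]
      set b := a₀ ^ j
      have hbp : IsPGroup 2 (Subgroup.zpowers b) := by
        obtain ⟨i', -, hi'⟩ := (Nat.dvd_prime_pow Nat.prime_two).mp (orderOf_dvd_of_pow_eq_one hji)
        exact IsPGroup.of_card (n := i') (by rw [Nat.card_zpowers, hi'])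
      obtain ⟨P', hP'⟩ := (hbp.to_sup_of_normal_right (pCore_isPGroup (p := 2) (G := H))).exists_le_sylow
      refine ⟨by rw [← map_pow, hexpH P' b (hP' (Subgroup.mem_sup_left (Subgroup.mem_zpowers b))), map_one], ?_⟩
      have h2 : (conjEnd W (f1 b) - 1) ^ (2 ^ (m + 1) - 1) = 0 := by
        rw [← geom_sum_eq_sub_one_pow 2 (m + 1) (natCast_end_eq_zero W hpow)]
        refine sum_pow_conjEnd_eq_zero W (f1 b) _ ?_
        rintro _ ⟨v, hv, rfl⟩
        rw [← map_mul, ← map_pow, hexpH P' (v * b) (hP' (Subgroup.mul_mem _ (Subgroup.mem_sup_right hv)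
          (Subgroup.mem_sup_left (Subgroup.mem_zpowers b)))), map_one]
      show (Φ (conjEnd W (f1 b)) - 1) ^ (2 ^ (m + 1) - 1) = 0
      rw [← map_one Φ, ← map_sub, ← map_pow, h2, map_zero]
    obtain ⟨R, hR⟩ := exists_sylow_eq_map _ (QuotientGroup.mk'_surjective (pCore 2 H₂)) Q
    obtain ⟨S, hS⟩ := exists_sylow_eq_map _ (QuotientGroup.mk'_surjective (pPrimeCore 2 (H ⧸ pCore 2 H))) R
    rw [hR, hS]
    rintro _ ⟨_, ⟨a, ha, rfl⟩, rfl⟩
    rw [← map_pow]
    refine (QuotientGroup.eq_one_iff _).mpr ?_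
    obtain ⟨k, hk⟩ := S.2 ⟨a, ha⟩
    exact pow_mem_pCore_two inferInstance pCore_quotient_pCore γ (hΦ.comp hρ) m hdeg a
      ⟨k, congrArg Subtype.val hk⟩

end CfsgLib.HallHigman
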