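import Cfsg.Agent.Lib.HallHigman.Setup

/-!
# Semisimplifying a normal 2-subgroup away
-/

namespace CfsgLib.HallHigman

open Cfsg CfsgLib.ModuleTrick
open scoped IsMulCommutative

universe u

/-- Endomorphisms agreeing everywhere are equal. -/
theorem addEnd_ext {A : Type*} [AddCommGroup A] {f g : AddMonoid.End A} (h : ∀ a, f a = g a) : f = g :=
  DFunLike.ext _ _ h

/-- The product of two actions. -/
def prodEndHom {G A B : Type*} [Group G] [AddCommGroup A] [AddCommGroup B] (f : G →* AddMonoid.End A)
    (g : G →* AddMonoid.End B) : G →* AddMonoid.End (A × B) where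
  toFun x := AddMonoidHom.prodMap (f x) (g x)
  map_one' := by rw [map_one, map_one]; rfl
  map_mul' x y := by rw [map_mul, map_mul]; rfl

theorem prodEndHom_apply {G A B : Type*} [Group G] [AddCommGroup A] [AddCommGroup B]
    (f : G →* AddMonoid.End A) (g : G →* AddMonoid.End B) (x : G) (a : A × B) :
    prodEndHom f g x a = (f x a.1, g x a.2) := rfl

theorem prodEndHom_sub_one_pow {G A B : Type*} [Group G] [AddCommGroup A] [AddCommGroup B]
    (f : G →* AddMonoid.End A) (g : G →* AddMonoid.End B) (x : G) (k : ℕ)
    (hf : (f x - 1) ^ k = 0) (hg : (g x - 1) ^ k = 0) : (prodEndHom f g x - 1) ^ k = 0 := by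
  have key : ∀ (j : ℕ) (a : A × B), ((prodEndHom f g x - 1) ^ j) a = (((f x - 1) ^ j) a.1, ((g x - 1) ^ j) a.2) := by
    intro j
    induction j with
    | zero => exact fun a => rfl
    | succ j ih =>
      intro a
      rw [pow_succ', pow_succ', pow_succ']
      show (prodEndHom f g x - 1) (((prodEndHom f g x - 1) ^ j) a) = _
      rw [ih a]
      rfl
  refine addEnd_ext fun a => ?_
  rw [key k a, hf, hg]
  rfl

theorem prodEndHom_list_prod {G A B : Type*} [Group G] [AddCommGroup A] [AddCommGroup B]
    (f : G →* AddMonoid.End A) (g : G →* AddMonoid.End B) (l : List G)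
    (hf : (l.map fun x => f x - 1).prod = 0) (hg : (l.map fun x => g x - 1).prod = 0) :
    (l.map fun x => prodEndHom f g x - 1).prod = 0 := by
  have key : ∀ (l : List G) (a : A × B), (l.map fun x => prodEndHom f g x - 1).prod a =
      ((l.map fun x => f x - 1).prod a.1, (l.map fun x => g x - 1).prod a.2) := by
    intro l
    induction l with
    | nil => exact fun a => rfl
    | cons x l ih =>
      intro a
      rw [List.map_cons, List.map_cons, List.map_cons, List.prod_cons, List.prod_cons, List.prod_cons]
      show (prodEndHom f g x - 1) ((l.map fun x => prodEndHom f g x - 1).prod a) = _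
      rw [ih a]
      rfl
  refine addEnd_ext fun a => ?_
  rw [key l a, hf, hg]
  rfl

theorem prodEndHom_eq_one {G A B : Type*} [Group G] [AddCommGroup A] [AddCommGroup B]
    {f : G →* AddMonoid.End A} {g : G →* AddMonoid.End B} {x : G} (h : prodEndHom f g x = 1) :
    f x = 1 ∧ g x = 1 :=
  ⟨addEnd_ext fun a => congrArg Prod.fst (DFunLike.congr_fun h (a, 0)),
    addEnd_ext fun b => congrArg Prod.snd (DFunLike.congr_fun h (0, b))⟩

/-- A representation in characteristic two has a graded version killing a normal `2`-subgroup. -/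
theorem exists_graded_end {G : Type u} [Group G] [Finite G] (U : Subgroup G) [hUn : U.Normal]
    (hU : IsPGroup 2 U) (n : ℕ) : ∀ (A : Type u) [AddCommGroup A] [Finite A], Nat.card A = n →
      (∀ a : A, 2 • a = 0) → ∀ γ : G →* AddMonoid.End A,
      ∃ (A' : Type u) (_ : AddCommGroup A') (_ : Finite A') (δ : G →* AddMonoid.End A'),
        (∀ a : A', 2 • a = 0) ∧ (∀ u ∈ U, δ u = 1) ∧
        (∀ l : List G, (l.map fun g => γ g - 1).prod = 0 → (l.map fun g => δ g - 1).prod = 0) ∧
        ∀ g : G, Odd (orderOf g) → δ g = 1 → γ g = 1 := by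
  have := Fact.mk Nat.prime_two
  induction n using Nat.strong_induction_on with
  | h n ih =>
  intro A _ _ hn hA γ
  by_cases htriv : ∀ u ∈ U, γ u = 1
  · exact ⟨A, inferInstance, inferInstance, γ, hA, htriv, fun _ h => h, fun _ _ h => h⟩
  let F : AddSubgroup A :=
    { carrier := {a | ∀ u ∈ U, γ u a = a}
      zero_mem' := fun u _ => map_zero _
      add_mem' := fun {a b} ha hb u hu => by rw [map_add, ha u hu, hb u hu]
      neg_mem' := fun {a} ha u hu => by rw [map_neg, ha u hu] }
  have hmul : ∀ (g h : G) (a : A), γ (g * h) a = γ g (γ h a) := fun g h a => by rw [map_mul]; rfl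
  have hFinv : ∀ (g : G), ∀ a ∈ F, γ g a ∈ F := fun g a ha u hu => by
    rw [← hmul, show u * g = g * (g⁻¹ * u * g) by group, hmul,
      ha _ (by simpa using hUn.conj_mem u hu g⁻¹)]
  -- the fixed points are nontrivial
  obtain ⟨a₀, ha₀, ha₀0⟩ : ∃ a ∈ F, a ≠ 0 := by
    by_contra h
    push Not at h
    have hne : ∃ a : A, a ≠ 0 := by
      by_contra h1
      push Not at h1
      exact htriv fun u _ => addEnd_ext fun a => by rw [h1 a, map_zero]; rfl
    obtain ⟨a, ha⟩ := hne
    let : MulAction U A :=
      { smul := fun u a => γ (u : G) a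
        one_smul := fun a => by show γ (1 : G) a = a; rw [map_one]; rfl
        mul_smul := fun u v a => hmul u v a }
    have h1 := hU.card_modEq_card_fixedPoints A
    have h2 : MulAction.fixedPoints U A = {0} := Set.eq_singleton_iff_unique_mem.mpr
      ⟨fun u => map_zero (γ (u : G)), fun b hb => h b fun u hu => hb ⟨u, hu⟩⟩
    rw [h2, Nat.card_coe_set_eq, Set.ncard_singleton] at h1
    have h3 : 2 ∣ Nat.card A := by
      have : addOrderOf a = 2 := addOrderOf_eq_prime (hA a) ha
      exact this ▸ addOrderOf_dvd_natCard a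
    rw [Nat.ModEq, Nat.mod_eq_zero_of_dvd h3] at h1
    exact absurd h1 (by norm_num)
  let γF : G →* AddMonoid.End F :=
    { toFun := fun g => AddMonoidHom.codRestrict (AddMonoidHom.comp (γ g) F.subtype) F fun a => hFinv g a a.2
      map_one' := addEnd_ext fun a => Subtype.ext (by show γ 1 (a : A) = a; rw [map_one]; rfl)
      map_mul' := fun g h => addEnd_ext fun a => Subtype.ext (hmul g h a) }
  let γQ : G →* AddMonoid.End (A ⧸ F) :=
    { toFun := fun g => QuotientAddGroup.map F F (γ g) fun a ha => hFinv g a ha
      map_one' := addEnd_ext fun a => QuotientAddGroup.induction_on a fun a => by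
        show ((γ 1 a : A) : A ⧸ F) = a
        rw [map_one]; rfl
      map_mul' := fun g h => addEnd_ext fun a => QuotientAddGroup.induction_on a fun a => by
        show ((γ (g * h) a : A) : A ⧸ F) = ((γ g (γ h a) : A) : A ⧸ F)
        rw [hmul] }
  have hlt : Nat.card (A ⧸ F) < n := by
    have h1 := F.card_eq_card_quotient_mul_card_addSubgroup
    have h2 : 1 < Nat.card F :=
      Finite.one_lt_card_iff_nontrivial.mpr ⟨⟨a₀, ha₀⟩, 0, fun e => ha₀0 (congrArg Subtype.val e)⟩
    have h3 : 0 < Nat.card (A ⧸ F) := Nat.card_pos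
    rw [← hn, h1]
    calc Nat.card (A ⧸ F) = Nat.card (A ⧸ F) * 1 := (mul_one _).symm
      _ < Nat.card (A ⧸ F) * Nat.card F := Nat.mul_lt_mul_of_pos_left h2 h3
  obtain ⟨Q', _, _, δQ, hQ2, hQU, hQdeg, hQodd⟩ := ih _ hlt (A ⧸ F) rfl
    (fun a => QuotientAddGroup.induction_on a fun a => by
      rw [← QuotientAddGroup.mk_nsmul, hA a]; rfl) γQ
  refine ⟨F × Q', inferInstance, inferInstance, prodEndHom γF δQ, fun a => Prod.ext ?_ (hQ2 a.2),
    fun u hu => ?_, fun l hl => ?_, fun g hg hδ => ?_⟩
  · exact Subtype.ext (hA (a.1 : A))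
  · refine addEnd_ext fun a => ?_
    rw [prodEndHom_apply, hQU u hu]
    exact Prod.ext (Subtype.ext (a.1.2 u hu)) rfl
  · refine prodEndHom_list_prod _ _ l ?_ (hQdeg l ?_)
    · have key : ∀ (l : List G) (a : F), (((l.map fun x => γF x - 1).prod a : F) : A) =
          (l.map fun x => γ x - 1).prod (a : A) := by
        intro l
        induction l with
        | nil => exact fun a => rfl
        | cons x l ih' =>
          intro a
          rw [List.map_cons, List.map_cons, List.prod_cons, List.prod_cons]
          show γ x (((l.map fun x => γF x - 1).prod a : F) : A) - (((l.map fun x => γF x - 1).prod a : F) : A) = _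
          rw [ih' a]
          rfl
      exact addEnd_ext fun a => Subtype.ext (by rw [key, hl]; rfl)
    · have key : ∀ (l : List G) (a : A), (l.map fun x => γQ x - 1).prod (a : A ⧸ F) =
          (((l.map fun x => γ x - 1).prod a : A) : A ⧸ F) := by
        intro l
        induction l with
        | nil => exact fun a => rfl
        | cons x l ih' =>
          intro a
          rw [List.map_cons, List.map_cons, List.prod_cons, List.prod_cons]
          show (γQ x - 1) ((l.map fun x => γQ x - 1).prod (a : A ⧸ F)) = _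
          rw [ih' a]
          rfl
      exact addEnd_ext fun a => QuotientAddGroup.induction_on a fun a => by rw [key, hl]; rfl
  · obtain ⟨hF1, hQ1⟩ := prodEndHom_eq_one hδ
    have hq := hQodd g hg hQ1
    refine addEnd_ext fun a => ?_
    set d := γ g a - a with hd
    have hdF : d ∈ F := by
      have h1 : ((γ g a : A) : A ⧸ F) = (a : A ⧸ F) := DFunLike.congr_fun hq (a : A ⧸ F)
      exact (QuotientAddGroup.eq_iff_sub_mem).mp h1
    have hgd : γ g d = d := by
      have h1 : γF g ⟨d, hdF⟩ = ⟨d, hdF⟩ := by rw [hF1]; rfl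
      exact congrArg Subtype.val h1
    have hk : ∀ j : ℕ, γ (g ^ j) a = a + j • d := by
      intro j
      induction j with
      | zero => rw [pow_zero, map_one, zero_nsmul, add_zero]; rfl
      | succ j ih' =>
        rw [pow_succ', hmul, ih', map_add, map_nsmul, hgd, succ_nsmul, show γ g a = a + d by rw [hd]; abel]
        abel
    have h1 := hk (orderOf g)
    rw [pow_orderOf_eq_one, map_one] at h1
    obtain ⟨j, hj⟩ := hg
    rw [hj, add_nsmul, mul_comm, mul_nsmul', one_nsmul, hA d, nsmul_zero, zero_add] at h1
    have h2 : a + d = a + 0 := by rw [add_zero]; exact h1.symm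
    have h3 := add_left_cancel h2
    rw [hd, sub_eq_zero] at h3
    exact h3

/-- If all `v x` have the same `N`-th power, the norm of `x` vanishes on `V`. -/
theorem sum_pow_conjEnd_eq_zero_of_eq {G : Type*} [Group G] (V : Subgroup G) [V.Normal] [IsMulCommutative V]
    (x : G) (N : ℕ) (hN : ∀ v ∈ V, (v * x) ^ N = x ^ N) :
    ∑ i ∈ Finset.range N, (CfsgLib.ModuleTrick.conjEnd V x) ^ i = 0 := by
  set s := CfsgLib.ModuleTrick.conjEnd V x with hs
  have key : ∀ (v : Additive V) (k : ℕ), (((Additive.toMul v : V) : G) * x) ^ k =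
      ((Additive.toMul ((∑ i ∈ Finset.range k, s ^ i) v) : V) : G) * x ^ k := by
    intro v k
    induction k with
    | zero => simp
    | succ k ih =>
      have e : (∑ i ∈ Finset.range (k + 1), s ^ i) = 1 + s * ∑ i ∈ Finset.range k, s ^ i := by
        rw [Finset.sum_range_succ', pow_zero, Finset.mul_sum, add_comm]
        simp [pow_succ']
      rw [pow_succ', ih, e]
      set w := (∑ i ∈ Finset.range k, s ^ i) v
      show _ = ((Additive.toMul (v + s w) : V) : G) * x ^ (k + 1)
      rw [toMul_add, Subgroup.coe_mul, CfsgLib.ModuleTrick.conjEnd_apply, pow_succ']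
      simp [mul_assoc]
  refine addEnd_ext fun v => ?_
  have h1 := key v N
  rw [hN _ (Additive.toMul v).2] at h1
  exact Additive.toMul.injective (Subtype.ext (mul_eq_right.mp h1.symm))

end CfsgLib.HallHigman
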