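import Cfsg.Agent.Lib.HallHigman.TwoLengthSection
import Cfsg.Agent.Lib.HallHigman.TwoLengthGraded
import Cfsg.Agent.Lib.HallHigman.TwoLength

/-!
# The sharp bound on the `2`-length by the exponent

If a solvable group `X` with `O₂(X) = 1` acts with all `2`-elements exceptional at level `m + 1`, then
`X ⧸ O_{2',2}(X)` acts with all `2`-elements exceptional at level `m`. So the `2`-length is at most `e`.
-/

namespace CfsgLib.HallHigman

open Module (End)
open Cfsg CfsgLib.PCore CfsgLib.ModuleTrick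
open scoped commutatorElement IsMulCommutative

universe u

variable {X : Type u} [Group X]

/-- The quotient by the whole group has `2`-length zero. -/
theorem pLengthLE_quotient_top {G : Type u} [Group G] (k : ℕ) : PLengthLE 2 k (G ⧸ (⊤ : Subgroup G)) :=
  (Subgroup.eq_top_iff' _).mpr fun x => by
    have h1 : x = 1 := QuotientGroup.induction_on x fun a => (QuotientGroup.eq_one_iff a).mpr (Subgroup.mem_top a)
    rw [h1]
    exact one_mem _

/-- An element conjugated to `z w` with `w` fixed of coprime order is fixed. -/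
theorem eq_one_of_conj_eq_mul {h z w : X} {i o : ℕ} (hhz : h * z * h⁻¹ = z * w) (hw : h * w = w * h)
    (hwi : w ^ 2 ^ i = 1) (ho : h ^ o = 1) (hodd : Odd o) : w = 1 := by
  have key : ∀ j : ℕ, h ^ j * z * (h ^ j)⁻¹ = z * w ^ j := by
    intro j
    induction j with
    | zero => simp
    | succ j ih =>
      rw [pow_succ' h, show h * h ^ j * z * (h * h ^ j)⁻¹ = h * (h ^ j * z * (h ^ j)⁻¹) * h⁻¹ by group, ih,
        show h * (z * w ^ j) * h⁻¹ = (h * z * h⁻¹) * (h * w ^ j * h⁻¹) by group, hhz,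
        ((show Commute h w from hw).pow_right j).eq, mul_inv_cancel_right, mul_assoc, ← pow_succ']
  have h1 := key o
  rw [ho, one_mul, inv_one, mul_one, left_eq_mul] at h1
  exact orderOf_eq_one_iff.mp (Nat.eq_one_of_dvd_coprimes
    ((Nat.coprime_two_right.mpr hodd).pow_right i)
    (orderOf_dvd_of_pow_eq_one h1) (orderOf_dvd_of_pow_eq_one hwi))

instance omegaCentre_normal {D : Subgroup X} [hD : D.Normal] : (omegaCentre D).Normal :=
  ⟨fun _ hz g => omegaCentre_conj_mem (by rw [Subgroup.normalizer_eq_top_iff.mpr hD]; exact Subgroup.mem_top g) hz⟩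

theorem centreOf_normal {D : Subgroup X} (hD : D.Normal) : (centreOf D).Normal :=
  ⟨fun _ hz g => conj_mem_centreOf hD g hz⟩

/-- Odd powers recover the image of an element with odd order. -/
theorem exists_odd_order_lift {H Y : Type*} [Group H] [Finite H] [Group Y] (f : H →* Y) (g : H) (o : ℕ)
    (ho : Odd o) (hg : f g ^ o = 1) : ∃ g' : H, Odd (orderOf g') ∧ f g' = f g := by
  obtain ⟨i, o', ho', hao⟩ := Nat.exists_eq_pow_mul_and_not_dvd (orderOf_pos g).ne' 2 (by norm_num)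
  obtain ⟨k, hk0, hk1⟩ := Nat.chineseRemainder ((Nat.coprime_two_left.mpr ho).pow_left i) 0 1
  refine ⟨g ^ k, ?_, ?_⟩
  · refine Odd.of_dvd_nat (Nat.not_even_iff_odd.mp fun h => ho' (even_iff_two_dvd.mp h)) ?_
    rw [orderOf_dvd_iff_pow_eq_one, ← pow_mul, ← orderOf_dvd_iff_pow_eq_one, hao]
    exact Nat.mul_dvd_mul_right (Nat.modEq_zero_iff_dvd.mp hk0) _
  · rw [map_pow, pow_eq_pow_iff_modEq.mpr (hk1.of_dvd (orderOf_dvd_of_pow_eq_one hg)), pow_one]

variable [Finite X] {K : Type*} [Field K] [IsAlgClosed K] [CharP K 2]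
  {V : Type*} [AddCommGroup V] [Module K V] [FiniteDimensional K V]

set_option maxHeartbeats 1600000 in
/-- The inductive step: `X ⧸ O_{2',2}(X)` is exceptional one level lower. -/
theorem exists_exceptional_quotient_rep (hX : Group.IsSolvable X) (h0 : pCore 2 X = ⊥) (γ : X →* End K V)
    (hγ : Function.Injective γ) (m : ℕ)
    (hdeg : ∀ a : X, (∃ k : ℕ, a ^ 2 ^ k = 1) →
      a ^ 2 ^ (m + 1) = 1 ∧ (γ a - 1) ^ (2 ^ (m + 1) - 1) = 0) :
    ∃ (W : Type u) (_ : AddCommGroup W) (_ : Finite W)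
      (δ : (X ⧸ pPrimeCore 2 X) ⧸ pCore 2 (X ⧸ pPrimeCore 2 X) →* AddMonoid.End W),
      (∀ a : W, 2 • a = 0) ∧ Function.Injective δ ∧
      ∀ a, (∃ k : ℕ, a ^ 2 ^ k = 1) → a ^ 2 ^ m = 1 ∧ (δ a - 1) ^ (2 ^ m - 1) = 0 := by
  classical
  have := Fact.mk Nat.prime_two
  have hXp : IsPSolvable 2 X := isPSolvable_of_isSolvable
  set K₀ := pPrimeCore 2 X with hK₀
  set π := QuotientGroup.mk' K₀ with hπ
  have hπs : Function.Surjective π := QuotientGroup.mk'_surjective K₀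
  have hH : IsPSolvable 2 (X ⧸ K₀) := isPSolvable_quotient hXp _
  have h02 : pPrimeCore 2 (X ⧸ K₀) = ⊥ := pPrimeCore_quotient_eq_bot
  have hU₂n : (pCore 2 (X ⧸ K₀)).Normal := CfsgLib.Fitting.pCore_normal 2
  set U₂ := pCore 2 (X ⧸ K₀) with hU₂
  have hU₂p : IsPGroup 2 U₂ := pCore_isPGroup
  -- last powers
  have hlift : ∀ a : X ⧸ K₀, (∃ k : ℕ, a ^ 2 ^ k = 1) → ∃ g : X, (∃ k : ℕ, g ^ 2 ^ k = 1) ∧ π g = a := by
    rintro a ⟨k, hk⟩
    obtain ⟨a₀, rfl⟩ := hπs a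
    obtain ⟨j, i, hji, hj⟩ := exists_two_part a₀ k
    refine ⟨a₀ ^ j, ⟨i, hji⟩, ?_⟩
    rw [map_pow, pow_eq_pow_iff_modEq.mpr (hj.of_dvd (orderOf_dvd_of_pow_eq_one hk)), pow_one]
  set N := centreKernel X with hN
  have : (N.map π).Normal := Subgroup.Normal.map inferInstance π hπs
  set Ub := U₂ ⊓ N.map π with hUb
  have hUbn : Ub.Normal := inferInstance
  have hUbp : IsPGroup 2 Ub := hU₂p.to_le inf_le_left
  have hlast : ∀ g : X, (∃ k : ℕ, g ^ 2 ^ k = 1) → (π g) ^ 2 ^ m ∈ U₂ ∧ g ^ 2 ^ m ∈ N := fun g hg =>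
    ⟨pow_mem_pCore_two hX h0 γ hγ m hdeg g hg, pow_mem_centreKernel γ hγ g m (hdeg g hg).1 (hdeg g hg).2⟩
  have hlastb : ∀ a : X ⧸ K₀, (∃ k : ℕ, a ^ 2 ^ k = 1) → a ^ 2 ^ m ∈ Ub ∧ a ^ 2 ^ (m + 1) = 1 := fun a ha => by
    obtain ⟨g, hg, rfl⟩ := hlift a ha
    exact ⟨⟨(hlast g hg).1, ⟨_, (hlast g hg).2, map_pow π g _⟩⟩,
      by rw [← map_pow, (hdeg g hg).1, map_one]⟩
  -- a critical subgroup of `Ub`
  obtain ⟨C₀, hC₀c, hC₀self, hC₀cl, hC₀pow⟩ := CfsgLib.PGroup.exists_critical hUbp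
  set C := C₀.map Ub.subtype with hC
  have hCn : C.Normal := inferInstanceAs (C₀.map Ub.subtype).Normal
  have hCU : C ≤ Ub := Subgroup.map_subtype_le _
  have hcen : ∀ a : Ub, a ∈ C₀ ⊓ Subgroup.centralizer (C₀ : Set Ub) → (a : X ⧸ K₀) ∈ centreOf C := by
    rintro a ⟨ha, ha'⟩
    refine ⟨⟨a, ha, rfl⟩, ?_⟩
    rintro _ ⟨b, hb, rfl⟩
    exact congrArg Subtype.val (ha' b hb)
  have hCcl : ∀ u ∈ Ub, ∀ c ∈ C, ⁅u, c⁆ ∈ centreOf C := by
    rintro u hu _ ⟨c, hc, rfl⟩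
    exact hcen ⁅(⟨u, hu⟩ : Ub), c⁆ (hC₀cl ⟨u, hu⟩ c hc)
  have hCsq : ∀ c ∈ C, c * c ∈ centreOf C := by
    rintro _ ⟨c, hc, rfl⟩
    have := hcen _ (hC₀pow c hc)
    rwa [pow_two] at this
  have hc2 : ∀ a ∈ C, ∀ b ∈ C, ⁅a, b⁆ * ⁅a, b⁆ = 1 := fun a ha b hb => by
    have h1 : Commute a ⁅a, b⁆ := (hCcl a (hCU ha) b hb).2 a ha
    have h2 : ⁅a * a, b⁆ = ⁅a, b⁆ * ⁅a, b⁆ := by
      rw [show ⁅a * a, b⁆ = a * ⁅a, b⁆ * a⁻¹ * ⁅a, b⁆ by simp [commutatorElement_def, mul_assoc],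
        h1.eq, mul_inv_cancel_right]
    rw [← h2, commutatorElement_eq_one_iff_mul_comm]
    exact ((hCsq a ha).2 b hb).symm
  -- its elements of order dividing four
  let D : Subgroup (X ⧸ K₀) :=
    { carrier := {a | a ∈ C ∧ (a * a) * (a * a) = 1}
      one_mem' := ⟨C.one_mem, by simp⟩
      inv_mem' := fun {a} ha => ⟨C.inv_mem ha.1, by
        rw [← mul_inv_rev a a, ← mul_inv_rev (a * a) (a * a), ha.2, inv_one]⟩
      mul_mem' := fun {a b} ha hb => ⟨C.mul_mem ha.1 hb.1, by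
        set c := ⁅b, a⁆ with hc
        have hcU := hCcl b (hCU hb.1) a ha.1
        have ca : Commute c a := ((hcU.2 a ha.1)).symm
        have cb : Commute c b := ((hcU.2 b hb.1)).symm
        have hba : b * a = c * (a * b) := by rw [hc, commutatorElement_def]; group
        have hsqe : a * b * (a * b) = c * ((a * a) * (b * b)) := by
          calc a * b * (a * b) = a * (b * a) * b := by group
            _ = a * (c * (a * b)) * b := by rw [hba]
            _ = a * c * (a * b * b) := by group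
            _ = c * a * (a * b * b) := by rw [ca.eq]
            _ = c * ((a * a) * (b * b)) := by group
        have c1 : Commute c ((a * a) * (b * b)) := (ca.mul_right ca).mul_right (cb.mul_right cb)
        have c2 : Commute (b * b) (a * a) := (hCsq a ha.1).2 (b * b) (C.mul_mem hb.1 hb.1)
        rw [hsqe]
        calc c * (a * a * (b * b)) * (c * (a * a * (b * b)))
            = c * c * ((a * a * (b * b)) * (a * a * (b * b))) := by
              rw [mul_assoc c (a * a * (b * b)), ← mul_assoc (a * a * (b * b)) c, c1.eq.symm,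
                mul_assoc c (a * a * (b * b)) (a * a * (b * b)), ← mul_assoc c c]
          _ = (a * a * (b * b)) * (a * a * (b * b)) := by rw [hc2 b hb.1 a ha.1, one_mul]
          _ = (a * a) * (a * a) * ((b * b) * (b * b)) := by
              rw [mul_assoc (a * a) (b * b), ← mul_assoc (b * b) (a * a), c2.eq,
                mul_assoc (a * a) (b * b) (b * b), ← mul_assoc (a * a) (a * a)]
          _ = 1 := by rw [ha.2, hb.2, one_mul]⟩ }
  have hDC : D ≤ C := fun a ha => ha.1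
  have hDn : D.Normal := ⟨fun a ha g => ⟨hCn.conj_mem a ha.1 g, by
    rw [show g * a * g⁻¹ * (g * a * g⁻¹) * (g * a * g⁻¹ * (g * a * g⁻¹)) = g * (a * a * (a * a)) * g⁻¹ by group,
      ha.2, mul_one, mul_inv_cancel]⟩⟩
  have hCD : ∀ z ∈ centreOf C, z ∈ D → z ∈ centreOf D := fun z hz hzD => ⟨hzD, fun b hb => hz.2 b (hDC hb)⟩
  have hsqD : ∀ a ∈ D, a * a ∈ omegaCentre D := fun a ha =>
    ⟨hCD _ (hCsq a ha.1) (D.mul_mem ha ha), ha.2⟩
  have hcmD : ∀ a ∈ D, ∀ b ∈ D, ⁅a, b⁆ ∈ omegaCentre D := fun a ha b hb =>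
    ⟨hCD _ (hCcl a (hCU ha.1) b hb.1)
      (by rw [commutatorElement_def]; exact D.mul_mem (D.mul_mem (D.mul_mem ha hb) (D.inv_mem ha)) (D.inv_mem hb)),
      hc2 a ha.1 b hb.1⟩
  have hUDb : ∀ a ∈ D, ∀ u ∈ Ub, ⁅a, u⁆ ∈ centreOf D := fun a ha u hu => by
    refine hCD _ ?_ ?_
    · rw [← commutatorElement_inv]; exact inv_mem (hCcl u hu a ha.1)
    · rw [show ⁅a, u⁆ = a * (u * a⁻¹ * u⁻¹) by simp [commutatorElement_def, mul_assoc]]
      exact D.mul_mem ha (hDn.conj_mem _ (D.inv_mem ha) u)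
  -- the three sections
  have hZn : (centreOf D).Normal := centreOf_normal hDn
  set Φ' := Ub ⊔ frattiniCore 2 (X ⧸ K₀) with hΦ'
  have hΦ'U : Φ' ≤ U₂ := sup_le inf_le_left (frattiniCore_le 2 _)
  obtain ⟨hcommF, hpowF, -⟩ := frattini_quotient_props hH h02
  set f₁ := QuotientGroup.mk' Φ' with hf₁
  set f₂ := QuotientGroup.mk' (centreOf D) with hf₂
  set V₁ := U₂.map f₁ with hV₁
  set V₂ := D.map f₂ with hV₂
  set V₃ := omegaCentre D with hV₃
  have : V₁.Normal := Subgroup.Normal.map inferInstance f₁ (QuotientGroup.mk'_surjective _)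
  have : V₂.Normal := Subgroup.Normal.map hDn f₂ (QuotientGroup.mk'_surjective _)
  have hV₁c : ∀ a ∈ U₂, ∀ b ∈ U₂, f₁ a * f₁ b = f₁ b * f₁ a := fun a ha b hb => by
    have h1 := hcommF _ ⟨a, ha, rfl⟩ _ ⟨b, hb, rfl⟩
    rw [← commutatorElement_eq_one_iff_mul_comm, ← map_commutatorElement] at h1 ⊢
    exact (QuotientGroup.eq_one_iff _).mpr (Subgroup.mem_sup_right ((QuotientGroup.eq_one_iff _).mp h1))
  have : IsMulCommutative V₁ := ⟨⟨by rintro ⟨_, a, ha, rfl⟩ ⟨_, b, hb, rfl⟩; exact Subtype.ext (hV₁c a ha b hb)⟩⟩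
  have : IsMulCommutative V₂ := ⟨⟨by
    rintro ⟨_, a, ha, rfl⟩ ⟨_, b, hb, rfl⟩
    refine Subtype.ext ?_
    show f₂ a * f₂ b = f₂ b * f₂ a
    rw [← commutatorElement_eq_one_iff_mul_comm, ← map_commutatorElement]
    exact (QuotientGroup.eq_one_iff _).mpr (hcmD a ha b hb).1⟩⟩
  have : IsMulCommutative V₃ := ⟨⟨fun a b => Subtype.ext (b.2.1.2 a a.2.1.1)⟩⟩
  have he₁ : ∀ a ∈ V₁, a ^ 2 = 1 := by
    rintro _ ⟨a, ha, rfl⟩
    have h1 := hpowF _ ⟨a, ha, rfl⟩
    rw [← map_pow] at h1 ⊢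
    exact (QuotientGroup.eq_one_iff _).mpr (Subgroup.mem_sup_right ((QuotientGroup.eq_one_iff _).mp h1))
  have he₂ : ∀ a ∈ V₂, a ^ 2 = 1 := by
    rintro _ ⟨a, ha, rfl⟩
    rw [pow_two, ← map_mul]
    exact (QuotientGroup.eq_one_iff _).mpr (hsqD a ha).1
  have he₃ : ∀ a ∈ V₃, a ^ 2 = 1 := fun a ha => by rw [pow_two]; exact ha.2
  let ρ := prodEndHom ((conjEnd V₁).comp f₁) (prodEndHom ((conjEnd V₂).comp f₂) (conjEnd V₃))
  have htwo : ∀ {G : Type u} [Group G] (W : Subgroup G) [IsMulCommutative W], (∀ a ∈ W, a ^ 2 = 1) →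
      ∀ a : Additive W, 2 • a = 0 := fun W _ hW a => by
    apply Additive.toMul.injective
    apply Subtype.ext
    rw [toMul_nsmul, Subgroup.coe_pow]
    exact hW _ (Additive.toMul a).2
  have hρ2 : ∀ a : Additive V₁ × Additive V₂ × Additive V₃, 2 • a = 0 := fun a =>
    Prod.ext (htwo V₁ he₁ a.1) (Prod.ext (htwo V₂ he₂ a.2.1) (htwo V₃ he₃ a.2.2))
  obtain ⟨W, _, _, δ₀, hW2, hδU, hδdeg, hδodd⟩ := exists_graded_end U₂ hU₂p _ _ rfl hρ2 ρ
  -- faithfulness on elements of odd order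
  have hfaith : ∀ h : X ⧸ K₀, Odd (orderOf h) → ρ h = 1 → h ∈ U₂ := by
    intro h hodd hh
    obtain ⟨hh₁, hh₂₃⟩ := prodEndHom_eq_one hh
    obtain ⟨hh₂, hh₃⟩ := prodEndHom_eq_one hh₂₃
    have ho := pow_orderOf_eq_one h
    have hfix₃ : ∀ z ∈ V₃, h * z = z * h := fun z hz =>
      ((conjEnd_ker V₃).le (MonoidHom.mem_ker.mpr hh₃) z hz).symm
    have hfixZ : ∀ z ∈ centreOf D, h * z = z * h := by
      intro z hz
      set w := z⁻¹ * (h * z * h⁻¹) with hw
      have hzz : z * z ∈ V₃ := hsqD z hz.1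
      have hwZ : w ∈ centreOf D := mul_mem (inv_mem hz) (hZn.conj_mem z hz h)
      have hw2 : w * w = 1 := by
        have hc : Commute z⁻¹ (h * z * h⁻¹) := hwZ |> fun _ =>
          ((hZn.conj_mem z hz h).2 _ (D.inv_mem hz.1))
        calc w * w = z⁻¹ * (h * z * h⁻¹ * z⁻¹) * (h * z * h⁻¹) := by rw [hw]; group
          _ = z⁻¹ * (z⁻¹ * (h * z * h⁻¹)) * (h * z * h⁻¹) := by rw [hc.eq]
          _ = (z * z)⁻¹ * (h * (z * z) * h⁻¹) := by group
          _ = 1 := by rw [hfix₃ _ hzz, mul_inv_cancel_right, inv_mul_cancel]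
      have hw1 := eq_one_of_conj_eq_mul (h := h) (z := z) (w := w) (i := 1) (o := orderOf h)
        (by rw [hw, mul_inv_cancel_left]) (hfix₃ w ⟨hwZ, hw2⟩) (by rw [pow_one, pow_two, hw2]) ho hodd
      rw [hw, inv_mul_eq_one, eq_mul_inv_iff_mul_eq] at hw1
      exact hw1.symm
    have hfixD : ∀ d ∈ D, h * d = d * h := by
      intro d hd
      set w := d⁻¹ * (h * d * h⁻¹) with hw
      have hwD : w ∈ centreOf D := by
        have h1 : f₂ h ∈ Subgroup.centralizer (V₂ : Set _) := (conjEnd_ker V₂).le (MonoidHom.mem_ker.mpr hh₂)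
        refine (QuotientGroup.eq_one_iff w).mp ?_
        show f₂ w = 1
        rw [hw, map_mul, map_inv, map_mul, map_mul, map_inv, ← h1 _ ⟨d, hd, rfl⟩, mul_inv_cancel_right,
          inv_mul_cancel]
      have hw4 : w ^ 2 ^ 2 = 1 := by
        have h1 := hwD.1.2
        rw [show (2 : ℕ) ^ 2 = 2 + 2 by norm_num, pow_add, pow_two]
        exact h1
      have hw1 := eq_one_of_conj_eq_mul (h := h) (z := d) (w := w) (o := orderOf h)
        (by rw [hw, mul_inv_cancel_left]) (hfixZ w hwD) hw4 ho hodd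
      rw [hw, inv_mul_eq_one, eq_mul_inv_iff_mul_eq] at hw1
      exact hw1.symm
    have hfixC : ∀ n, ∀ c ∈ C, orderOf c = n → h * c = c * h := by
      intro n
      induction n using Nat.strong_induction_on with
      | h n ih =>
      intro c hc hn
      by_cases hc1 : c = 1
      · rw [hc1, mul_one, one_mul]
      have hcc : h * (c * c) = c * c * h := by
        refine ih _ ?_ (c * c) (C.mul_mem hc hc) rfl
        obtain ⟨i, hi⟩ := IsPGroup.iff_orderOf.mp hUbp ⟨c, hCU hc⟩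
        rw [Subgroup.orderOf_mk] at hi
        have hi0 : i ≠ 0 := fun e => hc1 (orderOf_eq_one_iff.mp (by rw [hi, e, pow_zero]))
        rw [← hn, ← pow_two, orderOf_pow' c two_ne_zero, hi,
          Nat.gcd_eq_right (dvd_pow_self 2 hi0)]
        exact Nat.div_lt_self (pow_pos two_pos i) one_lt_two
      set d := h * c * h⁻¹ with hd
      have hdC : d ∈ C := hCn.conj_mem c hc h
      have hdd : d * d = c * c := by
        rw [hd, show h * c * h⁻¹ * (h * c * h⁻¹) = h * (c * c) * h⁻¹ by group, hcc, mul_inv_cancel_right]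
      set w := c⁻¹ * d with hw
      have hwC : w ∈ C := C.mul_mem (C.inv_mem hc) hdC
      set t := ⁅d, c⁻¹⁆ with ht
      have htZ := hCcl d (hCU hdC) c⁻¹ (C.inv_mem hc)
      have hwt : w * w = t := by
        have h1 : d * c⁻¹ = t * (c⁻¹ * d) := by rw [ht, commutatorElement_def]; group
        calc w * w = c⁻¹ * (d * c⁻¹) * d := by rw [hw]; group
          _ = c⁻¹ * (t * (c⁻¹ * d)) * d := by rw [h1]
          _ = t * (c⁻¹ * (c⁻¹ * d)) * d := by
              rw [← mul_assoc c⁻¹ t, htZ.2 c⁻¹ (C.inv_mem hc), mul_assoc t c⁻¹]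
          _ = t * ((c * c)⁻¹ * (d * d)) := by group
          _ = t := by rw [hdd, inv_mul_cancel, mul_one]
      have hwD : w ∈ D := ⟨hwC, by rw [hwt, ht]; exact hc2 d hdC c⁻¹ (C.inv_mem hc)⟩
      have hw1 := eq_one_of_conj_eq_mul (h := h) (z := c) (w := w) (i := 2) (o := orderOf h)
        (by rw [hw, mul_inv_cancel_left, hd]) (hfixD w hwD)
        (by rw [show (2 : ℕ) ^ 2 = 2 + 2 by norm_num, pow_add, pow_two]; exact hwD.2) ho hodd
      rw [hw, inv_mul_eq_one, hd, eq_mul_inv_iff_mul_eq] at hw1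
      exact hw1.symm
    have hfixU : ∀ u ∈ Ub, h * u = u * h := by
      intro u hu
      set w := u⁻¹ * (h * u * h⁻¹) with hw
      have hwU : w ∈ Ub := Ub.mul_mem (Ub.inv_mem hu) (hUbn.conj_mem u hu h)
      have hwcen : ∀ c ∈ C, c * w = w * c := by
        intro c hc
        set c₀ := u * c * u⁻¹ with hc₀
        have hc₀C : c₀ ∈ C := hCn.conj_mem c hc u
        have f1 := hfixC _ c₀ hc₀C rfl
        have f2 := hfixC _ c hc rfl
        have f3 : h⁻¹ * c₀ = c₀ * h⁻¹ := by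
          rw [eq_mul_inv_iff_mul_eq, mul_assoc, ← f1, inv_mul_cancel_left]
        calc c * w = u⁻¹ * (c₀ * h) * u * h⁻¹ := by rw [hw, hc₀]; group
          _ = u⁻¹ * (h * c₀) * u * h⁻¹ := by rw [f1]
          _ = u⁻¹ * h * u * (c * h⁻¹) := by rw [hc₀]; group
          _ = u⁻¹ * h * u * (h⁻¹ * c) := by
              have f4 : c * h⁻¹ = h⁻¹ * c := by
                rw [mul_inv_eq_iff_eq_mul, mul_assoc, ← f2, inv_mul_cancel_left]
              rw [f4]
          _ = w * c := by rw [hw]; group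
      have hwC : w ∈ C := by
        have h1 : (⟨w, hwU⟩ : Ub) ∈ Subgroup.centralizer (C₀ : Set Ub) := fun c hc =>
          Subtype.ext (hwcen _ ⟨c, hc, rfl⟩)
        exact ⟨_, hC₀self h1, rfl⟩
      obtain ⟨i, hi⟩ := hUbp ⟨w, hwU⟩
      have hw1 := eq_one_of_conj_eq_mul (h := h) (z := u) (w := w) (o := orderOf h)
        (by rw [hw, mul_inv_cancel_left]) (hfixC _ w hwC rfl) (congrArg Subtype.val hi) ho hodd
      rw [hw, inv_mul_eq_one, eq_mul_inv_iff_mul_eq] at hw1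
      exact hw1.symm
    -- modulo the Frattini subgroup
    set fF := QuotientGroup.mk' (frattiniCore 2 (X ⧸ K₀)) with hfF
    have htriv : ∀ v ∈ U₂, fF (v⁻¹ * (h * v * h⁻¹)) = 1 := by
      intro v hv
      set w := v⁻¹ * (h * v * h⁻¹) with hw
      have hwU : w ∈ U₂ := U₂.mul_mem (U₂.inv_mem hv) (hU₂n.conj_mem v hv h)
      have hwΦ : w ∈ Φ' := by
        have h1 : f₁ h ∈ Subgroup.centralizer (V₁ : Set _) := (conjEnd_ker V₁).le (MonoidHom.mem_ker.mpr hh₁)
        refine (QuotientGroup.eq_one_iff w).mp ?_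
        show f₁ w = 1
        rw [hw, map_mul, map_inv, map_mul, map_mul, map_inv, ← h1 _ ⟨v, hv, rfl⟩, mul_inv_cancel_right,
          inv_mul_cancel]
      refine eq_one_of_conj_eq_mul (h := fF h) (z := fF v) (i := 1) (o := orderOf h) ?_ ?_ ?_
        (by rw [← map_pow, ho, map_one]) hodd
      · rw [← map_inv, ← map_mul, ← map_mul, ← map_mul, hw, mul_inv_cancel_left]
      · obtain ⟨a, ha, b, hb, hab⟩ := Subgroup.mem_sup_of_normal_left.mp hwΦ
        rw [← hab, map_mul, show fF b = 1 from (QuotientGroup.eq_one_iff b).mpr hb, mul_one, ← map_mul,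
          ← map_mul, hfixU a ha]
      · rw [pow_one]
        exact hpowF _ ⟨w, hwU, rfl⟩
    have hcop : (Nat.card (Subgroup.zpowers h)).Coprime (Nat.card (frattini U₂)) := by
      obtain ⟨j, hj⟩ := (hU₂p.to_subgroup (frattini U₂)).exists_card_eq
      rw [Nat.card_zpowers, hj]
      exact ((Nat.coprime_two_right.mpr hodd).pow_right j)
    have hcen := CfsgLib.Coprime.le_centralizer_of_trivial_on_frattini (Subgroup.zpowers h) U₂
      (Subgroup.le_normalizer_of_normal) hcop fun a ha v hv => by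
        obtain ⟨j, rfl⟩ := ha
        have h1 : fF h ∈ Subgroup.centralizer ((U₂.map fF : Subgroup _) : Set _) := by
          rintro _ ⟨b, hb, rfl⟩
          have h2 := htriv b hb
          rw [map_mul, map_inv, inv_mul_eq_one, map_mul, map_mul, map_inv, eq_mul_inv_iff_mul_eq] at h2
          exact h2
        have h2 := (Subgroup.centralizer _).zpow_mem h1 j (fF v) ⟨v, hv, rfl⟩
        show h ^ j * v * (h ^ j)⁻¹ * v⁻¹ ∈ frattiniCore 2 (X ⧸ K₀)
        refine (QuotientGroup.eq_one_iff _).mp ?_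
        show fF _ = 1
        rw [map_mul, map_mul, map_mul, map_inv, map_inv, map_zpow, ← h2, mul_inv_cancel_right, mul_inv_cancel]
    exact centralizer_pCore_le hH h02 (hcen (Subgroup.mem_zpowers h))
  -- the action of the quotient
  let δ : (X ⧸ K₀) ⧸ U₂ →* AddMonoid.End W := QuotientGroup.lift U₂ δ₀ (fun u hu => hδU u hu)
  have hδinj : Function.Injective δ := by
    rw [← MonoidHom.ker_eq_bot_iff]
    refine le_bot_iff.mp (le_trans (le_pCore inferInstance ?_) (pCore_quotient_pCore).le)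
    rintro ⟨a, ha⟩
    obtain ⟨i, o, ho, hao⟩ := Nat.exists_eq_pow_mul_and_not_dvd (orderOf_pos a).ne' 2 (by norm_num)
    refine ⟨i, Subtype.ext ?_⟩
    show a ^ 2 ^ i = 1
    have hodd : Odd o := Nat.not_even_iff_odd.mp fun h => ho (even_iff_two_dvd.mp h)
    obtain ⟨g, hg⟩ := QuotientGroup.mk'_surjective U₂ (a ^ 2 ^ i)
    obtain ⟨g', hg'o, hg'⟩ := exists_odd_order_lift (QuotientGroup.mk' U₂) g o hodd
      (by rw [hg, ← pow_mul, ← hao, pow_orderOf_eq_one])
    rw [← hg, ← hg']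
    refine (QuotientGroup.eq_one_iff g').mpr (hfaith g' hg'o (hδodd g' hg'o ?_))
    have h1 : a ^ 2 ^ i ∈ δ.ker := pow_mem ha _
    rw [← hg, ← hg', MonoidHom.mem_ker] at h1
    exact h1
  refine ⟨W, inferInstance, inferInstance, δ, hW2, hδinj, ?_⟩
  rintro a ⟨k, hk⟩
  -- an invariant Sylow subgroup of `O_{2',2} ⊓ N` and a lift normalizing it
  set θ := (QuotientGroup.mk' U₂).comp π with hθ
  have hθs : Function.Surjective θ := (QuotientGroup.mk'_surjective U₂).comp hπs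
  have hθker : ∀ g, θ g = 1 ↔ π g ∈ U₂ := fun g => QuotientGroup.eq_one_iff (π g)
  set M₁ := θ.ker ⊓ N with hM₁
  have : M₁.Normal := inferInstance
  obtain ⟨S₁⟩ : Nonempty (Sylow 2 M₁) := inferInstance
  set U := (S₁ : Subgroup M₁).map M₁.subtype with hU
  have hUM : U ≤ M₁ := Subgroup.map_subtype_le _
  have hU2 : IsPGroup 2 U := S₁.2.map _
  obtain ⟨a₀, ha₀⟩ := hθs a
  obtain ⟨n₀, hn₀, b₀, hb₀, hab₀⟩ : ∃ n₀ ∈ Subgroup.normalizer (U : Set X), ∃ b ∈ M₁, n₀ * b = a₀ := by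
    refine Subgroup.mem_sup_of_normal_right.mp ?_
    rw [hU, Sylow.normalizer_sup_eq_top S₁]
    exact Subgroup.mem_top a₀
  obtain ⟨j, i, hji, hj⟩ := exists_two_part n₀ k
  set x := n₀ ^ j with hx
  have hx2 : ∃ k : ℕ, x ^ 2 ^ k = 1 := ⟨i, hji⟩
  have hxU : x ∈ Subgroup.normalizer (U : Set X) := Subgroup.pow_mem _ hn₀ _
  have hθx : θ x = a := by
    have h1 : θ n₀ = a := by rw [← ha₀, ← hab₀, map_mul, MonoidHom.mem_ker.mp hb₀.1, mul_one]
    rw [hx, map_pow, h1, pow_eq_pow_iff_modEq.mpr (hj.of_dvd (orderOf_dvd_of_pow_eq_one hk)), pow_one]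
  have ha2 : a ^ 2 ^ m = 1 := by
    rw [← hθx, ← map_pow]
    exact (hθker _).mpr (by rw [map_pow]; exact (hlast x hx2).1)
  refine ⟨ha2, ?_⟩
  -- `π` maps `U` isomorphically onto `Ub`
  have hπU : ∀ g ∈ U, π g ∈ Ub := fun g hg =>
    ⟨(hθker g).mp (MonoidHom.mem_ker.mp (hUM hg).1), ⟨g, (hUM hg).2, rfl⟩⟩
  have hUsurj : ∀ g ∈ Ub, ∃ s ∈ U, π s = g := by
    rintro _ ⟨hg, n, hn, rfl⟩
    refine exists_sylow_preimage π M₁ S₁ (hU₂p.to_le ?_) ⟨(hθker n).mpr hg, hn⟩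
    rintro _ ⟨g, hg', rfl⟩
    exact (hθker g).mp hg'.1
  have hUinj : ∀ g ∈ U, π g = 1 → g = 1 := fun g hg h1 => by
    have hgK : g ∈ K₀ := (QuotientGroup.eq_one_iff g).mp h1
    obtain ⟨i', hi'⟩ := hU2 ⟨g, hg⟩
    exact orderOf_eq_one_iff.mp (Nat.eq_one_of_dvd_coprimes (pPrimeCore_coprime.pow_right i')
      (Subgroup.orderOf_mk g hgK ▸ orderOf_dvd_natCard (⟨g, hgK⟩ : K₀))
      (orderOf_dvd_of_pow_eq_one (congrArg Subtype.val hi')))
  have hUeq : ∀ g ∈ U, ∀ g' ∈ U, π g = π g' → g = g' := fun g hg g' hg' h1 => by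
    refine mul_inv_eq_one.mp (hUinj _ (U.mul_mem hg (U.inv_mem hg')) ?_)
    rw [map_mul, map_inv, h1, mul_inv_cancel]
  set DX := D.comap π ⊓ U with hDX
  have hDsurj : ∀ d ∈ D, ∃ s ∈ DX, π s = d := fun d hd => by
    obtain ⟨s, hs, rfl⟩ := hUsurj d (hCU (hDC hd))
    exact ⟨s, ⟨hd, hs⟩, rfl⟩
  have hback : ∀ t ∈ DX, π t ∈ centreOf D → t ∈ centreOf DX := fun t ht h1 => ⟨ht, fun b hb => by
    refine hUeq _ (U.mul_mem hb.2 ht.2) _ (U.mul_mem ht.2 hb.2) ?_
    rw [map_mul, map_mul]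
    exact h1.2 (π b) hb.1⟩
  have hbackΩ : ∀ t ∈ DX, π t ∈ omegaCentre D → t ∈ omegaCentre DX := fun t ht h1 => ⟨hback t ht h1.1,
    hUinj _ (U.mul_mem ht.2 ht.2) (by rw [map_mul]; exact h1.2)⟩
  have hxD : ∀ g ∈ Subgroup.normalizer (U : Set X), g ∈ Subgroup.normalizer (DX : Set X) := fun g hg =>
    Subgroup.mem_normalizer_iff.mpr fun b => by
      show π b ∈ D ∧ b ∈ U ↔ π (g * b * g⁻¹) ∈ D ∧ g * b * g⁻¹ ∈ U
      rw [← Subgroup.mem_normalizer_iff.mp hg b, map_mul, map_mul, map_inv]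
      exact and_congr_left fun _ => ⟨fun h => hDn.conj_mem _ h _, fun h => by
        have := hDn.conj_mem _ h (π g)⁻¹
        rwa [show (π g)⁻¹ * (π g * π b * (π g)⁻¹) * (π g)⁻¹⁻¹ = π b by group] at this⟩
  have hxp : ∀ v ∈ U, ∃ k : ℕ, (v * x) ^ 2 ^ k = 1 := fun v hv => by
    have hxp' : IsPGroup 2 (Subgroup.zpowers x) := by
      obtain ⟨k', hk'⟩ := hx2
      obtain ⟨i', -, hi'⟩ := (Nat.dvd_prime_pow Nat.prime_two).mp (orderOf_dvd_of_pow_eq_one hk')
      exact IsPGroup.of_card (n := i') (by rw [Nat.card_zpowers, hi'])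
    obtain ⟨k', hk'⟩ := (hxp'.to_sup_of_normal_right' hU2 (Subgroup.zpowers_le.mpr hxU))
      ⟨v * x, Subgroup.mul_mem _ (Subgroup.mem_sup_right hv) (Subgroup.mem_sup_left (Subgroup.mem_zpowers _))⟩
    exact ⟨k', congrArg Subtype.val hk'⟩
  have hlastU : ∀ g : X, g ∈ Subgroup.normalizer (U : Set X) → (∃ k : ℕ, g ^ 2 ^ k = 1) → g ^ 2 ^ m ∈ U := by
    intro g hgU hg
    obtain ⟨k', hk'⟩ := hg
    have hgM : g ^ 2 ^ m ∈ M₁ :=
      ⟨(hθker _).mpr (by rw [map_pow]; exact (hlast g ⟨k', hk'⟩).1), (hlast g ⟨k', hk'⟩).2⟩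
    have hgp : IsPGroup 2 (Subgroup.zpowers (g ^ 2 ^ m)) := by
      obtain ⟨i', -, hi'⟩ := (Nat.dvd_prime_pow Nat.prime_two).mp
        (orderOf_dvd_of_pow_eq_one (show (g ^ 2 ^ m) ^ 2 ^ k' = 1 by
          rw [← pow_mul, mul_comm, pow_mul, hk', one_pow]))
      exact IsPGroup.of_card (n := i') (by rw [Nat.card_zpowers, hi'])
    have hgN : Subgroup.zpowers (g ^ 2 ^ m) ≤ Subgroup.normalizer (U : Set X) :=
      Subgroup.zpowers_le.mpr (Subgroup.pow_mem _ hgU _)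
    set P := Subgroup.zpowers (g ^ 2 ^ m) ⊔ U with hP
    have hPM : P ≤ M₁ := sup_le (Subgroup.zpowers_le.mpr hgM) hUM
    have h1 : P.subgroupOf M₁ = S₁ := S₁.3
      ((hgp.to_sup_of_normal_right' hU2 hgN).of_equiv (Subgroup.subgroupOfEquivOfLe hPM).symm)
      (fun s hs => Subgroup.mem_subgroupOf.mpr (Subgroup.mem_sup_right ⟨s, hs, rfl⟩))
    exact ⟨⟨_, hgM⟩, h1.le (Subgroup.mem_subgroupOf.mpr
      (Subgroup.mem_sup_left (Subgroup.mem_zpowers _))), rfl⟩
  have hyU := hlastU x hxU hx2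
  -- the norms
  have hnorm : ∀ v ∈ DX, (v * x) ^ 2 ^ m * x ^ 2 ^ m ∈ centreOf DX ∧
      (v ∈ omegaCentre DX → (v * x) ^ 2 ^ m * x ^ 2 ^ m = 1) := fun v hv =>
    norm_mem_centreOf hX h0 γ hγ m U DX x v hU2 inf_le_right (hUM.trans inf_le_right) (hxD x hxU)
      (fun a ha => hbackΩ _ (mul_mem ha ha) (by rw [map_mul]; exact hsqD _ ha.1))
      (fun a ha b hb => hbackΩ _
        (by rw [commutatorElement_def]; exact mul_mem (mul_mem (mul_mem ha hb) (inv_mem ha)) (inv_mem hb))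
        (by rw [map_commutatorElement]; exact hcmD _ ha.1 _ hb.1))
      (fun a ha b hb => hback _
        (by
          rw [show ⁅a, b⁆ = a * (b * a⁻¹ * b⁻¹) by simp [commutatorElement_def, mul_assoc]]
          exact mul_mem ha ((Subgroup.mem_normalizer_iff.mp (hxD b (Subgroup.le_normalizer hb)) _).mp
            (inv_mem ha)))
        (by rw [map_commutatorElement]; exact hUDb _ ha.1 _ (hπU b hb)))
      hv (hdeg x hx2) (hdeg _ (hxp v hv.2)) hyU
      (hlastU _ (mul_mem (Subgroup.le_normalizer hv.2) hxU) (hxp v hv.2))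
  have hyy : (π x) ^ 2 ^ m * (π x) ^ 2 ^ m = 1 := by
    rw [← pow_add, ← two_mul, ← pow_succ', ← map_pow, (hdeg x hx2).1, map_one]
  have hπx2 : ∀ v ∈ U₂, ∃ k : ℕ, (v * π x) ^ 2 ^ k = 1 := fun v hv => by
    obtain ⟨k', hk'⟩ := hx2
    have hap : IsPGroup 2 (Subgroup.zpowers (π x)) := by
      obtain ⟨i', -, hi'⟩ := (Nat.dvd_prime_pow Nat.prime_two).mp
        (orderOf_dvd_of_pow_eq_one (show (π x) ^ 2 ^ k' = 1 by rw [← map_pow, hk', map_one]))
      exact IsPGroup.of_card (n := i') (by rw [Nat.card_zpowers, hi'])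
    obtain ⟨i', hi'⟩ := (hap.to_sup_of_normal_right hU₂p)
      ⟨v * π x, Subgroup.mul_mem _ (Subgroup.mem_sup_right hv) (Subgroup.mem_sup_left (Subgroup.mem_zpowers _))⟩
    exact ⟨i', congrArg Subtype.val hi'⟩
  have hbound : ∀ {G : Type u} [Group G] (W : Subgroup G) [W.Normal] [IsMulCommutative W], (∀ a ∈ W, a ^ 2 = 1) →
      ∀ g : G, (∀ v ∈ W, (v * g) ^ 2 ^ m = g ^ 2 ^ m) → (conjEnd W g - 1) ^ (2 ^ m - 1) = 0 :=
    fun W _ _ hW g hg => by
      rw [← geom_sum_eq_sub_one_pow 2 m (natCast_end_eq_zero W hW)]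
      exact sum_pow_conjEnd_eq_zero_of_eq W g _ hg
  have hρdeg : (ρ (π x) - 1) ^ (2 ^ m - 1) = 0 := by
    refine prodEndHom_sub_one_pow _ _ _ _ (hbound V₁ he₁ _ ?_) (prodEndHom_sub_one_pow _ _ _ _
      (hbound V₂ he₂ _ ?_) (hbound V₃ he₃ _ ?_))
    · rintro _ ⟨v, hv, rfl⟩
      rw [← map_mul, ← map_pow, ← map_pow]
      have h1 : ∀ a : X ⧸ K₀, (∃ k : ℕ, a ^ 2 ^ k = 1) → f₁ (a ^ 2 ^ m) = 1 := fun a ha =>
        (QuotientGroup.eq_one_iff _).mpr (Subgroup.mem_sup_left (hlastb a ha).1)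
      rw [h1 _ (hπx2 v hv), h1 _ (by obtain ⟨k', hk'⟩ := hx2; exact ⟨k', by rw [← map_pow, hk', map_one]⟩)]
    · rintro _ ⟨d, hd, rfl⟩
      obtain ⟨v, hv, rfl⟩ := hDsurj d hd
      rw [← map_mul, ← map_pow, ← map_pow]
      have h1 : π ((v * x) ^ 2 ^ m * x ^ 2 ^ m) ∈ centreOf D := by
        obtain ⟨hcD, hcc⟩ := (hnorm v hv).1
        refine ⟨hcD.1, fun b hb => ?_⟩
        obtain ⟨t, ht, rfl⟩ := hDsurj b hb
        rw [← map_mul, ← map_mul, hcc t ht]
      have h2 : f₂ ((π v * π x) ^ 2 ^ m * (π x) ^ 2 ^ m) = 1 := by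
        rw [← map_mul π v x, ← map_pow π, ← map_pow π, ← map_mul π]
        exact (QuotientGroup.eq_one_iff _).mpr h1
      have h3 : (π x) ^ 2 ^ m = ((π x) ^ 2 ^ m)⁻¹ := (inv_eq_of_mul_eq_one_right hyy).symm
      rw [map_mul] at h2
      rw [mul_eq_one_iff_eq_inv.mp h2, ← map_inv, ← h3]
    · intro z hz
      obtain ⟨v, hv, rfl⟩ := hDsurj z hz.1.1
      have h1 := (hnorm v hv).2 (hbackΩ v hv hz)
      have h2 : (π v * π x) ^ 2 ^ m * (π x) ^ 2 ^ m = 1 := by
        rw [← map_mul, ← map_pow, ← map_pow, ← map_mul, h1, map_one]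
      rw [mul_eq_one_iff_eq_inv.mp h2, inv_eq_of_mul_eq_one_right hyy]
  have hδx : δ a = δ₀ (π x) := by rw [← hθx]; rfl
  rw [hδx]
  have h := hδdeg (List.replicate (2 ^ m - 1) (π x))
  rw [List.map_replicate, List.prod_replicate, List.map_replicate, List.prod_replicate] at h
  exact h hρdeg

/-- A solvable group with `O₂ = 1` acting exceptionally at level `m + 1` has `2`-length at most `m`. -/
theorem pLengthLE_two_of_exceptional (m : ℕ) : ∀ (X : Type u) [Group X] [Finite X], Group.IsSolvable X →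
    pCore 2 X = ⊥ → ∀ (V : Type u) [AddCommGroup V] [Finite V] (γ : X →* AddMonoid.End V),
    (∀ a : V, 2 • a = 0) → Function.Injective γ →
    (∀ a : X, (∃ k : ℕ, a ^ 2 ^ k = 1) → a ^ 2 ^ (m + 1) = 1 ∧ (γ a - 1) ^ (2 ^ (m + 1) - 1) = 0) →
    PLengthLE 2 m X := by
  have := Fact.mk Nat.prime_two
  induction m with
  | zero =>
    intro X _ _ _ _ V _ _ γ _ hγ hdeg
    have h1 : ∀ a : X, (∃ k : ℕ, a ^ 2 ^ k = 1) → a = 1 := fun a ha => hγ (by
      rw [map_one]
      simpa [sub_eq_zero] using (hdeg a ha).2)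
    refine pLengthLE_of_coprime_kernel (⊤ : Subgroup X) ?_ ?_
    · rw [Nat.coprime_comm, Nat.prime_two.coprime_iff_not_dvd]
      intro hd
      obtain ⟨g, hg⟩ := exists_prime_orderOf_dvd_card' 2 hd
      have h2 := h1 (g : X) ⟨1, by rw [pow_one, ← Subgroup.coe_pow, ← hg, pow_orderOf_eq_one]; rfl⟩
      rw [← Subgroup.orderOf_coe, h2, orderOf_one] at hg
      exact absurd hg (by norm_num)
    · exact pLengthLE_quotient_top 0
  | succ m ih =>
    intro X _ _ hX h0 V _ _ γ hV hγ hdeg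
    obtain ⟨V₂, _, _, _, Φ, hΦ⟩ := exists_linear_model hV
    have : CharP (AlgebraicClosure (ZMod 2)) 2 :=
      charP_of_injective_algebraMap (algebraMap (ZMod 2) (AlgebraicClosure (ZMod 2))).injective 2
    obtain ⟨W, _, _, δ, hW, hδ, hδdeg⟩ := exists_exceptional_quotient_rep hX h0
      (Φ.toMonoidHom.comp γ) (hΦ.comp hγ) (m + 1) (fun a ha => ⟨(hdeg a ha).1, by
        show (Φ (γ a) - 1) ^ _ = 0
        rw [← map_one Φ, ← map_sub, ← map_pow, (hdeg a ha).2, map_zero]⟩)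
    refine pLengthLE_of_coprime_kernel (pPrimeCore 2 X) pPrimeCore_coprime ?_
    have : (pCore 2 (X ⧸ pPrimeCore 2 X)).Normal := CfsgLib.Fitting.pCore_normal 2
    exact pLengthLE_succ_of_pGroup_kernel (pCore 2 (X ⧸ pPrimeCore 2 X)) pCore_isPGroup
      (ih _ inferInstance pCore_quotient_pCore W δ hW hδ hδdeg)

/-- A solvable group whose Sylow `2`-subgroups have exponent dividing `2^e` has `2`-length at most `e`. -/
theorem pLengthLE_two_le_exponent (e : ℕ) (G : Type u) [Group G] [Finite G] (hG : Group.IsSolvable G)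
    (hexp : ∀ (P : Sylow 2 G), ∀ x ∈ (P : Subgroup G), x ^ 2 ^ e = 1) : PLengthLE 2 e G := by
  have := Fact.mk Nat.prime_two
  rcases e with _ | m
  · refine pLengthLE_of_coprime_kernel (⊤ : Subgroup G) ?_ (pLengthLE_quotient_top 0)
    rw [Nat.coprime_comm, Nat.prime_two.coprime_iff_not_dvd]
    intro hd
    obtain ⟨P⟩ : Nonempty (Sylow 2 G) := inferInstance
    have hP : (P : Subgroup G) = ⊥ := (Subgroup.eq_bot_iff_forall _).mpr fun x hx => by
      simpa using hexp P x hx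
    exact P.not_dvd_index (by rwa [hP, Subgroup.index_bot, ← Subgroup.card_top])
  refine pLengthLE_of_coprime_kernel (pPrimeCore 2 G) pPrimeCore_coprime ?_
  have hexpH := pow_eq_one_of_surjective _ (QuotientGroup.mk'_surjective (pPrimeCore 2 G)) hexp
  have hH : IsPSolvable 2 (G ⧸ pPrimeCore 2 G) := isPSolvable_of_isSolvable
  have h0 : pPrimeCore 2 (G ⧸ pPrimeCore 2 G) = ⊥ := pPrimeCore_quotient_eq_bot
  have hHs : Group.IsSolvable (G ⧸ pPrimeCore 2 G) := inferInstance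
  set H := G ⧸ pPrimeCore 2 G
  have : (pCore 2 H).Normal := CfsgLib.Fitting.pCore_normal 2
  refine pLengthLE_succ_of_pGroup_kernel (pCore 2 H) pCore_isPGroup ?_
  obtain ⟨hcomm, hpow, hcen⟩ := frattini_quotient_props hH h0
  set f1 := QuotientGroup.mk' (frattiniCore 2 H) with hf1
  set W := (pCore 2 H).map f1 with hW
  have : W.Normal := Subgroup.Normal.map inferInstance f1 (QuotientGroup.mk'_surjective _)
  have : IsMulCommutative W := ⟨⟨fun a b => Subtype.ext (hcomm a a.2 b b.2)⟩⟩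
  let c := (conjEnd W).comp f1
  have hker : c.ker = pCore 2 H := by
    rw [← MonoidHom.comap_ker, conjEnd_ker, hcen, hW, Subgroup.comap_map_eq, hf1, QuotientGroup.ker_mk',
      sup_eq_left]
    exact frattiniCore_le 2 H
  let ρ : H ⧸ pCore 2 H →* AddMonoid.End (Additive W) := QuotientGroup.lift (pCore 2 H) c hker.ge
  have hρ : Function.Injective ρ := by
    rw [injective_iff_map_eq_one]
    intro a
    induction a using QuotientGroup.induction_on with
    | H a => exact fun h => (QuotientGroup.eq_one_iff a).mpr (hker.le h)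
  have hA : ∀ a : Additive W, 2 • a = 0 := fun a => by
    apply Additive.toMul.injective
    apply Subtype.ext
    rw [toMul_nsmul, Subgroup.coe_pow]
    exact hpow _ (Additive.toMul a).2
  refine pLengthLE_two_of_exceptional m (H ⧸ pCore 2 H) inferInstance pCore_quotient_pCore (Additive W) ρ hA hρ ?_
  rintro a ⟨k, hk⟩
  obtain ⟨a₀, rfl⟩ := QuotientGroup.mk'_surjective (pCore 2 H) a
  obtain ⟨j, i, hji, hj⟩ := exists_two_part a₀ k
  have h1 : QuotientGroup.mk' (pCore 2 H) a₀ = QuotientGroup.mk' (pCore 2 H) (a₀ ^ j) := by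
    rw [map_pow]
    conv_lhs => rw [← pow_one (QuotientGroup.mk' (pCore 2 H) a₀)]
    exact pow_eq_pow_iff_modEq.mpr (hj.symm.of_dvd (orderOf_dvd_of_pow_eq_one hk))
  rw [h1]
  set b := a₀ ^ j
  have hbp : IsPGroup 2 (Subgroup.zpowers b) := by
    obtain ⟨i', -, hi'⟩ := (Nat.dvd_prime_pow Nat.prime_two).mp (orderOf_dvd_of_pow_eq_one hji)
    exact IsPGroup.of_card (n := i') (by rw [Nat.card_zpowers, hi'])
  obtain ⟨P', hP'⟩ := (hbp.to_sup_of_normal_right (pCore_isPGroup (p := 2) (G := H))).exists_le_sylow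
  refine ⟨by rw [← map_pow, hexpH P' b (hP' (Subgroup.mem_sup_left (Subgroup.mem_zpowers b))), map_one], ?_⟩
  show (conjEnd W (f1 b) - 1) ^ (2 ^ (m + 1) - 1) = 0
  rw [← geom_sum_eq_sub_one_pow 2 (m + 1) (natCast_end_eq_zero W hpow)]
  refine sum_pow_conjEnd_eq_zero W (f1 b) _ ?_
  rintro _ ⟨v, hv, rfl⟩
  rw [← map_mul, ← map_pow, hexpH P' (v * b) (hP' (Subgroup.mul_mem _ (Subgroup.mem_sup_right hv)
    (Subgroup.mem_sup_left (Subgroup.mem_zpowers b)))), map_one]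

end CfsgLib.HallHigman
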