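import Cfsg.Agent.Lib.HallHigman.DerivedModel
import Cfsg.Agent.Lib.HallHigman.TwoLengthSharp

/-!
# The bound on the `2`-length by the derived length

If all products `(g₀ - 1)(g₁ - 1) ⋯` along the derived series of a Sylow `2`-subgroup of length `d + 2`
vanish, then those of length `d + 1` vanish on `X ⧸ O_{2',2}(X)`.
-/

namespace CfsgLib.HallHigman

open Module (End)
open Cfsg CfsgLib.PCore CfsgLib.ModuleTrick
open scoped commutatorElement IsMulCommutative

universe u

/-- Products along the derived series act by iterated commutators. -/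
theorem exists_iterate {X G : Type*} [Group X] [Group G] (W : Subgroup G) [W.Normal] [IsMulCommutative W]
    (f : X →* G) {P : Subgroup X} {R : Subgroup X} (hR : R.Normal) :
    ∀ (l : List X), IsDerChain P l → ∀ s ∈ P, s ∈ R → ∀ w : Additive W,
      ((Additive.toMul w : W) : G) = f s → ∃ e ∈ dSer P l.length, e ∈ R ∧
        ((Additive.toMul (opsProd ((conjEnd W).comp f) l w) : W) : G) = f e := by
  intro l
  induction l with
  | nil =>
    intro _ s hsP hsR w hw
    exact ⟨s, (dSer_zero P).ge hsP, hsR, hw⟩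
  | cons g l ih =>
    intro hl s hsP hsR w hw
    obtain ⟨e, he, heR, hew⟩ := ih hl.2 s hsP hsR w hw
    refine ⟨⁅g, e⁆, ?_, ?_, ?_⟩
    · rw [List.length_cons, dSer_succ]
      exact Subgroup.commutator_mem_commutator hl.1 he
    · rw [commutatorElement_def]
      exact R.mul_mem (hR.conj_mem e heR g) (R.inv_mem heR)
    · rw [opsProd_cons]
      show ((Additive.toMul (conjEnd W (f g) (opsProd ((conjEnd W).comp f) l w) -
        opsProd ((conjEnd W).comp f) l w) : W) : G) = _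
      rw [toMul_sub, Subgroup.coe_div, conjEnd_apply, hew, commutatorElement_def, div_eq_mul_inv]
      simp only [map_mul, map_inv]

variable {X : Type u} [Group X] [Finite X] {K : Type*} [Field K] [IsAlgClosed K] [CharP K 2]
  {V : Type*} [AddCommGroup V] [Module K V] [FiniteDimensional K V]

set_option maxHeartbeats 1600000 in
/-- The inductive step. -/
theorem exists_chain_quotient_rep (hX : Group.IsSolvable X) (h0 : pCore 2 X = ⊥) (γ : X →* End K V)
    (hγ : Function.Injective γ) (d : ℕ) (P : Sylow 2 X) (hk : KillsChains γ (P : Subgroup X) (d + 2)) :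
    ∃ (W : Type u) (_ : AddCommGroup W) (_ : Finite W)
      (δ : (X ⧸ pPrimeCore 2 X) ⧸ pCore 2 (X ⧸ pPrimeCore 2 X) →* AddMonoid.End W)
      (P' : Sylow 2 ((X ⧸ pPrimeCore 2 X) ⧸ pCore 2 (X ⧸ pPrimeCore 2 X))),
      (∀ a : W, 2 • a = 0) ∧ Function.Injective δ ∧
        KillsChains δ (P' : Subgroup ((X ⧸ pPrimeCore 2 X) ⧸ pCore 2 (X ⧸ pPrimeCore 2 X))) (d + 1) := by
  classical
  have := Fact.mk Nat.prime_two
  have hXp : IsPSolvable 2 X := isPSolvable_of_isSolvable
  set K₀ := pPrimeCore 2 X with hK₀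
  set π := QuotientGroup.mk' K₀ with hπ
  have hπs : Function.Surjective π := QuotientGroup.mk'_surjective K₀
  have hH : IsPSolvable 2 (X ⧸ K₀) := isPSolvable_quotient hXp _
  have h02 : pPrimeCore 2 (X ⧸ K₀) = ⊥ := pPrimeCore_quotient_eq_bot
  have hU₂n : (pCore 2 (X ⧸ K₀)).Normal := CfsgLib.Fitting.pCore_normal 2
  set U₂ := pCore 2 (X ⧸ K₀) with hU₂
  have hU₂p : IsPGroup 2 U₂ := pCore_isPGroup
  set N := centreKernel X with hN
  have : (N.map π).Normal := Subgroup.Normal.map inferInstance π hπs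
  set Ub := U₂ ⊓ N.map π with hUb
  have hUbn : Ub.Normal := inferInstance
  have hUbp : IsPGroup 2 Ub := hU₂p.to_le inf_le_left
  have hP2 : IsPGroup 2 (P : Subgroup X) := P.2
  -- the `2`-core lifts into the Sylow subgroup, and the kernel part into its kernel part
  have hU₂P : ∀ g ∈ U₂, ∃ s ∈ (P : Subgroup X), π s = g := fun g hg => by
    have h1 : U₂ ≤ (P : Subgroup X).map π := by
      rw [← Sylow.coe_mapSurjective hπs P]
      exact pCore_le_sylow _
    exact h1 hg
  have hπinj : ∀ s ∈ (P : Subgroup X), π s = 1 → s = 1 := fun s hs h1 => by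
    have hsK : s ∈ K₀ := (QuotientGroup.eq_one_iff s).mp h1
    obtain ⟨i, hi⟩ := hP2 ⟨s, hs⟩
    exact orderOf_eq_one_iff.mp (Nat.eq_one_of_dvd_coprimes (pPrimeCore_coprime.pow_right i)
      (Subgroup.orderOf_mk s hsK ▸ orderOf_dvd_natCard (⟨s, hsK⟩ : K₀))
      (orderOf_dvd_of_pow_eq_one (congrArg Subtype.val hi)))
  have hN_of : ∀ s ∈ (P : Subgroup X), π s ∈ N.map π → s ∈ N := by
    rintro s hs ⟨n, hn, hns⟩
    have hk0 : n⁻¹ * s ∈ K₀ := (QuotientGroup.eq_one_iff _).mp (show π (n⁻¹ * s) = 1 by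
      rw [map_mul, map_inv, hns, inv_mul_cancel])
    obtain ⟨i, hi⟩ := hP2 ⟨s, hs⟩
    rw [← QuotientGroup.eq_one_iff (N := N)]
    have hmk : (QuotientGroup.mk s : X ⧸ N) = QuotientGroup.mk (n⁻¹ * s) := by
      rw [QuotientGroup.mk_mul, QuotientGroup.mk_inv, (QuotientGroup.eq_one_iff n).mpr hn, inv_one, one_mul]
    refine orderOf_eq_one_iff.mp (Nat.eq_one_of_dvd_coprimes
      ((pPrimeCore_coprime (p := 2) (G := X)).pow_right i) ?_ ?_)
    · rw [hmk]
      exact (orderOf_map_dvd (QuotientGroup.mk' N) _).trans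
        (Subgroup.orderOf_mk _ hk0 ▸ orderOf_dvd_natCard (⟨_, hk0⟩ : K₀))
    · exact orderOf_dvd_of_pow_eq_one (by
        rw [← QuotientGroup.mk_pow, show s ^ 2 ^ i = 1 from congrArg Subtype.val hi, QuotientGroup.mk_one])
  have hUbP : ∀ g ∈ Ub, ∃ s ∈ (P : Subgroup X), s ∈ N ∧ π s = g := fun g hg => by
    obtain ⟨s, hs, rfl⟩ := hU₂P g hg.1
    exact ⟨s, hs, hN_of s hs hg.2, rfl⟩
  -- the last term
  set A := dSer (P : Subgroup X) (d + 1) with hA
  have hAN : A ≤ N := dSer_le_centreKernel γ hγ hP2 hk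
  have hAc : ∀ a ∈ A, ∀ g ∈ Ub, π a * g = g * π a := by
    intro a ha g hg
    obtain ⟨s, hs, hsN, rfl⟩ := hUbP g hg
    rw [← map_mul, ← map_mul, dSer_commute_centreKernel hX h0 γ hγ hP2 hk ha hs hsN]
  have hAU : ∀ a ∈ A, π a ∈ Ub := by
    intro a ha
    set Nb := N.map π with hNb
    have hNs : IsPSolvable 2 Nb := isPSolvable_of_isSolvable
    have hcore : (pCore 2 Nb).map Nb.subtype = Ub := by
      rw [hUb, hU₂, inf_comm]; exact map_pCore_subtype_of_normal Nb
    have h1 := centralizer_pCore_le hNs (pPrimeCore_eq_bot_of_normal Nb h02)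
      (show (⟨π a, ⟨a, hAN ha, rfl⟩⟩ : Nb) ∈ Subgroup.centralizer (pCore 2 Nb : Set Nb) from fun b hb =>
        Subtype.ext (hAc a ha (b : X ⧸ K₀) (hcore.le ⟨b, hb, rfl⟩)).symm)
    exact hcore.le ⟨_, h1, rfl⟩
  -- a critical subgroup of `Ub`
  obtain ⟨C₀, hC₀c, hC₀self, hC₀cl, hC₀pow⟩ := CfsgLib.PGroup.exists_critical hUbp
  set C := C₀.map Ub.subtype with hC
  have hCn : C.Normal := inferInstanceAs (C₀.map Ub.subtype).Normal
  have hCU : C ≤ Ub := Subgroup.map_subtype_le _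
  have hcen : ∀ a : Ub, a ∈ C₀ ⊓ Subgroup.centralizer (C₀ : Set Ub) → (a : X ⧸ K₀) ∈ centreOf C := by
    rintro a ⟨ha, ha'⟩
    refine ⟨⟨a, ha, rfl⟩, ?_⟩
    rintro _ ⟨b, hb, rfl⟩
    exact congrArg Subtype.val (ha' b hb)
  have hCcl : ∀ u ∈ Ub, ∀ c ∈ C, ⁅u, c⁆ ∈ centreOf C := by
    rintro u hu _ ⟨c, hc, rfl⟩
    exact hcen ⁅(⟨u, hu⟩ : Ub), c⁆ (hC₀cl ⟨u, hu⟩ c hc)
  have hCsq : ∀ c ∈ C, c * c ∈ centreOf C := by
    rintro _ ⟨c, hc, rfl⟩
    have := hcen _ (hC₀pow c hc)
    rwa [pow_two] at this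
  have hc2 : ∀ a ∈ C, ∀ b ∈ C, ⁅a, b⁆ * ⁅a, b⁆ = 1 := fun a ha b hb => by
    have h1 : Commute a ⁅a, b⁆ := (hCcl a (hCU ha) b hb).2 a ha
    have h2 : ⁅a * a, b⁆ = ⁅a, b⁆ * ⁅a, b⁆ := by
      rw [show ⁅a * a, b⁆ = a * ⁅a, b⁆ * a⁻¹ * ⁅a, b⁆ by simp [commutatorElement_def, mul_assoc],
        h1.eq, mul_inv_cancel_right]
    rw [← h2, commutatorElement_eq_one_iff_mul_comm]
    exact ((hCsq a ha).2 b hb).symm
  -- its elements of order dividing four
  let D : Subgroup (X ⧸ K₀) :=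
    { carrier := {a | a ∈ C ∧ (a * a) * (a * a) = 1}
      one_mem' := ⟨C.one_mem, by simp⟩
      inv_mem' := fun {a} ha => ⟨C.inv_mem ha.1, by
        rw [← mul_inv_rev a a, ← mul_inv_rev (a * a) (a * a), ha.2, inv_one]⟩
      mul_mem' := fun {a b} ha hb => ⟨C.mul_mem ha.1 hb.1, by
        set c := ⁅b, a⁆ with hc
        have hcU := hCcl b (hCU hb.1) a ha.1
        have ca : Commute c a := ((hcU.2 a ha.1)).symm
        have cb : Commute c b := ((hcU.2 b hb.1)).symm
        have hba : b * a = c * (a * b) := by rw [hc, commutatorElement_def]; group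
        have hsqe : a * b * (a * b) = c * ((a * a) * (b * b)) := by
          calc a * b * (a * b) = a * (b * a) * b := by group
            _ = a * (c * (a * b)) * b := by rw [hba]
            _ = a * c * (a * b * b) := by group
            _ = c * a * (a * b * b) := by rw [ca.eq]
            _ = c * ((a * a) * (b * b)) := by group
        have c1 : Commute c ((a * a) * (b * b)) := (ca.mul_right ca).mul_right (cb.mul_right cb)
        have c2 : Commute (b * b) (a * a) := (hCsq a ha.1).2 (b * b) (C.mul_mem hb.1 hb.1)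
        rw [hsqe]
        calc c * (a * a * (b * b)) * (c * (a * a * (b * b)))
            = c * c * ((a * a * (b * b)) * (a * a * (b * b))) := by
              rw [mul_assoc c (a * a * (b * b)), ← mul_assoc (a * a * (b * b)) c, c1.eq.symm,
                mul_assoc c (a * a * (b * b)) (a * a * (b * b)), ← mul_assoc c c]
          _ = (a * a * (b * b)) * (a * a * (b * b)) := by rw [hc2 b hb.1 a ha.1, one_mul]
          _ = (a * a) * (a * a) * ((b * b) * (b * b)) := by
              rw [mul_assoc (a * a) (b * b), ← mul_assoc (b * b) (a * a), c2.eq,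
                mul_assoc (a * a) (b * b) (b * b), ← mul_assoc (a * a) (a * a)]
          _ = 1 := by rw [ha.2, hb.2, one_mul]⟩ }
  have hDC : D ≤ C := fun a ha => ha.1
  have hDn : D.Normal := ⟨fun a ha g => ⟨hCn.conj_mem a ha.1 g, by
    rw [show g * a * g⁻¹ * (g * a * g⁻¹) * (g * a * g⁻¹ * (g * a * g⁻¹)) = g * (a * a * (a * a)) * g⁻¹ by group,
      ha.2, mul_one, mul_inv_cancel]⟩⟩
  have hCD : ∀ z ∈ centreOf C, z ∈ D → z ∈ centreOf D := fun z hz hzD => ⟨hzD, fun b hb => hz.2 b (hDC hb)⟩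
  have hsqD : ∀ a ∈ D, a * a ∈ omegaCentre D := fun a ha =>
    ⟨hCD _ (hCsq a ha.1) (D.mul_mem ha ha), ha.2⟩
  have hcmD : ∀ a ∈ D, ∀ b ∈ D, ⁅a, b⁆ ∈ omegaCentre D := fun a ha b hb =>
    ⟨hCD _ (hCcl a (hCU ha.1) b hb.1)
      (by rw [commutatorElement_def]; exact D.mul_mem (D.mul_mem (D.mul_mem ha hb) (D.inv_mem ha)) (D.inv_mem hb)),
      hc2 a ha.1 b hb.1⟩
  have hUDb : ∀ a ∈ D, ∀ u ∈ Ub, ⁅a, u⁆ ∈ centreOf D := fun a ha u hu => by
    refine hCD _ ?_ ?_
    · rw [← commutatorElement_inv]; exact inv_mem (hCcl u hu a ha.1)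
    · rw [show ⁅a, u⁆ = a * (u * a⁻¹ * u⁻¹) by simp [commutatorElement_def, mul_assoc]]
      exact D.mul_mem ha (hDn.conj_mem _ (D.inv_mem ha) u)
  -- the three sections
  have hZn : (centreOf D).Normal := centreOf_normal hDn
  set Φ' := Ub ⊔ frattiniCore 2 (X ⧸ K₀) with hΦ'
  have hΦ'U : Φ' ≤ U₂ := sup_le inf_le_left (frattiniCore_le 2 _)
  obtain ⟨hcommF, hpowF, -⟩ := frattini_quotient_props hH h02
  set f₁ := QuotientGroup.mk' Φ' with hf₁
  set f₂ := QuotientGroup.mk' (centreOf D) with hf₂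
  set V₁ := U₂.map f₁ with hV₁
  set V₂ := D.map f₂ with hV₂
  set V₃ := omegaCentre D with hV₃
  have : V₁.Normal := Subgroup.Normal.map inferInstance f₁ (QuotientGroup.mk'_surjective _)
  have : V₂.Normal := Subgroup.Normal.map hDn f₂ (QuotientGroup.mk'_surjective _)
  have hV₁c : ∀ a ∈ U₂, ∀ b ∈ U₂, f₁ a * f₁ b = f₁ b * f₁ a := fun a ha b hb => by
    have h1 := hcommF _ ⟨a, ha, rfl⟩ _ ⟨b, hb, rfl⟩
    rw [← commutatorElement_eq_one_iff_mul_comm, ← map_commutatorElement] at h1 ⊢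
    exact (QuotientGroup.eq_one_iff _).mpr (Subgroup.mem_sup_right ((QuotientGroup.eq_one_iff _).mp h1))
  have : IsMulCommutative V₁ := ⟨⟨by rintro ⟨_, a, ha, rfl⟩ ⟨_, b, hb, rfl⟩; exact Subtype.ext (hV₁c a ha b hb)⟩⟩
  have : IsMulCommutative V₂ := ⟨⟨by
    rintro ⟨_, a, ha, rfl⟩ ⟨_, b, hb, rfl⟩
    refine Subtype.ext ?_
    show f₂ a * f₂ b = f₂ b * f₂ a
    rw [← commutatorElement_eq_one_iff_mul_comm, ← map_commutatorElement]
    exact (QuotientGroup.eq_one_iff _).mpr (hcmD a ha b hb).1⟩⟩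
  have : IsMulCommutative V₃ := ⟨⟨fun a b => Subtype.ext (b.2.1.2 a a.2.1.1)⟩⟩
  have he₁ : ∀ a ∈ V₁, a ^ 2 = 1 := by
    rintro _ ⟨a, ha, rfl⟩
    have h1 := hpowF _ ⟨a, ha, rfl⟩
    rw [← map_pow] at h1 ⊢
    exact (QuotientGroup.eq_one_iff _).mpr (Subgroup.mem_sup_right ((QuotientGroup.eq_one_iff _).mp h1))
  have he₂ : ∀ a ∈ V₂, a ^ 2 = 1 := by
    rintro _ ⟨a, ha, rfl⟩
    rw [pow_two, ← map_mul]
    exact (QuotientGroup.eq_one_iff _).mpr (hsqD a ha).1
  have he₃ : ∀ a ∈ V₃, a ^ 2 = 1 := fun a ha => by rw [pow_two]; exact ha.2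
  let ρ := prodEndHom ((conjEnd V₁).comp f₁) (prodEndHom ((conjEnd V₂).comp f₂) (conjEnd V₃))
  have htwo : ∀ {G : Type u} [Group G] (W : Subgroup G) [IsMulCommutative W], (∀ a ∈ W, a ^ 2 = 1) →
      ∀ a : Additive W, 2 • a = 0 := fun W _ hW a => by
    apply Additive.toMul.injective
    apply Subtype.ext
    rw [toMul_nsmul, Subgroup.coe_pow]
    exact hW _ (Additive.toMul a).2
  have hρ2 : ∀ a : Additive V₁ × Additive V₂ × Additive V₃, 2 • a = 0 := fun a =>
    Prod.ext (htwo V₁ he₁ a.1) (Prod.ext (htwo V₂ he₂ a.2.1) (htwo V₃ he₃ a.2.2))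
  obtain ⟨W, _, _, δ₀, hW2, hδU, hδdeg, hδodd⟩ := exists_graded_end U₂ hU₂p _ _ rfl hρ2 ρ
  -- faithfulness on elements of odd order
  have hfaith : ∀ h : X ⧸ K₀, Odd (orderOf h) → ρ h = 1 → h ∈ U₂ := by
    intro h hodd hh
    obtain ⟨hh₁, hh₂₃⟩ := prodEndHom_eq_one hh
    obtain ⟨hh₂, hh₃⟩ := prodEndHom_eq_one hh₂₃
    have ho := pow_orderOf_eq_one h
    have hfix₃ : ∀ z ∈ V₃, h * z = z * h := fun z hz =>
      ((conjEnd_ker V₃).le (MonoidHom.mem_ker.mpr hh₃) z hz).symm
    have hfixZ : ∀ z ∈ centreOf D, h * z = z * h := by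
      intro z hz
      set w := z⁻¹ * (h * z * h⁻¹) with hw
      have hzz : z * z ∈ V₃ := hsqD z hz.1
      have hwZ : w ∈ centreOf D := mul_mem (inv_mem hz) (hZn.conj_mem z hz h)
      have hw2 : w * w = 1 := by
        have hc : Commute z⁻¹ (h * z * h⁻¹) := hwZ |> fun _ =>
          ((hZn.conj_mem z hz h).2 _ (D.inv_mem hz.1))
        calc w * w = z⁻¹ * (h * z * h⁻¹ * z⁻¹) * (h * z * h⁻¹) := by rw [hw]; group
          _ = z⁻¹ * (z⁻¹ * (h * z * h⁻¹)) * (h * z * h⁻¹) := by rw [hc.eq]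
          _ = (z * z)⁻¹ * (h * (z * z) * h⁻¹) := by group
          _ = 1 := by rw [hfix₃ _ hzz, mul_inv_cancel_right, inv_mul_cancel]
      have hw1 := eq_one_of_conj_eq_mul (h := h) (z := z) (w := w) (i := 1) (o := orderOf h)
        (by rw [hw, mul_inv_cancel_left]) (hfix₃ w ⟨hwZ, hw2⟩) (by rw [pow_one, pow_two, hw2]) ho hodd
      rw [hw, inv_mul_eq_one, eq_mul_inv_iff_mul_eq] at hw1
      exact hw1.symm
    have hfixD : ∀ d ∈ D, h * d = d * h := by
      intro d hd
      set w := d⁻¹ * (h * d * h⁻¹) with hw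
      have hwD : w ∈ centreOf D := by
        have h1 : f₂ h ∈ Subgroup.centralizer (V₂ : Set _) := (conjEnd_ker V₂).le (MonoidHom.mem_ker.mpr hh₂)
        refine (QuotientGroup.eq_one_iff w).mp ?_
        show f₂ w = 1
        rw [hw, map_mul, map_inv, map_mul, map_mul, map_inv, ← h1 _ ⟨d, hd, rfl⟩, mul_inv_cancel_right,
          inv_mul_cancel]
      have hw4 : w ^ 2 ^ 2 = 1 := by
        have h1 := hwD.1.2
        rw [show (2 : ℕ) ^ 2 = 2 + 2 by norm_num, pow_add, pow_two]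
        exact h1
      have hw1 := eq_one_of_conj_eq_mul (h := h) (z := d) (w := w) (o := orderOf h)
        (by rw [hw, mul_inv_cancel_left]) (hfixZ w hwD) hw4 ho hodd
      rw [hw, inv_mul_eq_one, eq_mul_inv_iff_mul_eq] at hw1
      exact hw1.symm
    have hfixC : ∀ n, ∀ c ∈ C, orderOf c = n → h * c = c * h := by
      intro n
      induction n using Nat.strong_induction_on with
      | h n ih =>
      intro c hc hn
      by_cases hc1 : c = 1
      · rw [hc1, mul_one, one_mul]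
      have hcc : h * (c * c) = c * c * h := by
        refine ih _ ?_ (c * c) (C.mul_mem hc hc) rfl
        obtain ⟨i, hi⟩ := IsPGroup.iff_orderOf.mp hUbp ⟨c, hCU hc⟩
        rw [Subgroup.orderOf_mk] at hi
        have hi0 : i ≠ 0 := fun e => hc1 (orderOf_eq_one_iff.mp (by rw [hi, e, pow_zero]))
        rw [← hn, ← pow_two, orderOf_pow' c two_ne_zero, hi,
          Nat.gcd_eq_right (dvd_pow_self 2 hi0)]
        exact Nat.div_lt_self (pow_pos two_pos i) one_lt_two
      set d := h * c * h⁻¹ with hd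
      have hdC : d ∈ C := hCn.conj_mem c hc h
      have hdd : d * d = c * c := by
        rw [hd, show h * c * h⁻¹ * (h * c * h⁻¹) = h * (c * c) * h⁻¹ by group, hcc, mul_inv_cancel_right]
      set w := c⁻¹ * d with hw
      have hwC : w ∈ C := C.mul_mem (C.inv_mem hc) hdC
      set t := ⁅d, c⁻¹⁆ with ht
      have htZ := hCcl d (hCU hdC) c⁻¹ (C.inv_mem hc)
      have hwt : w * w = t := by
        have h1 : d * c⁻¹ = t * (c⁻¹ * d) := by rw [ht, commutatorElement_def]; group
        calc w * w = c⁻¹ * (d * c⁻¹) * d := by rw [hw]; group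
          _ = c⁻¹ * (t * (c⁻¹ * d)) * d := by rw [h1]
          _ = t * (c⁻¹ * (c⁻¹ * d)) * d := by
              rw [← mul_assoc c⁻¹ t, htZ.2 c⁻¹ (C.inv_mem hc), mul_assoc t c⁻¹]
          _ = t * ((c * c)⁻¹ * (d * d)) := by group
          _ = t := by rw [hdd, inv_mul_cancel, mul_one]
      have hwD : w ∈ D := ⟨hwC, by rw [hwt, ht]; exact hc2 d hdC c⁻¹ (C.inv_mem hc)⟩
      have hw1 := eq_one_of_conj_eq_mul (h := h) (z := c) (w := w) (i := 2) (o := orderOf h)
        (by rw [hw, mul_inv_cancel_left, hd]) (hfixD w hwD)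
        (by rw [show (2 : ℕ) ^ 2 = 2 + 2 by norm_num, pow_add, pow_two]; exact hwD.2) ho hodd
      rw [hw, inv_mul_eq_one, hd, eq_mul_inv_iff_mul_eq] at hw1
      exact hw1.symm
    have hfixU : ∀ u ∈ Ub, h * u = u * h := by
      intro u hu
      set w := u⁻¹ * (h * u * h⁻¹) with hw
      have hwU : w ∈ Ub := Ub.mul_mem (Ub.inv_mem hu) (hUbn.conj_mem u hu h)
      have hwcen : ∀ c ∈ C, c * w = w * c := by
        intro c hc
        set c₀ := u * c * u⁻¹ with hc₀
        have hc₀C : c₀ ∈ C := hCn.conj_mem c hc u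
        have f1 := hfixC _ c₀ hc₀C rfl
        have f2 := hfixC _ c hc rfl
        have f3 : h⁻¹ * c₀ = c₀ * h⁻¹ := by
          rw [eq_mul_inv_iff_mul_eq, mul_assoc, ← f1, inv_mul_cancel_left]
        calc c * w = u⁻¹ * (c₀ * h) * u * h⁻¹ := by rw [hw, hc₀]; group
          _ = u⁻¹ * (h * c₀) * u * h⁻¹ := by rw [f1]
          _ = u⁻¹ * h * u * (c * h⁻¹) := by rw [hc₀]; group
          _ = u⁻¹ * h * u * (h⁻¹ * c) := by
              have f4 : c * h⁻¹ = h⁻¹ * c := by
                rw [mul_inv_eq_iff_eq_mul, mul_assoc, ← f2, inv_mul_cancel_left]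
              rw [f4]
          _ = w * c := by rw [hw]; group
      have hwC : w ∈ C := by
        have h1 : (⟨w, hwU⟩ : Ub) ∈ Subgroup.centralizer (C₀ : Set Ub) := fun c hc =>
          Subtype.ext (hwcen _ ⟨c, hc, rfl⟩)
        exact ⟨_, hC₀self h1, rfl⟩
      obtain ⟨i, hi⟩ := hUbp ⟨w, hwU⟩
      have hw1 := eq_one_of_conj_eq_mul (h := h) (z := u) (w := w) (o := orderOf h)
        (by rw [hw, mul_inv_cancel_left]) (hfixC _ w hwC rfl) (congrArg Subtype.val hi) ho hodd
      rw [hw, inv_mul_eq_one, eq_mul_inv_iff_mul_eq] at hw1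
      exact hw1.symm
    -- modulo the Frattini subgroup
    set fF := QuotientGroup.mk' (frattiniCore 2 (X ⧸ K₀)) with hfF
    have htriv : ∀ v ∈ U₂, fF (v⁻¹ * (h * v * h⁻¹)) = 1 := by
      intro v hv
      set w := v⁻¹ * (h * v * h⁻¹) with hw
      have hwU : w ∈ U₂ := U₂.mul_mem (U₂.inv_mem hv) (hU₂n.conj_mem v hv h)
      have hwΦ : w ∈ Φ' := by
        have h1 : f₁ h ∈ Subgroup.centralizer (V₁ : Set _) := (conjEnd_ker V₁).le (MonoidHom.mem_ker.mpr hh₁)
        refine (QuotientGroup.eq_one_iff w).mp ?_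
        show f₁ w = 1
        rw [hw, map_mul, map_inv, map_mul, map_mul, map_inv, ← h1 _ ⟨v, hv, rfl⟩, mul_inv_cancel_right,
          inv_mul_cancel]
      refine eq_one_of_conj_eq_mul (h := fF h) (z := fF v) (i := 1) (o := orderOf h) ?_ ?_ ?_
        (by rw [← map_pow, ho, map_one]) hodd
      · rw [← map_inv, ← map_mul, ← map_mul, ← map_mul, hw, mul_inv_cancel_left]
      · obtain ⟨a, ha, b, hb, hab⟩ := Subgroup.mem_sup_of_normal_left.mp hwΦ
        rw [← hab, map_mul, show fF b = 1 from (QuotientGroup.eq_one_iff b).mpr hb, mul_one, ← map_mul,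
          ← map_mul, hfixU a ha]
      · rw [pow_one]
        exact hpowF _ ⟨w, hwU, rfl⟩
    have hcop : (Nat.card (Subgroup.zpowers h)).Coprime (Nat.card (frattini U₂)) := by
      obtain ⟨j, hj⟩ := (hU₂p.to_subgroup (frattini U₂)).exists_card_eq
      rw [Nat.card_zpowers, hj]
      exact ((Nat.coprime_two_right.mpr hodd).pow_right j)
    have hcen := CfsgLib.Coprime.le_centralizer_of_trivial_on_frattini (Subgroup.zpowers h) U₂
      (Subgroup.le_normalizer_of_normal) hcop fun a ha v hv => by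
        obtain ⟨j, rfl⟩ := ha
        have h1 : fF h ∈ Subgroup.centralizer ((U₂.map fF : Subgroup _) : Set _) := by
          rintro _ ⟨b, hb, rfl⟩
          have h2 := htriv b hb
          rw [map_mul, map_inv, inv_mul_eq_one, map_mul, map_mul, map_inv, eq_mul_inv_iff_mul_eq] at h2
          exact h2
        have h2 := (Subgroup.centralizer _).zpow_mem h1 j (fF v) ⟨v, hv, rfl⟩
        show h ^ j * v * (h ^ j)⁻¹ * v⁻¹ ∈ frattiniCore 2 (X ⧸ K₀)
        refine (QuotientGroup.eq_one_iff _).mp ?_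
        show fF _ = 1
        rw [map_mul, map_mul, map_mul, map_inv, map_inv, map_zpow, ← h2, mul_inv_cancel_right, mul_inv_cancel]
    exact centralizer_pCore_le hH h02 (hcen (Subgroup.mem_zpowers h))
  -- the action of the quotient
  let δ : (X ⧸ K₀) ⧸ U₂ →* AddMonoid.End W := QuotientGroup.lift U₂ δ₀ (fun u hu => hδU u hu)
  have hδinj : Function.Injective δ := by
    rw [← MonoidHom.ker_eq_bot_iff]
    refine le_bot_iff.mp (le_trans (le_pCore inferInstance ?_) (pCore_quotient_pCore).le)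
    rintro ⟨a, ha⟩
    obtain ⟨i, o, ho, hao⟩ := Nat.exists_eq_pow_mul_and_not_dvd (orderOf_pos a).ne' 2 (by norm_num)
    refine ⟨i, Subtype.ext ?_⟩
    show a ^ 2 ^ i = 1
    have hodd : Odd o := Nat.not_even_iff_odd.mp fun h => ho (even_iff_two_dvd.mp h)
    obtain ⟨g, hg⟩ := QuotientGroup.mk'_surjective U₂ (a ^ 2 ^ i)
    obtain ⟨g', hg'o, hg'⟩ := exists_odd_order_lift (QuotientGroup.mk' U₂) g o hodd
      (by rw [hg, ← pow_mul, ← hao, pow_orderOf_eq_one])
    rw [← hg, ← hg']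
    refine (QuotientGroup.eq_one_iff g').mpr (hfaith g' hg'o (hδodd g' hg'o ?_))
    have h1 : a ^ 2 ^ i ∈ δ.ker := pow_mem ha _
    rw [← hg, ← hg', MonoidHom.mem_ker] at h1
    exact h1
  set θ := (QuotientGroup.mk' U₂).comp π with hθ
  have hθs : Function.Surjective θ := (QuotientGroup.mk'_surjective U₂).comp hπs
  refine ⟨W, inferInstance, inferInstance, δ, P.mapSurjective hθs, hW2, hδinj, fun l' hl' hlen => ?_⟩
  rw [Sylow.coe_mapSurjective] at hl'
  obtain ⟨l, hl, rfl⟩ := IsDerChain.exists_lift θ hl'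
  rw [List.length_map] at hlen
  rw [opsProd, List.map_map]
  show (l.map ((fun g => δ g - 1) ∘ θ)).prod = 0
  rw [show ((fun g => δ g - 1) ∘ θ) = (fun g => δ₀ g - 1) ∘ π from rfl, ← List.map_map]
  refine hδdeg _ (prodEndHom_list_prod _ _ _ ?_ (prodEndHom_list_prod _ _ _ ?_ ?_))
  -- on `U₂` modulo `Φ'`
  · rw [List.map_map]
    show opsProd ((conjEnd V₁).comp (f₁.comp π)) l = 0
    refine addEnd_ext fun w => Additive.toMul.injective (Subtype.ext ?_)
    obtain ⟨v, hv, hvw⟩ := (Additive.toMul w : V₁).2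
    obtain ⟨s, hs, rfl⟩ := hU₂P v hv
    obtain ⟨e, he, -, hew⟩ :=
      exists_iterate V₁ (f₁.comp π) (Subgroup.normal_top (G := X) : (⊤ : Subgroup X).Normal) l hl s hs
        (Subgroup.mem_top s) w hvw.symm
    rw [hlen] at he
    rw [hew]
    exact (QuotientGroup.eq_one_iff _).mpr (Subgroup.mem_sup_left (hAU e he))
  -- on `D` modulo its centre
  · rw [List.map_map]
    show opsProd ((conjEnd V₂).comp (f₂.comp π)) l = 0
    refine addEnd_ext fun w => Additive.toMul.injective (Subtype.ext ?_)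
    obtain ⟨v, hv, hvw⟩ := (Additive.toMul w : V₂).2
    obtain ⟨s, hs, rfl⟩ := hU₂P v (hCU (hDC hv)).1
    obtain ⟨e, he, heD, hew⟩ :=
      exists_iterate V₂ (f₂.comp π) (hDn.comap π) l hl s hs hv w hvw.symm
    rw [hlen] at he
    rw [hew]
    refine (QuotientGroup.eq_one_iff _).mpr ⟨heD, fun b hb => (hAc e he b (hCU (hDC hb))).symm⟩
  -- on the omega centre
  · rw [List.map_map]
    show opsProd ((conjEnd V₃).comp π) l = 0
    refine addEnd_ext fun w => Additive.toMul.injective (Subtype.ext ?_)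
    have hw3 := (Additive.toMul w : V₃).2
    obtain ⟨s, hs, hsw⟩ := hU₂P _ (hCU (hDC hw3.1.1)).1
    obtain ⟨g, l₁, rfl⟩ := List.exists_cons_of_length_pos (show 0 < l.length by omega)
    rw [List.length_cons] at hlen
    obtain ⟨hg, hl₁⟩ := hl
    have hsV : π s ∈ V₃ := hsw ▸ hw3
    obtain ⟨e, he, heV, hew⟩ :=
      exists_iterate V₃ π (Subgroup.Normal.comap (inferInstanceAs (omegaCentre D).Normal) π) l₁ hl₁ s hs
        (show s ∈ V₃.comap π from hsV) w hsw.symm
    have hl1 : l₁.length = d := by omega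
    rw [hl1] at he hg
    have heP : e ∈ (P : Subgroup X) := dSer_le _ _ he
    have hee : e * e = 1 := hπinj _ (mul_mem heP heP) (by rw [map_mul]; exact heV.2)
    have heN : e ∈ N := hN_of e heP (hCU (hDC heV.1.1)).2
    have h1 := commutator_involution_eq_one hX h0 γ hγ hP2 hk (d := d + 1) (g := g) (u := e)
      (by rwa [Nat.add_sub_cancel]) heP heN hee
      (by rw [dSer_succ]; exact Subgroup.commutator_mem_commutator hg he)
    rw [opsProd_cons]
    show ((Additive.toMul (conjEnd V₃ (π g) (opsProd ((conjEnd V₃).comp π) l₁ w) -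
      opsProd ((conjEnd V₃).comp π) l₁ w) : V₃) : X ⧸ K₀) = _
    rw [toMul_sub, Subgroup.coe_div, conjEnd_apply, hew, div_eq_mul_inv, ← map_inv, ← map_mul, ← map_inv,
      ← map_mul, ← map_mul, ← commutatorElement_def, h1, map_one]
    rfl

/-- Killing the chains of length `d + 1` bounds the `2`-length by `d`. -/
theorem pLengthLE_two_of_killsChains (d : ℕ) : ∀ (X : Type u) [Group X] [Finite X], Group.IsSolvable X →
    pCore 2 X = ⊥ → ∀ (V : Type u) [AddCommGroup V] [Finite V] (γ : X →* AddMonoid.End V) (P : Sylow 2 X),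
    (∀ a : V, 2 • a = 0) → Function.Injective γ → KillsChains γ (P : Subgroup X) (d + 1) →
    PLengthLE 2 d X := by
  have := Fact.mk Nat.prime_two
  induction d with
  | zero =>
    intro X _ _ _ _ V _ _ γ P _ hγ hk
    have hP : (P : Subgroup X) = ⊥ := (Subgroup.eq_bot_iff_forall _).mpr fun g hg => hγ (by
      have h1 := hk [g] ⟨(dSer_zero _).ge hg, trivial⟩ rfl
      rw [opsProd_singleton, sub_eq_zero] at h1
      rw [h1, map_one])
    refine pLengthLE_of_coprime_kernel (⊤ : Subgroup X) ?_ (pLengthLE_quotient_top 0)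
    rw [Nat.coprime_comm, Nat.prime_two.coprime_iff_not_dvd]
    intro hd
    exact P.not_dvd_index (by rwa [hP, Subgroup.index_bot, ← Subgroup.card_top])
  | succ d ih =>
    intro X _ _ hX h0 V _ _ γ P hV hγ hk
    obtain ⟨V₂, _, _, _, Φ, hΦ⟩ := exists_linear_model hV
    have : CharP (AlgebraicClosure (ZMod 2)) 2 :=
      charP_of_injective_algebraMap (algebraMap (ZMod 2) (AlgebraicClosure (ZMod 2))).injective 2
    obtain ⟨W, _, _, δ, P', hW, hδ, hδk⟩ := exists_chain_quotient_rep hX h0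
      (Φ.toMonoidHom.comp γ) (hΦ.comp hγ) d P (fun l hl hll => by
        rw [opsProd_ringHom γ Φ l, hk l hl hll, map_zero])
    refine pLengthLE_of_coprime_kernel (pPrimeCore 2 X) pPrimeCore_coprime ?_
    have : (pCore 2 (X ⧸ pPrimeCore 2 X)).Normal := CfsgLib.Fitting.pCore_normal 2
    exact pLengthLE_succ_of_pGroup_kernel (pCore 2 (X ⧸ pPrimeCore 2 X)) pCore_isPGroup
      (ih _ inferInstance pCore_quotient_pCore W δ P' hW hδ hδk)

/-- A solvable group whose Sylow `2`-subgroups have derived length at most `d` has `2`-length at most `d`. -/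
theorem pLengthLE_two_le_derivedLength (d : ℕ) (G : Type u) [Group G] [Finite G] (hG : Group.IsSolvable G)
    (hd : ∀ P : Sylow 2 G, dSer (P : Subgroup G) d = ⊥) : PLengthLE 2 d G := by
  have := Fact.mk Nat.prime_two
  obtain ⟨P⟩ : Nonempty (Sylow 2 G) := inferInstance
  rcases d with _ | m
  · refine pLengthLE_of_coprime_kernel (⊤ : Subgroup G) ?_ (pLengthLE_quotient_top 0)
    rw [Nat.coprime_comm, Nat.prime_two.coprime_iff_not_dvd]
    intro h2
    have hP : (P : Subgroup G) = ⊥ := by rw [← dSer_zero (P : Subgroup G), hd P]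
    exact P.not_dvd_index (by rwa [hP, Subgroup.index_bot, ← Subgroup.card_top])
  refine pLengthLE_of_coprime_kernel (pPrimeCore 2 G) pPrimeCore_coprime ?_
  have hdH : ∀ Q : Sylow 2 (G ⧸ pPrimeCore 2 G), dSer (Q : Subgroup (G ⧸ pPrimeCore 2 G)) (m + 1) = ⊥ := fun Q => by
    obtain ⟨R, hR⟩ := exists_sylow_eq_map _ (QuotientGroup.mk'_surjective _) Q
    rw [hR, ← map_dSer, hd R, Subgroup.map_bot]
  have hH : IsPSolvable 2 (G ⧸ pPrimeCore 2 G) := isPSolvable_of_isSolvable
  have h0 : pPrimeCore 2 (G ⧸ pPrimeCore 2 G) = ⊥ := pPrimeCore_quotient_eq_bot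
  have hHs : Group.IsSolvable (G ⧸ pPrimeCore 2 G) := inferInstance
  set H := G ⧸ pPrimeCore 2 G
  have : (pCore 2 H).Normal := CfsgLib.Fitting.pCore_normal 2
  refine pLengthLE_succ_of_pGroup_kernel (pCore 2 H) pCore_isPGroup ?_
  obtain ⟨hcomm, hpow, hcen⟩ := frattini_quotient_props hH h0
  set f1 := QuotientGroup.mk' (frattiniCore 2 H) with hf1
  set W := (pCore 2 H).map f1 with hW
  have : W.Normal := Subgroup.Normal.map inferInstance f1 (QuotientGroup.mk'_surjective _)
  have : IsMulCommutative W := ⟨⟨fun a b => Subtype.ext (hcomm a a.2 b b.2)⟩⟩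
  let c := (conjEnd W).comp f1
  have hker : c.ker = pCore 2 H := by
    rw [← MonoidHom.comap_ker, conjEnd_ker, hcen, hW, Subgroup.comap_map_eq, hf1, QuotientGroup.ker_mk',
      sup_eq_left]
    exact frattiniCore_le 2 H
  let ρ : H ⧸ pCore 2 H →* AddMonoid.End (Additive W) := QuotientGroup.lift (pCore 2 H) c hker.ge
  have hρ : Function.Injective ρ := by
    rw [injective_iff_map_eq_one]
    intro a
    induction a using QuotientGroup.induction_on with
    | H a => exact fun h => (QuotientGroup.eq_one_iff a).mpr (hker.le h)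
  have hA : ∀ a : Additive W, 2 • a = 0 := fun a => by
    apply Additive.toMul.injective
    apply Subtype.ext
    rw [toMul_nsmul, Subgroup.coe_pow]
    exact hpow _ (Additive.toMul a).2
  obtain ⟨R⟩ : Nonempty (Sylow 2 H) := inferInstance
  refine pLengthLE_two_of_killsChains m (H ⧸ pCore 2 H) inferInstance pCore_quotient_pCore (Additive W) ρ
    (R.mapSurjective (QuotientGroup.mk'_surjective (pCore 2 H))) hA hρ fun l' hl' hlen => ?_
  rw [Sylow.coe_mapSurjective] at hl'
  obtain ⟨l, hl, rfl⟩ := IsDerChain.exists_lift _ hl'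
  rw [List.length_map] at hlen
  rw [← opsProd_comp]
  show opsProd ((conjEnd W).comp f1) l = 0
  refine addEnd_ext fun w => Additive.toMul.injective (Subtype.ext ?_)
  obtain ⟨v, hv, hvw⟩ := (Additive.toMul w : W).2
  obtain ⟨e, he, -, hew⟩ := exists_iterate W f1 (Subgroup.normal_top (G := H) : (⊤ : Subgroup H).Normal) l hl v
    (pCore_le_sylow R hv) (Subgroup.mem_top v) w hvw.symm
  rw [hlen, hdH R, Subgroup.mem_bot] at he
  rw [hew, he, map_one]
  rfl

end CfsgLib.HallHigman
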