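import Cfsg.Agent.Lib.PCore.Basic
import Cfsg.Agent.Lib.Solvable.Fitting

/-!
# Cores of solvable groups
-/

namespace CfsgLib.HallHigman

open Cfsg CfsgLib.PCore

theorem pCore_eq_bot_of_pPrimeCore_eq_bot {G : Type*} [Group G] [Finite G] {r q : ℕ} (hq : q.Prime)
    (hr : r.Prime) (hne : r ≠ q) (h0 : pPrimeCore q G = ⊥) : pCore r G = ⊥ := by
  haveI := Fact.mk hr
  haveI := Fact.mk hq
  have hc : (Nat.card (pCore r G)).Coprime q := by
    obtain ⟨k, hk⟩ := (pCore_isPGroup (p := r) (G := G)).exists_card_eq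
    rw [hk]
    exact Nat.Coprime.pow_left _ ((Nat.coprime_primes hr hq).mpr hne)
  exact le_bot_iff.mp (h0 ▸ le_pPrimeCore (CfsgLib.Fitting.pCore_normal r) hc)

theorem pCore_ne_bot_of_solvable {G : Type*} [Group G] [Finite G] [Group.IsSolvable G] [Nontrivial G]
    {q : ℕ} (hq : q.Prime) (h0 : pPrimeCore q G = ⊥) : pCore q G ≠ ⊥ := by
  intro h
  apply CfsgLib.Fitting.fitting_ne_bot (G := G)
  rw [CfsgLib.Fitting.fitting_eq_iSup_pCore, iSup_eq_bot]
  intro r
  rcases eq_or_ne (r : ℕ) q with e | e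
  · rw [e]; exact h
  · exact pCore_eq_bot_of_pPrimeCore_eq_bot hq (Nat.prime_of_mem_primeFactors r.2) e h0

end CfsgLib.HallHigman
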