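import Mathlib

/-!
# Translates of a character eigenspace
-/

namespace CfsgLib.HallHigman

open Module (End)

variable {K V : Type*} [Field K] [AddCommGroup V] [Module K V]

/-- Simultaneous eigenvectors with pairwise distinct eigencharacters summing to zero are zero. -/
theorem eq_zero_of_sum_eigen_eq_zero {κ ι : Type*} [DecidableEq ι] (op : κ → End K V)
    (χ : ι → κ → K) (v : ι → V) (hv : ∀ i z, op z (v i) = χ i z • v i) (s : Finset ι)
    (hsep : ∀ i ∈ s, ∀ j ∈ s, i ≠ j → ∃ z, χ i z ≠ χ j z) (hsum : ∑ i ∈ s, v i = 0) :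
    ∀ i ∈ s, v i = 0 := by
  induction s using Finset.induction generalizing v with
  | empty => simp
  | @insert b s hb ih =>
    have hs : ∀ a ∈ s, v a = 0 := by
      intro a ha
      obtain ⟨z, hz⟩ := hsep a (Finset.mem_insert_of_mem ha) b (Finset.mem_insert_self b s)
        (fun e => hb (e ▸ ha))
      have h1 : ∑ i ∈ insert b s, (χ i z - χ b z) • v i = 0 := by
        calc _ = op z (∑ i ∈ insert b s, v i) - χ b z • ∑ i ∈ insert b s, v i := by
              rw [map_sum, Finset.smul_sum, ← Finset.sum_sub_distrib]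
              exact Finset.sum_congr rfl fun i _ => by rw [hv, sub_smul]
          _ = 0 := by rw [hsum]; simp
      rw [Finset.sum_insert hb, sub_self, zero_smul, zero_add] at h1
      have h2 := ih (fun i => (χ i z - χ b z) • v i)
        (fun i w => by rw [map_smul, hv, smul_smul, smul_smul, mul_comm])
        (fun i hi j hj hij => hsep i (Finset.mem_insert_of_mem hi) j (Finset.mem_insert_of_mem hj) hij)
        h1 a ha
      exact (smul_eq_zero.mp h2).resolve_left (sub_ne_zero.mpr hz)
    intro i hi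
    rcases Finset.mem_insert.mp hi with rfl | hi
    · rwa [Finset.sum_insert hb, Finset.sum_eq_zero hs, add_zero] at hsum
    · exact hs i hi

/-- Expansion of `(x - 1)^l` along the powers of `x`. -/
theorem sub_one_pow_apply_eq_sum (x : End K V) (W : Submodule K V) (w : V) (hw : w ∈ W) (l : ℕ) :
    ∃ f : ℕ → V, (∀ i, f i ∈ W) ∧ f l = w ∧ (∀ i, l < i → f i = 0) ∧
      ((x - 1) ^ l) w = ∑ i ∈ Finset.range (l + 1), (x ^ i) (f i) := by
  induction l with
  | zero => exact ⟨fun i => if i = 0 then w else 0, fun i => by dsimp only; split <;> simp [hw],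
      if_pos rfl, fun i hi => if_neg hi.ne', by simp⟩
  | succ l ih =>
    obtain ⟨f, hfW, hfl, hf0, hf⟩ := ih
    refine ⟨fun i => (if i = 0 then 0 else f (i - 1)) - f i, fun i => ?_, ?_, fun i hi => ?_, ?_⟩
    · exact sub_mem (by split <;> simp [hfW]) (hfW i)
    · simp [hfl, hf0 (l + 1) (by omega)]
    · simp [hf0 i (by omega), hf0 (i - 1) (by omega)]
    · have eA : ∑ i ∈ Finset.range (l + 1 + 1), (x ^ i) (if i = 0 then 0 else f (i - 1)) =
          x (∑ i ∈ Finset.range (l + 1), (x ^ i) (f i)) := by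
        rw [Finset.sum_range_succ', map_sum]
        simp only [Nat.add_one_sub_one, Nat.succ_ne_zero, if_false, if_true, map_zero, add_zero, pow_succ',
          Module.End.mul_apply]
      have eB : ∑ i ∈ Finset.range (l + 1 + 1), (x ^ i) (f i) = ∑ i ∈ Finset.range (l + 1), (x ^ i) (f i) := by
        rw [Finset.sum_range_succ, hf0 (l + 1) (by omega), map_zero, add_zero]
      rw [pow_succ', Module.End.mul_apply, hf, LinearMap.sub_apply, Module.End.one_apply]
      simp only [map_sub, Finset.sum_sub_distrib, eA, eB]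

/-- Powers of an element of `p`-power order reach every smaller `p`-power. -/
theorem exists_pow_eq_prime_pow {M : Type*} [Monoid M] {p : ℕ} (hp : p.Prime) {x : M} {n : ℕ}
    (hx : x ^ p ^ n = 1) {i : ℕ} (hi0 : 0 < i) (hi : i < p ^ n) :
    ∃ e u : ℕ, e < n ∧ p ^ e ≤ i ∧ (x ^ i) ^ u = x ^ p ^ e := by
  obtain ⟨e, u, hu, rfl⟩ := Nat.exists_eq_pow_mul_and_not_dvd (by omega : i ≠ 0) p hp.ne_one
  have hu0 : 0 < u := Nat.pos_of_ne_zero fun h => hu (h ▸ dvd_zero p)
  have hle : p ^ e ≤ p ^ e * u := Nat.le_mul_of_pos_right _ hu0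
  have he : e < n := (Nat.pow_lt_pow_iff_right hp.one_lt).mp (lt_of_le_of_lt hle hi)
  have h1 : 1 < p ^ n := Nat.one_lt_pow (by omega) hp.one_lt
  obtain ⟨v, hv⟩ := Nat.exists_mul_mod_eq_one_of_coprime
    (((hp.coprime_iff_not_dvd.mpr hu).pow_left n).symm) h1
  refine ⟨e, v, he, hle, ?_⟩
  rw [← pow_mul, mul_assoc, ← Nat.mod_add_div (u * v) (p ^ n), hv.2, mul_add, mul_one, pow_add,
    mul_left_comm, pow_mul x (p ^ n), hx, one_pow, mul_one]

end CfsgLib.HallHigman
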