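import Mathlib

/-!
# A semisimple operator without fixed vector whose conjugation action is trivial plus free

If `T` has order dividing `P`, no eigenvalue one, and permutes a basis of the endomorphism algebra freely apart
from the identity, then the dimension is at most `P - 1`.
-/

namespace CfsgLib.HallHigman

open Module (End)

/-- A permutation free off one fixed point has orbits of full size there. -/
theorem card_orbits {α : Type*} [Finite α] (π : Equiv.Perm α) (o : α) {P : ℕ} (hP : 0 < P) (ho : π o = o)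
    (hπ : π ^ P = 1) (hfree : ∀ a, a ≠ o → ∀ i, 0 < i → i < P → (π ^ i) a ≠ a) :
    P * (Nat.card (Quotient (Equiv.Perm.SameCycle.setoid π)) - 1) = Nat.card α - 1 := by
  classical
  have := Fintype.ofFinite α
  let R := Quotient (Equiv.Perm.SameCycle.setoid π)
  have := Fintype.ofFinite R
  have hofix : ∀ i, (π ^ i) o = o := by
    intro i
    induction i with
    | zero => rfl
    | succ i ih => rw [pow_succ, Equiv.Perm.mul_apply, ho, ih]
  let r₀ : R := Quotient.mk _ o
  have hne : ∀ q : R, q ≠ r₀ → ∀ i, (π ^ i) q.out ≠ o := by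
    intro q hq i h
    apply hq
    rw [← Quotient.out_eq q]
    refine Quotient.sound (show π.SameCycle q.out o from ⟨(i : ℤ), ?_⟩)
    rw [zpow_natCast, h]
  have hcyc : ∀ (x : α) (i : ℕ), (Quotient.mk _ ((π ^ i) x) : R) = Quotient.mk _ x := fun x i =>
    (Quotient.sound (show π.SameCycle x ((π ^ i) x) from ⟨(i : ℤ), by rw [zpow_natCast]⟩)).symm
  let Ψ : {q : R // q ≠ r₀} × Fin P → {a : α // a ≠ o} := fun z => ⟨(π ^ (z.2 : ℕ)) z.1.1.out, hne _ z.1.2 _⟩
  have hΨ : Function.Bijective Ψ := by
    constructor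
    · rintro ⟨⟨q, hq⟩, i⟩ ⟨⟨q', hq'⟩, i'⟩ h
      have h1 : (π ^ (i : ℕ)) q.out = (π ^ (i' : ℕ)) q'.out := congrArg Subtype.val h
      obtain rfl : q = q' := by
        have h2 := congrArg (Quotient.mk (Equiv.Perm.SameCycle.setoid π)) h1
        rwa [hcyc, hcyc, Quotient.out_eq, Quotient.out_eq] at h2
      suffices (i : ℕ) = i' from Prod.ext rfl (Fin.ext this)
      have key : ∀ a b : ℕ, a < b → b < P → (π ^ a) q.out ≠ (π ^ b) q.out := by
        intro a b hab hb e
        refine hfree q.out (by simpa using hne q hq 0) (b - a) (by omega) (by omega) ?_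
        apply (π ^ a).injective
        rw [← Equiv.Perm.mul_apply, ← pow_add, Nat.add_sub_cancel' hab.le]
        exact e.symm
      rcases lt_trichotomy (i : ℕ) i' with h3 | h3 | h3
      · exact absurd h1 (key _ _ h3 i'.2)
      · exact h3
      · exact absurd h1.symm (key _ _ h3 i.2)
    · rintro ⟨a, ha⟩
      set q : R := Quotient.mk _ a
      have hrel : π.SameCycle q.out a := Quotient.exact (Quotient.out_eq q)
      obtain ⟨i, hi⟩ := hrel.exists_nat_pow_eq
      have hq : q ≠ r₀ := fun h => ha (by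
        obtain ⟨j, hj⟩ := (Quotient.exact h : π.SameCycle a o).symm.exists_nat_pow_eq
        rw [← hj, hofix])
      refine ⟨⟨⟨q, hq⟩, ⟨i % P, Nat.mod_lt _ hP⟩⟩, Subtype.ext ?_⟩
      show (π ^ (i % P)) q.out = a
      rw [← pow_eq_pow_mod i hπ, hi]
  have h := Nat.card_congr (Equiv.ofBijective Ψ hΨ)
  rw [Nat.card_prod, Nat.card_fin] at h
  rw [Nat.card_eq_fintype_card (α := {q : R // q ≠ r₀}), Nat.card_eq_fintype_card (α := {a : α // a ≠ o}),
    Fintype.card_subtype_compl, Fintype.card_subtype_compl, Fintype.card_subtype_eq, Fintype.card_subtype_eq] at h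
  rw [Nat.card_eq_fintype_card, Nat.card_eq_fintype_card, mul_comm]
  exact h

variable {K U : Type*} [Field K] [AddCommGroup U] [Module K U] [FiniteDimensional K U]

/-- The centralizer of `T` is no larger than the number of orbits. -/
theorem finrank_centralizer_le (T : End K U) {P : ℕ} (hP : 0 < P) (hT : T ^ P = 1) {α : Type*} [Finite α]
    (e : Module.Basis α K (End K U)) (π : Equiv.Perm α) (hconj : ∀ a, ∃ c : K, T * e a = c • (e (π a) * T)) :
    Module.finrank K (LinearMap.ker (LinearMap.mulLeft K T - LinearMap.mulRight K T)) ≤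
      Nat.card (Quotient (Equiv.Perm.SameCycle.setoid π)) := by
  classical
  have := Fintype.ofFinite α
  let R := Quotient (Equiv.Perm.SameCycle.setoid π)
  have := Fintype.ofFinite R
  choose c hc using hconj
  have hTinv : T * T ^ (P - 1) = 1 := by rw [← pow_succ', Nat.sub_add_cancel hP, hT]
  let Φ : LinearMap.ker (LinearMap.mulLeft K T - LinearMap.mulRight K T) →ₗ[K] (R → K) :=
    { toFun := fun A q => e.repr (A : End K U) q.out
      map_add' := fun A B => funext fun q => by simp
      map_smul' := fun t A => funext fun q => by simp }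
  have hΦ : Function.Injective Φ := by
    rw [← LinearMap.ker_eq_bot, LinearMap.ker_eq_bot']
    rintro ⟨A, hA⟩ h0
    rw [LinearMap.mem_ker, LinearMap.sub_apply, LinearMap.mulLeft_apply, LinearMap.mulRight_apply, sub_eq_zero] at hA
    have hstep : ∀ b, e.repr A (π b) = c b * e.repr A b := by
      intro b
      have h1 : T * A = (∑ a, (e.repr A a * c a) • e (π a)) * T := by
        conv_lhs => rw [← e.sum_repr A, Finset.mul_sum]
        rw [Finset.sum_mul]
        refine Finset.sum_congr rfl fun a _ => ?_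
        rw [mul_smul_comm, hc, smul_smul, smul_mul_assoc]
      rw [hA] at h1
      have h2 : A = ∑ a, (e.repr A a * c a) • e (π a) := by
        have := congrArg (· * T ^ (P - 1)) h1
        simpa [mul_assoc, hTinv] using this
      conv_lhs => rw [h2]
      rw [map_sum, Finset.sum_apply']
      simp [Finsupp.single_apply, mul_comm]
    refine Subtype.ext (e.repr.map_eq_zero_iff.mp (Finsupp.ext fun a => ?_))
    obtain ⟨i, hi⟩ := (Quotient.exact (Quotient.out_eq (Quotient.mk _ a : R)) :
      π.SameCycle _ a).exists_nat_pow_eq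
    rw [← hi]
    have : ∀ j, e.repr A ((π ^ j) (Quotient.mk _ a : R).out) = 0 := by
      intro j
      induction j with
      | zero => exact congrFun h0 (Quotient.mk _ a : R)
      | succ j ih => rw [pow_succ', Equiv.Perm.mul_apply, hstep, ih, mul_zero]
    simpa using this i
  have h := LinearMap.finrank_le_finrank_of_injective hΦ
  rw [Module.finrank_fintype_fun_eq_card] at h
  rwa [Nat.card_eq_fintype_card]

/-- An operator with `T^P = 1` and no eigenvalue one has centralizer of dimension at least `dim² / (P-1)`. -/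
theorem finrank_sq_le_centralizer [IsAlgClosed K] (T : End K U) {P : ℕ} (hP : 1 < P) (hPK : (P : K) ≠ 0)
    (hT : T ^ P = 1) (hsum : ∑ i ∈ Finset.range P, T ^ i = 0) :
    Module.finrank K U ^ 2 ≤
      (P - 1) * Module.finrank K (LinearMap.ker (LinearMap.mulLeft K T - LinearMap.mulRight K T)) := by
  classical
  have : NeZero (P : K) := ⟨hPK⟩
  obtain ⟨ω, hω⟩ := HasEnoughRootsOfUnity.exists_primitiveRoot K P
  have hω0 : ω ≠ 0 := hω.ne_zero (by omega)
  let π : ℕ → End K U := fun j => (P : K)⁻¹ • ∑ i ∈ Finset.range P, (ω ^ (i * j)) • T ^ i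
  have hTπ : ∀ j, T * π j = (ω ^ j)⁻¹ • π j := by
    intro j
    have h1 : (∑ i ∈ Finset.range P, (ω ^ ((i + 1) * j)) • T ^ (i + 1)) = ∑ i ∈ Finset.range P, (ω ^ (i * j)) • T ^ i := by
      have e1 := Finset.sum_range_succ' (fun i => (ω ^ (i * j)) • T ^ i) P
      have e2 := Finset.sum_range_succ (fun i => (ω ^ (i * j)) • T ^ i) P
      simp only [zero_mul, pow_zero, one_smul] at e1
      rw [e1, hT, pow_mul, hω.pow_eq_one, one_pow, one_smul] at e2
      exact add_right_cancel e2
    show T * ((P : K)⁻¹ • _) = (ω ^ j)⁻¹ • ((P : K)⁻¹ • _)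
    conv_rhs => rw [← h1, smul_comm, Finset.smul_sum]
    rw [mul_smul_comm, Finset.mul_sum]
    congr 1
    refine Finset.sum_congr rfl fun i _ => ?_
    rw [mul_smul_comm, ← pow_succ', smul_smul]
    congr 1
    rw [add_mul, one_mul, pow_add, mul_comm (ω ^ j)⁻¹, mul_inv_cancel_right₀ (pow_ne_zero _ hω0)]
  have hπT : ∀ j, π j * T = T * π j := fun j =>
    (Commute.smul_right (Commute.sum_right _ _ _ fun i _ => ((Commute.refl T).pow_right i).smul_right _) _).eq.symm
  have hgeom : ∀ a : K, a ^ P = 1 → a ≠ 1 → ∑ i ∈ Finset.range P, a ^ i = 0 := fun a ha ha1 => by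
    rw [geom_sum_eq ha1, ha, sub_self, zero_div]
  have hπ0 : π 0 = 0 := by simp [π, hsum]
  have hone : ∑ j ∈ Finset.range P, π j = 1 := by
    show ∑ j ∈ Finset.range P, (P : K)⁻¹ • _ = 1
    rw [← Finset.smul_sum, Finset.sum_comm, Finset.sum_congr rfl fun i _ => (Finset.sum_smul).symm,
      Finset.sum_eq_single_of_mem 0 (Finset.mem_range.mpr (by omega))]
    · simp [← Nat.cast_smul_eq_nsmul K, smul_smul, inv_mul_cancel₀ hPK]
    · intro i hi hi0
      simp only [pow_mul]
      rw [hgeom (ω ^ i) (by rw [← pow_mul, mul_comm, pow_mul, hω.pow_eq_one, one_pow])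
        (hω.pow_ne_one_of_pos_of_lt hi0 (Finset.mem_range.mp hi)), zero_smul]
  have hrange : ∀ l, ∀ v ∈ LinearMap.range (π l), T v = (ω ^ l)⁻¹ • v := by
    rintro l _ ⟨u, rfl⟩
    rw [← Module.End.mul_apply, hTπ]; rfl
  have horth : ∀ j l, j < P → l < P → ∀ v ∈ LinearMap.range (π l), π j v = if j = l then v else 0 := by
    intro j l hj hl v hv
    have hTi : ∀ i, (T ^ i) v = ((ω ^ l)⁻¹) ^ i • v := by
      intro i
      induction i with
      | zero => simp
      | succ i ih => rw [pow_succ', Module.End.mul_apply, ih, map_smul, hrange l v hv, smul_smul, ← pow_succ]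
    have e : π j v = ((P : K)⁻¹ * ∑ i ∈ Finset.range P, (ω ^ j * (ω ^ l)⁻¹) ^ i) • v := by
      show ((P : K)⁻¹ • _ : End K U) v = _
      rw [LinearMap.smul_apply, LinearMap.sum_apply, mul_smul, Finset.sum_smul]
      congr 1
      refine Finset.sum_congr rfl fun i _ => ?_
      rw [LinearMap.smul_apply, hTi, smul_smul, mul_pow, ← pow_mul ω j i, mul_comm j i]
    rw [e]
    split_ifs with h
    · subst h
      simp [mul_inv_cancel₀ (pow_ne_zero _ hω0), inv_mul_cancel₀ hPK]
    · rw [hgeom, mul_zero, zero_smul]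
      · rw [mul_pow, inv_pow, ← pow_mul, ← pow_mul, mul_comm j, mul_comm l, pow_mul, pow_mul, hω.pow_eq_one,
          one_pow, one_pow, inv_one, mul_one]
      · rw [Ne, mul_inv_eq_one₀ (pow_ne_zero _ hω0)]
        exact fun h1 => h (hω.pow_inj hj hl h1)
  -- the eigenspaces
  let W : Fin (P - 1) → Submodule K U := fun j => LinearMap.range (π ((j : ℕ) + 1))
  let p : ∀ j, U →ₗ[K] W j := fun j => (π ((j : ℕ) + 1)).rangeRestrict
  have hinj : Function.Injective (LinearMap.pi p) := by
    rw [← LinearMap.ker_eq_bot, LinearMap.ker_eq_bot']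
    intro v hv
    have h1 : v = (∑ j ∈ Finset.range P, π j) v := by rw [hone]; rfl
    rw [h1, LinearMap.sum_apply]
    refine Finset.sum_eq_zero fun j hj => ?_
    rcases j with _ | j
    · rw [hπ0]; rfl
    · exact congrArg Subtype.val (congrFun hv ⟨j, by rw [Finset.mem_range] at hj; omega⟩)
  have hN : Module.finrank K U ≤ ∑ j, Module.finrank K (W j) :=
    (LinearMap.finrank_le_finrank_of_injective hinj).trans_eq (Module.finrank_pi_fintype K)
  let Θ : (∀ j, End K (W j)) →ₗ[K] End K U :=
    { toFun := fun A => ∑ j, (W j).subtype ∘ₗ (A j) ∘ₗ p j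
      map_add' := fun A B => by simp [LinearMap.comp_add, LinearMap.add_comp, Finset.sum_add_distrib]
      map_smul' := fun t A => by simp [LinearMap.comp_smul, LinearMap.smul_comp, Finset.smul_sum] }
  have hp : ∀ (j l : Fin (P - 1)) (w : W l), ((p j (w : U)) : U) = if j = l then (w : U) else 0 := fun j l w => by
    show π ((j : ℕ) + 1) (w : U) = _
    rw [horth _ _ (by omega) (by omega) _ w.2]
    simp [Fin.ext_iff]
  have hΘinj : Function.Injective Θ := by
    rw [← LinearMap.ker_eq_bot, LinearMap.ker_eq_bot']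
    intro A hA
    funext l
    refine LinearMap.ext fun w => Subtype.ext ?_
    have h1 : Θ A (w : U) = 0 := by rw [hA]; rfl
    simp only [Θ, LinearMap.coe_mk, AddHom.coe_mk, LinearMap.sum_apply, LinearMap.comp_apply, Submodule.subtype_apply] at h1
    rw [Finset.sum_eq_single l (fun j _ hjl => by
      rw [show p j (w : U) = 0 from Subtype.ext (by rw [hp, if_neg hjl]; rfl), map_zero]; rfl)
      (fun h => absurd (Finset.mem_univ l) h)] at h1
    rw [show p l (w : U) = w from Subtype.ext (by rw [hp, if_pos rfl])] at h1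
    rw [h1]
    rfl
  have hΘC : ∀ A, Θ A ∈ LinearMap.ker (LinearMap.mulLeft K T - LinearMap.mulRight K T) := by
    intro A
    rw [LinearMap.mem_ker, LinearMap.sub_apply, LinearMap.mulLeft_apply, LinearMap.mulRight_apply, sub_eq_zero]
    refine LinearMap.ext fun v => ?_
    simp only [Θ, LinearMap.coe_mk, AddHom.coe_mk, Module.End.mul_apply, LinearMap.sum_apply, map_sum,
      LinearMap.comp_apply, Submodule.subtype_apply]
    refine Finset.sum_congr rfl fun j _ => ?_
    rw [hrange _ _ (A j (p j v)).2]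
    have h2 : p j (T v) = (ω ^ ((j : ℕ) + 1))⁻¹ • p j v := Subtype.ext (by
      show π _ (T v) = _ • π _ v
      rw [← Module.End.mul_apply, hπT, hTπ]; rfl)
    rw [h2, map_smul]; rfl
  have hC := LinearMap.finrank_le_finrank_of_injective (f := Θ.codRestrict _ hΘC)
    (fun a b h => hΘinj (congrArg Subtype.val h))
  rw [Module.finrank_pi_fintype] at hC
  calc Module.finrank K U ^ 2 ≤ (∑ j, Module.finrank K (W j)) ^ 2 := Nat.pow_le_pow_left hN 2
    _ ≤ (Finset.univ : Finset (Fin (P - 1))).card * ∑ j, Module.finrank K (W j) ^ 2 := sq_sum_le_card_mul_sum_sq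
    _ ≤ _ := by
      rw [Finset.card_univ, Fintype.card_fin]
      refine Nat.mul_le_mul_left _ (le_of_eq_of_le (Finset.sum_congr rfl fun j _ => ?_) hC)
      rw [Module.finrank_linearMap, pow_two]

/-- The critical case in characteristic prime to `P`. -/
theorem finrank_lt_of_free_conj [IsAlgClosed K] (T : End K U) {P : ℕ} (hP : 1 < P) (hPK : (P : K) ≠ 0)
    (hT : T ^ P = 1) (hsum : ∑ i ∈ Finset.range P, T ^ i = 0) (hU : 0 < Module.finrank K U) {α : Type*} [Finite α]
    (e : Module.Basis α K (End K U)) (o : α) (π : Equiv.Perm α) (ho : π o = o) (hπ : π ^ P = 1)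
    (hfree : ∀ a, a ≠ o → ∀ i, 0 < i → i < P → (π ^ i) a ≠ a)
    (hconj : ∀ a, ∃ c : K, T * e a = c • (e (π a) * T)) :
    P ∣ Module.finrank K U ^ 2 - 1 ∧ Module.finrank K U + 1 ≤ P := by
  classical
  have := Fintype.ofFinite α
  set N := Module.finrank K U
  have hα : Nat.card α = N ^ 2 := by
    rw [Nat.card_eq_fintype_card, ← Module.finrank_eq_card_basis e, Module.finrank_linearMap, pow_two]
  have h1 := card_orbits π o (by omega) ho hπ hfree
  set r := Nat.card (Quotient (Equiv.Perm.SameCycle.setoid π))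
  have : Nonempty (Quotient (Equiv.Perm.SameCycle.setoid π)) := ⟨Quotient.mk _ o⟩
  have hr : 0 < r := Nat.card_pos
  rw [hα] at h1
  refine ⟨⟨_, h1.symm⟩, ?_⟩
  have h2 := (finrank_sq_le_centralizer T hP hPK hT hsum).trans
    (Nat.mul_le_mul_left (P - 1) (finrank_centralizer_le T (by omega) hT e π hconj))
  change _ ≤ (P - 1) * r at h2
  obtain ⟨s, hs⟩ : ∃ s, r = s + 1 := ⟨r - 1, by omega⟩
  obtain ⟨Q, hQ⟩ : ∃ Q, P = Q + 1 := ⟨P - 1, by omega⟩
  rw [hs, Nat.add_sub_cancel, hQ] at h1
  rw [hs, hQ, Nat.add_sub_cancel] at h2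
  have hN1 : 1 ≤ N ^ 2 := Nat.one_le_pow _ _ hU
  have h3 : N ^ 2 = (Q + 1) * s + 1 := by omega
  rw [hQ]
  have h4 : N ^ 2 * 1 ≤ Q ^ 2 := by nlinarith
  by_contra hlt
  have : (Q + 1) ^ 2 ≤ N ^ 2 := Nat.pow_le_pow_left (by omega) 2
  nlinarith

end CfsgLib.HallHigman
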