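import Cfsg.Agent.Lib.HallHigman.Minimal
import Cfsg.Agent.Lib.HallHigman.FreeAction
import Cfsg.Agent.Lib.ModuleTrick.Invariant
import Cfsg.Agent.Lib.Solvable.Fitting
import Cfsg.Agent.Lib.HallHigman.CharSpace

/-!
# Fixed-point-free conjugation on an invariant subgroup
-/

namespace CfsgLib.HallHigman

open scoped commutatorElement

variable {X : Type*} [Group X]

/-- `x` fixes only the identity of `N`. -/
def IsFPF (x : X) (N : Subgroup X) : Prop := ∀ g ∈ N, x * g = g * x → g = 1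

theorem IsFPF.mono {x : X} {M N : Subgroup X} (h : IsFPF x N) (hMN : M ≤ N) : IsFPF x M :=
  fun g hg => h g (hMN hg)

variable [Finite X]

theorem IsFPF.exists_twist {x : X} {N : Subgroup X} (h : IsFPF x N)
    (hN : x ∈ Subgroup.normalizer (N : Set X)) {g : X} (hg : g ∈ N) : ∃ k ∈ N, k⁻¹ * (x * k * x⁻¹) = g := by
  let θ : N → N := fun k => ⟨(k : X)⁻¹ * (x * k * x⁻¹),
    N.mul_mem (N.inv_mem k.2) (mem_normalizer_map_conj.mp hN k k.2)⟩
  have hθ : Function.Injective θ := by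
    intro a b hab
    have e : (a : X)⁻¹ * (x * a * x⁻¹) = (b : X)⁻¹ * (x * b * x⁻¹) := congrArg Subtype.val hab
    have h1 := h _ (N.mul_mem a.2 (N.inv_mem b.2)) (by
      calc x * ((a : X) * (b : X)⁻¹) = a * ((a : X)⁻¹ * (x * a * x⁻¹)) * (x * (b : X)⁻¹) := by group
        _ = a * ((b : X)⁻¹ * (x * b * x⁻¹)) * (x * (b : X)⁻¹) := by rw [e]
        _ = a * (b : X)⁻¹ * x := by group)
    exact Subtype.ext (mul_inv_eq_one.mp h1)
  obtain ⟨k, hk⟩ := Finite.injective_iff_surjective.mp hθ ⟨g, hg⟩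
  exact ⟨k, k.2, congrArg Subtype.val hk⟩

/-- Fixed-point-freeness passes to homomorphic images. -/
theorem IsFPF.map {Y : Type*} [Group Y] (f : X →* Y) {x : X} {N : Subgroup X} (h : IsFPF x N)
    (hN : x ∈ Subgroup.normalizer (N : Set X)) : IsFPF (f x) (N.map f) := by
  have hN' : f x ∈ Subgroup.normalizer ((N.map f : Subgroup Y) : Set Y) :=
    Subgroup.le_normalizer_map f ⟨x, hN, rfl⟩
  have : Finite (N.map f) := Finite.of_surjective _ (f.subgroupMap_surjective N)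
  have hmem : ∀ b ∈ N.map f, b⁻¹ * (f x * b * (f x)⁻¹) ∈ N.map f := by
    rintro _ ⟨a, ha, rfl⟩
    exact ⟨a⁻¹ * (x * a * x⁻¹), N.mul_mem (N.inv_mem ha) (mem_normalizer_map_conj.mp hN a ha), by simp⟩
  let θ : N.map f → N.map f := fun b => ⟨_, hmem b b.2⟩
  have hθ : Function.Surjective θ := by
    rintro ⟨_, a, ha, rfl⟩
    obtain ⟨k, hk, hka⟩ := h.exists_twist hN ha
    exact ⟨⟨f k, k, hk, rfl⟩, Subtype.ext (by show (f k)⁻¹ * (f x * f k * (f x)⁻¹) = f a; rw [← hka]; simp)⟩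
  intro b hb hxb
  have h1 : θ ⟨b, hb⟩ = θ ⟨1, one_mem _⟩ := Subtype.ext (by
    show b⁻¹ * (f x * b * (f x)⁻¹) = (1 : Y)⁻¹ * (f x * 1 * (f x)⁻¹)
    rw [hxb]; simp)
  exact congrArg Subtype.val (Finite.injective_iff_surjective.mpr hθ h1)

variable {p : ℕ} [hp : Fact p.Prime]

/-- A fixed-point-free element of `p`-power order acts on a group of order prime to `p`. -/
theorem IsFPF.coprime {x : X} {N : Subgroup X} (h : IsFPF x N) (hN : x ∈ Subgroup.normalizer (N : Set X))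
    {m : ℕ} (hx : x ^ p ^ m = 1) : (Nat.card N).Coprime p := by
  rw [Nat.coprime_comm, hp.out.coprime_iff_not_dvd]
  intro hdvd
  have hA : IsPGroup p (Subgroup.zpowers x) := fun g => ⟨m, by
    obtain ⟨i, hi⟩ := g.2
    refine Subtype.ext ?_
    rw [Subgroup.coe_pow, Subgroup.coe_one, ← hi, ← zpow_natCast, ← zpow_mul, mul_comm, zpow_mul, zpow_natCast,
      hx, one_zpow]⟩
  have hmem : ∀ g ∈ Subgroup.zpowers x, ∀ a ∈ N, g * a * g⁻¹ ∈ N := fun g hg =>
    mem_normalizer_map_conj.mp (Subgroup.zpowers_le.mpr hN hg)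
  let _ : MulAction (Subgroup.zpowers x) N :=
    { smul := fun g n => ⟨g * n * (g : X)⁻¹, hmem g g.2 n n.2⟩
      one_smul := fun n => Subtype.ext (by
        show ((1 : Subgroup.zpowers x) : X) * n * ((1 : Subgroup.zpowers x) : X)⁻¹ = n
        simp)
      mul_smul := fun a b n => Subtype.ext (by
        show ((a * b : Subgroup.zpowers x) : X) * n * ((a * b : Subgroup.zpowers x) : X)⁻¹ =
          a * (b * n * (b : X)⁻¹) * (a : X)⁻¹
        simp [mul_assoc]) }
  have h1 : (1 : N) ∈ MulAction.fixedPoints (Subgroup.zpowers x) N := fun g => Subtype.ext (by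
    show (g : X) * ((1 : N) : X) * (g : X)⁻¹ = ((1 : N) : X)
    simp)
  obtain ⟨b, hb, hb1⟩ := hA.exists_fixed_point_of_prime_dvd_card_of_fixed_point N hdvd h1
  have h2 : x * b * x⁻¹ = (b : X) := congrArg Subtype.val (hb ⟨x, Subgroup.mem_zpowers x⟩)
  exact hb1 (Subtype.ext (h b b.2 (mul_inv_eq_iff_eq_mul.mp h2)).symm)

/-- An element of order `p` normalizing a solvable `p'`-subgroup and centralizing all its cores centralizes it. -/
theorem centralizes_of_centralizes_pCore (N : Subgroup X) [Group.IsSolvable N] {y : X} (hy : y ^ p = 1)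
    (hN : y ∈ Subgroup.normalizer (N : Set X)) (hcop : (Nat.card N).Coprime p)
    (h : ∀ q : ℕ, q.Prime → ∀ z ∈ Cfsg.pCore q N, y * (z : X) = z * y) : ∀ g ∈ N, y * g = g * y := by
  have hF : ∀ z ∈ Cfsg.fittingSubgroup N, y * (z : X) = z * y := by
    have h1 : Cfsg.fittingSubgroup N ≤ (Subgroup.centralizer ({y} : Set X)).subgroupOf N := by
      rw [CfsgLib.Fitting.fitting_eq_iSup_pCore]
      refine iSup_le fun q z hz => ?_
      rw [Subgroup.mem_subgroupOf, Subgroup.mem_centralizer_singleton_iff]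
      exact (h q (Nat.prime_of_mem_primeFactors q.2) z hz).symm
    intro z hz
    exact (Subgroup.mem_centralizer_singleton_iff.mp (Subgroup.mem_subgroupOf.mp (h1 hz))).symm
  intro g hg
  set z : N := ⟨g⁻¹ * (y * g * y⁻¹), N.mul_mem (N.inv_mem hg) (mem_normalizer_map_conj.mp hN g hg)⟩ with hz
  have hn := CfsgLib.Fitting.fitting_normal (G := N)
  have hzc : z ∈ Subgroup.centralizer (Cfsg.fittingSubgroup N : Set N) := fun f hf => by
    have e1 := hF _ hf
    have e2 := hF _ (hn.conj_mem f hf ⟨g, hg⟩)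
    apply Subtype.ext
    simp only [Subgroup.coe_mul, Subgroup.coe_inv] at e2
    show (f : X) * (g⁻¹ * (y * g * y⁻¹)) = g⁻¹ * (y * g * y⁻¹) * f
    calc (f : X) * (g⁻¹ * (y * g * y⁻¹)) = g⁻¹ * (g * f * g⁻¹ * y) * g * y⁻¹ := by group
      _ = g⁻¹ * (y * (g * f * g⁻¹)) * g * y⁻¹ := by rw [e2]
      _ = g⁻¹ * (y * g * y⁻¹) * (y * f) * y⁻¹ := by group
      _ = g⁻¹ * (y * g * y⁻¹) * (f * y) * y⁻¹ := by rw [e1]
      _ = g⁻¹ * (y * g * y⁻¹) * f := by group
  have hzy := hF z (CfsgLib.Fitting.centralizer_fitting_le hzc)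
  have hk : ∀ k : ℕ, y ^ k * g * (y ^ k)⁻¹ = g * (z : X) ^ k := by
    intro k
    induction k with
    | zero => simp
    | succ k ih =>
      rw [pow_succ' y, show y * y ^ k * g * (y * y ^ k)⁻¹ = y * (y ^ k * g * (y ^ k)⁻¹) * y⁻¹ by group, ih,
        show y * (g * (z : X) ^ k) * y⁻¹ = (y * g * y⁻¹) * (y * (z : X) ^ k * y⁻¹) by group,
        ((show Commute y (z : X) from hzy).pow_right k).eq, mul_inv_cancel_right,
        show y * g * y⁻¹ = g * (z : X) by rw [hz]; group, mul_assoc, ← pow_succ']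
  have h1 := hk p
  rw [hy, one_mul, inv_one, mul_one, left_eq_mul] at h1
  have hz1 : (z : X) = 1 := orderOf_eq_one_iff.mp (Nat.eq_one_of_dvd_coprimes hcop.symm
    (orderOf_dvd_of_pow_eq_one h1) (Subgroup.orderOf_coe z ▸ orderOf_dvd_natCard z))
  calc y * g = g * (z : X) * y := by rw [hz]; group
    _ = g * y := by rw [hz1, mul_one]

/-- If `y` fixes no nontrivial coset of the central subgroup `Z` in `R`, the same holds for every invariant
subgroup containing `Z`. -/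
theorem exists_twist_mod {y : X} {Z D R : Subgroup X} (hZD : Z ≤ D) (hDR : D ≤ R)
    (hZc : Z ≤ Subgroup.centralizer (R : Set X)) (hyD : y ∈ Subgroup.normalizer (D : Set X))
    (hyZ : y ∈ Subgroup.normalizer (Z : Set X))
    (hfix : ∀ g ∈ R, g⁻¹ * (y * g * y⁻¹) ∈ Z → g ∈ Z) {g : X} (hg : g ∈ D) :
    ∃ h ∈ D, g⁻¹ * (h⁻¹ * (y * h * y⁻¹)) ∈ Z := by
  have : (Z.subgroupOf D).Normal := ⟨fun n hn a => by
    rw [Subgroup.mem_subgroupOf] at hn ⊢
    rw [Subgroup.coe_mul, Subgroup.coe_mul, Subgroup.coe_inv, hZc hn a (hDR a.2), mul_inv_cancel_right]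
    exact hn⟩
  let tw : D → D := fun a => ⟨(a : X)⁻¹ * (y * a * y⁻¹),
    D.mul_mem (D.inv_mem a.2) (mem_normalizer_map_conj.mp hyD a a.2)⟩
  let θ : D ⧸ Z.subgroupOf D → D ⧸ Z.subgroupOf D := fun a => (tw a.out : D ⧸ Z.subgroupOf D)
  have hθ : Function.Injective θ := by
    intro a b hab
    have h1 := Subgroup.mem_subgroupOf.mp (QuotientGroup.eq.mp hab)
    set u := (a.out : X)
    set v := (b.out : X)
    have hz : (u⁻¹ * (y * u * y⁻¹))⁻¹ * (v⁻¹ * (y * v * y⁻¹)) ∈ Z := h1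
    set z := (u⁻¹ * (y * u * y⁻¹))⁻¹ * (v⁻¹ * (y * v * y⁻¹))
    have hu := hDR a.out.2
    have hv := hDR b.out.2
    have h2 : v * u⁻¹ ∈ Z := by
      refine hfix _ (R.mul_mem hv (R.inv_mem hu)) ?_
      have e : (v * u⁻¹)⁻¹ * (y * (v * u⁻¹) * y⁻¹) = u * (u⁻¹ * (y * u * y⁻¹) * z) * (y * u * y⁻¹)⁻¹ := by
        simp only [z]; group
      rw [e]
      have hz2 := hZc hz _ (hDR (mem_normalizer_map_conj.mp hyD _ a.out.2))
      rw [show u * (u⁻¹ * (y * u * y⁻¹) * z) * (y * u * y⁻¹)⁻¹ = (y * u * y⁻¹) * z * (y * u * y⁻¹)⁻¹ by group,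
        hz2, mul_inv_cancel_right]
      exact hz
    rw [← QuotientGroup.out_eq' a, ← QuotientGroup.out_eq' b, QuotientGroup.eq, Subgroup.mem_subgroupOf]
    have hz2 := hZc h2 _ hu
    show u⁻¹ * v ∈ Z
    rw [show u⁻¹ * v = u⁻¹ * ((v * u⁻¹) * u) by group, ← hz2, inv_mul_cancel_left]
    exact h2
  obtain ⟨a, ha⟩ := Finite.injective_iff_surjective.mp hθ ((⟨g, hg⟩ : D) : D ⧸ Z.subgroupOf D)
  exact ⟨a.out, a.out.2, Subgroup.mem_subgroupOf.mp (QuotientGroup.eq.mp ha.symm)⟩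

/-- If `y` fixes no nontrivial coset of `Z` in `R`, it fixes none of an invariant `D ≥ Z`. -/
theorem mem_of_twist_mem {y : X} {Z D R : Subgroup X} (hZD : Z ≤ D) (hDR : D ≤ R)
    (hZc : Z ≤ Subgroup.centralizer (R : Set X)) (hyD : y ∈ Subgroup.normalizer (D : Set X))
    (hyZ : y ∈ Subgroup.normalizer (Z : Set X)) (hyR : y ∈ Subgroup.normalizer (R : Set X))
    (hfix : ∀ g ∈ R, g⁻¹ * (y * g * y⁻¹) ∈ Z → g ∈ Z) {g : X} (hg : g ∈ R)
    (hgD : g⁻¹ * (y * g * y⁻¹) ∈ D) : g ∈ D := by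
  obtain ⟨h, hh, hhz⟩ := exists_twist_mod hZD hDR hZc hyD hyZ hfix hgD
  set z := (g⁻¹ * (y * g * y⁻¹))⁻¹ * (h⁻¹ * (y * h * y⁻¹))
  have h2 : h * g⁻¹ ∈ Z := by
    refine hfix _ (R.mul_mem (hDR hh) (R.inv_mem hg)) ?_
    have hz2 := hZc hhz _ (mem_normalizer_map_conj.mp hyR g hg)
    rw [show (h * g⁻¹)⁻¹ * (y * (h * g⁻¹) * y⁻¹) = (y * g * y⁻¹) * z * (y * g * y⁻¹)⁻¹ by simp only [z]; group,
      hz2, mul_inv_cancel_right]
    exact hhz
  rw [show g = (h * g⁻¹)⁻¹ * h by group]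
  exact D.mul_mem (D.inv_mem (hZD h2)) hh

/-- A cyclic `p`-group acting semiregularly on the nontrivial cosets of `D`. -/
theorem dvd_relIndex_sub_one {x : X} {m : ℕ} (hx : x ^ p ^ (m + 1) = 1) {D R : Subgroup X} (hDR : D ≤ R)
    [(D.subgroupOf R).Normal] (hxR : x ∈ Subgroup.normalizer (R : Set X))
    (hxD : x ∈ Subgroup.normalizer (D : Set X))
    (hfix : ∀ g ∈ R, g⁻¹ * (x ^ p ^ m * g * (x ^ p ^ m)⁻¹) ∈ D → g ∈ D) :
    p ^ (m + 1) ∣ D.relIndex R - 1 := by
  let σ : MulAut R :=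
    { toFun := fun g => ⟨x * g * x⁻¹, mem_normalizer_map_conj.mp hxR g g.2⟩
      invFun := fun g => ⟨x⁻¹ * g * x⁻¹⁻¹, mem_normalizer_map_conj.mp (Subgroup.inv_mem _ hxR) g g.2⟩
      left_inv := fun g => Subtype.ext (by simp [mul_assoc])
      right_inv := fun g => Subtype.ext (by simp [mul_assoc])
      map_mul' := fun a b => Subtype.ext (by simp [mul_assoc]) }
  have hmap : (D.subgroupOf R).map σ.toMonoidHom = D.subgroupOf R :=
    CfsgLib.ModuleTrick.map_eq_of_invariant fun g hg => Subgroup.mem_subgroupOf.mpr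
      (mem_normalizer_map_conj.mp hxD g (Subgroup.mem_subgroupOf.mp hg))
  let σq : MulAut (R ⧸ D.subgroupOf R) := QuotientGroup.congr _ _ σ hmap
  let π : Equiv.Perm (R ⧸ D.subgroupOf R) := σq.toEquiv
  have hσ : ∀ (i : ℕ) (g : R), (((σ ^ i) g : R) : X) = x ^ i * g * (x ^ i)⁻¹ := by
    intro i
    induction i with
    | zero => simp
    | succ i ih =>
      intro g
      rw [pow_succ, MulAut.mul_apply, ih, pow_succ]
      show x ^ i * (x * g * x⁻¹) * (x ^ i)⁻¹ = _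
      group
  have hπ : ∀ (i : ℕ) (g : R), (π ^ i) (g : R ⧸ D.subgroupOf R) = (((σ ^ i) g : R) : R ⧸ D.subgroupOf R) := by
    intro i
    induction i with
    | zero => intro g; rfl
    | succ i ih =>
      intro g
      rw [pow_succ, Equiv.Perm.mul_apply, pow_succ σ, MulAut.mul_apply, ← ih (σ g)]
      rfl
  have h := card_orbits π (1 : R ⧸ D.subgroupOf R) (P := p ^ (m + 1)) (pow_pos hp.out.pos _) (map_one σq) ?_ ?_
  · rw [Subgroup.relIndex, Subgroup.index_eq_card, ← h]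
    exact dvd_mul_right _ _
  · refine Equiv.ext fun a => QuotientGroup.induction_on a fun g => ?_
    rw [hπ]
    refine congrArg QuotientGroup.mk (Subtype.ext ?_)
    rw [hσ, hx]
    simp
  · intro a
    induction a using QuotientGroup.induction_on with
    | H g =>
      intro hg i hi0 hiP hfx
      rw [hπ] at hfx
      have h0 : (g : X)⁻¹ * (x ^ i * g * (x ^ i)⁻¹) ∈ D := by
        have h1 := Subgroup.mem_subgroupOf.mp (QuotientGroup.eq.mp hfx.symm)
        rwa [Subgroup.coe_mul, Subgroup.coe_inv, hσ] at h1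
      apply hg
      refine (QuotientGroup.eq_one_iff g).mpr (Subgroup.mem_subgroupOf.mpr (hfix g g.2 ?_))
      obtain ⟨e, u, he, -, heq⟩ := exists_pow_eq_prime_pow hp.out hx hi0 hiP
      have hpow : ∀ n, (g : X)⁻¹ * ((x ^ i) ^ n * g * ((x ^ i) ^ n)⁻¹) ∈ D := by
        intro n
        induction n with
        | zero => simp
        | succ n ihn =>
          have h1 := mem_normalizer_map_conj.mp (Subgroup.pow_mem _ (Subgroup.pow_mem _ hxD i) n) _ h0
          have h2 := D.mul_mem ihn h1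
          convert h2 using 1
          rw [pow_succ]
          group
      have h3 := hpow (u * p ^ (m - e))
      rwa [pow_mul, heq, ← pow_mul, ← pow_add, show e + (m - e) = m by omega] at h3

end CfsgLib.HallHigman
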