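import Cfsg.Agent.Lib.HallHigman.Smallness
import Cfsg.Agent.Lib.HallHigman.FixedPointFree

/-!
# Representations in characteristic prime to `p` in which a `p`-element has no fixed vector
-/

namespace CfsgLib.HallHigman

open Module (End)
open scoped commutatorElement

variable {K V : Type*} [Field K] [AddCommGroup V] [Module K V]

/-- A finite-order operator without fixed vector has vanishing norm. -/
theorem sum_pow_eq_zero_of_no_fixed (S : End K V) {P : ℕ} (hS : S ^ P = 1) (h : ∀ v, S v = v → v = 0) :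
    ∑ i ∈ Finset.range P, S ^ i = 0 := by
  refine LinearMap.ext fun v => h _ ?_
  have h1 := mul_geom_sum S P
  rw [hS, sub_self, sub_mul, one_mul, sub_eq_zero] at h1
  exact LinearMap.congr_fun h1 v

/-- An operator with vanishing norm has no fixed vector. -/
theorem eq_zero_of_sum_pow_eq_zero (S : End K V) {P : ℕ} (hPK : (P : K) ≠ 0)
    (h : ∑ i ∈ Finset.range P, S ^ i = 0) {v : V} (hv : S v = v) : v = 0 := by
  have h1 : ∀ i : ℕ, (S ^ i) v = v := by
    intro i
    induction i with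
    | zero => rfl
    | succ i ih => rw [pow_succ', Module.End.mul_apply, ih, hv]
  have h2 := LinearMap.congr_fun h v
  rw [LinearMap.sum_apply, Finset.sum_congr rfl fun i _ => h1 i, Finset.sum_const, Finset.card_range,
    ← Nat.cast_smul_eq_nsmul K] at h2
  exact (smul_eq_zero.mp h2).resolve_left hPK

variable {X : Type*} [Group X] [Finite X] {p : ℕ} [hp : Fact p.Prime]

/-- A vector fixed by the stabilizer of a character induces a fixed vector. -/
theorem exists_fixed_vector (γ : X →* End K V) (x : X) (m k : ℕ) (hx : x ^ p ^ (m + 1) = 1) (hk : k ≤ m + 1)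
    (Z : Subgroup X) (hxZ : x ∈ Subgroup.normalizer (Z : Set X)) (χ : X → K)
    (hmin : ∀ e < k, ¬ ∀ z ∈ Z, χ (x ^ p ^ e * z * (x ^ p ^ e)⁻¹) = χ z) (w : V) (hw : w ∈ charSpace γ Z χ)
    (hw0 : w ≠ 0) (hfix : γ (x ^ p ^ k) w = w) : ∃ v, v ≠ 0 ∧ γ x v = v := by
  classical
  have hxn : ∀ i : ℕ, x ^ i ∈ Subgroup.normalizer (Z : Set X) := fun i => Subgroup.pow_mem _ hxZ i
  have hconjZ : ∀ i : ℕ, ∀ z ∈ Z, x ^ i * z * (x ^ i)⁻¹ ∈ Z := fun i => mem_normalizer_map_conj.mp (hxn i)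
  refine ⟨(∑ i ∈ Finset.range (p ^ k), γ x ^ i) w, fun h0 => hw0 ?_, ?_⟩
  · have hFmul : ∀ i, (∀ z ∈ Z, χ (x ^ i * z * (x ^ i)⁻¹) = χ z) → ∀ n z, z ∈ Z →
        χ (x ^ (i * n) * z * (x ^ (i * n))⁻¹) = χ z := by
      intro i hi n
      induction n with
      | zero => intro z _; simp
      | succ n ihn =>
        intro z hz
        rw [Nat.mul_succ, pow_add, mul_inv_rev, show x ^ (i * n) * x ^ i * z * ((x ^ i)⁻¹ * (x ^ (i * n))⁻¹) =
          x ^ (i * n) * (x ^ i * z * (x ^ i)⁻¹) * (x ^ (i * n))⁻¹ by group,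
          ihn _ (hconjZ i z hz), hi z hz]
    have hFmin : ∀ j, 0 < j → j < p ^ k → ¬ ∀ z ∈ Z, χ (x ^ j * z * (x ^ j)⁻¹) = χ z := by
      intro j hj0 hjk hFj
      obtain ⟨e, u, -, hle, heq⟩ := exists_pow_eq_prime_pow hp.out hx hj0
        (hjk.trans_le (Nat.pow_le_pow_right hp.out.pos hk))
      refine hmin e ((Nat.pow_lt_pow_iff_right hp.out.one_lt).mp (lt_of_le_of_lt hle hjk)) fun z hz => ?_
      have h1 := hFmul j hFj u z hz
      rwa [pow_mul, heq] at h1
    rw [LinearMap.sum_apply] at h0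
    have h2 := eq_zero_of_sum_eigen_eq_zero (fun z : {z // z ∈ Z} => γ z)
      (fun i z => χ ((x ^ i)⁻¹ * z * x ^ i)) (fun i => (γ x ^ i) w) ?_ (Finset.range (p ^ k)) ?_ h0 0
      (Finset.mem_range.mpr (pow_pos hp.out.pos k))
    · simpa using h2
    · rintro i ⟨z, hz⟩
      have hz' : (x ^ i)⁻¹ * z * x ^ i ∈ Z := by
        simpa using mem_normalizer_map_conj.mp (Subgroup.inv_mem _ (hxn i)) z hz
      simp only [← map_pow]
      rw [← Module.End.mul_apply, ← map_mul, show z * x ^ i = x ^ i * ((x ^ i)⁻¹ * z * x ^ i) by group, map_mul,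
        Module.End.mul_apply, hw _ hz', map_smul]
    · intro i hi j hj hij
      by_contra hcon
      push Not at hcon
      have key : ∀ i j, i < j → j < p ^ k →
          ¬ ∀ z ∈ Z, χ ((x ^ i)⁻¹ * z * x ^ i) = χ ((x ^ j)⁻¹ * z * x ^ j) := by
        intro i j hij hjk hall
        refine hFmin (j - i) (by omega) (by omega) fun z hz => ?_
        have h3 := hall _ (hconjZ j z hz)
        rw [show (x ^ j)⁻¹ * (x ^ j * z * (x ^ j)⁻¹) * x ^ j = z by group] at h3
        rw [pow_sub x hij.le, ← h3]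
        congr 1
        rw [(Commute.pow_pow_self x j i).inv_right.eq]
        group
      rw [Finset.mem_range] at hi hj
      rcases lt_or_gt_of_ne hij with h | h
      · exact key i j h (by omega) fun z hz => hcon ⟨z, hz⟩
      · exact key j i h (by omega) fun z hz => (hcon ⟨z, hz⟩).symm
  · have h1 : (γ x * ∑ i ∈ Finset.range (p ^ k), γ x ^ i) w = (∑ i ∈ Finset.range (p ^ k), γ x ^ i) w := by
      have e := mul_geom_sum (γ x) (p ^ k)
      have e2 := LinearMap.congr_fun e w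
      rw [sub_mul, one_mul, LinearMap.sub_apply, LinearMap.sub_apply, Module.End.one_apply, ← map_pow, hfix,
        sub_self, sub_eq_zero] at e2
      exact e2
    exact h1

variable [IsAlgClosed K] [FiniteDimensional K V] {r : ℕ} [Fact r.Prime] [CharP K r]

/-- The abelian case. -/
theorem commute_of_no_fixed (γ : X →* End K V) (x : X) (m : ℕ) (hx : x ^ p ^ (m + 1) = 1)
    (hsum : ∑ i ∈ Finset.range (p ^ (m + 1)), γ x ^ i = 0) (hrp : r ≠ p) {q : ℕ} [Fact q.Prime] (hqr : q ≠ r)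
    (R : Subgroup X) (hR : IsPGroup q R) (hxR : x ∈ Subgroup.normalizer (R : Set X))
    (hab : ∀ a ∈ R, ∀ b ∈ R, γ a * γ b = γ b * γ a) :
    ∀ g ∈ R, γ g * γ (x ^ p ^ m) = γ (x ^ p ^ m) * γ g := by
  classical
  intro g hg
  by_contra hne
  set y := x ^ p ^ m with hydef
  have hyR : y ∈ Subgroup.normalizer (R : Set X) := Subgroup.pow_mem _ hxR _
  set c := y * g * y⁻¹ * g⁻¹ with hc
  have hγmul : ∀ a b v, γ (a * b) v = γ a (γ b v) := fun a b v => by rw [map_mul]; rfl
  have hcR : c ∈ R := R.mul_mem (mem_normalizer_map_conj.mp hyR g hg) (R.inv_mem hg)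
  have hc1 : γ c ≠ 1 := fun h => hne (by
    rw [← map_mul, ← map_mul, show y * g = c * (g * y) by rw [hc]; group, map_mul γ c, h, one_mul])
  have hss : ∀ v, (γ c - 1) ((γ c - 1) v) = 0 → (γ c - 1) v = 0 := by
    intro v hv
    have h1 : ∀ n : ℕ, (γ c ^ n) v = v + n • (γ c - 1) v := by
      intro n
      induction n with
      | zero => simp
      | succ n ih =>
        rw [pow_succ', Module.End.mul_apply, ih, map_add, map_nsmul]
        have h2 : γ c ((γ c - 1) v) = (γ c - 1) v := by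
          rw [LinearMap.sub_apply (γ c) 1 ((γ c - 1) v), Module.End.one_apply, sub_eq_zero] at hv
          exact hv
        have h3 : γ c v = v + (γ c - 1) v := by simp
        rw [h2, h3, succ_nsmul]; abel
    obtain ⟨j, hj⟩ := hR ⟨c, hcR⟩
    have h4 := h1 (q ^ j)
    rw [← map_pow, show c ^ q ^ j = 1 from congrArg Subtype.val hj, map_one, Module.End.one_apply,
      left_eq_add, ← Nat.cast_smul_eq_nsmul K, smul_eq_zero] at h4
    refine h4.resolve_left fun h5 => ?_
    rw [CharP.cast_eq_zero_iff K r] at h5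
    exact hqr ((Nat.prime_dvd_prime_iff_eq Fact.out Fact.out).mp
      ((Fact.out : r.Prime).dvd_of_dvd_pow h5)).symm
  obtain ⟨U, hUmem, hUmin⟩ := exists_minimal_of_wellFoundedLT
    (fun W : Submodule K V => W ≠ ⊥ ∧ W ≤ LinearMap.range (γ c - 1) ∧ ∀ g ∈ R, ∀ w ∈ W, γ g w ∈ W)
    ⟨_, fun h => hc1 (sub_eq_zero.mp (LinearMap.range_eq_bot.mp h)), le_rfl,
      fun g hg w hw => by
        obtain ⟨v, rfl⟩ := hw
        refine ⟨γ g v, ?_⟩
        simp only [LinearMap.sub_apply, Module.End.one_apply, map_sub, ← Module.End.mul_apply, hab c hcR g hg, one_mul]⟩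
  obtain ⟨hU0, hUR, hUinv⟩ := hUmem
  have : Nontrivial U := Submodule.nontrivial_iff_ne_bot.mpr hU0
  obtain ⟨u₀, hu₀⟩ := exists_ne (0 : U)
  have hu₀' : (u₀ : V) ≠ 0 := fun h => hu₀ (Subtype.ext h)
  let ρU : R →* End K U :=
    { toFun := fun g => (γ g).restrict (hUinv g g.2)
      map_one' := LinearMap.ext fun w => Subtype.ext (by show γ (1 : X) w = w; rw [map_one]; rfl)
      map_mul' := fun a b => LinearMap.ext fun w => Subtype.ext (hγmul a b w) }
  have hirr : IsIrred ρU := by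
    intro W hW
    by_cases h : W = ⊥
    · exact Or.inl h
    refine Or.inr ?_
    have hle : W.map U.subtype ≤ U := Submodule.map_subtype_le U W
    have h1 := hUmin (y := W.map U.subtype) ⟨?_, hle.trans hUR, ?_⟩ hle
    · refine Submodule.map_injective_of_injective U.injective_subtype ?_
      rw [Submodule.map_top, Submodule.range_subtype]
      exact le_antisymm hle h1
    · intro e
      exact h (Submodule.map_injective_of_injective U.injective_subtype (by rw [e, Submodule.map_bot]))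
    · rintro g hg _ ⟨w, hw, rfl⟩
      exact ⟨ρU ⟨g, hg⟩ w, hW ⟨g, hg⟩ w hw, rfl⟩
  have hscal : ∀ z ∈ R, ∃ a : K, ∀ w ∈ U, γ z w = a • w := by
    intro z hz
    obtain ⟨a, ha⟩ := exists_eq_smul_one hirr (ρU ⟨z, hz⟩) fun g => LinearMap.ext fun w => Subtype.ext (by
      show γ z (γ g w) = γ g (γ z w)
      rw [← Module.End.mul_apply, hab z hz g g.2]; rfl)
    exact ⟨a, fun w hw => congrArg Subtype.val (LinearMap.congr_fun ha ⟨w, hw⟩)⟩
  choose! χ hχ using hscal
  have hu : (u₀ : V) ∈ charSpace γ R χ := fun z hz => hχ z hz _ u₀.2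
  have hχc : χ c ≠ 1 := by
    intro h
    apply hu₀'
    obtain ⟨v, hv⟩ := hUR u₀.2
    rw [← hv]
    refine hss v ?_
    rw [hv, LinearMap.sub_apply, hχ c hcR u₀ u₀.2, h, one_smul, Module.End.one_apply, sub_self]
  have hχmul : ∀ a ∈ R, ∀ b ∈ R, χ (a * b) = χ a * χ b := fun a ha b hb => by
    have h1 := hu _ (R.mul_mem ha hb)
    rw [hγmul, hu b hb, map_smul, hu a ha, smul_smul] at h1
    have h2 : (χ b * χ a - χ (a * b)) • (u₀ : V) = 0 := by rw [sub_smul, h1, sub_self]
    rw [← sub_eq_zero.mp ((smul_eq_zero.mp h2).resolve_right hu₀'), mul_comm]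
  have hχ1 : χ 1 = 1 := by
    have h1 := hu 1 (one_mem _)
    rw [map_one, Module.End.one_apply] at h1
    have h2 : (χ 1 - 1) • (u₀ : V) = 0 := by rw [sub_smul, ← h1, one_smul, sub_self]
    exact sub_eq_zero.mp ((smul_eq_zero.mp h2).resolve_right hu₀')
  have hnofix : ∀ e < m + 1, ¬ ∀ z ∈ R, χ (x ^ p ^ e * z * (x ^ p ^ e)⁻¹) = χ z := by
    intro e he hF
    have hFy : ∀ n : ℕ, ∀ z ∈ R, χ ((x ^ p ^ e) ^ n * z * ((x ^ p ^ e) ^ n)⁻¹) = χ z := by
      intro n
      induction n with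
      | zero => intro z _; simp
      | succ n ihn =>
        intro z hz
        rw [pow_succ, show (x ^ p ^ e) ^ n * x ^ p ^ e * z * ((x ^ p ^ e) ^ n * x ^ p ^ e)⁻¹ =
          (x ^ p ^ e) ^ n * (x ^ p ^ e * z * (x ^ p ^ e)⁻¹) * ((x ^ p ^ e) ^ n)⁻¹ by group,
          ihn _ (mem_normalizer_map_conj.mp (Subgroup.pow_mem _ hxR _) z hz), hF z hz]
    have h1 := hFy (p ^ (m - e)) g hg
    rw [← pow_mul, ← pow_add, Nat.add_sub_cancel' (by omega : e ≤ m), ← hydef] at h1
    apply hχc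
    rw [hc, hχmul _ (mem_normalizer_map_conj.mp hyR g hg) _ (R.inv_mem hg), h1, ← hχmul g hg _ (R.inv_mem hg),
      mul_inv_cancel, hχ1]
  obtain ⟨v, hv, hvx⟩ := exists_fixed_vector γ x m (m + 1) hx le_rfl R hxR χ hnofix u₀ hu hu₀'
    (by rw [hx, map_one]; rfl)
  refine hv (eq_zero_of_sum_pow_eq_zero (γ x) ?_ hsum hvx)
  rw [Nat.cast_pow]
  refine pow_ne_zero _ fun h => ?_
  rw [CharP.cast_eq_zero_iff K r] at h
  exact hrp ((Nat.prime_dvd_prime_iff_eq Fact.out hp.out).mp h)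

omit [Finite X] [CharP K r] in
/-- An intertwiner up to a root of unity. -/
theorem exists_equivariant_map_up_to_root {U : Type*} [AddCommGroup U] [Module K U] [FiniteDimensional K U]
    {Q : Type*} [Group Q] (ρ : Q →* End K U) (π : Q →* End K V) (σ : MulAut Q) (T : End K U) (S : End K V)
    {P : ℕ} (hP : 0 < P) (hT : T ^ P = 1) (hS : S ^ P = 1) (hTρ : ∀ g, T * ρ g = ρ (σ g) * T)
    (hSπ : ∀ g, S * π g = π (σ g) * S) (f₀ : U →ₗ[K] V) (hf₀ : f₀ ≠ 0)
    (hf₀g : ∀ g, π g ∘ₗ f₀ = f₀ ∘ₗ ρ g) :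
    ∃ (f : U →ₗ[K] V) (μ : K), μ ^ P = 1 ∧ f ≠ 0 ∧ (∀ g, π g ∘ₗ f = f ∘ₗ ρ g) ∧
      ∀ w, S (f w) = f ((μ • T) w) := by
  set T' := T ^ (P - 1) with hT'
  have hTT' : T * T' = 1 := by rw [hT', ← pow_succ', Nat.sub_add_cancel hP, hT]
  have hT'T : T' * T = 1 := by rw [hT', ← pow_succ, Nat.sub_add_cancel hP, hT]
  let M : Submodule K (U →ₗ[K] V) :=
    { carrier := {f | ∀ g, π g ∘ₗ f = f ∘ₗ ρ g}
      add_mem' := fun {a b} ha hb g => by simp [LinearMap.comp_add, LinearMap.add_comp, ha g, hb g]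
      zero_mem' := fun g => by simp
      smul_mem' := fun a f hf g => by simp [LinearMap.comp_smul, LinearMap.smul_comp, hf g] }
  let L : (U →ₗ[K] V) →ₗ[K] (U →ₗ[K] V) :=
    { toFun := fun f => S ∘ₗ f ∘ₗ T'
      map_add' := fun a b => by ext; simp
      map_smul' := fun a f => by ext; simp }
  have hLM : ∀ f ∈ M, L f ∈ M := by
    intro f hfg g
    refine LinearMap.ext fun w => ?_
    show π g (S (f (T' w))) = S (f (T' (ρ g w)))
    have hg' : T' (ρ g w) = ρ (σ.symm g) (T' w) := by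
      have h1 := LinearMap.congr_fun (hTρ (σ.symm g)) (T' w)
      rw [MulEquiv.apply_symm_apply] at h1
      simp only [Module.End.mul_apply] at h1
      rw [← Module.End.mul_apply T T', hTT', Module.End.one_apply] at h1
      rw [← h1, ← Module.End.mul_apply T' T, hT'T, Module.End.one_apply]
    rw [hg', ← show π (σ.symm g) (f (T' w)) = f (ρ (σ.symm g) (T' w)) from LinearMap.congr_fun (hfg _) _,
      ← Module.End.mul_apply S, hSπ, MulEquiv.apply_symm_apply, Module.End.mul_apply]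
  have : Nontrivial M := ⟨⟨f₀, hf₀g⟩, 0, fun h => hf₀ (congrArg Subtype.val h)⟩
  obtain ⟨μ, hμ⟩ := Module.End.exists_eigenvalue (L.restrict hLM)
  obtain ⟨⟨f, hfM⟩, hfv⟩ := hμ.exists_hasEigenvector
  have hf0 : f ≠ 0 := fun h => hfv.2 (Subtype.ext h)
  have hLf : L f = μ • f := congrArg Subtype.val hfv.apply_eq_smul
  have hiter : ∀ i : ℕ, (S ^ i) ∘ₗ f ∘ₗ (T' ^ i) = μ ^ i • f := by
    intro i
    induction i with
    | zero => ext w; simp
    | succ i ih =>
      ext w
      simp only [LinearMap.comp_apply, LinearMap.smul_apply]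
      rw [pow_succ' S, pow_succ T', Module.End.mul_apply, Module.End.mul_apply,
        show (S ^ i) (f ((T' ^ i) (T' w))) = μ ^ i • f (T' w) from LinearMap.congr_fun ih (T' w), map_smul,
        show S (f (T' w)) = μ • f w from LinearMap.congr_fun hLf w, smul_smul, ← pow_succ]
  have hμP : μ ^ P = 1 := by
    have h1 := hiter P
    rw [hS, hT', ← pow_mul, mul_comm, pow_mul, hT, one_pow] at h1
    have h2 : (μ ^ P - 1) • f = 0 := by
      rw [sub_smul, one_smul, ← h1, sub_eq_zero]; rfl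
    exact sub_eq_zero.mp ((smul_eq_zero.mp h2).resolve_right hf0)
  refine ⟨f, μ, hμP, hf0, hfM, fun w => ?_⟩
  rw [LinearMap.smul_apply, map_smul, ← show S (f (T' (T w))) = μ • f (T w) from LinearMap.congr_fun hLf (T w),
    ← Module.End.mul_apply T', hT'T, Module.End.one_apply]

end CfsgLib.HallHigman
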