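import Cfsg.Agent.Lib.HallHigman.TheoremB

/-!
# Theorem B for elementary abelian `p`-groups and for the action on `O_p` modulo its Frattini subgroup
-/

namespace CfsgLib.HallHigman

open Cfsg CfsgLib.PCore CfsgLib.ModuleTrick
open scoped IsMulCommutative TensorProduct

/-- The bound pulls back along a ring map. -/
theorem DegreeBound.of_map {p q m : ℕ} {E E' : Type*} [Ring E] [Ring E'] (f : E →+* E') {s : E}
    {P : Prop} (h : DegreeBound p q m (f s) P) : DegreeBound p q m s P := by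
  have key : ∀ j, (f s - 1) ^ j ≠ 0 → (s - 1) ^ j ≠ 0 := fun j hj h0 => hj (by
    rw [← map_one f, ← map_sub, ← map_pow, h0, map_zero])
  rcases h with h | ⟨n₀, d, h1, h2, h3, h4, h5, h6⟩
  · exact Or.inl fun j hj => key j (h j hj)
  · exact Or.inr ⟨n₀, d, h1, h2, h3, h4, h5, fun j hj => key j (h6 j hj)⟩

theorem DegreeBound.imp {p q m : ℕ} {E : Type*} [Ring E] {s : E} {P P' : Prop}
    (h : DegreeBound p q m s P) (hP : P → P') : DegreeBound p q m s P' := by
  rcases h with h | ⟨n₀, d, h1, h2, h3, h4, h5, h6⟩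
  · exact Or.inl h
  · exact Or.inr ⟨n₀, d, h1, h2, h3, h4, hP h5, h6⟩

/-- Theorem B for an action on an elementary abelian `p`-group. -/
theorem degree_bound_add {A : Type*} [AddCommGroup A] [Finite A] {p : ℕ} [hp : Fact p.Prime]
    (hA : ∀ a : A, p • a = 0) {X : Type*} [Group X] [Finite X] (ρ : X →* AddMonoid.End A)
    (x : X) (m : ℕ) (hx : x ^ p ^ (m + 1) = 1) {q : ℕ} [Fact q.Prime] (hqp : q ≠ p) (Q : Subgroup X)
    (hQ : IsPGroup q Q) (hxQ : x ∈ Subgroup.normalizer (Q : Set X))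
    (hy : ∃ g ∈ Q, ρ g * ρ (x ^ p ^ m) ≠ ρ (x ^ p ^ m) * ρ g) :
    DegreeBound p q m (ρ x) (¬ ∀ a ∈ Q, ∀ b ∈ Q, a * b = b * a) := by
  have : Module (ZMod p) A := AddCommGroup.zmodModule hA
  let K := AlgebraicClosure (ZMod p)
  have : CharP K p := charP_of_injective_algebraMap (algebraMap (ZMod p) K).injective p
  let Φ : AddMonoid.End A →+* Module.End K (K ⊗[ZMod p] A) :=
    { toFun := fun f => (AddMonoidHom.toZModLinearMap p f).baseChange K
      map_one' := by
        refine TensorProduct.AlgebraTensorModule.curry_injective ?_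
        ext a
        rfl
      map_mul' := fun f g => by
        refine TensorProduct.AlgebraTensorModule.curry_injective ?_
        ext a
        rfl
      map_zero' := by
        refine TensorProduct.AlgebraTensorModule.curry_injective ?_
        ext a
        exact TensorProduct.tmul_zero A (1 : K)
      map_add' := fun f g => by
        refine TensorProduct.AlgebraTensorModule.curry_injective ?_
        ext a
        exact TensorProduct.tmul_add (1 : K) (f a) (g a) }
  have hΦ : Function.Injective Φ := by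
    rw [injective_iff_map_eq_zero]
    intro f hf
    refine AddMonoidHom.ext fun a => ?_
    show f a = 0
    by_contra hne'
    obtain ⟨ψ, hψ⟩ := exists_dual_eq_one (K := ZMod p) hne'
    have h0 : Φ f ((1 : K) ⊗ₜ[ZMod p] a) = 0 := by rw [hf]; rfl
    have h1 : ((1 : K) ⊗ₜ[ZMod p] f a) = 0 := h0
    have h2 := congrArg (fun t => TensorProduct.AlgebraTensorModule.rid (ZMod p) K K (LinearMap.baseChange K ψ t)) h1
    simp only [LinearMap.baseChange_tmul, TensorProduct.AlgebraTensorModule.rid_tmul, map_zero] at h2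
    rw [hψ, one_smul] at h2
    exact one_ne_zero h2
  have : Module.Finite (ZMod p) A := Module.Finite.of_finite
  have : FiniteDimensional K (K ⊗[ZMod p] A) := inferInstance
  obtain ⟨g, hg, hne⟩ := hy
  let ρ' : X →* Module.End K (K ⊗[ZMod p] A) := Φ.toMonoidHom.comp ρ
  have hne' : ∃ g ∈ Q, ρ' g * ρ' (x ^ p ^ m) ≠ ρ' (x ^ p ^ m) * ρ' g :=
    ⟨g, hg, fun h => hne (hΦ (by rw [map_mul Φ, map_mul Φ]; exact h))⟩
  have hd := degree_bound (K := K) (V := K ⊗[ZMod p] A) ρ' x m hx hqp Q hQ hxQ hne'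
  refine @DegreeBound.of_map p q m (AddMonoid.End A) (Module.End K (K ⊗[ZMod p] A)) _ _ Φ (ρ x) _ ?_
  exact hd

variable {H : Type*} [Group H] [Finite H] {p : ℕ} [hp : Fact p.Prime]

/-- Theorem B on `O_p` modulo its Frattini subgroup, with the sum relation removed. -/
theorem exists_degreeBound_pCore (hH : IsPSolvable p H) (h0 : pPrimeCore p H = ⊥) (x : H) (m : ℕ)
    (hx : x ^ p ^ (m + 1) ∈ pCore p H) (hxp : ∃ k, orderOf x = p ^ k) (hy : x ^ p ^ m ∉ pCore p H)
    [IsMulCommutative ((pCore p H).map (QuotientGroup.mk' (frattiniCore p H)))]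
    [((pCore p H).map (QuotientGroup.mk' (frattiniCore p H))).Normal] :
    ∃ (q : ℕ) (_ : Fact q.Prime), q ≠ p ∧
      DegreeBound p q m
        (conjEnd ((pCore p H).map (QuotientGroup.mk' (frattiniCore p H))) (QuotientGroup.mk' _ x))
        (∀ T : Sylow q H, ¬ ∀ a ∈ (T : Subgroup H), ∀ b ∈ (T : Subgroup H), a * b = b * a) := by
  obtain ⟨hcomm, hpow, hcen⟩ := frattini_quotient_props hH h0
  set f1 := QuotientGroup.mk' (frattiniCore p H) with hf1
  set W := (pCore p H).map f1 with hW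
  set g := (QuotientGroup.mk' (Subgroup.centralizer (W : Set (H ⧸ frattiniCore p H)))).comp f1 with hg
  have hgs : Function.Surjective g :=
    (QuotientGroup.mk'_surjective _).comp (QuotientGroup.mk'_surjective _)
  have hker : g.ker = pCore p H := by
    rw [hg, ← MonoidHom.comap_ker, QuotientGroup.ker_mk', hcen, hW, Subgroup.comap_map_eq, hf1,
      QuotientGroup.ker_mk', sup_eq_left]
    exact frattiniCore_le p H
  have hX : IsPSolvable p ((H ⧸ frattiniCore p H) ⧸ Subgroup.centralizer (W : Set (H ⧸ frattiniCore p H))) :=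
    isPSolvable_quotient (isPSolvable_quotient hH _) _
  have hX0 : pCore p ((H ⧸ frattiniCore p H) ⧸ Subgroup.centralizer (W : Set (H ⧸ frattiniCore p H))) = ⊥ := by
    have h1 := pCore_isPGroup.comap_of_ker_isPGroup (p := p) g (by rw [hker]; exact pCore_isPGroup)
    have h2 := le_pCore (Subgroup.Normal.comap (CfsgLib.Fitting.pCore_normal p) g) h1
    rw [← Subgroup.map_comap_eq_self_of_surjective hgs (pCore p _), Subgroup.map_eq_bot_iff, hker]
    exact h2
  obtain ⟨k, hk⟩ := hxp
  have hord : ∃ j, orderOf (g x) = p ^ j := by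
    obtain ⟨j, -, hj⟩ := (Nat.dvd_prime_pow hp.out).1 (hk ▸ orderOf_map_dvd g x)
    exact ⟨j, hj⟩
  have hy1 : g (x ^ p ^ m) ≠ 1 := fun h => hy (hker.le h)
  obtain ⟨q, hq, R, hqp, hR, hxR, hyR, S, hRS⟩ := exists_invariant_not_centralized hX hX0 (g x)
    (g (x ^ p ^ m)) hord (by rw [map_pow]; exact Subgroup.pow_mem _ (Subgroup.mem_zpowers _) _) hy1
  refine ⟨q, hq, hqp, ?_⟩
  have hA : ∀ a : Additive W, p • a = 0 := fun a => by
    apply Additive.toMul.injective
    apply Subtype.ext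
    rw [toMul_nsmul, Subgroup.coe_pow]
    exact hpow _ (Additive.toMul a).2
  have h1 := degree_bound_add hA (conjEndQuot W) (g x) m
    (by rw [← map_pow]; exact hker.ge hx) hqp R hR hxR (by
      by_contra hcon
      push Not at hcon
      refine hyR fun r hr => conjEndQuot_injective W ?_
      rw [map_mul, map_mul, map_pow g]
      exact hcon r hr)
  refine DegreeBound.imp h1 fun hna T hT => hna ?_
  intro a ha b hb
  obtain ⟨T', hT'⟩ := Sylow.mapSurjective_surjective hgs q S
  obtain ⟨a', ha', rfl⟩ := (congrArg Sylow.toSubgroup hT').ge (hRS ha)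
  obtain ⟨b', hb', rfl⟩ := (congrArg Sylow.toSubgroup hT').ge (hRS hb)
  obtain ⟨c, hc⟩ := MulAction.exists_smul_eq H T T'
  rw [← hc] at ha' hb'
  obtain ⟨a'', ha'', rfl⟩ := ha'
  obtain ⟨b'', hb'', rfl⟩ := hb'
  show g (MulAut.conj c a'') * g (MulAut.conj c b'') = g (MulAut.conj c b'') * g (MulAut.conj c a'')
  rw [← map_mul, ← map_mul, ← map_mul, ← map_mul, hT a'' ha'' b'' hb'']

/-- If all `p`-elements of `H` have order dividing `p^(m+1)`, then `p^m`-th powers lie in `O_p`, except in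
the exceptional case. -/
theorem pow_mem_pCore_or_exceptional (hH : IsPSolvable p H) (h0 : pPrimeCore p H = ⊥) (m : ℕ)
    (hexp : ∀ (P : Sylow p H), ∀ x ∈ (P : Subgroup H), x ^ p ^ (m + 1) = 1) (P : Sylow p H) (x : H)
    (hx : x ∈ (P : Subgroup H)) (hy : x ^ p ^ m ∉ pCore p H) :
    ∃ q n₀ d : ℕ, ∃ _ : Fact q.Prime, 1 ≤ n₀ ∧ n₀ ≤ m + 1 ∧ 1 ≤ d ∧ p ^ n₀ = q ^ d + 1 ∧
      (∀ T : Sylow q H, ¬ ∀ a ∈ (T : Subgroup H), ∀ b ∈ (T : Subgroup H), a * b = b * a) := by
  obtain ⟨hcomm, hpow, -⟩ := frattini_quotient_props hH h0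
  set f1 := QuotientGroup.mk' (frattiniCore p H) with hf1
  set W := (pCore p H).map f1 with hW
  have : (pCore p H).Normal := CfsgLib.Fitting.pCore_normal p
  have : W.Normal := Subgroup.Normal.map inferInstance f1 (QuotientGroup.mk'_surjective _)
  have : IsMulCommutative W := ⟨⟨fun a b => Subtype.ext (hcomm a a.2 b b.2)⟩⟩
  obtain ⟨q, hq, -, h⟩ := exists_degreeBound_pCore hH h0 x m
    (by rw [hexp P x hx]; exact one_mem _)
    (by
      obtain ⟨j, hj⟩ := P.2 ⟨x, hx⟩
      obtain ⟨i, -, hi⟩ := (Nat.dvd_prime_pow hp.out).1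
        (orderOf_dvd_of_pow_eq_one (congrArg Subtype.val hj))
      exact ⟨i, hi⟩) hy
  rcases h with h | ⟨n₀, d, h1, h2, h3, h4, h5, -⟩
  · exfalso
    refine h (p ^ (m + 1) - 1) (by have := Nat.one_le_pow (m + 1) p hp.out.pos; omega) ?_
    have hE : (p : AddMonoid.End (Additive W)) = 0 := AddMonoidHom.ext fun v =>
      (AddMonoid.End.natCast_apply p v).trans (Additive.toMul.injective (Subtype.ext (by
        rw [toMul_nsmul, Subgroup.coe_pow]
        exact hpow _ (Additive.toMul v).2)))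
    rw [← geom_sum_eq_sub_one_pow p (m + 1) hE]
    refine sum_pow_conjEnd_eq_zero W (f1 x) _ ?_
    rintro _ ⟨a, ha, rfl⟩
    rw [← map_mul, ← map_pow]
    have hxp : IsPGroup p (Subgroup.zpowers x) := P.2.to_le (Subgroup.zpowers_le.mpr hx)
    obtain ⟨P', hP'⟩ := (hxp.to_sup_of_normal_right (pCore_isPGroup (p := p) (G := H))).exists_le_sylow
    rw [hexp P' (a * x) (hP' (Subgroup.mul_mem _ (Subgroup.mem_sup_right ha)
      (Subgroup.mem_sup_left (Subgroup.mem_zpowers x)))), map_one]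
  · exact ⟨q, n₀, d, hq, h1, h2, h3, h4, h5⟩

end CfsgLib.HallHigman
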