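import Cfsg.Agent.Lib.PLocal.NormalSq

/-!
# Elements with small support in a `p`-group acting on a group of order prime to `p`

Such elements commute.
-/

namespace CfsgLib.HallHigman

open scoped commutatorElement

universe v

variable {M : Type v} [AddCommGroup M] {p : ℕ}

/-- The fixed points of an endomorphism. -/
def fixedBy (f : AddMonoid.End M) : AddSubgroup M where
  carrier := {x | f x = x}
  zero_mem' := map_zero f
  add_mem' := fun {a b} ha hb => by
    show f (a + b) = a + b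
    rw [map_add, show f a = a from ha, show f b = b from hb]
  neg_mem' := fun {a} ha => by
    show f (-a) = -a
    rw [map_neg, show f a = a from ha]

theorem mem_fixedBy {f : AddMonoid.End M} {x : M} : x ∈ fixedBy f ↔ f x = x := Iff.rfl

/-- `g` is the `p`-part of an element of order `p^(n+1)` and moves at most `(p^(n+1)-1)^2` cosets. -/
def IsSmall (p : ℕ) (H : Subgroup (AddMonoid.End M)ˣ) (g : (AddMonoid.End M)ˣ) : Prop :=
  ∃ (n : ℕ) (τ : (AddMonoid.End M)ˣ), τ ∈ H ∧ τ ^ p ^ (n + 1) = 1 ∧ g = τ ^ p ^ n ∧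
    (fixedBy (g : AddMonoid.End M)).index ≤ (p ^ (n + 1) - 1) ^ 2

/-- The restriction to an invariant subgroup. -/
noncomputable def restrictHom (H : Subgroup (AddMonoid.End M)ˣ) (S : AddSubgroup M)
    (hS : ∀ h ∈ H, ∀ x ∈ S, (h : AddMonoid.End M) x ∈ S) : H →* (AddMonoid.End S)ˣ :=
  MonoidHom.toHomUnits
    { toFun := fun h => (((h : (AddMonoid.End M)ˣ) : AddMonoid.End M).comp S.subtype).codRestrict S
        fun x => hS h h.2 x x.2
      map_one' := AddMonoidHom.ext fun x => Subtype.ext rfl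
      map_mul' := fun a b => AddMonoidHom.ext fun x => Subtype.ext rfl }

theorem restrictHom_apply (H : Subgroup (AddMonoid.End M)ˣ) (S : AddSubgroup M)
    (hS : ∀ h ∈ H, ∀ x ∈ S, (h : AddMonoid.End M) x ∈ S) (h : H) (x : S) :
    ((((restrictHom H S hS h : (AddMonoid.End S)ˣ) : AddMonoid.End S) x : S) : M) =
      ((h : (AddMonoid.End M)ˣ) : AddMonoid.End M) x := rfl

theorem index_fixedBy_restrict (H : Subgroup (AddMonoid.End M)ˣ) (S : AddSubgroup M)
    (hS : ∀ h ∈ H, ∀ x ∈ S, (h : AddMonoid.End M) x ∈ S) (h : H) :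
    (fixedBy ((restrictHom H S hS h : (AddMonoid.End S)ˣ) : AddMonoid.End S)).index =
      (fixedBy ((h : (AddMonoid.End M)ˣ) : AddMonoid.End M)).relIndex S := by
  rw [AddSubgroup.relIndex]
  congr 1
  ext x
  exact ⟨fun hx => congrArg Subtype.val (show _ = x from hx), fun hx => Subtype.ext hx⟩

theorem end_sum_apply {ι : Type*} (s : Finset ι) (f : ι → AddMonoid.End M) (x : M) :
    (∑ i ∈ s, f i) x = ∑ i ∈ s, f i x := by
  classical
  induction s using Finset.induction with
  | empty => rfl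
  | @insert a s ha ih =>
    rw [Finset.sum_insert ha, Finset.sum_insert ha, ← ih]
    rfl

theorem units_apply_injective (u : (AddMonoid.End M)ˣ) : Function.Injective (u : AddMonoid.End M) := fun a b h => by
  have h1 : (((u⁻¹ * u : (AddMonoid.End M)ˣ)) : AddMonoid.End M) a = ((u⁻¹ * u : (AddMonoid.End M)ˣ) : AddMonoid.End M) b :=
    congrArg ((u⁻¹ : (AddMonoid.End M)ˣ) : AddMonoid.End M) h
  rwa [inv_mul_cancel] at h1

variable [hp : Fact p.Prime]

/-- Small elements of a `p`-group of automorphisms commute. -/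
theorem small_commute (hp2 : p ≠ 2) : ∀ (k : ℕ) (M : Type v) [AddCommGroup M] [Finite M],
    Nat.card M ≤ k → (Nat.card M).Coprime p → ∀ (H : Subgroup (AddMonoid.End M)ˣ), IsPGroup p H →
    ∀ g g', IsSmall p H g → IsSmall p H g' → g * g' = g' * g := by
  intro k
  induction k using Nat.strong_induction_on with
  | _ k ih =>
  intro M _ _ hk hcop H hH g g' hg hg'
  have hgH : ∀ {g}, IsSmall p H g → g ∈ H := by
    rintro _ ⟨n, τ, hτ, -, rfl, -⟩; exact H.pow_mem hτ _
  -- `p` is invertible on `M`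
  have hpinv : ∀ x : M, p • x = 0 → x = 0 := fun x hx => by
    have h1 := Nat.dvd_gcd (addOrderOf_dvd_natCard x) (addOrderOf_dvd_of_nsmul_eq_zero hx)
    rw [hcop.gcd_eq_one, Nat.dvd_one] at h1
    exact AddMonoid.addOrderOf_eq_one_iff.mp h1
  have hpsurj : ∀ y : M, ∃ x : M, p • x = y := fun y => by
    have hinj : Function.Injective (fun x : M => p • x) := fun a b h => sub_eq_zero.mp
      (hpinv _ (by rw [nsmul_sub]; exact sub_eq_zero.mpr h))
    exact (Finite.injective_iff_surjective.mp hinj) y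
  -- recursion to an invariant proper subgroup
  have hrec : ∀ (H₀ : Subgroup (AddMonoid.End M)ˣ) (_ : H₀ ≤ H) (S : AddSubgroup M)
      (hS : ∀ h ∈ H₀, ∀ x ∈ S, (h : AddMonoid.End M) x ∈ S), S ≠ ⊤ → ∀ a a' : (AddMonoid.End M)ˣ,
      ∀ (ha : a ∈ H₀) (ha' : a' ∈ H₀),
      IsSmall p (restrictHom H₀ S hS).range (restrictHom H₀ S hS ⟨a, ha⟩) →
      IsSmall p (restrictHom H₀ S hS).range (restrictHom H₀ S hS ⟨a', ha'⟩) →
      ∀ x ∈ S, (a : AddMonoid.End M) ((a' : AddMonoid.End M) x) =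
        (a' : AddMonoid.End M) ((a : AddMonoid.End M) x) := by
    intro H₀ hH₀ S hS hStop a a' ha ha' hsa hsa' x hx
    have hlt : Nat.card S < k := by
      refine lt_of_lt_of_le ?_ hk
      refine lt_of_le_of_ne (Nat.le_of_dvd Nat.card_pos S.card_addSubgroup_dvd_card) fun e => hStop ?_
      exact AddSubgroup.eq_top_of_card_eq S e
    have hpH₀ : IsPGroup p (restrictHom H₀ S hS).range :=
      (hH.to_le hH₀).of_surjective _ (restrictHom H₀ S hS).rangeRestrict_surjective
    have h1 := ih (Nat.card S) hlt S le_rfl (hcop.coprime_dvd_left S.card_addSubgroup_dvd_card) _ hpH₀ _ _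
      hsa hsa'
    exact congrArg Subtype.val (DFunLike.congr_fun (congrArg Units.val h1) ⟨x, hx⟩)
  -- a central element of order `p` with fixed points splits `M`
  have hsplit : ∀ ζ ∈ H, (∀ h ∈ H, h * ζ = ζ * h) → ζ ^ p = 1 → ζ ≠ 1 →
      fixedBy (ζ : AddMonoid.End M) ≠ ⊥ → g * g' = g' * g := by
    intro ζ _ hcen hζp hζ1 hfix
    let N : M →+ M := ((∑ i ∈ Finset.range p, (ζ : AddMonoid.End M) ^ i : AddMonoid.End M))
    let M₁ := fixedBy (ζ : AddMonoid.End M)
    let M₂ : AddSubgroup M := N.ker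
    have hN1 : ∀ x ∈ M₁, N x = p • x := by
      intro x hx
      show (∑ i ∈ Finset.range p, (ζ : AddMonoid.End M) ^ i) x = _
      rw [end_sum_apply]
      have : ∀ i : ℕ, ((ζ : AddMonoid.End M) ^ i) x = x := by
        intro i
        induction i with
        | zero => rfl
        | succ i ihi =>
          rw [pow_succ]
          show ((ζ : AddMonoid.End M) ^ i) ((ζ : AddMonoid.End M) x) = x
          rw [show (ζ : AddMonoid.End M) x = x from hx, ihi]
      rw [Finset.sum_congr rfl fun i _ => this i, Finset.sum_const, Finset.card_range]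
    have hN2 : ∀ x, N x ∈ M₁ := by
      intro x
      show ((ζ : AddMonoid.End M) * ∑ i ∈ Finset.range p, (ζ : AddMonoid.End M) ^ i) x =
        (∑ i ∈ Finset.range p, (ζ : AddMonoid.End M) ^ i) x
      congr 1
      have h1 := mul_geom_sum (ζ : AddMonoid.End M) p
      rw [← Units.val_pow_eq_pow_val, hζp, Units.val_one, sub_self, sub_mul, one_mul, sub_eq_zero] at h1
      exact h1
    have hsum : ∀ x : M, ∃ x₁ ∈ M₁, ∃ x₂ ∈ M₂, x = x₁ + x₂ := by
      intro x
      obtain ⟨y, hy⟩ := hpsurj x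
      refine ⟨N y, hN2 y, x - N y, ?_, by abel⟩
      show N (x - N y) = 0
      rw [map_sub, hN1 _ (hN2 y), ← hy, map_nsmul, sub_self]
    have hinv1 : ∀ h ∈ H, ∀ x ∈ M₁, (h : AddMonoid.End M) x ∈ M₁ := by
      intro h hh x hx
      show ((ζ * h : (AddMonoid.End M)ˣ) : AddMonoid.End M) x = _
      rw [← hcen h hh]
      show (h : AddMonoid.End M) ((ζ : AddMonoid.End M) x) = _
      rw [show (ζ : AddMonoid.End M) x = x from hx]
    have hinv2 : ∀ h ∈ H, ∀ x ∈ M₂, (h : AddMonoid.End M) x ∈ M₂ := by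
      intro h hh x hx
      have hc : Commute (h : AddMonoid.End M) (∑ i ∈ Finset.range p, (ζ : AddMonoid.End M) ^ i) :=
        Commute.sum_right _ _ _ fun i _ => (show Commute (h : AddMonoid.End M) (ζ : AddMonoid.End M) from Units.ext_iff.mp (hcen h hh)).pow_right i
      show ((∑ i ∈ Finset.range p, (ζ : AddMonoid.End M) ^ i) * (h : AddMonoid.End M)) x = 0
      rw [← hc.eq]
      show (h : AddMonoid.End M) (N x) = 0
      rw [show N x = 0 from hx, map_zero]
    have htop1 : M₁ ≠ ⊤ := fun e => hζ1 (Units.ext (AddMonoidHom.ext fun x => (e.ge trivial : x ∈ M₁)))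
    have htop2 : M₂ ≠ ⊤ := by
      intro e
      obtain ⟨x, hx, hx0⟩ := M₁.bot_or_exists_ne_zero.resolve_left hfix
      exact hx0 (hpinv x ((hN1 x hx).symm.trans (e.ge trivial : x ∈ M₂)))
    have hsmall : ∀ (S : AddSubgroup M) (hS : ∀ h ∈ H, ∀ x ∈ S, (h : AddMonoid.End M) x ∈ S) (a) (hs : IsSmall p H a),
        IsSmall p (restrictHom H S hS).range (restrictHom H S hS ⟨a, hgH hs⟩) := by
      rintro S hS a ⟨n, τ, hτ, hτn, rfl, hidx⟩
      refine ⟨n, restrictHom H S hS ⟨τ, hτ⟩, ⟨_, rfl⟩, ?_, ?_, ?_⟩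
      · rw [← map_pow, ← map_one (restrictHom H S hS)]; exact congrArg _ (Subtype.ext hτn)
      · rw [← map_pow]; rfl
      · rw [index_fixedBy_restrict]
        refine le_trans ?_ hidx
        exact Nat.le_of_dvd (Nat.pos_of_ne_zero AddSubgroup.index_ne_zero_of_finite)
          (AddSubgroup.relIndex_dvd_index_of_normal _ _)
    refine Units.ext (AddMonoidHom.ext fun x => ?_)
    obtain ⟨x₁, hx₁, x₂, hx₂, rfl⟩ := hsum x
    show (g : AddMonoid.End M) ((g' : AddMonoid.End M) (x₁ + x₂)) =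
      (g' : AddMonoid.End M) ((g : AddMonoid.End M) (x₁ + x₂))
    simp only [map_add]
    rw [hrec H le_rfl M₁ hinv1 htop1 g g' _ _ (hsmall M₁ hinv1 g hg) (hsmall M₁ hinv1 g' hg') x₁ hx₁,
      hrec H le_rfl M₂ hinv2 htop2 g g' _ _ (hsmall M₂ hinv2 g hg) (hsmall M₂ hinv2 g' hg') x₂ hx₂]
  by_cases hcomm : ∀ a ∈ H, ∀ b ∈ H, a * b = b * a
  · exact hcomm g (hgH hg) g' (hgH hg')
  rcases subsingleton_or_nontrivial M with hM | hM
  · exact Units.ext (AddMonoidHom.ext fun x => Subsingleton.elim _ _)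
  by_cases hfree : ∃ ζ ∈ H, (∀ h ∈ H, h * ζ = ζ * h) ∧ ζ ^ p = 1 ∧ ζ ≠ 1 ∧ fixedBy (ζ : AddMonoid.End M) ≠ ⊥
  · obtain ⟨ζ, h1, h2, h3, h4, h5⟩ := hfree
    exact hsplit ζ h1 h2 h3 h4 h5
  push Not at hfree
  -- a normal elementary abelian subgroup of order `p ^ 2`
  have hncyc : ¬ IsCyclic (⊤ : Subgroup H) := fun h => hcomm fun a ha b hb => by
    have := h.isMulCommutative
    exact congrArg (fun z : (⊤ : Subgroup H) => ((z : H) : (AddMonoid.End M)ˣ))
      (isMulCommutative_iff.mp this ⟨⟨a, ha⟩, trivial⟩ ⟨⟨b, hb⟩, trivial⟩)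
  have : Finite (AddMonoid.End M) := Finite.of_injective _ DFunLike.coe_injective
  have : Finite (AddMonoid.End M)ˣ := Finite.of_injective _ Units.val_injective
  obtain ⟨F, -, hFn, hFe, hFcard⟩ := CfsgLib.PLocal.exists_normal_sq_of_not_isCyclic hp2 hH (⊤ : Subgroup H) hncyc
  have hFpow : ∀ a ∈ F, (a : (AddMonoid.End M)ˣ) ^ p = 1 := fun a ha => by
    rw [← Subgroup.coe_pow, hFe.2 a ha]; rfl
  -- some element of `F` is not central
  obtain ⟨a, haF, h₀, ha0⟩ : ∃ a ∈ F, ∃ h : H, h * a ≠ a * h := by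
    by_contra hcon
    push Not at hcon
    have hFnt : Nontrivial F := Finite.one_lt_card_iff_nontrivial.mp (by
      rw [hFcard]; exact Nat.one_lt_pow two_ne_zero hp.out.one_lt)
    obtain ⟨⟨a, haF⟩, ha1⟩ := exists_ne (1 : F)
    have hfa : ∀ z ∈ F, z ≠ 1 → fixedBy ((z : (AddMonoid.End M)ˣ) : AddMonoid.End M) = ⊥ := by
      intro z hz hz1
      exact hfree z z.2 (fun h hh => congrArg Subtype.val (hcon z hz ⟨h, hh⟩)) (hFpow z hz)
        (fun e => hz1 (Subtype.ext e))
    obtain ⟨b, hbF, hba⟩ : ∃ b ∈ F, b ∉ Subgroup.zpowers a := by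
      by_contra hc
      push Not at hc
      have h1 := Subgroup.card_le_of_le (show F ≤ Subgroup.zpowers a from hc)
      rw [hFcard, Nat.card_zpowers] at h1
      have h2 : orderOf a ≤ p := Nat.le_of_dvd hp.out.pos (orderOf_dvd_of_pow_eq_one (hFe.2 a haF))
      have := hp.out.two_le
      nlinarith
    -- all the lines act without fixed points
    obtain ⟨x, hx⟩ := exists_ne (0 : M)
    apply hx
    apply hpinv
    set A : AddMonoid.End M := ((a : (AddMonoid.End M)ˣ) : AddMonoid.End M)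
    set B : AddMonoid.End M := ((b : (AddMonoid.End M)ˣ) : AddMonoid.End M)
    have hNzero : ∀ z : H, z ∈ F → z ≠ 1 →
        ∑ j ∈ Finset.range p, ((z : (AddMonoid.End M)ˣ) : AddMonoid.End M) ^ j = 0 := by
      intro z hz hz1
      refine AddMonoidHom.ext fun y => ?_
      have h1 := mul_geom_sum ((z : (AddMonoid.End M)ˣ) : AddMonoid.End M) p
      rw [← Units.val_pow_eq_pow_val, hFpow z hz, Units.val_one, sub_self, sub_mul, one_mul, sub_eq_zero] at h1
      have h2 : (∑ j ∈ Finset.range p, ((z : (AddMonoid.End M)ˣ) : AddMonoid.End M) ^ j) y ∈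
          fixedBy ((z : (AddMonoid.End M)ˣ) : AddMonoid.End M) := DFunLike.congr_fun h1 y
      rwa [hfa z hz hz1, AddSubgroup.mem_bot] at h2
    have key : ∑ i ∈ Finset.range p, ∑ j ∈ Finset.range p, (A ^ i * B) ^ j = (p : AddMonoid.End M) := by
      rw [Finset.sum_comm]
      have hAB : Commute A B := congrArg (fun z : H => ((z : (AddMonoid.End M)ˣ) : AddMonoid.End M)) (hcon b hbF a)
      rw [Finset.sum_eq_single 0]
      · simp
      · intro j hj hj0
        have hjp : ¬ p ∣ j := fun hd => hj0 (Nat.eq_zero_of_dvd_of_lt hd (Finset.mem_range.mp hj))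
        calc ∑ i ∈ Finset.range p, (A ^ i * B) ^ j = (∑ i ∈ Finset.range p, (A ^ j) ^ i) * B ^ j := by
              rw [Finset.sum_mul]
              exact Finset.sum_congr rfl fun i _ => by
                rw [(hAB.pow_left i).mul_pow, ← pow_mul, ← pow_mul, mul_comm]
          _ = 0 := by
              have h1 := hNzero (a ^ j) (F.pow_mem haF j) (fun e => ?_)
              · rw [show A ^ j = (((a ^ j : H) : (AddMonoid.End M)ˣ) : AddMonoid.End M) by simp [A], h1, zero_mul]
              · have h2 := orderOf_dvd_of_pow_eq_one e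
                rw [orderOf_eq_prime (hFe.2 a haF) (fun h => ha1 (Subtype.ext h))] at h2
                exact hjp h2
      · intro h; simp [hp.out.pos] at h
    rw [← AddMonoid.End.natCast_apply p x, ← key, end_sum_apply]
    refine Finset.sum_eq_zero fun i _ => ?_
    have h1 := hNzero (a ^ i * b) (F.mul_mem (F.pow_mem haF i) hbF) (fun e => hba ?_)
    · rw [show A ^ i * B = (((a ^ i * b : H) : (AddMonoid.End M)ˣ) : AddMonoid.End M) by simp [A, B], h1]
      rfl
    · rw [eq_inv_of_mul_eq_one_right e]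
      exact Subgroup.inv_mem _ (Subgroup.pow_mem _ (Subgroup.mem_zpowers a) i)
  -- the central commutator
  set T := ⁅F, (⊤ : Subgroup H)⁆ with hT
  have hTF : T ≤ F := Subgroup.commutator_le_left F ⊤
  have hcl : ∀ h : H, ∀ b ∈ F, h * b * h⁻¹ * b⁻¹ ∈ T := fun h b hb => by
    have h1 := Subgroup.commutator_mem_commutator hb (Subgroup.mem_top h)
    have h2 := T.inv_mem h1
    rwa [commutatorElement_inv, commutatorElement_def] at h2
  have hTlt : T < F := by
    refine lt_of_le_of_ne hTF fun e => ?_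
    have hser : ∀ n, F ≤ (⊤ : Subgroup H).lowerCentralSeries n := by
      intro n
      induction n with
      | zero => exact le_top
      | succ n ihn =>
        rw [← e, Subgroup.lowerCentralSeries_succ]
        exact Subgroup.commutator_mono ihn le_rfl
    have : Group.IsNilpotent H := hH.isNilpotent
    obtain ⟨n, hn⟩ := Subgroup.nilpotent_iff_lowerCentralSeries.mp ‹Group.IsNilpotent H›
    have h2 : F = ⊥ := le_bot_iff.mp (hn ▸ hser n)
    rw [h2, Subgroup.card_bot] at hFcard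
    exact absurd hFcard.symm (Nat.one_lt_pow two_ne_zero hp.out.one_lt).ne'
  set ζ := h₀ * a * h₀⁻¹ * a⁻¹ with hζ
  have hζT : ζ ∈ T := hcl h₀ a haF
  have hζ1 : ζ ≠ 1 := fun e => ha0 (mul_inv_eq_iff_eq_mul.mp (mul_inv_eq_one.mp e))
  have hTcard : Nat.card T = p := by
    obtain ⟨i, hi, hi'⟩ := (Nat.dvd_prime_pow hp.out).mp (hFcard ▸ Subgroup.card_dvd_of_le hTF)
    interval_cases i
    · exfalso
      rw [pow_zero, Subgroup.card_eq_one] at hi'
      rw [hi', Subgroup.mem_bot] at hζT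
      exact hζ1 hζT
    · rw [hi', pow_one]
    · exact absurd (Subgroup.eq_of_le_of_card_ge hTF (by rw [hi', hFcard])) hTlt.ne
  have hTzp : ∀ t ∈ T, t ∈ Subgroup.zpowers ζ := by
    have h1 : orderOf ζ = p := orderOf_eq_prime (hFe.2 ζ (hTF hζT)) hζ1
    have h2 : Subgroup.zpowers ζ = T := Subgroup.eq_of_le_of_card_ge (Subgroup.zpowers_le.mpr hζT)
      (by rw [hTcard, Nat.card_zpowers, h1])
    exact fun t ht => h2.ge ht
  have hTn : T.Normal := inferInstance
  have hζcen : ∀ h : H, h * ζ = ζ * h := by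
    intro h
    obtain ⟨i, hi⟩ := hTzp _ (hTn.conj_mem ζ hζT h)
    by_contra hne
    have h1 : T ≤ ⁅T, (⊤ : Subgroup H)⁆ := by
      have h2 : Subgroup.zpowers ζ = T := le_antisymm (Subgroup.zpowers_le.mpr hζT) hTzp
      have h3 : h * ζ * h⁻¹ * ζ⁻¹ ∈ ⁅T, (⊤ : Subgroup H)⁆ := by
        have h4 := Subgroup.commutator_mem_commutator hζT (Subgroup.mem_top h)
        have h5 := Subgroup.inv_mem _ h4
        rwa [commutatorElement_inv, commutatorElement_def] at h5
      have h6 : h * ζ * h⁻¹ * ζ⁻¹ ≠ 1 := fun e => hne (mul_inv_eq_iff_eq_mul.mp (mul_inv_eq_one.mp e))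
      have h7 : Subgroup.zpowers (h * ζ * h⁻¹ * ζ⁻¹) = T := Subgroup.eq_of_le_of_card_ge
        (Subgroup.zpowers_le.mpr (T.mul_mem (hTn.conj_mem ζ hζT h) (T.inv_mem hζT)))
        (by rw [hTcard, Nat.card_zpowers, orderOf_eq_prime
          (hFe.2 _ (hTF (T.mul_mem (hTn.conj_mem ζ hζT h) (T.inv_mem hζT)))) h6])
      exact h7.ge.trans (Subgroup.zpowers_le.mpr h3)
    have hser : ∀ n, T ≤ (⊤ : Subgroup H).lowerCentralSeries n := by
      intro n
      induction n with
      | zero => exact le_top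
      | succ n ihn =>
        rw [Subgroup.lowerCentralSeries_succ]
        exact h1.trans (Subgroup.commutator_mono ihn le_rfl)
    have : Group.IsNilpotent H := hH.isNilpotent
    obtain ⟨n, hn⟩ := Subgroup.nilpotent_iff_lowerCentralSeries.mp ‹Group.IsNilpotent H›
    exact hζ1 (Subgroup.mem_bot.mp (hn ▸ hser n hζT))
  have hζfree : fixedBy ((ζ : (AddMonoid.End M)ˣ) : AddMonoid.End M) = ⊥ :=
    hfree ζ ζ.2 (fun h hh => congrArg Subtype.val (hζcen ⟨h, hh⟩)) (hFpow ζ (hTF hζT))
      (fun e => hζ1 (Subtype.ext e))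
  -- the blocks
  have hrel : ∀ h : H, ∃ j, j < p ∧ h * a * h⁻¹ = ζ ^ j * a := by
    intro h
    obtain ⟨i, hi⟩ := hTzp _ (hcl h a haF)
    have hζo : orderOf ζ = p := orderOf_eq_prime (hFe.2 ζ (hTF hζT)) hζ1
    refine ⟨(i % (p : ℤ)).toNat, ?_, ?_⟩
    · have h1 := Int.emod_lt_of_pos i (show (0 : ℤ) < p by exact_mod_cast hp.out.pos)
      have h2 := Int.emod_nonneg i (show (p : ℤ) ≠ 0 by exact_mod_cast hp.out.ne_zero)
      omega
    · rw [← zpow_natCast, Int.toNat_of_nonneg (Int.emod_nonneg i (by exact_mod_cast hp.out.ne_zero)),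
        ← hζo, zpow_mod_orderOf, show ζ ^ i = h * a * h⁻¹ * a⁻¹ from hi, inv_mul_cancel_right]
  set Z : AddMonoid.End M := ((ζ : (AddMonoid.End M)ˣ) : AddMonoid.End M) with hZ
  set A : AddMonoid.End M := ((a : (AddMonoid.End M)ˣ) : AddMonoid.End M) with hA
  have hZA : Commute Z A := congrArg (fun z : H => ((z : (AddMonoid.End M)ˣ) : AddMonoid.End M)) (hζcen a).symm
  have hZp : Z ^ p = 1 := by rw [hZ, ← Units.val_pow_eq_pow_val, hFpow ζ (hTF hζT), Units.val_one]
  have hAp : A ^ p = 1 := by rw [hA, ← Units.val_pow_eq_pow_val, hFpow a haF, Units.val_one]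
  have hZi : ∀ i x, ¬ p ∣ i → (Z ^ i) x = x → x = 0 := by
    intro i x hi hx
    obtain ⟨v, hv⟩ := Nat.exists_mul_mod_eq_one_of_coprime ((hp.out.coprime_iff_not_dvd.mpr hi).symm) hp.out.one_lt
    have h1 : ∀ n : ℕ, (Z ^ (i * n)) x = x := by
      intro n
      induction n with
      | zero => rfl
      | succ n ihn =>
        rw [Nat.mul_succ, pow_add]
        show (Z ^ (i * n)) ((Z ^ i) x) = x
        rw [hx, ihn]
    have h2 := h1 v
    rw [pow_eq_pow_mod _ hZp, hv.2, pow_one] at h2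
    have h3 : x ∈ fixedBy Z := h2
    rwa [hζfree, AddSubgroup.mem_bot] at h3
  let E : Fin p → AddMonoid.End M := fun i => Z ^ (i : ℕ) * A
  let Mb : Fin p → AddSubgroup M := fun i => fixedBy (E i)
  let Nb : Fin p → AddMonoid.End M := fun i => ∑ j ∈ Finset.range p, (E i) ^ j
  have hNmem : ∀ i x, Nb i x ∈ Mb i := by
    intro i x
    show (E i * Nb i) x = Nb i x
    congr 1
    have hEp : E i ^ p = 1 := by
      show (Z ^ (i : ℕ) * A) ^ p = 1
      rw [(hZA.pow_left _).mul_pow, ← pow_mul, mul_comm, pow_mul, hZp, one_pow, one_mul, hAp]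
    have h1 := mul_geom_sum (E i) p
    rw [hEp, sub_self, sub_mul, one_mul, sub_eq_zero] at h1
    exact h1
  have hpsum : ∀ x, ∑ i, Nb i x = p • x := by
    intro x
    rw [← end_sum_apply, ← AddMonoid.End.natCast_apply p x]
    congr 1
    show ∑ i : Fin p, ∑ j ∈ Finset.range p, (Z ^ (i : ℕ) * A) ^ j = _
    rw [Fin.sum_univ_eq_sum_range (fun i => ∑ j ∈ Finset.range p, (Z ^ i * A) ^ j) p, Finset.sum_comm,
      Finset.sum_eq_single 0]
    · simp
    · intro j hj hj0
      have hjp : ¬ p ∣ j := fun hd => hj0 (Nat.eq_zero_of_dvd_of_lt hd (Finset.mem_range.mp hj))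
      calc ∑ i ∈ Finset.range p, (Z ^ i * A) ^ j = (∑ i ∈ Finset.range p, (Z ^ j) ^ i) * A ^ j := by
            rw [Finset.sum_mul]
            exact Finset.sum_congr rfl fun i _ => by
              rw [(hZA.pow_left i).mul_pow, ← pow_mul, ← pow_mul, mul_comm]
        _ = 0 := by
            have h1 := mul_geom_sum (Z ^ j) p
            rw [← pow_mul Z j p, mul_comm j p, pow_mul, hZp, one_pow, sub_self, sub_mul, one_mul, sub_eq_zero] at h1
            refine AddMonoidHom.ext fun y => ?_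
            exact hZi j _ hjp (DFunLike.congr_fun h1 _)
    · intro h; simp [hp.out.pos] at h
  have hzero : ∀ i l : Fin p, i ≠ l → ∀ x ∈ Mb i, x ∈ Mb l → x = 0 := by
    have key : ∀ i l : Fin p, i < l → ∀ x ∈ Mb i, x ∈ Mb l → x = 0 := by
      intro i l hil x hi hl
      refine hZi ((l : ℕ) - i) x (fun hd => ?_) ?_
      · have := Nat.le_of_dvd (Nat.sub_pos_of_lt hil) hd
        have := l.2
        omega
      · have h1 : (Z ^ ((l : ℕ) - i)) ((Z ^ (i : ℕ) * A) x) = (Z ^ (l : ℕ) * A) x := by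
          show (Z ^ ((l : ℕ) - i) * (Z ^ (i : ℕ) * A)) x = _
          rw [← mul_assoc, ← pow_add, Nat.sub_add_cancel hil.le]
        rw [show (Z ^ (i : ℕ) * A) x = x from hi] at h1
        exact h1.trans hl
    intro i l hil x hi hl
    rcases lt_or_gt_of_ne hil with h | h
    · exact key i l h x hi hl
    · exact key l i h x hl hi
  have hEcomm : ∀ i l, Commute (E i) (E l) := fun i l =>
    ((Commute.pow_pow_self Z _ _).mul_right (hZA.pow_left _)).mul_left ((hZA.pow_left _).symm.mul_right (Commute.refl A))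
  have hNblock : ∀ i l, ∀ x ∈ Mb i, Nb l x = if i = l then p • x else 0 := by
    intro i l x hx
    by_cases h : i = l
    · rw [if_pos h, ← h]
      show (∑ j ∈ Finset.range p, (E i) ^ j) x = _
      rw [end_sum_apply]
      have : ∀ j : ℕ, ((E i) ^ j) x = x := by
        intro j
        induction j with
        | zero => rfl
        | succ j ihj =>
          rw [pow_succ]
          show ((E i) ^ j) (E i x) = x
          rw [show E i x = x from hx, ihj]
      rw [Finset.sum_congr rfl fun j _ => this j, Finset.sum_const, Finset.card_range]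
    · rw [if_neg h]
      refine hzero i l h _ ?_ (hNmem l x)
      show (E i * Nb l) x = Nb l x
      rw [(Commute.sum_right _ _ _ fun j _ => (hEcomm i l).pow_right j : Commute (E i) (Nb l)).eq]
      show Nb l (E i x) = _
      rw [show E i x = x from hx]
  -- coordinates
  let Φ : ((i : Fin p) → Mb i) →+ M :=
    { toFun := fun f => ∑ i, (f i : M)
      map_zero' := by simp
      map_add' := fun f f' => by simp [Finset.sum_add_distrib] }
  have hΦN : ∀ f l, Nb l (Φ f) = p • (f l : M) := by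
    intro f l
    show Nb l (∑ i, (f i : M)) = _
    rw [map_sum, Finset.sum_eq_single l]
    · rw [hNblock l l _ (f l).2, if_pos rfl]
    · intro i _ hil
      rw [hNblock i l _ (f i).2, if_neg hil]
    · intro h; exact absurd (Finset.mem_univ l) h
  have hΦi : Function.Injective Φ := by
    rw [injective_iff_map_eq_zero]
    intro f hf
    funext l
    have h1 := hΦN f l
    rw [hf, map_zero] at h1
    exact Subtype.ext (hpinv _ h1.symm)
  have hΦs : Function.Surjective Φ := fun x => by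
    obtain ⟨y, hy⟩ := hpsurj x
    exact ⟨fun i => ⟨Nb i y, hNmem i y⟩, (hpsum y).trans hy⟩
  -- how elements move the blocks
  have hmove : ∀ (h : H) (j : ℕ), h * a * h⁻¹ = ζ ^ j * a → ∀ (i : Fin p), ∀ x ∈ Mb i,
      ((h : (AddMonoid.End M)ˣ) : AddMonoid.End M) x ∈ Mb ⟨((i : ℕ) + j) % p, Nat.mod_lt _ hp.out.pos⟩ := by
    intro h j hj i x hx
    have h1 : ζ ^ (((i : ℕ) + j) % p) * a * h = h * (ζ ^ (i : ℕ) * a) := by
      rw [← pow_eq_pow_mod _ (hFe.2 ζ (hTF hζT)), pow_add, ← mul_assoc h,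
        ((show Commute h ζ from hζcen h).pow_right (i : ℕ)).eq, mul_assoc _ h a, mul_assoc (ζ ^ (i : ℕ)) (ζ ^ j) a,
        ← hj, mul_assoc (ζ ^ (i : ℕ)), inv_mul_cancel_right]
    have h2 := congrArg (fun z : H => ((z : (AddMonoid.End M)ˣ) : AddMonoid.End M) x) h1
    simp only [Subgroup.coe_mul, SubmonoidClass.coe_pow, Units.val_mul, Units.val_pow_eq_pow_val] at h2
    refine h2.trans ?_
    show ((h : (AddMonoid.End M)ˣ) : AddMonoid.End M) ((Z ^ (i : ℕ) * A) x) = _
    rw [show (Z ^ (i : ℕ) * A) x = x from hx]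
  let H₀ : Subgroup (AddMonoid.End M)ˣ := (Subgroup.centralizer ({a} : Set H)).map H.subtype
  have hH₀ : ∀ h : H, h * a * h⁻¹ = ζ ^ 0 * a → (h : (AddMonoid.End M)ˣ) ∈ H₀ := fun h hh =>
    ⟨h, Subgroup.mem_centralizer_singleton_iff.mpr (mul_inv_eq_iff_eq_mul.mp (by simpa using hh)), rfl⟩
  have hH₀inv : ∀ i, ∀ h ∈ H₀, ∀ x ∈ Mb i, (h : AddMonoid.End M) x ∈ Mb i := by
    rintro i _ ⟨h, hh, rfl⟩ x hx
    have h1 := hmove h 0 (by rw [pow_zero, one_mul, Subgroup.mem_centralizer_singleton_iff.mp hh,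
      mul_inv_cancel_right]) i x hx
    rwa [show (⟨((i : ℕ) + 0) % p, Nat.mod_lt _ hp.out.pos⟩ : Fin p) = i from
      Fin.ext (by simp [Nat.mod_eq_of_lt i.2])] at h1
  -- the other blocks have the same size
  have hadd : ∀ (j : ℕ), ¬ p ∣ j → ∀ i l : Fin p, ∃ t : ℕ, ((i : ℕ) + t * j) % p = l := by
    intro j hj i l
    obtain ⟨v, hv⟩ := Nat.exists_mul_mod_eq_one_of_coprime ((hp.out.coprime_iff_not_dvd.mpr hj).symm) hp.out.one_lt
    refine ⟨((l : ℕ) + p - i) * v, ?_⟩
    have h1 : (((l : ℕ) + p - i) * v * j) % p = ((l : ℕ) + p - i) % p := by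
      rw [mul_assoc, mul_comm v j, Nat.mul_mod, hv.2, mul_one, Nat.mod_mod]
    rw [Nat.add_mod, h1, ← Nat.add_mod, show (i : ℕ) + ((l : ℕ) + p - i) = l + p by omega,
      Nat.add_mod_right, Nat.mod_eq_of_lt l.2]
  have hcardMb : ∀ i l, Nat.card (Mb i) ≤ Nat.card (Mb l) := by
    intro i l
    have hz : h₀ * a * h₀⁻¹ = ζ ^ 1 * a := by rw [pow_one, hζ, inv_mul_cancel_right]
    obtain ⟨t, ht⟩ := hadd 1 (fun h => hp.out.one_lt.ne' (Nat.dvd_one.mp h)) i l
    have hpow : h₀ ^ t * a * (h₀ ^ t)⁻¹ = ζ ^ t * a := by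
      clear ht
      induction t with
      | zero => simp
      | succ t iht =>
        calc h₀ ^ (t + 1) * a * (h₀ ^ (t + 1))⁻¹ = h₀ * (h₀ ^ t * a * (h₀ ^ t)⁻¹) * h₀⁻¹ := by
              rw [pow_succ']; group
          _ = h₀ * ζ ^ t * h₀⁻¹ * (h₀ * a * h₀⁻¹) := by rw [iht]; group
          _ = ζ ^ t * (h₀ * a * h₀⁻¹) := by
              rw [((show Commute h₀ ζ from hζcen h₀).pow_right t).eq, mul_inv_cancel_right]
          _ = ζ ^ (t + 1) * a := by rw [hz, pow_one, ← mul_assoc, ← pow_succ]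
    refine Nat.card_le_card_of_injective (fun x : Mb i => (⟨_, hmove (h₀ ^ t) t hpow i x x.2⟩ : Mb _)) ?_
      |>.trans_eq (by rw [show (⟨((i : ℕ) + t) % p, Nat.mod_lt _ hp.out.pos⟩ : Fin p) = l from
        Fin.ext (by simpa using ht)])
    intro x y hxy
    exact Subtype.ext (units_apply_injective _ (congrArg Subtype.val hxy))
  have i₀ : Fin p := ⟨0, hp.out.pos⟩
  have hMb1 : 1 < Nat.card (Mb i₀) := by
    by_contra hle
    push Not at hle
    obtain ⟨x, hx⟩ := exists_ne (0 : M)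
    obtain ⟨f, hf⟩ := hΦs x
    apply hx
    rw [← hf]
    show ∑ i, (f i : M) = 0
    refine Finset.sum_eq_zero fun i _ => ?_
    have : Subsingleton (Mb i) := Finite.card_le_one_iff_subsingleton.mp ((hcardMb i i₀).trans hle)
    rw [Subsingleton.elim (f i) 0]
    rfl
  have hMbp : p + 1 ≤ Nat.card (Mb i₀) := by
    have hζmem : ∀ i, ∀ x ∈ Mb i, Z x ∈ Mb i := by
      intro i x hx
      show (E i * Z) x = Z x
      rw [show E i * Z = Z * E i from ((Commute.pow_self Z _).mul_left hZA.symm).eq]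
      show Z (E i x) = _
      rw [show E i x = x from hx]
    let σ : Equiv.Perm (Mb i₀) :=
      Equiv.ofBijective (fun x => ⟨Z x, hζmem i₀ x x.2⟩) ((Finite.injective_iff_bijective).mp fun x y h => by
        refine Subtype.ext (sub_eq_zero.mp (hpinv _ ?_))
        have h1 : Z ((x : M) - y) = 0 := by
          rw [map_sub, sub_eq_zero]; exact congrArg Subtype.val h
        have h2 : (Z ^ p) ((x : M) - y) = 0 := by
          rw [show p = p - 1 + 1 from (Nat.sub_add_cancel hp.out.one_le).symm, pow_succ]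
          show (Z ^ (p - 1)) (Z _) = 0
          rw [h1, map_zero]
        rw [hZp] at h2
        rw [show (x : M) - y = 0 from h2, nsmul_zero])
    classical
    have := Fintype.ofFinite (Mb i₀)
    have hσp : σ ^ (p ^ 1) = 1 := by
      refine Equiv.ext fun x => Subtype.ext ?_
      have h1 : ∀ n : ℕ, (((σ ^ n) x : Mb i₀) : M) = (Z ^ n) x := by
        intro n
        induction n with
        | zero => rfl
        | succ n ihn =>
          rw [pow_succ', Equiv.Perm.mul_apply, pow_succ']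
          show Z ((σ ^ n) x : Mb i₀) = Z ((Z ^ n) x)
          rw [ihn]
      rw [h1, pow_one, hZp]
      rfl
    have h2 := Equiv.Perm.card_compl_support_modEq hσp
    have h3 : σ.supportᶜ = {0} := by
      ext x
      rw [Finset.mem_compl, Equiv.Perm.notMem_support, Finset.mem_singleton]
      refine ⟨fun h => Subtype.ext ?_, fun h => by subst h; exact Subtype.ext (map_zero Z)⟩
      have h4 : (x : M) ∈ fixedBy Z := congrArg Subtype.val h
      rwa [hζfree, AddSubgroup.mem_bot] at h4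
    rw [h3, Finset.card_singleton, ← Nat.card_eq_fintype_card] at h2
    by_contra hlt
    have h5 := (Nat.modEq_iff_dvd' hMb1.le).mp h2
    have := Nat.le_of_dvd (by omega) h5
    omega
  -- small elements stabilize the blocks
  have hcardM : Nat.card M = ∏ i, Nat.card (Mb i) := by
    rw [← Nat.card_congr (Equiv.ofBijective Φ ⟨hΦi, hΦs⟩), Nat.card_pi]
  have hsmall : ∀ b, IsSmall p H b → b ∈ H₀ := by
    rintro _ ⟨n, τ, hτ, hτn, rfl, hidx⟩
    obtain ⟨j, hjp, hj⟩ := hrel ⟨τ, hτ⟩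
    have hpow : ∀ t : ℕ, (⟨τ, hτ⟩ : H) ^ t * a * ((⟨τ, hτ⟩ : H) ^ t)⁻¹ = ζ ^ (t * j) * a := by
      intro t
      induction t with
      | zero => simp
      | succ t iht =>
        calc (⟨τ, hτ⟩ : H) ^ (t + 1) * a * ((⟨τ, hτ⟩ : H) ^ (t + 1))⁻¹
            = (⟨τ, hτ⟩ : H) * ((⟨τ, hτ⟩ : H) ^ t * a * ((⟨τ, hτ⟩ : H) ^ t)⁻¹) * (⟨τ, hτ⟩ : H)⁻¹ := by
              rw [pow_succ']; group
          _ = (⟨τ, hτ⟩ : H) * ζ ^ (t * j) * (⟨τ, hτ⟩ : H)⁻¹ * ((⟨τ, hτ⟩ : H) * a * (⟨τ, hτ⟩ : H)⁻¹) := by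
              rw [iht]; group
          _ = ζ ^ (t * j) * ((⟨τ, hτ⟩ : H) * a * (⟨τ, hτ⟩ : H)⁻¹) := by
              rw [((show Commute (⟨τ, hτ⟩ : H) ζ from hζcen _).pow_right _).eq, mul_inv_cancel_right]
          _ = ζ ^ ((t + 1) * j) * a := by rw [hj, ← mul_assoc, ← pow_add, add_mul, one_mul]
    by_cases hd : p ∣ p ^ n * j
    · obtain ⟨c, hc⟩ := hd
      refine hH₀ ((⟨τ, hτ⟩ : H) ^ p ^ n) ?_
      rw [hpow, hc, pow_mul, hFe.2 ζ (hTF hζT), one_pow, pow_zero]
    exfalso
    have hn : n = 0 := by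
      by_contra h
      exact hd (Dvd.dvd.mul_right (dvd_pow_self p h) j)
    subst hn
    rw [pow_zero, one_mul] at hd
    rw [pow_zero, pow_one] at hidx
    rw [zero_add, pow_one] at hidx
    -- fixed points embed in a block
    set T' : AddMonoid.End M := (τ : AddMonoid.End M) with hT'
    have hfix : Nat.card (fixedBy T') ≤ Nat.card (Mb i₀) := by
      refine Nat.card_le_card_of_injective (fun x => (⟨Nb i₀ x, hNmem i₀ x⟩ : Mb i₀)) ?_
      intro x y hxy
      have hstep : ∀ v ∈ fixedBy T', ∀ i : Fin p,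
          T' (Nb i v) = Nb ⟨((i : ℕ) + j) % p, Nat.mod_lt _ hp.out.pos⟩ v := by
        intro v hv
        obtain ⟨f, rfl⟩ := hΦs v
        intro i
        rw [hΦN, map_nsmul, hΦN]
        congr 1
        let sh : Fin p → Fin p := fun i => ⟨((i : ℕ) + j) % p, Nat.mod_lt _ hp.out.pos⟩
        have hshi : Function.Injective sh := fun u w h => by
          have h' := congrArg Fin.val h
          have h'' : (u : ℕ) % p = (w : ℕ) % p := Nat.ModEq.add_right_cancel' j h'
          rw [Nat.mod_eq_of_lt u.2, Nat.mod_eq_of_lt w.2] at h''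
          exact Fin.ext h''
        let e := Equiv.ofBijective sh (Finite.injective_iff_bijective.mp hshi)
        let f' : (i : Fin p) → Mb i := fun l => ⟨T' (f (e.symm l)), by
          have h1 := hmove ⟨τ, hτ⟩ j hj (e.symm l) _ (f (e.symm l)).2
          rwa [show (⟨((e.symm l : ℕ) + j) % p, Nat.mod_lt _ hp.out.pos⟩ : Fin p) = l from e.apply_symm_apply l] at h1⟩
        have h2 : Φ f' = Φ f := by
          show ∑ l, T' (f (e.symm l)) = Φ f
          rw [Equiv.sum_comp e.symm (fun l => T' (f l)), ← map_sum]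
          exact hv
        have h3 := congrArg Subtype.val (congrFun (hΦi h2) (sh i))
        simp only [f'] at h3
        rw [show e.symm (sh i) = i from e.symm_apply_apply i] at h3
        exact h3
      refine Subtype.ext (sub_eq_zero.mp (hpinv _ ?_))
      rw [← hpsum]
      refine Finset.sum_eq_zero fun l _ => ?_
      obtain ⟨t, ht⟩ := hadd j hd i₀ l
      rw [show l = ⟨((i₀ : ℕ) + t * j) % p, Nat.mod_lt _ hp.out.pos⟩ from Fin.ext ht.symm]
      clear ht
      induction t with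
      | zero =>
        rw [map_sub, sub_eq_zero, show (⟨((i₀ : ℕ) + 0 * j) % p, Nat.mod_lt _ hp.out.pos⟩ : Fin p) = i₀ from
          Fin.ext (by simp [Nat.mod_eq_of_lt i₀.2])]
        exact congrArg Subtype.val hxy
      | succ t iht =>
        have h4 := hstep _ (sub_mem x.2 y.2) ⟨((i₀ : ℕ) + t * j) % p, Nat.mod_lt _ hp.out.pos⟩
        rw [iht, map_zero] at h4
        rw [show (⟨((i₀ : ℕ) + (t + 1) * j) % p, Nat.mod_lt _ hp.out.pos⟩ : Fin p) =
          ⟨(((⟨((i₀ : ℕ) + t * j) % p, Nat.mod_lt _ hp.out.pos⟩ : Fin p) : ℕ) + j) % p, Nat.mod_lt _ hp.out.pos⟩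
          from Fin.ext (by simp [add_mul, ← add_assoc])]
        exact h4.symm
    have h1 := AddSubgroup.card_mul_index (fixedBy T')
    have h2 : Nat.card (Mb i₀) ^ p ≤ Nat.card M := by
      rw [hcardM]
      calc Nat.card (Mb i₀) ^ p = ∏ _i : Fin p, Nat.card (Mb i₀) := by simp
        _ ≤ _ := Finset.prod_le_prod' fun i _ => hcardMb i₀ i
    have h3 : Nat.card (Mb i₀) ^ p ≤ Nat.card (Mb i₀) * (p - 1) ^ 2 := by
      refine h2.trans ?_
      rw [← h1]
      exact Nat.mul_le_mul hfix hidx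
    have h3' : 3 ≤ p := by have := hp.out.two_le; omega
    have h4 : Nat.card (Mb i₀) * Nat.card (Mb i₀) ^ 2 ≤ Nat.card (Mb i₀) * (p - 1) ^ 2 := by
      refine le_trans ?_ h3
      rw [← pow_succ']
      exact Nat.pow_le_pow_right (by omega) h3'
    have h5 := Nat.le_of_mul_le_mul_left h4 (by omega)
    have h6 : Nat.card (Mb i₀) ≤ p - 1 := le_of_pow_le_pow_left₀ two_ne_zero (Nat.zero_le _) h5
    omega
  have hgH₀ := hsmall g hg
  have hg'H₀ := hsmall g' hg'
  -- small on every block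
  have hblock : ∀ i b (hb : IsSmall p H b) (hb₀ : b ∈ H₀),
      IsSmall p (restrictHom H₀ (Mb i) (hH₀inv i)).range (restrictHom H₀ (Mb i) (hH₀inv i) ⟨b, hb₀⟩) := by
    rintro i _ ⟨n, τ, hτ, hτn, rfl, hidx⟩ hb₀
    set G' : AddMonoid.End M := ((τ ^ p ^ n : (AddMonoid.End M)ˣ) : AddMonoid.End M) with hG'
    obtain ⟨j, hjp, hj⟩ := hrel ⟨τ, hτ⟩
    by_cases hj0 : j = 0
    · subst hj0
      refine ⟨n, restrictHom H₀ (Mb i) (hH₀inv i) ⟨τ, hH₀ ⟨τ, hτ⟩ hj⟩, ⟨_, rfl⟩, ?_, ?_, ?_⟩
      · rw [← map_pow, ← map_one (restrictHom H₀ (Mb i) (hH₀inv i))]; exact congrArg _ (Subtype.ext hτn)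
      · rw [← map_pow]; rfl
      · rw [index_fixedBy_restrict]
        exact le_trans (Nat.le_of_dvd (Nat.pos_of_ne_zero AddSubgroup.index_ne_zero_of_finite)
          (AddSubgroup.relIndex_dvd_index_of_normal _ _)) hidx
    have hjd : ¬ p ∣ j := fun h => hj0 (Nat.eq_zero_of_dvd_of_lt h hjp)
    -- `τ ^ p` stabilizes the blocks
    obtain ⟨m, rfl⟩ : ∃ m, n = m + 1 := by
      refine Nat.exists_eq_succ_of_ne_zero fun e => hj0 ?_
      subst e
      obtain ⟨h, hh, hhv⟩ := hb₀
      have : h = ⟨τ, hτ⟩ := Subtype.ext (by rw [pow_zero, pow_one] at hhv; exact hhv)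
      subst this
      by_contra hne
      apply hne
      have h1 : ζ ^ j * a = a := by
        rw [← hj, Subgroup.mem_centralizer_singleton_iff.mp hh, mul_inv_cancel_right]
      have h2 := orderOf_dvd_of_pow_eq_one (mul_eq_right.mp h1)
      rw [orderOf_eq_prime (hFe.2 ζ (hTF hζT)) hζ1] at h2
      exact Nat.eq_zero_of_dvd_of_lt h2 hjp
    have hτp : τ ^ p ∈ H₀ := by
      refine hH₀ ((⟨τ, hτ⟩ : H) ^ p) ?_
      have hpow : ∀ t : ℕ, (⟨τ, hτ⟩ : H) ^ t * a * ((⟨τ, hτ⟩ : H) ^ t)⁻¹ = ζ ^ (t * j) * a := by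
        intro t
        induction t with
        | zero => simp
        | succ t iht =>
          calc (⟨τ, hτ⟩ : H) ^ (t + 1) * a * ((⟨τ, hτ⟩ : H) ^ (t + 1))⁻¹
              = (⟨τ, hτ⟩ : H) * ((⟨τ, hτ⟩ : H) ^ t * a * ((⟨τ, hτ⟩ : H) ^ t)⁻¹) * (⟨τ, hτ⟩ : H)⁻¹ := by
                rw [pow_succ']; group
            _ = (⟨τ, hτ⟩ : H) * ζ ^ (t * j) * (⟨τ, hτ⟩ : H)⁻¹ * ((⟨τ, hτ⟩ : H) * a * (⟨τ, hτ⟩ : H)⁻¹) := by
                rw [iht]; group
            _ = ζ ^ (t * j) * ((⟨τ, hτ⟩ : H) * a * (⟨τ, hτ⟩ : H)⁻¹) := by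
                rw [((show Commute (⟨τ, hτ⟩ : H) ζ from hζcen _).pow_right _).eq, mul_inv_cancel_right]
            _ = ζ ^ ((t + 1) * j) * a := by rw [hj, ← mul_assoc, ← pow_add, add_mul, one_mul]
      rw [hpow, pow_mul, hFe.2 ζ (hTF hζT), one_pow, pow_zero]
    refine ⟨m, restrictHom H₀ (Mb i) (hH₀inv i) ⟨τ ^ p, hτp⟩, ⟨_, rfl⟩, ?_, ?_, ?_⟩
    · rw [← map_pow, ← map_one (restrictHom H₀ (Mb i) (hH₀inv i))]
      refine congrArg _ (Subtype.ext ?_)
      show (τ ^ p) ^ p ^ (m + 1) = 1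
      rw [← pow_mul, ← pow_succ', hτn]
    · rw [← map_pow]
      refine congrArg _ (Subtype.ext ?_)
      show τ ^ p ^ (m + 1) = (τ ^ p) ^ p ^ m
      rw [← pow_mul, ← pow_succ']
    rw [index_fixedBy_restrict]
    -- all the blocks are moved equally
    set I : Fin p → ℕ := fun l => (fixedBy G').relIndex (Mb l) with hI
    have hIpos : ∀ l, 0 < I l := fun l => Nat.pos_of_ne_zero fun h => by
      exact AddSubgroup.index_ne_zero_of_finite (H := fixedBy G')
        (Nat.eq_zero_of_zero_dvd (h ▸ AddSubgroup.relIndex_dvd_index_of_normal (fixedBy G') (Mb l)))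
    have hprod : ∏ l, I l = (fixedBy G').index := by
      have hC : ∀ f : (l : Fin p) → Mb l, Φ f ∈ fixedBy G' ↔ ∀ l, (f l : M) ∈ fixedBy G' := by
        intro f
        refine ⟨fun h l => ?_, fun h => (AddSubgroup.sum_mem _ fun l _ => h l : ∑ l, (f l : M) ∈ fixedBy G')⟩
        let f' : (l : Fin p) → Mb l := fun l => ⟨G' (f l), hH₀inv l _ hb₀ _ (f l).2⟩
        have h1 : Φ f' = Φ f := by
          show ∑ l, G' (f l) = Φ f
          rw [← map_sum]
          exact h
        exact congrArg Subtype.val (congrFun (hΦi h1) l)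
      have h1 : Nat.card (fixedBy G') = ∏ l, Nat.card ((fixedBy G').addSubgroupOf (Mb l)) := by
        rw [← Nat.card_pi]
        refine (Nat.card_congr (Equiv.ofBijective (fun f : (l : Fin p) → (fixedBy G').addSubgroupOf (Mb l) =>
          (⟨Φ fun l => (f l : Mb l), (hC _).mpr fun l => (f l).2⟩ : fixedBy G')) ⟨?_, ?_⟩)).symm
        · intro f f' h
          funext l
          exact Subtype.ext (congrFun (hΦi (congrArg Subtype.val h)) l)
        · rintro ⟨x, hx⟩
          obtain ⟨f, rfl⟩ := hΦs x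
          exact ⟨fun l => ⟨f l, (hC f).mp hx l⟩, rfl⟩
      have h2 := AddSubgroup.card_mul_index (fixedBy G')
      have h3 : Nat.card M = (∏ l, Nat.card ((fixedBy G').addSubgroupOf (Mb l))) * ∏ l, I l := by
        rw [hcardM, ← Finset.prod_mul_distrib]
        exact Finset.prod_congr rfl fun l _ =>
          (AddSubgroup.card_mul_index ((fixedBy G').addSubgroupOf (Mb l))).symm
      rw [h1, h3] at h2
      exact (Nat.eq_of_mul_eq_mul_left (Finset.prod_pos fun l _ => Nat.card_pos) h2).symm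
    have hIle : ∀ l : Fin p, I l ≤ I ⟨((l : ℕ) + j) % p, Nat.mod_lt _ hp.out.pos⟩ := by
      intro l
      let T₁ : Mb l →+ Mb ⟨((l : ℕ) + j) % p, Nat.mod_lt _ hp.out.pos⟩ :=
        { toFun := fun x => ⟨(τ : AddMonoid.End M) x, hmove ⟨τ, hτ⟩ j hj l x x.2⟩
          map_zero' := Subtype.ext (map_zero (τ : AddMonoid.End M))
          map_add' := fun x y => Subtype.ext (map_add (τ : AddMonoid.End M) _ _) }
      have hcG : G' * (τ : AddMonoid.End M) = (τ : AddMonoid.End M) * G' := by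
        rw [hG', ← Units.val_mul, ← Units.val_mul, (Commute.pow_self τ _).eq]
      have hinj : ∀ u w : M, (τ : AddMonoid.End M) u = (τ : AddMonoid.End M) w → u = w := fun u w h => units_apply_injective τ h
      have h1 : (fixedBy G').addSubgroupOf (Mb l) =
          ((fixedBy G').addSubgroupOf (Mb ⟨((l : ℕ) + j) % p, Nat.mod_lt _ hp.out.pos⟩)).comap T₁ := by
        ext x
        constructor
        · intro hx
          show (G' * (τ : AddMonoid.End M)) (x : M) = _
          rw [hcG]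
          exact congrArg (τ : AddMonoid.End M) hx
        · intro hx
          refine hinj _ _ ?_
          have hx' : (G' * (τ : AddMonoid.End M)) (x : M) = (τ : AddMonoid.End M) x := hx
          rw [hcG] at hx'
          exact hx'
      show ((fixedBy G').addSubgroupOf (Mb l)).index ≤ _
      rw [h1, AddSubgroup.index_comap]
      exact Nat.le_of_dvd (hIpos _) (AddSubgroup.relIndex_dvd_index_of_normal _ _)
    have hIall : ∀ l, I i ≤ I l := by
      intro l
      obtain ⟨t, ht⟩ := hadd j hjd i l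
      rw [show l = ⟨((i : ℕ) + t * j) % p, Nat.mod_lt _ hp.out.pos⟩ from Fin.ext ht.symm]
      clear ht
      induction t with
      | zero => exact (congrArg I (Fin.ext (by simp [Nat.mod_eq_of_lt i.2]))).le
      | succ t iht =>
        refine iht.trans ((hIle _).trans (congrArg I (Fin.ext ?_)).le)
        simp [add_mul, ← add_assoc]
    by_contra hlt
    push Not at hlt
    have hb3 : 3 ≤ p ^ (m + 1) := by
      refine le_trans ?_ (Nat.le_self_pow (by omega) p)
      have := hp.out.two_le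
      omega
    have h4 : I i ^ p ≤ (p ^ (m + 1 + 1) - 1) ^ 2 := by
      refine le_trans ?_ hidx
      rw [← hprod]
      calc I i ^ p = ∏ _l : Fin p, I i := by simp
        _ ≤ _ := Finset.prod_le_prod' fun l _ => hIall l
    have h5 : p ^ (m + 1 + 1) - 1 ≤ (p ^ (m + 1) - 1) ^ p := by
      have h3p : 3 ≤ p := by have := hp.out.two_le; omega
      refine le_trans ?_ (Nat.pow_le_pow_right (by omega) h3p)
      have hle : p ≤ p ^ (m + 1) := Nat.le_self_pow (by omega) p
      have hsucc : p ^ (m + 1 + 1) = p ^ (m + 1) * p := pow_succ p (m + 1)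
      have key : ∀ b q : ℕ, 3 ≤ b → q ≤ b → b * q - 1 ≤ (b - 1) ^ 3 := by
        intro b q hb hq
        obtain ⟨c, rfl⟩ := Nat.exists_eq_add_of_le hb
        rw [show 3 + c - 1 = c + 2 by omega]
        have h6 : (3 + c) * q ≤ (3 + c) * (3 + c) := Nat.mul_le_mul_left _ hq
        have h8 : (3 + c) * (3 + c) ≤ (c + 2) ^ 3 + 1 := le_iff_exists_add.mpr
          ⟨c * c * c + 5 * c * c + 6 * c, by ring⟩
        omega
      rw [hsucc]
      exact key _ _ hb3 hle
    have h9 : ((p ^ (m + 1) - 1) ^ 2) ^ p < I i ^ p := Nat.pow_lt_pow_left hlt hp.out.ne_zero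
    have h10 : (p ^ (m + 1 + 1) - 1) ^ 2 ≤ ((p ^ (m + 1) - 1) ^ 2) ^ p := by
      rw [← pow_mul, mul_comm, pow_mul]
      exact Nat.pow_le_pow_left h5 2
    omega
  refine Units.ext (AddMonoidHom.ext fun x => ?_)
  obtain ⟨f, rfl⟩ := hΦs x
  show (g : AddMonoid.End M) ((g' : AddMonoid.End M) (∑ i, (f i : M))) =
    (g' : AddMonoid.End M) ((g : AddMonoid.End M) (∑ i, (f i : M)))
  simp only [map_sum]
  refine Finset.sum_congr rfl fun i _ => ?_
  refine hrec H₀ (Subgroup.map_subtype_le _) (Mb i) (hH₀inv i) ?_ g g' hgH₀ hg'H₀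
    (hblock i g hg hgH₀) (hblock i g' hg' hg'H₀) _ (f i).2
  intro e
  obtain ⟨l, hl⟩ : ∃ l : Fin p, l ≠ i := ⟨if (i : ℕ) = 0 then ⟨1, hp.out.one_lt⟩ else ⟨0, hp.out.pos⟩, by
    split
    · exact fun h => by have := congrArg Fin.val h; simp at this; omega
    · exact fun h => by have := congrArg Fin.val h; simp at this; omega⟩
  have : Subsingleton (Mb l) := ⟨fun u w => Subtype.ext (by
    rw [hzero l i hl _ u.2 (e.ge trivial), hzero l i hl _ w.2 (e.ge trivial)])⟩
  have := (hcardMb i₀ l).trans (Finite.card_le_one_iff_subsingleton.mpr this)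
  omega

end CfsgLib.HallHigman
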