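import Cfsg.Agent.Lib.HallHigman.Ramified
import Cfsg.Agent.Lib.HallHigman.SmallElements

/-!
# Elements of bounded degree have small support on `R ⧸ T`, for `T` the radical of a central character
-/

namespace CfsgLib.HallHigman

open Module (End)
open scoped commutatorElement

variable {K : Type*} [Field K] [IsAlgClosed K] {p : ℕ} [hp : Fact p.Prime] [CharP K p]
  {V : Type*} [AddCommGroup V] [Module K V] [FiniteDimensional K V] {X : Type*} [Group X] [Finite X]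

omit hp [CharP K p] [Finite X] in
/-- A central character of `R` that is nontrivial on a given nontrivial commutator, with its radical. -/
theorem exists_central_character_of_ne {p : ℕ} [Fact p.Prime] [CharP K p] (γ : X →* End K V)
    (hγ : Function.Injective γ) {q : ℕ} [Fact q.Prime] (hqp : q ≠ p) (R : Subgroup X) (hR : IsPGroup q R)
    (hcl : ∀ g ∈ R, ∀ h ∈ R, ⁅g, h⁆ ∈ R ⊓ Subgroup.centralizer (R : Set X)) {g₁ g₂ : X} (hg₁ : g₁ ∈ R)
    (hg₂ : g₂ ∈ R) (hg12 : g₁ * g₂ ≠ g₂ * g₁) :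
    ∃ (χ : X → K) (T : Subgroup X), R ⊓ Subgroup.centralizer (R : Set X) ≤ T ∧ T < R ∧
      (∀ g ∈ R, (g ∈ T ↔ ∀ h ∈ R, χ ⁅g, h⁆ = 1)) ∧
      charSpace γ (R ⊓ Subgroup.centralizer (R : Set X)) χ ≠ ⊥ ∧ χ ⁅g₁, g₂⁆ ≠ 1 := by
  classical
  set Z := R ⊓ Subgroup.centralizer (R : Set X) with hZ
  set c := ⁅g₁, g₂⁆ with hc
  have hc1 : c ≠ 1 := fun h => hg12 (commutatorElement_eq_one_iff_mul_comm.mp h)
  have hcZ : c ∈ Z := hcl g₁ hg₁ g₂ hg₂
  have hγmul : ∀ a b v, γ (a * b) v = γ a (γ b v) := fun a b v => by rw [map_mul]; rfl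
  have hss : ∀ v, (γ c - 1) ((γ c - 1) v) = 0 → (γ c - 1) v = 0 := by
    intro v hv
    have h1 : ∀ n : ℕ, (γ c ^ n) v = v + n • (γ c - 1) v := by
      intro n
      induction n with
      | zero => simp
      | succ n ih =>
        rw [pow_succ', Module.End.mul_apply, ih, map_add, map_nsmul]
        have h2 : γ c ((γ c - 1) v) = (γ c - 1) v := by
          rw [LinearMap.sub_apply (γ c) 1 ((γ c - 1) v), Module.End.one_apply, sub_eq_zero] at hv
          exact hv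
        have h3 : γ c v = v + (γ c - 1) v := by simp
        rw [h2, h3, succ_nsmul]; abel
    obtain ⟨j, hj⟩ := hR ⟨c, hcZ.1⟩
    have h4 := h1 (q ^ j)
    rw [← map_pow, show c ^ q ^ j = 1 from congrArg Subtype.val hj, map_one, Module.End.one_apply,
      left_eq_add, ← Nat.cast_smul_eq_nsmul K, smul_eq_zero] at h4
    refine h4.resolve_left fun h5 => ?_
    rw [CharP.cast_eq_zero_iff K p] at h5
    exact hqp ((Nat.prime_dvd_prime_iff_eq Fact.out Fact.out).mp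
      ((Fact.out : p.Prime).dvd_of_dvd_pow h5)).symm
  obtain ⟨U, hUmem, hUmin⟩ := exists_minimal_of_wellFoundedLT
    (fun W : Submodule K V => W ≠ ⊥ ∧ W ≤ LinearMap.range (γ c - 1) ∧ ∀ g ∈ R, ∀ w ∈ W, γ g w ∈ W)
    ⟨_, fun h => hc1 (hγ (by rw [map_one]; exact sub_eq_zero.mp (LinearMap.range_eq_bot.mp h))), le_rfl,
      fun g hg w hw => by
        obtain ⟨v, rfl⟩ := hw
        refine ⟨γ g v, ?_⟩
        simp only [LinearMap.sub_apply, Module.End.one_apply, map_sub, ← hγmul, hcZ.2 g hg]⟩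
  obtain ⟨hU0, hUR, hUinv⟩ := hUmem
  have : Nontrivial U := Submodule.nontrivial_iff_ne_bot.mpr hU0
  obtain ⟨u₀, hu₀⟩ := exists_ne (0 : U)
  have hu₀' : (u₀ : V) ≠ 0 := fun h => hu₀ (Subtype.ext h)
  let ρU : R →* End K U :=
    { toFun := fun g => (γ g).restrict (hUinv g g.2)
      map_one' := LinearMap.ext fun w => Subtype.ext (by show γ (1 : X) w = w; rw [map_one]; rfl)
      map_mul' := fun a b => LinearMap.ext fun w => Subtype.ext (hγmul a b w) }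
  have hirr : IsIrred ρU := by
    intro W hW
    by_cases h : W = ⊥
    · exact Or.inl h
    refine Or.inr ?_
    have hle : W.map U.subtype ≤ U := Submodule.map_subtype_le U W
    have h1 := hUmin (y := W.map U.subtype) ⟨?_, hle.trans hUR, ?_⟩ hle
    · refine Submodule.map_injective_of_injective U.injective_subtype ?_
      rw [Submodule.map_top, Submodule.range_subtype]
      exact le_antisymm hle h1
    · intro e
      exact h (Submodule.map_injective_of_injective U.injective_subtype (by rw [e, Submodule.map_bot]))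
    · rintro g hg _ ⟨w, hw, rfl⟩
      exact ⟨ρU ⟨g, hg⟩ w, hW ⟨g, hg⟩ w hw, rfl⟩
  have hscal : ∀ z ∈ Z, ∃ a : K, ∀ w ∈ U, γ z w = a • w := by
    intro z hz
    obtain ⟨a, ha⟩ := exists_eq_smul_one hirr (ρU ⟨z, hz.1⟩) fun g => by
      rw [← map_mul, ← map_mul]; exact congrArg ρU (Subtype.ext (hz.2 g g.2).symm)
    exact ⟨a, fun w hw => congrArg Subtype.val (LinearMap.congr_fun ha ⟨w, hw⟩)⟩
  choose! χ hχ using hscal
  have hχc : χ c ≠ 1 := by
    intro h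
    apply hu₀'
    obtain ⟨v, hv⟩ := hUR u₀.2
    rw [← hv]
    refine hss v ?_
    rw [hv, LinearMap.sub_apply, hχ c hcZ u₀ u₀.2, h, one_smul, Module.End.one_apply, sub_self]
  have hχne : ∀ g ∈ R, ∀ h ∈ R, (∀ w ∈ U, γ g (γ h w) = γ h (γ g w)) ↔ χ ⁅g, h⁆ = 1 := by
    intro g hg h hh
    have e : ∀ w ∈ U, γ g (γ h w) = χ ⁅g, h⁆ • γ h (γ g w) := fun w hw => by
      rw [← hχ _ (hcl g hg h hh) _ (hUinv h hh _ (hUinv g hg w hw)), ← hγmul, ← hγmul, ← hγmul]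
      simp [commutatorElement_def, mul_assoc]
    refine ⟨fun h1 => ?_, fun h1 w hw => by rw [e w hw, h1, one_smul]⟩
    by_contra hne
    have h2 := e _ u₀.2
    rw [h1 _ u₀.2] at h2
    have h3 : (χ ⁅g, h⁆ - 1) • γ h (γ g u₀) = 0 := by rw [sub_smul, ← h2, one_smul, sub_self]
    have h4 := (smul_eq_zero.mp h3).resolve_left (sub_ne_zero.mpr hne)
    apply hu₀'
    have h5 := congrArg (γ (h * g)⁻¹) h4
    rwa [← hγmul h g, ← hγmul, inv_mul_cancel, map_one, Module.End.one_apply, map_zero] at h5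
  let T : Subgroup X :=
    { carrier := {g | g ∈ R ∧ ∀ h ∈ R, ∀ w ∈ U, γ g (γ h w) = γ h (γ g w)}
      one_mem' := ⟨R.one_mem, fun h hh w hw => by rw [map_one]; rfl⟩
      mul_mem' := fun {a b} ha hb => ⟨R.mul_mem ha.1 hb.1, fun h hh w hw => by
        rw [hγmul, hγmul, hb.2 h hh w hw, ha.2 h hh _ (hUinv b hb.1 w hw)]⟩
      inv_mem' := fun {a} ha => ⟨R.inv_mem ha.1, fun h hh w hw => by
        have hu : γ a⁻¹ w ∈ U := hUinv _ (R.inv_mem ha.1) w hw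
        have h1 := congrArg (γ a⁻¹) (ha.2 h hh _ hu)
        rw [← hγmul a⁻¹ a, inv_mul_cancel, map_one, Module.End.one_apply, ← hγmul a a⁻¹, mul_inv_cancel,
          map_one, Module.End.one_apply] at h1
        exact h1.symm⟩ }
  refine ⟨χ, T, fun z hz => ⟨hz.1, fun h hh w hw => ?_⟩, ?_,
    fun g hg => ⟨fun h h' hh' => (hχne g hg h' hh').mp (h.2 h' hh'),
      fun h => ⟨hg, fun h' hh' => (hχne g hg h' hh').mpr (h h' hh')⟩⟩, ?_, hχc⟩
  · rw [← hγmul, ← hγmul, hz.2 h hh]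
  · exact lt_of_le_of_ne (fun g hg => hg.1) fun h => hχc ((hχne g₁ hg₁ g₂ hg₂).mp ((h.ge hg₁).2 g₂ hg₂))
  · intro h
    apply hu₀'
    have h1 : (u₀ : V) ∈ charSpace γ Z χ := fun z hz => hχ z hz _ u₀.2
    rwa [h, Submodule.mem_bot] at h1

omit hp [CharP K p] [Finite X] in
/-- A central character of `R` that is nontrivial on a commutator, with its radical. -/
theorem exists_central_character {p : ℕ} [Fact p.Prime] [CharP K p] (γ : X →* End K V)
    (hγ : Function.Injective γ) {q : ℕ} [Fact q.Prime] (hqp : q ≠ p) (R : Subgroup X) (hR : IsPGroup q R)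
    (hcl : ∀ g ∈ R, ∀ h ∈ R, ⁅g, h⁆ ∈ R ⊓ Subgroup.centralizer (R : Set X))
    (hna : ¬ ∀ a ∈ R, ∀ b ∈ R, a * b = b * a) :
    ∃ (χ : X → K) (T : Subgroup X), R ⊓ Subgroup.centralizer (R : Set X) ≤ T ∧ T < R ∧
      (∀ g ∈ R, (g ∈ T ↔ ∀ h ∈ R, χ ⁅g, h⁆ = 1)) ∧
      charSpace γ (R ⊓ Subgroup.centralizer (R : Set X)) χ ≠ ⊥ := by
  push Not at hna
  obtain ⟨g₁, hg₁, g₂, hg₂, hg12⟩ := hna
  obtain ⟨χ, T, h1, h2, h3, h4, -⟩ :=
    exists_central_character_of_ne γ hγ hqp R hR hcl hg₁ hg₂ hg12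
  exact ⟨χ, T, h1, h2, h3, h4⟩

variable (γ : X →* End K V)

omit [IsAlgClosed K] [FiniteDimensional K V] [Finite X] hp [CharP K p] in
theorem mem_radical_conj {R T : Subgroup X} {χ : X → K}
    (hcl : ∀ g ∈ R, ∀ h ∈ R, ⁅g, h⁆ ∈ R ⊓ Subgroup.centralizer (R : Set X))
    (hT : T ≤ R) (hTiff : ∀ g ∈ R, (g ∈ T ↔ ∀ h ∈ R, χ ⁅g, h⁆ = 1)) {g : X}
    (hgR : g ∈ Subgroup.normalizer (R : Set X))
    (hgχ : ∀ z ∈ R ⊓ Subgroup.centralizer (R : Set X), χ (g * z * g⁻¹) = χ z) :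
    ∀ t ∈ T, g * t * g⁻¹ ∈ T := by
  intro t ht
  have ht' := (Subgroup.mem_normalizer_iff.mp hgR t).mp (hT ht)
  refine (hTiff _ ht').mpr fun h hh => ?_
  have hh' : g⁻¹ * h * g ∈ R := (Subgroup.mem_normalizer_iff''.mp hgR h).mp hh
  rw [show ⁅g * t * g⁻¹, h⁆ = g * ⁅t, g⁻¹ * h * g⁆ * g⁻¹ by simp [commutatorElement_def, mul_assoc],
    hgχ _ (hcl t (hT ht) _ hh')]
  exact (hTiff t (hT ht)).mp ht _ hh'

/-- The subgroup of `R` of elements fixed by `y` modulo `T`. -/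
def fixMod (R T : Subgroup X) (y : X) : Set X := {r | r ∈ R ∧ r⁻¹ * (y * r * y⁻¹) ∈ T}

/-- An element `x` of bounded degree fixing the character has small support on `R ⧸ T`. -/
theorem exists_small_support (hγ : Function.Injective γ) {q : ℕ} [Fact q.Prime] (hqp : q ≠ p) (R T : Subgroup X)
    (hR : IsPGroup q R) (χ : X → K)
    (hcl : ∀ g ∈ R, ∀ h ∈ R, ⁅g, h⁆ ∈ R ⊓ Subgroup.centralizer (R : Set X))
    (hZT : R ⊓ Subgroup.centralizer (R : Set X) ≤ T) (hT : T ≤ R)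
    (hTiff : ∀ g ∈ R, (g ∈ T ↔ ∀ h ∈ R, χ ⁅g, h⁆ = 1))
    (hW : charSpace γ (R ⊓ Subgroup.centralizer (R : Set X)) χ ≠ ⊥) (x : X) (m : ℕ)
    (hx : x ^ p ^ (m + 1) = 1) (hdeg : (γ x - 1) ^ (p ^ (m + 1) - 1) = 0)
    (hxR : x ∈ Subgroup.normalizer (R : Set X)) (hmove : ¬ ∀ r ∈ R, r⁻¹ * (x ^ p ^ m * r * (x ^ p ^ m)⁻¹) ∈ T) :
    ∃ (n : ℕ) (τ : X) (N : ℕ), n ≤ m ∧ τ ∈ Subgroup.zpowers x ∧ τ ^ p ^ (n + 1) = 1 ∧ τ ^ p ^ n = x ^ p ^ m ∧
      (∀ z ∈ R ⊓ Subgroup.centralizer (R : Set X), χ (τ * z * τ⁻¹) = χ z) ∧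
      N + 1 = p ^ (n + 1) ∧
      ∀ C : Subgroup X, (∀ r ∈ R, (r ∈ C ↔ r ∈ fixMod R T (x ^ p ^ m))) → C.relIndex R = N ^ 2 := by
  classical
  set Z := R ⊓ Subgroup.centralizer (R : Set X) with hZdef
  set y := x ^ p ^ m with hydef
  have hxZ : ∀ i : ℕ, ∀ z ∈ Z, x ^ i * z * (x ^ i)⁻¹ ∈ Z := by
    intro i z hz
    have hn := Subgroup.pow_mem _ hxR i
    refine ⟨mem_normalizer_map_conj.mp hn z hz.1, fun b hb => ?_⟩
    have h1 := hz.2 _ (mem_normalizer_map_conj.mp (Subgroup.inv_mem _ hn) b hb)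
    calc b * (x ^ i * z * (x ^ i)⁻¹) = x ^ i * ((x ^ i)⁻¹ * b * (x ^ i)⁻¹⁻¹ * z) * (x ^ i)⁻¹ := by group
      _ = x ^ i * (z * ((x ^ i)⁻¹ * b * (x ^ i)⁻¹⁻¹)) * (x ^ i)⁻¹ := by rw [h1]
      _ = x ^ i * z * (x ^ i)⁻¹ * b := by group
  have hZn : x ∈ Subgroup.normalizer (Z : Set X) := mem_normalizer_map_conj.mpr fun z hz => by
    simpa using hxZ 1 z hz
  have hyZ : ∀ z ∈ Z, z * y = y * z := fun z hz => by
    apply hγ
    rw [map_mul, map_mul]
    exact commute_of_degree_lt γ x m hx hdeg hqp Z (hR.to_le inf_le_left) hZn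
      (fun a ha b hb => by rw [← map_mul, ← map_mul, hb.2 a ha.1]) z hz
  obtain ⟨k, hk, hfixk, hinvk, hdegk⟩ := exists_stable_degree γ x m hx hdeg Z hZn χ
    (fun z hz => by rw [← hydef, ← hyZ z hz, mul_inv_cancel_right])
  set τ := x ^ p ^ k with hτdef
  set W := charSpace γ Z χ with hWdef
  have hτR : τ ∈ Subgroup.normalizer (R : Set X) := Subgroup.pow_mem _ hxR _
  have hτn : τ ^ p ^ (m - k + 1) = 1 := by
    rw [hτdef, ← pow_mul, ← pow_add, show k + (m - k + 1) = m + 1 by omega, hx]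
  have hτy : τ ^ p ^ (m - k) = y := by
    rw [hτdef, ← pow_mul, ← pow_add, show k + (m - k) = m by omega]
  have hRW : R ≤ stabSub γ W := fun g hg => charSpace_map_mem γ fun z hz => by
    rw [mul_assoc, ← hz.2 g hg, inv_mul_cancel_left]
    exact ⟨hz, rfl⟩
  have hτW : τ ∈ stabSub γ W := charSpace_map_mem γ hinvk
  have hτT : ∀ t ∈ T, τ * t * τ⁻¹ ∈ T := mem_radical_conj hcl hT hTiff hτR hfixk
  let γW : stabSub γ W →* End K W := (Units.coeHom _).comp (restrictUnits γ W)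
  have hγW : ∀ (g : stabSub γ W) (w : W), ((γW g w : W) : V) = γ g w := fun g w => rfl
  have hcomW : ∀ g ∈ R, ∀ h ∈ R, χ ⁅g, h⁆ = 1 → ∀ w ∈ W, γ g (γ h w) = γ h (γ g w) := by
    intro g hg h hh h1 w hw
    have hw' : γ h (γ g w) ∈ W := hRW hh _ (hRW hg w hw)
    have h2 : γ ⁅g, h⁆ (γ h (γ g w)) = γ h (γ g w) := by
      rw [hw' _ (hcl g hg h hh), h1, one_smul]
    rw [← h2, ← Module.End.mul_apply, ← map_mul, ← Module.End.mul_apply, ← map_mul,
      ← Module.End.mul_apply, ← map_mul]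
    simp [commutatorElement_def, mul_assoc]
  have hTW : T ≤ stabSub γ W := hT.trans hRW
  set T' := T.subgroupOf (stabSub γ W) with hT'def
  set τ' : stabSub γ W := ⟨τ, hτW⟩ with hτ'def
  have hτ'n : τ' ^ p ^ (m - k + 1) = 1 := Subtype.ext hτn
  have hdegW : (γW τ' - 1) ^ (p ^ (m - k + 1) - 1) = 0 := LinearMap.ext fun w => Subtype.ext (by
    refine (restrictUnits_sub_one_pow γ W τ' _ w).trans ?_
    exact hdegk w w.2)
  have hτT' : τ' ∈ Subgroup.normalizer (T' : Set (stabSub γ W)) := mem_normalizer_map_conj.mpr fun t ht =>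
    Subgroup.mem_subgroupOf.mpr (hτT t (Subgroup.mem_subgroupOf.mp ht))
  have hyT : ∀ t ∈ T, ∀ w ∈ W, γ t (γ y w) = γ y (γ t w) := by
    intro t ht w hw
    have h1 := commute_of_degree_lt γW τ' (m - k) hτ'n hdegW hqp T'
      ((hR.to_le hT).of_equiv (Subgroup.subgroupOfEquivOfLe hTW).symm) hτT'
      (fun a ha b hb => LinearMap.ext fun w => Subtype.ext
        (hcomW a (hT ha) b (hT hb) ((hTiff a (hT ha)).mp ha b (hT hb)) w w.2))
      ⟨t, hTW ht⟩ ht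
    have h2 := congrArg Subtype.val (LinearMap.congr_fun h1 ⟨w, hw⟩)
    simp only [Module.End.mul_apply, hγW, Subgroup.coe_pow] at h2
    rwa [show ((τ' : stabSub γ W) : X) = τ from rfl, hτy] at h2
  -- an irreducible constituent in `W`
  obtain ⟨U, hUmem, hUmin⟩ := exists_minimal_of_wellFoundedLT
    (fun U : Submodule K V => U ≠ ⊥ ∧ U ≤ W ∧ ∀ g ∈ R, ∀ w ∈ U, γ g w ∈ U) ⟨W, hW, le_rfl, fun g hg => hRW hg⟩
  obtain ⟨hU0, hUW, hUinv⟩ := hUmem
  have : Nontrivial U := Submodule.nontrivial_iff_ne_bot.mpr hU0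
  obtain ⟨u₀, hu₀⟩ := exists_ne (0 : U)
  have hu₀' : (u₀ : V) ≠ 0 := fun h => hu₀ (Subtype.ext h)
  let ρU : R →* End K U :=
    { toFun := fun g => (γ g).restrict (hUinv g g.2)
      map_one' := LinearMap.ext fun w => Subtype.ext (by show γ (1 : X) w = w; rw [map_one]; rfl)
      map_mul' := fun a b => LinearMap.ext fun w => Subtype.ext (by
        show γ ((a : X) * b) w = γ a (γ b w)
        rw [map_mul]; rfl) }
  have hirr : IsIrred ρU := by
    intro W' hW'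
    by_cases h : W' = ⊥
    · exact Or.inl h
    refine Or.inr ?_
    have hle : W'.map U.subtype ≤ U := Submodule.map_subtype_le U W'
    have h1 := hUmin (y := W'.map U.subtype) ⟨?_, hle.trans hUW, ?_⟩ hle
    · refine Submodule.map_injective_of_injective U.injective_subtype ?_
      rw [Submodule.map_top, Submodule.range_subtype]
      exact le_antisymm hle h1
    · intro e
      exact h (Submodule.map_injective_of_injective U.injective_subtype (by rw [e, Submodule.map_bot]))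
    · rintro g hg _ ⟨w, hw, rfl⟩
      exact ⟨ρU ⟨g, hg⟩ w, hW' ⟨g, hg⟩ w hw, rfl⟩
  have hscal : ∀ t ∈ T, ∃ a : K, ∀ w ∈ U, γ t w = a • w := by
    intro t ht
    obtain ⟨a, ha⟩ := exists_eq_smul_one hirr (ρU ⟨t, hT ht⟩) fun g => LinearMap.ext fun w => Subtype.ext
      (hcomW t (hT ht) g g.2 ((hTiff t (hT ht)).mp ht g g.2) w (hUW w.2))
    exact ⟨a, fun w hw => congrArg Subtype.val (LinearMap.congr_fun ha ⟨w, hw⟩)⟩
  choose! l hl using hscal
  -- stabilize the character of `T`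
  obtain ⟨k₂, hk₂, hfix₂, hinv₂, hdeg₂⟩ := exists_stable_degree γW τ' (m - k) hτ'n hdegW T' hτT'
    (fun g => l g) (fun t ht => by
      have hty : y * (t : X) * y⁻¹ ∈ T := by
        rw [← hτy]
        exact mem_normalizer_map_conj.mp (Subgroup.pow_mem _
          (mem_normalizer_map_conj.mpr hτT : τ ∈ Subgroup.normalizer (T : Set X)) _) t (Subgroup.mem_subgroupOf.mp ht)
      show l ((((τ' ^ p ^ (m - k) * t * (τ' ^ p ^ (m - k))⁻¹ : stabSub γ W)) : X)) = l t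
      simp only [Subgroup.coe_mul, Subgroup.coe_inv, Subgroup.coe_pow]
      rw [show ((τ' : stabSub γ W) : X) = τ from rfl, hτy]
      have h1 := hl _ hty u₀ u₀.2
      have hyW : γ y⁻¹ u₀ ∈ W := by
        rw [← hτy]
        exact (stabSub γ W).inv_mem ((stabSub γ W).pow_mem hτW _) _ (hUW u₀.2)
      have h2 : γ (y * (t : X) * y⁻¹) u₀ = γ t u₀ := by
        rw [map_mul, Module.End.mul_apply, map_mul, Module.End.mul_apply, ← hyT t ht _ hyW,
          ← Module.End.mul_apply (γ y), ← map_mul, mul_inv_cancel, map_one, Module.End.one_apply]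
      rw [h2, hl t ht u₀ u₀.2] at h1
      have h3 : (l (t : X) - l (y * (t : X) * y⁻¹)) • (u₀ : V) = 0 := by rw [sub_smul, h1, sub_self]
      exact (sub_eq_zero.mp ((smul_eq_zero.mp h3).resolve_right hu₀')).symm)
  set n := m - k - k₂ with hndef
  set τ₂ := τ ^ p ^ k₂ with hτ₂def
  have hτ₂c : (((τ' ^ p ^ k₂ : stabSub γ W)) : X) = τ₂ := rfl
  have hτ₂n : τ₂ ^ p ^ (n + 1) = 1 := by
    rw [hτ₂def, ← pow_mul, ← pow_add, show k₂ + (n + 1) = m - k + 1 by omega, hτn]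
  have hτ₂y : τ₂ ^ p ^ n = y := by
    rw [hτ₂def, ← pow_mul, ← pow_add, show k₂ + n = m - k by omega, hτy]
  set W₂ := charSpace γ T l with hW₂def
  have hlZ : ∀ z ∈ Z, l z = χ z := fun z hz => by
    have h1 := hl z (hZT hz) u₀ u₀.2
    rw [hUW u₀.2 z hz] at h1
    have h3 : (χ z - l z) • (u₀ : V) = 0 := by rw [sub_smul, h1, sub_self]
    exact (sub_eq_zero.mp ((smul_eq_zero.mp h3).resolve_right hu₀')).symm
  have hW₂W : W₂ ≤ W := fun w hw z hz => by rw [hw z (hZT hz), hlZ z hz]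
  have hRW₂ : R ≤ stabSub γ W₂ := fun g hg w hw t ht => by
    rw [← hcomW g hg t (hT ht) ?_ w (hW₂W hw), hw t ht, map_smul]
    -- `χ ⁅g, t⁆ = 1`
    have h1 := (hTiff t (hT ht)).mp ht g hg
    have h2 := hUW u₀.2 _ (hcl g hg t (hT ht))
    have h3 := hUW u₀.2 _ (hcl t (hT ht) g hg)
    rw [h1, one_smul] at h3
    have h4 : γ ⁅g, t⁆ u₀ = (u₀ : V) := by
      conv_lhs => rw [← h3]
      rw [← Module.End.mul_apply, ← map_mul, ← commutatorElement_inv g t, mul_inv_cancel, map_one,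
        Module.End.one_apply]
    rw [h4] at h2
    have h5 : (χ ⁅g, t⁆ - 1) • (u₀ : V) = 0 := by rw [sub_smul, ← h2, one_smul, sub_self]
    exact sub_eq_zero.mp ((smul_eq_zero.mp h5).resolve_right hu₀')
  have hfixl : ∀ t ∈ T, τ₂⁻¹ * t * τ₂ ∈ T ∧ l (τ₂⁻¹ * t * τ₂) = l t := by
    intro t ht
    obtain ⟨h1, h2⟩ := hinv₂ ⟨t, hTW ht⟩ ht
    exact ⟨h1, h2⟩
  have hτ₂W₂ : τ₂ ∈ stabSub γ W₂ := charSpace_map_mem γ hfixl
  have hu₀W₂ : (u₀ : V) ∈ W₂ := fun t ht => hl t ht u₀ u₀.2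
  have hdegW₂ : ∀ w ∈ W₂, ((γ τ₂ - 1) ^ (p ^ (n + 1) - 1)) w = 0 := by
    intro w hw
    have h1 := hdeg₂ ⟨w, hW₂W hw⟩ (fun t ht => Subtype.ext (hw t ht))
    have h2 := congrArg Subtype.val h1
    refine Eq.trans ?_ h2
    exact (restrictUnits_sub_one_pow γ W (τ' ^ p ^ k₂) _ ⟨w, hW₂W hw⟩).symm
  -- the image on `W₂`
  let φ := restrictUnits γ W₂
  have : Finite φ.range := Finite.of_surjective _ φ.rangeRestrict_surjective
  let γ₂ : φ.range →* End K W₂ := (Units.coeHom _).comp φ.range.subtype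
  have hγ₂ : ∀ (g : stabSub γ W₂) (w : W₂), ((γ₂ (φ.rangeRestrict g) w : W₂) : V) = γ g w := fun g w => rfl
  set R₂ := (R.subgroupOf (stabSub γ W₂)).map φ.rangeRestrict with hR₂def
  have hmemR₂ : ∀ {g : X} (hg : g ∈ R), φ.rangeRestrict ⟨g, hRW₂ hg⟩ ∈ R₂ := fun {g} hg =>
    ⟨⟨g, hRW₂ hg⟩, hg, rfl⟩
  have hcentral : ∀ (g : X) (hg : g ∈ R),
      φ.rangeRestrict ⟨g, hRW₂ hg⟩ ∈ Subgroup.centralizer (R₂ : Set φ.range) → g ∈ T := by
    intro g hg hc
    refine (hTiff g hg).mpr fun h hh => ?_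
    have h1 := hc _ (hmemR₂ hh)
    rw [← map_mul, ← map_mul] at h1
    have h2 : ∀ w : W₂, γ h (γ g w) = γ g (γ h w) := fun w => by
      have h3 := congrArg (fun e : φ.range => ((γ₂ e w : W₂) : V)) h1
      simp only [hγ₂, Subgroup.coe_mul, map_mul, Module.End.mul_apply] at h3
      exact h3
    have h4 := hUW u₀.2 _ (hcl g hg h hh)
    set w' : W₂ := ⟨γ g⁻¹ (γ h⁻¹ u₀), hRW₂ (R.inv_mem hg) _ (hRW₂ (R.inv_mem hh) _ hu₀W₂)⟩
    have h5 := h2 w'
    simp only [w', ← Module.End.mul_apply, ← map_mul] at h5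
    have h6 : γ ⁅g, h⁆ u₀ = (u₀ : V) := by
      rw [show ⁅g, h⁆ = g * h * g⁻¹ * h⁻¹ from rfl]
      rw [show h * (g * (g⁻¹ * h⁻¹)) = 1 by group, map_one, Module.End.one_apply,
        show g * (h * (g⁻¹ * h⁻¹)) = g * h * g⁻¹ * h⁻¹ by group] at h5
      exact h5.symm
    rw [h6] at h4
    have h7 : (χ ⁅g, h⁆ - 1) • (u₀ : V) = 0 := by rw [sub_smul, ← h4, one_smul, sub_self]
    exact sub_eq_zero.mp ((smul_eq_zero.mp h7).resolve_right hu₀')
  have hscal₂ : ∀ z ∈ R₂ ⊓ Subgroup.centralizer (R₂ : Set φ.range), ∃ c : K, γ₂ z = c • 1 := by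
    rintro z ⟨⟨⟨g, hgN⟩, hg, rfl⟩, hc⟩
    exact ⟨l g, LinearMap.ext fun w => Subtype.ext (w.2 g (hcentral g hg hc))⟩
  have hTcentral : ∀ (t : X) (ht : t ∈ T),
      φ.rangeRestrict ⟨t, hRW₂ (hT ht)⟩ ∈ Subgroup.centralizer (R₂ : Set φ.range) := by
    rintro t ht _ ⟨⟨h, hhN⟩, hh, rfl⟩
    rw [← map_mul, ← map_mul]
    refine Subtype.ext (Units.ext (LinearMap.ext fun w => Subtype.ext ?_))
    show γ (h * t) w = γ (t * h) w
    rw [map_mul, map_mul, Module.End.mul_apply, Module.End.mul_apply,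
      hcomW t (hT ht) h hh ((hTiff t (hT ht)).mp ht h hh) w (hW₂W w.2)]
  have hcl₂ : ∀ a ∈ R₂, ∀ b ∈ R₂, ⁅a, b⁆ ∈ R₂ ⊓ Subgroup.centralizer (R₂ : Set φ.range) := by
    rintro _ ⟨⟨g, hgN⟩, hg, rfl⟩ _ ⟨⟨h, hhN⟩, hh, rfl⟩
    rw [← map_commutatorElement]
    have hz := hcl g hg h hh
    exact ⟨hmemR₂ hz.1, hTcentral _ (hZT hz)⟩
  set τ₂' := φ.rangeRestrict ⟨τ₂, hτ₂W₂⟩ with hτ₂'def
  have hτ₂R : τ₂ ∈ Subgroup.normalizer (R : Set X) := Subgroup.pow_mem _ hτR _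
  have hyN : y ∈ stabSub γ W₂ := hτ₂y ▸ (stabSub γ W₂).pow_mem hτ₂W₂ _
  have hy₂ : τ₂' ^ p ^ n = φ.rangeRestrict ⟨y, hyN⟩ := by
    rw [hτ₂'def, ← map_pow]; exact congrArg _ (Subtype.ext hτ₂y)
  have hR₂q : IsPGroup q R₂ := (hR.of_equiv (Subgroup.subgroupOfEquivOfLe hRW₂).symm).map _
  have hiff : ∀ (r : X) (hr : r ∈ R), r ∈ fixMod R T y ↔
      φ.rangeRestrict ⟨r, hRW₂ hr⟩ * φ.rangeRestrict ⟨y, hyN⟩ =
        φ.rangeRestrict ⟨y, hyN⟩ * φ.rangeRestrict ⟨r, hRW₂ hr⟩ := by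
    intro r hr
    set a := φ.rangeRestrict ⟨r, hRW₂ hr⟩
    set b := φ.rangeRestrict ⟨y, hyN⟩
    have hyR : y ∈ Subgroup.normalizer (R : Set X) := hτ₂y ▸ Subgroup.pow_mem _ hτ₂R _
    have hyr : r⁻¹ * (y * r * y⁻¹) ∈ R := R.mul_mem (R.inv_mem hr) (mem_normalizer_map_conj.mp hyR r hr)
    have hzeq : φ.rangeRestrict ⟨r⁻¹ * (y * r * y⁻¹), hRW₂ hyr⟩ = a⁻¹ * (b * a * b⁻¹) := by
      simp only [a, b, ← map_mul, ← map_inv]; rfl
    constructor
    · intro hfix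
      set z := a⁻¹ * (b * a * b⁻¹) with hz
      have hzc : ∀ g : φ.range, g * z = z * g := by
        intro g
        rw [← hzeq]
        refine Subtype.ext (Units.ext (LinearMap.ext fun w => Subtype.ext ?_))
        have e1 : ∀ u : W₂, γ₂ (φ.rangeRestrict ⟨_, hRW₂ hyr⟩) u = l (r⁻¹ * (y * r * y⁻¹)) • u := fun u =>
          Subtype.ext (u.2 _ hfix.2)
        show ((γ₂ g (γ₂ (φ.rangeRestrict ⟨_, hRW₂ hyr⟩) w) : W₂) : V) =
          ((γ₂ (φ.rangeRestrict ⟨_, hRW₂ hyr⟩) (γ₂ g w) : W₂) : V)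
        rw [e1, e1, map_smul]
      have hk : ∀ k : ℕ, b ^ k * a * (b ^ k)⁻¹ = a * z ^ k := by
        intro k
        induction k with
        | zero => simp
        | succ k ih =>
          rw [pow_succ' b, show b * b ^ k * a * (b * b ^ k)⁻¹ = b * (b ^ k * a * (b ^ k)⁻¹) * b⁻¹ by group, ih,
            show b * (a * z ^ k) * b⁻¹ = (b * a * b⁻¹) * (b * z ^ k * b⁻¹) by group,
            ((show Commute b z from hzc b).pow_right k).eq, mul_inv_cancel_right,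
            show b * a * b⁻¹ = a * z by rw [hz]; group, mul_assoc, ← pow_succ']
      have h1 := hk p
      rw [show b ^ p = 1 by rw [← hy₂, ← pow_mul, ← pow_succ, hτ₂'def, ← map_pow,
        ← map_one φ.rangeRestrict]; exact congrArg _ (Subtype.ext hτ₂n), one_mul, inv_one, mul_one,
        left_eq_mul] at h1
      obtain ⟨j, hj⟩ := hR₂q ⟨z, by rw [← hzeq]; exact hmemR₂ hyr⟩
      have hz1 : z = 1 := orderOf_eq_one_iff.mp (Nat.eq_one_of_dvd_coprimes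
        (Nat.Coprime.pow_right j ((Nat.coprime_primes hp.out Fact.out).mpr (Ne.symm hqp)))
        (orderOf_dvd_of_pow_eq_one h1) (orderOf_dvd_of_pow_eq_one (congrArg Subtype.val hj)))
      calc a * b = a * z * b := by rw [hz1, mul_one]
        _ = b * a := by rw [hz]; group
    · intro hcomm
      refine ⟨hr, hcentral _ hyr ?_⟩
      rw [hzeq, ← hcomm, mul_inv_cancel_right, inv_mul_cancel]
      exact one_mem _
  have hy₂ne : τ₂' ^ p ^ n ∉ Subgroup.centralizer (R₂ : Set φ.range) := fun hc =>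
    hmove fun r hr => ((hiff r hr).mpr (by rw [← hy₂]; exact hc _ (hmemR₂ hr))).2
  have hτ₂'R : τ₂' ∈ Subgroup.normalizer (R₂ : Set φ.range) := by
    refine mem_normalizer_map_conj.mpr ?_
    rintro _ ⟨⟨g, hgN⟩, hg, rfl⟩
    exact ⟨⟨τ₂, hτ₂W₂⟩ * ⟨g, hgN⟩ * ⟨τ₂, hτ₂W₂⟩⁻¹,
      Subgroup.mem_subgroupOf.mpr (mem_normalizer_map_conj.mp hτ₂R g hg), by rw [map_mul, map_mul, map_inv]⟩
  obtain ⟨N, hN1, hN2⟩ := ramified_relIndex γ₂ (fun a b h => Subtype.ext (Units.ext h)) τ₂' n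
    (by rw [hτ₂'def, ← map_pow, ← map_one φ.rangeRestrict]; exact congrArg _ (Subtype.ext hτ₂n))
    (LinearMap.ext fun w => Subtype.ext (by
      refine (restrictUnits_sub_one_pow γ W₂ ⟨τ₂, hτ₂W₂⟩ _ w).trans ?_
      exact hdegW₂ w w.2))
    hqp R₂ hR₂q hτ₂'R hscal₂ hcl₂ hy₂ne
  refine ⟨n, τ₂, N, by omega, ?_, hτ₂n, hτ₂y, ?_, hN1, fun C hC => ?_⟩
  · rw [hτ₂def, hτdef]
    exact Subgroup.pow_mem _ (Subgroup.pow_mem _ (Subgroup.mem_zpowers x) _) _
  · have h1 : ∀ i : ℕ, ∀ z ∈ Z, χ (τ ^ i * z * (τ ^ i)⁻¹) = χ z := by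
      intro i
      induction i with
      | zero => intro z _; simp
      | succ i ih =>
        intro z hz
        rw [pow_succ, show τ ^ i * τ * z * (τ ^ i * τ)⁻¹ = τ ^ i * (τ * z * τ⁻¹) * (τ ^ i)⁻¹ by group,
          ih _ (hxZ _ z hz), hfixk z hz]
    exact h1 _
  · rw [← hN2, hy₂]
    set b := φ.rangeRestrict ⟨y, hyN⟩
    let f : R →* R₂ :=
      { toFun := fun r => ⟨φ.rangeRestrict ⟨r, hRW₂ r.2⟩, hmemR₂ r.2⟩
        map_one' := Subtype.ext (map_one φ.rangeRestrict)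
        map_mul' := fun u v => Subtype.ext (map_mul φ.rangeRestrict ⟨u, hRW₂ u.2⟩ ⟨v, hRW₂ v.2⟩) }
    have hfs : Function.Surjective f := by
      rintro ⟨_, ⟨g, hgN⟩, hg, rfl⟩
      exact ⟨⟨g, hg⟩, rfl⟩
    show (C.subgroupOf R).index = ((R₂ ⊓ Subgroup.centralizer ({b} : Set φ.range)).subgroupOf R₂).index
    rw [← Subgroup.index_comap_of_surjective _ hfs]
    congr 1
    ext r
    rw [Subgroup.mem_subgroupOf, hC r r.2, hiff r r.2, Subgroup.mem_comap, Subgroup.mem_subgroupOf,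
      Subgroup.mem_inf, and_iff_right (f r).2, Subgroup.mem_centralizer_singleton_iff]
    rfl

end CfsgLib.HallHigman
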