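import Cfsg.Agent.Lib.HallHigman.MinimalNormal
import Cfsg.Agent.Lib.HallHigman.Smallness
import Cfsg.Agent.Lib.HallHigman.Linear

/-!
# The last powers of elements of full order and bounded degree commute
-/

namespace CfsgLib.HallHigman

open Module (End)
open Cfsg CfsgLib.PCore
open scoped commutatorElement TensorProduct

universe u

variable {p : ℕ} [hp : Fact p.Prime]

/-- An elementary abelian `p`-group has a faithful linear model over an algebraically closed field. -/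
theorem exists_linear_model {A : Type u} [AddCommGroup A] [Finite A] (hA : ∀ a : A, p • a = 0) :
    ∃ (U : Type u) (_ : AddCommGroup U) (_ : Module (AlgebraicClosure (ZMod p)) U)
      (_ : FiniteDimensional (AlgebraicClosure (ZMod p)) U)
      (Φ : AddMonoid.End A →+* End (AlgebraicClosure (ZMod p)) U), Function.Injective Φ := by
  have : Module (ZMod p) A := AddCommGroup.zmodModule hA
  let K := AlgebraicClosure (ZMod p)
  have : Module.Finite (ZMod p) A := Module.Finite.of_finite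
  let Φ : AddMonoid.End A →+* Module.End K (K ⊗[ZMod p] A) :=
    { toFun := fun f => (AddMonoidHom.toZModLinearMap p f).baseChange K
      map_one' := by
        refine TensorProduct.AlgebraTensorModule.curry_injective ?_
        ext a
        rfl
      map_mul' := fun f g => by
        refine TensorProduct.AlgebraTensorModule.curry_injective ?_
        ext a
        rfl
      map_zero' := by
        refine TensorProduct.AlgebraTensorModule.curry_injective ?_
        ext a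
        exact TensorProduct.tmul_zero A (1 : K)
      map_add' := fun f g => by
        refine TensorProduct.AlgebraTensorModule.curry_injective ?_
        ext a
        exact TensorProduct.tmul_add (1 : K) (f a) (g a) }
  refine ⟨K ⊗[ZMod p] A, inferInstance, inferInstance, inferInstance, Φ, ?_⟩
  rw [injective_iff_map_eq_zero]
  intro f hf
  refine AddMonoidHom.ext fun a => ?_
  show f a = 0
  by_contra hne'
  obtain ⟨ψ, hψ⟩ := exists_dual_eq_one (K := ZMod p) hne'
  have h0 : Φ f ((1 : K) ⊗ₜ[ZMod p] a) = 0 := by rw [hf]; rfl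
  have h1 : ((1 : K) ⊗ₜ[ZMod p] f a) = 0 := h0
  have h2 := congrArg (fun t => TensorProduct.AlgebraTensorModule.rid (ZMod p) K K (LinearMap.baseChange K ψ t)) h1
  simp only [LinearMap.baseChange_tmul, TensorProduct.AlgebraTensorModule.rid_tmul, map_zero] at h2
  rw [hψ, one_smul] at h2
  exact one_ne_zero h2

variable {X : Type*} [Group X]

/-- The stabilizer of a section `R ⧸ T` acting on it by conjugation. -/
def conjQuotAct (R T H : Subgroup X) [(T.subgroupOf R).Normal]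
    (hR : ∀ g ∈ H, ∀ r ∈ R, g * r * g⁻¹ ∈ R) (hT : ∀ g ∈ H, ∀ t ∈ T, g * t * g⁻¹ ∈ T) :
    H →* Monoid.End (R ⧸ T.subgroupOf R) where
  toFun g := QuotientGroup.map (T.subgroupOf R) (T.subgroupOf R)
    { toFun := fun r => ⟨g * r * (g : X)⁻¹, hR g g.2 r r.2⟩
      map_one' := Subtype.ext (by simp)
      map_mul' := fun a b => Subtype.ext (by simp [mul_assoc]) }
    fun r hr => by
      rw [Subgroup.mem_comap, Subgroup.mem_subgroupOf]
      exact hT g g.2 r (Subgroup.mem_subgroupOf.mp hr)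
  map_one' := MonoidHom.ext fun a => QuotientGroup.induction_on a fun r =>
    congrArg QuotientGroup.mk (Subtype.ext (by simp))
  map_mul' g h := MonoidHom.ext fun a => QuotientGroup.induction_on a fun r =>
    congrArg QuotientGroup.mk (Subtype.ext (by simp [mul_assoc]))

theorem conjQuotAct_fixed (R T H : Subgroup X) [(T.subgroupOf R).Normal]
    (hR : ∀ g ∈ H, ∀ r ∈ R, g * r * g⁻¹ ∈ R) (hT : ∀ g ∈ H, ∀ t ∈ T, g * t * g⁻¹ ∈ T) (g : H) (r : R) :
    conjQuotAct R T H hR hT g (r : R ⧸ T.subgroupOf R) = (r : R ⧸ T.subgroupOf R) ↔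
      (r : X)⁻¹ * (g * r * (g : X)⁻¹) ∈ T := by
  rw [eq_comm]
  show (r : R ⧸ T.subgroupOf R) = ((⟨g * r * (g : X)⁻¹, hR g g.2 r r.2⟩ : R) : R ⧸ T.subgroupOf R) ↔ _
  rw [QuotientGroup.eq, Subgroup.mem_subgroupOf]
  rfl

variable [Finite X] {K : Type*} [Field K] [IsAlgClosed K] [CharP K p]
  {V : Type*} [AddCommGroup V] [Module K V] [FiniteDimensional K V]

omit [IsAlgClosed K] [CharP K p] [FiniteDimensional K V] [Finite X] hp in
theorem degree_conj (γ : X →* End K V) (h x : X) (j : ℕ) (hx : (γ x - 1) ^ j = 0) :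
    (γ (h * x * h⁻¹) - 1) ^ j = 0 := by
  have h1 : SemiconjBy (γ h) (γ x - 1) (γ (h * x * h⁻¹) - 1) := by
    show γ h * (γ x - 1) = (γ (h * x * h⁻¹) - 1) * γ h
    rw [mul_sub, sub_mul, mul_one, one_mul, ← map_mul, ← map_mul, inv_mul_cancel_right]
  have h2 := (h1.pow_right j).eq
  rw [hx, mul_zero] at h2
  calc (γ (h * x * h⁻¹) - 1) ^ j = (γ (h * x * h⁻¹) - 1) ^ j * γ h * γ h⁻¹ := by
        rw [mul_assoc _ (γ h) (γ h⁻¹), ← map_mul, mul_inv_cancel, map_one, mul_one]
    _ = 0 := by rw [← h2, zero_mul]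

/-- For elements of bounded degree, the commutator of the last powers centralizes every invariant
`q`-subgroup. -/
theorem commutator_pow_mem_centralizer (hp2 : p ≠ 2) (γ : X →* End K V) (hγ : Function.Injective γ)
    (P : Subgroup X) (hP : IsPGroup p P) {q : ℕ} [Fact q.Prime] (hqp : q ≠ p) (R₀ : Subgroup X)
    (hR₀ : IsPGroup q R₀) (hPR₀ : P ≤ Subgroup.normalizer (R₀ : Set X)) (m : ℕ) (x x' : X) (hxP : x ∈ P)
    (hx'P : x' ∈ P) (hx : x ^ p ^ (m + 1) = 1) (hx' : x' ^ p ^ (m + 1) = 1)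
    (hdeg : (γ x - 1) ^ (p ^ (m + 1) - 1) = 0) (hdeg' : (γ x' - 1) ^ (p ^ (m + 1) - 1) = 0) :
    ⁅x ^ p ^ m, x' ^ p ^ m⁆ ∈ Subgroup.centralizer (R₀ : Set X) := by
  classical
  by_contra hz
  set z := ⁅x ^ p ^ m, x' ^ p ^ m⁆ with hzdef
  set Y := Subgroup.closure {g | ∃ h ∈ P, g = h * z * h⁻¹} with hYdef
  have hzP : z ∈ P := Subgroup.commutator_mem_commutator (P.pow_mem hxP _) (P.pow_mem hx'P _) |>
    (Subgroup.commutator_le.mpr fun a ha b hb =>
      P.mul_mem (P.mul_mem (P.mul_mem ha hb) (P.inv_mem ha)) (P.inv_mem hb)) 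
  have hYP : Y ≤ P := (Subgroup.closure_le _).mpr (by
    rintro _ ⟨h, hh, rfl⟩; exact P.mul_mem (P.mul_mem hh hzP) (P.inv_mem hh))
  have hPY : P ≤ Subgroup.normalizer (Y : Set X) := fun g hg => mem_normalizer_map_conj.mpr fun a ha => by
    induction ha using Subgroup.closure_induction with
    | mem a ha =>
      obtain ⟨h, hh, rfl⟩ := ha
      exact Subgroup.subset_closure ⟨g * h, P.mul_mem hg hh, by group⟩
    | one => simp
    | mul a b _ _ iha ihb =>
      rw [show g * (a * b) * g⁻¹ = (g * a * g⁻¹) * (g * b * g⁻¹) by group]; exact Y.mul_mem iha ihb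
    | inv a _ iha =>
      rw [show g * a⁻¹ * g⁻¹ = (g * a * g⁻¹)⁻¹ by group]; exact Y.inv_mem iha
  have hzY : z ∈ Y := Subgroup.subset_closure ⟨1, P.one_mem, by group⟩
  -- a minimal subgroup not centralized by the normal closure of `z`
  obtain ⟨R, hRR₀, ⟨hPR, hYR⟩, hRmin⟩ := Finite.exists_le_minimal
    (p := fun R : Subgroup X => P ≤ Subgroup.normalizer (R : Set X) ∧
      ¬ Y ≤ Subgroup.centralizer (R : Set X)) (a := R₀) ⟨hPR₀, fun h => hz (h hzY)⟩
  have hR : IsPGroup q R := hR₀.to_le hRR₀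
  have hconjord : ∀ (h g : X) (k : ℕ), g ^ k = 1 → (h * g * h⁻¹) ^ k = 1 := fun h g k hg => by
    rw [conj_pow, hg, mul_one, mul_inv_cancel]
  have hna : ¬ ∀ a ∈ R, ∀ b ∈ R, a * b = b * a := by
    intro hab
    refine hYR ((Subgroup.closure_le _).mpr ?_)
    rintro _ ⟨h, hh, rfl⟩
    have hab' : ∀ a ∈ R, ∀ b ∈ R, γ a * γ b = γ b * γ a := fun a ha b hb => by
      rw [← map_mul, ← map_mul, hab a ha b hb]
    intro r hr
    have hr' : h⁻¹ * r * h ∈ R := (Subgroup.mem_normalizer_iff''.mp (hPR hh) r).mp hr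
    have h1 := commute_of_degree_lt γ x m hx hdeg hqp R hR (hPR hxP) hab' _ hr'
    have h2 := commute_of_degree_lt γ x' m hx' hdeg' hqp R hR (hPR hx'P) hab' _ hr'
    rw [← map_mul, ← map_mul] at h1 h2
    have c : Commute (h⁻¹ * r * h) z := by
      have c1 : Commute (h⁻¹ * r * h) (x ^ p ^ m) := hγ h1
      have c2 : Commute (h⁻¹ * r * h) (x' ^ p ^ m) := hγ h2
      rw [hzdef, commutatorElement_def]
      exact ((c1.mul_right c2).mul_right c1.inv_right).mul_right c2.inv_right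
    calc r * (h * z * h⁻¹) = h * (h⁻¹ * r * h * z) * h⁻¹ := by group
      _ = h * (z * (h⁻¹ * r * h)) * h⁻¹ := by rw [c.eq]
      _ = h * z * h⁻¹ * r := by group
  obtain ⟨hcl, hYZ, hPZ, hRY⟩ := minimal_structure_normal hqp P Y hYP hPY (hP.to_le hYP) R hR hPR hYR
    (fun S hS hPS => by_contra fun h => hS.not_ge (hRmin ⟨hPS, h⟩ hS.le)) hna
  obtain ⟨χ, T, hZT, hTR, hTiff, hW⟩ := exists_central_character γ hγ hqp R hR hcl hna
  set Z := R ⊓ Subgroup.centralizer (R : Set X) with hZdef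
  have hTn : (T.subgroupOf R).Normal := ⟨fun t ht g => by
    rw [Subgroup.mem_subgroupOf] at ht ⊢
    have h1 : ⁅(g : X), (t : X)⁆ ∈ T := hZT (hcl _ g.2 _ t.2)
    have := T.mul_mem h1 ht
    simpa [commutatorElement_def, mul_assoc] using this⟩
  have hYT : ∀ g ∈ Y, ∀ t ∈ T, g * t * g⁻¹ ∈ T := fun g hg =>
    mem_radical_conj hcl hTR.le hTiff (hPR (hYP hg)) fun w hw => by
      rw [← hYZ hg w hw, mul_inv_cancel_right]
  -- some conjugate of `z` moves `R ⧸ T`
  obtain ⟨h, hh, hmove⟩ : ∃ h ∈ P, ¬ ∀ r ∈ R, r⁻¹ * (h * z * h⁻¹ * r * (h * z * h⁻¹)⁻¹) ∈ T := by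
    by_contra hcon
    push Not at hcon
    have key : ∀ g ∈ Y, ∀ r ∈ R, r⁻¹ * (g * r * g⁻¹) ∈ T := by
      intro g hg
      induction hg using Subgroup.closure_induction with
      | mem a ha => obtain ⟨h, hh, rfl⟩ := ha; exact hcon h hh
      | one => intro r _; simp
      | mul a b ha _ iha ihb =>
        intro r hr
        rw [show r⁻¹ * (a * b * r * (a * b)⁻¹) = r⁻¹ * (a * r * a⁻¹) * (a * (r⁻¹ * (b * r * b⁻¹)) * a⁻¹) by group]
        exact T.mul_mem (iha r hr) (hYT a ha _ (ihb r hr))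
      | inv a ha iha =>
        intro r hr
        rw [show r⁻¹ * (a⁻¹ * r * a⁻¹⁻¹) = a⁻¹ * (r⁻¹ * (a * r * a⁻¹))⁻¹ * a⁻¹⁻¹ by group]
        exact hYT a⁻¹ (Y.inv_mem ha) _ (T.inv_mem (iha r hr))
    refine hTR.not_ge (hRY.ge.trans (Subgroup.commutator_le.mpr fun r hr g hg => ?_))
    have := key g hg r⁻¹ (R.inv_mem hr)
    simpa [commutatorElement_def, mul_assoc] using this
  -- the stabilizer of `χ` acts on `R ⧸ T`
  let H : Subgroup X :=
    { carrier := {g | g ∈ P ∧ ∀ w ∈ Z, χ (g * w * g⁻¹) = χ w}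
      one_mem' := ⟨P.one_mem, fun w _ => by simp⟩
      mul_mem' := fun {a b} ha hb => ⟨P.mul_mem ha.1 hb.1, fun w hw => by
        rw [show a * b * w * (a * b)⁻¹ = a * (b * w * b⁻¹) * a⁻¹ by group,
          ha.2 _ ((Subgroup.mem_normalizer_iff.mp (hPZ hb.1) w).mp hw), hb.2 w hw]⟩
      inv_mem' := fun {a} ha => ⟨P.inv_mem ha.1, fun w hw => by
        have h1 : a⁻¹ * w * a⁻¹⁻¹ ∈ Z :=
          (Subgroup.mem_normalizer_iff.mp (hPZ (P.inv_mem ha.1)) w).mp hw
        have h2 := ha.2 _ h1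
        rw [show a * (a⁻¹ * w * a⁻¹⁻¹) * a⁻¹ = w by group] at h2
        exact h2.symm⟩ }
  have hHR : ∀ g ∈ H, ∀ r ∈ R, g * r * g⁻¹ ∈ R := fun g hg r hr =>
    (Subgroup.mem_normalizer_iff.mp (hPR hg.1) r).mp hr
  have hHT : ∀ g ∈ H, ∀ t ∈ T, g * t * g⁻¹ ∈ T := fun g hg =>
    mem_radical_conj hcl hTR.le hTiff (hPR hg.1) hg.2
  let act := conjQuotAct R T H hHR hHT
  let : CommGroup (R ⧸ T.subgroupOf R) :=
    { (inferInstance : Group (R ⧸ T.subgroupOf R)) with
      mul_comm := fun a b => QuotientGroup.induction_on a fun a => QuotientGroup.induction_on b fun b => by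
        rw [← QuotientGroup.mk_mul, ← QuotientGroup.mk_mul, QuotientGroup.eq, Subgroup.mem_subgroupOf]
        have := hZT (hcl _ (R.inv_mem b.2) _ (R.inv_mem a.2))
        simpa [commutatorElement_def, mul_assoc] using this }
  let actA : H →* AddMonoid.End (Additive (R ⧸ T.subgroupOf R)) :=
    { toFun := fun g => MonoidHom.toAdditive (act g)
      map_one' := by rw [map_one]; rfl
      map_mul' := fun a b => by rw [map_mul]; rfl }
  let φ := actA.toHomUnits
  have hfix : ∀ (g : H) (r : R), ((φ g : (AddMonoid.End (Additive (R ⧸ T.subgroupOf R)))ˣ) :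
      AddMonoid.End (Additive (R ⧸ T.subgroupOf R))) (Additive.ofMul (r : R ⧸ T.subgroupOf R)) =
        Additive.ofMul (r : R ⧸ T.subgroupOf R) ↔ (r : X)⁻¹ * (g * r * (g : X)⁻¹) ∈ T := fun g r =>
    conjQuotAct_fixed R T H hHR hHT g r
  have hHP : H ≤ P := fun g hg => hg.1
  have hφp : IsPGroup p φ.range :=
    (hP.to_le hHP).of_surjective _ φ.rangeRestrict_surjective
  have hsmall : ∀ g : X, g ∈ P → g ^ p ^ (m + 1) = 1 → (γ g - 1) ^ (p ^ (m + 1) - 1) = 0 →
      ∃ hg : g ^ p ^ m ∈ H, IsSmall p φ.range (φ ⟨g ^ p ^ m, hg⟩) ∨ φ ⟨g ^ p ^ m, hg⟩ = 1 := by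
    intro g hgP hgn hgdeg
    have hgH : g ^ p ^ m ∈ H := by
      refine ⟨P.pow_mem hgP _, fun w hw => ?_⟩
      have h1 := commute_of_degree_lt γ g m hgn hgdeg hqp Z (hR.to_le inf_le_left) (hPZ hgP)
        (fun a ha b hb => by rw [← map_mul, ← map_mul, hb.2 a ha.1]) w hw
      rw [← map_mul, ← map_mul] at h1
      rw [← hγ h1, mul_inv_cancel_right]
    refine ⟨hgH, ?_⟩
    by_cases hmv : ∀ r ∈ R, r⁻¹ * (g ^ p ^ m * r * (g ^ p ^ m)⁻¹) ∈ T
    · refine Or.inr (Units.ext (AddMonoidHom.ext fun v => ?_))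
      induction v using Additive.rec with
      | ofMul v =>
        induction v using QuotientGroup.induction_on with
        | H r => exact (hfix ⟨_, hgH⟩ r).mpr (hmv r r.2)
    · obtain ⟨n, τ, N, -, hτg, hτn, hτy, hτχ, hN, hidx⟩ :=
        exists_small_support γ hγ hqp R T hR χ hcl hZT hTR.le hTiff hW g m hgn hgdeg (hPR hgP) hmv
      have hτH : τ ∈ H := ⟨(Subgroup.zpowers_le.mpr hgP) hτg, hτχ⟩
      refine Or.inl ⟨n, φ ⟨τ, hτH⟩, ⟨_, rfl⟩, ?_, ?_, ?_⟩
      · rw [← map_pow, ← map_one φ]; exact congrArg φ (Subtype.ext hτn)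
      · rw [← map_pow]; exact congrArg φ (Subtype.ext hτy.symm)
      · set F := fixedBy ((φ ⟨g ^ p ^ m, hgH⟩ : (AddMonoid.End (Additive (R ⧸ T.subgroupOf R)))ˣ) :
          AddMonoid.End (Additive (R ⧸ T.subgroupOf R))) with hF
        have h1 := hidx (((AddSubgroup.toSubgroup' F).comap (QuotientGroup.mk' (T.subgroupOf R))).map R.subtype) (fun r hr => by
          constructor
          · rintro ⟨r', hr', rfl⟩
            exact ⟨r'.2, (hfix ⟨_, hgH⟩ r').mp hr'⟩
          · rintro ⟨-, hrT⟩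
            exact ⟨⟨r, hr⟩, (hfix ⟨_, hgH⟩ ⟨r, hr⟩).mpr hrT, rfl⟩)
        rw [Subgroup.relIndex, ← Subgroup.comap_subtype,
          Subgroup.comap_map_eq_self_of_injective R.subtype_injective,
          Subgroup.index_comap_of_surjective _ (QuotientGroup.mk'_surjective _)] at h1
        rw [show F.index = (AddSubgroup.toSubgroup' F).index from rfl, h1,
          show N = p ^ (n + 1) - 1 by omega]
  obtain ⟨h1, hs1⟩ := hsmall (h * x * h⁻¹) (P.mul_mem (P.mul_mem hh hxP) (P.inv_mem hh))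
    (hconjord h x _ hx) (degree_conj γ h x _ hdeg)
  obtain ⟨h2, hs2⟩ := hsmall (h * x' * h⁻¹) (P.mul_mem (P.mul_mem hh hx'P) (P.inv_mem hh))
    (hconjord h x' _ hx') (degree_conj γ h x' _ hdeg')
  set a : H := ⟨_, h1⟩
  set b : H := ⟨_, h2⟩
  have hab : φ a * φ b = φ b * φ a := by
    rcases hs1 with s1 | s1
    · rcases hs2 with s2 | s2
      · refine small_commute hp2 _ (Additive (R ⧸ T.subgroupOf R)) le_rfl ?_ φ.range hφp _ _ s1 s2
        obtain ⟨k, hk⟩ := hR.exists_card_eq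
        refine Nat.Coprime.coprime_dvd_left ?_ (Nat.Coprime.pow_left k
          ((Nat.coprime_primes Fact.out hp.out).mpr hqp))
        rw [← hk]
        exact Subgroup.card_quotient_dvd_card _
      · rw [s2, mul_one, one_mul]
    · rw [s1, mul_one, one_mul]
  have hc : φ ⁅a, b⁆ = 1 := by
    rw [map_commutatorElement]; exact commutatorElement_eq_one_iff_mul_comm.mpr hab
  refine hmove fun r hr => ?_
  have h3 := (hfix ⁅a, b⁆ ⟨r, hr⟩).mp (by rw [hc]; rfl)
  have e : ((⁅a, b⁆ : H) : X) = h * z * h⁻¹ := by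
    show ⁅(h * x * h⁻¹) ^ p ^ m, (h * x' * h⁻¹) ^ p ^ m⁆ = _
    rw [hzdef, conj_pow, conj_pow, commutatorElement_def, commutatorElement_def]
    group
  rwa [e] at h3

omit [Finite X] in
/-- In a `p`-soluble group of automorphisms with trivial `O_p`, the last powers of elements of a
`p`-subgroup of bounded degree commute. -/
theorem commute_pow_of_degree [Finite X] (hp2 : p ≠ 2) (hX : IsPSolvable p X) (h0 : pCore p X = ⊥)
    {A : Type*} [AddCommGroup A] [Finite A] (hA : ∀ a : A, p • a = 0) (ρ : X →* AddMonoid.End A)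
    (hρ : Function.Injective ρ) (P : Subgroup X) (hP : IsPGroup p P) (m : ℕ) (x x' : X) (hxP : x ∈ P)
    (hx'P : x' ∈ P) (hx : x ^ p ^ (m + 1) = 1) (hx' : x' ^ p ^ (m + 1) = 1)
    (hdeg : (ρ x - 1) ^ (p ^ (m + 1) - 1) = 0) (hdeg' : (ρ x' - 1) ^ (p ^ (m + 1) - 1) = 0) :
    Commute (x ^ p ^ m) (x' ^ p ^ m) := by
  obtain ⟨U, _, _, _, Φ, hΦ⟩ := exists_linear_model hA
  have : CharP (AlgebraicClosure (ZMod p)) p :=
    charP_of_injective_algebraMap (algebraMap (ZMod p) (AlgebraicClosure (ZMod p))).injective p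
  let γ : X →* End (AlgebraicClosure (ZMod p)) U := Φ.toMonoidHom.comp ρ
  have hdΦ : ∀ g : X, ∀ j, (ρ g - 1) ^ j = 0 → (γ g - 1) ^ j = 0 := fun g j hj => by
    show (Φ (ρ g) - 1) ^ j = 0
    rw [← map_one Φ, ← map_sub, ← map_pow, hj, map_zero]
  set z := ⁅x ^ p ^ m, x' ^ p ^ m⁆ with hzdef
  have hzP : z ∈ P := by
    rw [hzdef, commutatorElement_def]
    exact P.mul_mem (P.mul_mem (P.mul_mem (P.pow_mem hxP _) (P.pow_mem hx'P _)) (P.inv_mem (P.pow_mem hxP _)))
      (P.inv_mem (P.pow_mem hx'P _))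
  set L := pPrimeCore p X with hL
  have hcop : (Nat.card P).Coprime (Nat.card L) := by
    obtain ⟨k, hk⟩ := hP.exists_card_eq
    rw [hk]
    exact Nat.Coprime.pow_left k pPrimeCore_coprime.symm
  have hnil := hP.isNilpotent
  have htop : (Subgroup.centralizer ({z} : Set X)).subgroupOf L = ⊤ := by
    apply CfsgLib.Fitting.eq_top_of_forall_sylow_le
    intro q hq hqd
    have := Fact.mk hq
    have hqp : q ≠ p := fun e => not_dvd_card_pPrimeCore (e ▸ hqd)
    obtain ⟨S, hS⟩ := CfsgLib.Coprime.exists_invariant_sylow P L Subgroup.le_normalizer_of_normal hcop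
      (Or.inl inferInstance) q
    refine ⟨S, fun w hw => ?_⟩
    rw [Subgroup.mem_subgroupOf, Subgroup.mem_centralizer_singleton_iff]
    exact commutator_pow_mem_centralizer hp2 γ (hΦ.comp hρ) P hP hqp _ (S.2.map _) hS m x x' hxP hx'P hx hx'
      (hdΦ _ _ hdeg) (hdΦ _ _ hdeg') (w : X) ⟨w, hw, rfl⟩
  have hzc : z ∈ Subgroup.centralizer (L : Set X) := fun w hw => by
    have h1 : (⟨w, hw⟩ : L) ∈ (Subgroup.centralizer ({z} : Set X)).subgroupOf L := htop ▸ Subgroup.mem_top _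
    rw [Subgroup.mem_subgroupOf, Subgroup.mem_centralizer_singleton_iff] at h1
    exact h1
  have hzL := centralizer_pPrimeCore_le hX h0 hzc
  refine commutatorElement_eq_one_iff_mul_comm.mp ?_
  have h1 : orderOf z ∣ Nat.card P := Subgroup.orderOf_mk z hzP ▸ orderOf_dvd_natCard _
  have h2 : orderOf z ∣ Nat.card L := Subgroup.orderOf_mk z hzL ▸ orderOf_dvd_natCard _
  exact orderOf_eq_one_iff.mp (Nat.eq_one_of_dvd_coprimes hcop h1 h2)

end CfsgLib.HallHigman
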