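import Cfsg.Agent.Lib.HallHigman.CoprimeCore
import Cfsg.Agent.Lib.HallHigman.Commutator

/-!
# The theorem of Shult and Gross on the Fitting height
-/

namespace CfsgLib.HallHigman

open Cfsg CfsgLib.PCore CfsgLib.ModuleTrick
open scoped commutatorElement IsMulCommutative

universe u

theorem frattiniCore_characteristic_aux {X : Type*} [Group X] [Finite X] {p : ℕ} :
    (frattiniCore p X).Characteristic := by
  rw [Subgroup.characteristic_iff_map_le]
  intro φ
  have h1 : (pCore p X).map φ.toMonoidHom = pCore p X :=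
    Subgroup.characteristic_iff_map_eq.mp inferInstance φ
  rintro _ ⟨_, ⟨z, hz, rfl⟩, rfl⟩
  let e : ↥(pCore p X) ≃* ↥(pCore p X) := (φ.subgroupMap (pCore p X)).trans (MulEquiv.subgroupCongr h1)
  refine ⟨e z, ?_, rfl⟩
  have h2 : (frattini ↥(pCore p X)).map e.toMonoidHom = frattini _ :=
    Subgroup.characteristic_iff_map_eq.mp inferInstance e
  exact h2 ▸ Subgroup.mem_map_of_mem _ hz

/-- Membership in `O_p` of a quotient can be read in any image with the same kernel. -/
theorem mk_mem_pCore_of_image {G Y : Type*} [Group G] [Finite G] [Group Y] {p : ℕ} (g : G →* Y)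
    (hg : Function.Surjective g) (K : Subgroup G) [K.Normal] (hK : g.ker = K) {z : G} (h : g z ∈ pCore p Y) :
    (z : G ⧸ K) ∈ pCore p (G ⧸ K) := by
  let e : G ⧸ K ≃* Y := (QuotientGroup.quotientMulEquivOfEq hK.symm).trans
    (QuotientGroup.quotientKerEquivOfSurjective g hg)
  have : Finite Y := Finite.of_surjective _ hg
  rw [← map_pCore_equiv (p := p) e] at h
  obtain ⟨w, hw, hwz⟩ := h
  rwa [show (z : G ⧸ K) = w from e.injective (show e (z : G ⧸ K) = e w from hwz.symm)]

/-- An element lying in `O_{p',p}` for every prime `p` lies in the Fitting subgroup. -/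
theorem mem_fitting_of_forall_mem_pCore {G : Type*} [Group G] [Finite G] (z : G)
    (h : ∀ r : ℕ, r.Prime → r ∣ Nat.card G → (z : G ⧸ pPrimeCore r G) ∈ pCore r (G ⧸ pPrimeCore r G)) :
    z ∈ fittingSubgroup G := by
  classical
  let ι := (Nat.card G).primeFactors
  let M : Subgroup G := ⨅ r : ι, (pCore (r : ℕ) (G ⧸ pPrimeCore (r : ℕ) G)).comap (QuotientGroup.mk' _)
  have hM : M.Normal := Subgroup.normal_iInf_normal fun r =>
    Subgroup.Normal.comap (CfsgLib.Fitting.pCore_normal _) _
  have hzM : z ∈ M := Subgroup.mem_iInf.mpr fun r =>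
    h r (Nat.prime_of_mem_primeFactors r.2) (Nat.dvd_of_mem_primeFactors r.2)
  refine CfsgLib.Fitting.le_fitting hM ?_ hzM
  let f : M →* ∀ r : ι, pCore (r : ℕ) (G ⧸ pPrimeCore (r : ℕ) G) :=
    { toFun := fun a r => ⟨((a : G) : G ⧸ pPrimeCore (r : ℕ) G), Subgroup.mem_iInf.mp a.2 r⟩
      map_one' := funext fun r => Subtype.ext rfl
      map_mul' := fun a b => funext fun r => Subtype.ext rfl }
  have hf : Function.Injective f := by
    rw [injective_iff_map_eq_one]
    intro a ha
    by_contra ha1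
    obtain ⟨r, hr, hdvd⟩ := Nat.exists_prime_and_dvd (n := orderOf (a : G))
      (fun e => ha1 (Subtype.ext (orderOf_eq_one_iff.mp e)))
    have : Fact r.Prime := ⟨hr⟩
    have hmem : (a : G) ∈ pPrimeCore r G := (QuotientGroup.eq_one_iff _).mp (congrArg Subtype.val
      (congrFun ha ⟨r, Nat.mem_primeFactors.mpr ⟨hr, hdvd.trans (orderOf_dvd_natCard _), Nat.card_pos.ne'⟩⟩))
    exact not_dvd_card_pPrimeCore (hdvd.trans (Subgroup.orderOf_mk _ hmem ▸ orderOf_dvd_natCard _))
  have : ∀ r : ι, Group.IsNilpotent (pCore (r : ℕ) (G ⧸ pPrimeCore (r : ℕ) G)) := fun r => by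
    have : Fact (r : ℕ).Prime := ⟨Nat.prime_of_mem_primeFactors r.2⟩
    exact (pCore_isPGroup (p := (r : ℕ))).isNilpotent
  have hnil : Group.IsNilpotent f.range := inferInstance
  exact Group.nilpotent_of_mulEquiv (_h := hnil) (MonoidHom.ofInjective hf).symm

variable {p : ℕ} [hp : Fact p.Prime]

set_option maxHeartbeats 1600000 in
/-- The reduction to a faithful action on `O_r` modulo its Frattini subgroup. -/
theorem twist_mem_pCore {Ĝ : Type*} [Group Ĝ] [Finite Ĝ] (hp2 : p ≠ 2) (N : Subgroup Ĝ) [N.Normal]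
    [Group.IsSolvable N] (x : Ĝ) (m : ℕ) (hx : x ^ p ^ (m + 1) = 1) (hfpf : IsFPF x N) {r : ℕ}
    [hr : Fact r.Prime] (h0 : pPrimeCore r N = ⊥) (g : N) :
    (⟨(g : Ĝ)⁻¹ * (x ^ p ^ m * g * (x ^ p ^ m)⁻¹),
      N.mul_mem (N.inv_mem g.2) (Subgroup.Normal.conj_mem inferInstance _ g.2 _)⟩ : N) ∈ pCore r N := by
  classical
  set y := x ^ p ^ m with hydef
  have hcopN : (Nat.card N).Coprime p :=
    hfpf.coprime (by rw [Subgroup.normalizer_eq_top_iff.mpr inferInstance]; trivial) hx
  rcases eq_or_ne r p with rfl | hrp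
  · have h1 : pPrimeCore r N = ⊤ := pPrimeCore_eq_top_of_coprime hcopN
    rw [h0] at h1
    have h2 : ∀ a : N, a = 1 := fun a => Subgroup.mem_bot.mp (h1 ▸ Subgroup.mem_top a)
    rw [h2 ⟨_, _⟩]
    exact one_mem _
  obtain ⟨hcomm, hpow, hcen⟩ := frattini_quotient_props (p := r) (isPSolvable_of_isSolvable (G := N)) h0
  have : (frattiniCore r N).Characteristic := frattiniCore_characteristic_aux
  set Φ := (frattiniCore r N).map N.subtype with hΦdef
  set Vh := (pCore r N).map N.subtype with hVdef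
  have : Φ.Normal := inferInstance
  have : Vh.Normal := inferInstance
  set f := QuotientGroup.mk' Φ with hfdef
  set W := Vh.map f with hWdef
  have : W.Normal := Subgroup.Normal.map inferInstance f (QuotientGroup.mk'_surjective _)
  have hmemΦ : ∀ a : N, ((a : Ĝ) : Ĝ ⧸ Φ) = 1 ↔ (a : N ⧸ frattiniCore r N) = 1 := fun a => by
    rw [QuotientGroup.eq_one_iff, QuotientGroup.eq_one_iff, hΦdef]
    exact ⟨fun ⟨b, hb, hba⟩ => Subtype.ext hba ▸ hb, fun h => ⟨a, h, rfl⟩⟩
  have hab : IsMulCommutative W := ⟨⟨by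
    rintro ⟨_, _, ⟨a, ha, rfl⟩, rfl⟩ ⟨_, _, ⟨b, hb, rfl⟩, rfl⟩
    refine Subtype.ext (commutatorElement_eq_one_iff_mul_comm.mp ?_)
    rw [← map_commutatorElement, ← map_commutatorElement]
    refine (hmemΦ ⁅a, b⁆).mpr ?_
    have h1 := commutatorElement_eq_one_iff_mul_comm.mpr (hcomm _ ⟨a, ha, rfl⟩ _ ⟨b, hb, rfl⟩)
    rwa [← map_commutatorElement] at h1⟩⟩
  have hA : ∀ a : Additive W, r • a = 0 := fun a => by
    apply Additive.toMul.injective
    apply Subtype.ext
    rw [toMul_nsmul, Subgroup.coe_pow]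
    obtain ⟨_, ⟨b, hb, rfl⟩, hba⟩ := (Additive.toMul a : W).2
    rw [← hba, ← map_pow, ← map_pow]
    refine (hmemΦ (b ^ r)).mpr ?_
    have h1 := hpow _ ⟨b, hb, rfl⟩
    rwa [← map_pow] at h1
  let c : Ĝ →* AddMonoid.End (Additive W) := (conjEnd W).comp f
  have hcN : ∀ a : N, c a = 1 → a ∈ pCore r N := by
    intro a ha
    have h1 : f a ∈ Subgroup.centralizer (W : Set (Ĝ ⧸ Φ)) := (conjEnd_ker W).le ha
    have h2 : QuotientGroup.mk' (frattiniCore r N) a ∈
        (pCore r N).map (QuotientGroup.mk' (frattiniCore r N)) := by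
      rw [← hcen]
      rintro _ ⟨b, hb, rfl⟩
      have h3 := commutatorElement_eq_one_iff_mul_comm.mpr (h1 (f (b : Ĝ)) ⟨b, ⟨b, hb, rfl⟩, rfl⟩)
      rw [← map_commutatorElement] at h3
      refine commutatorElement_eq_one_iff_mul_comm.mp ?_
      rw [← map_commutatorElement]
      exact (hmemΦ ⁅b, a⁆).mp h3
    have h3 : a ∈ ((pCore r N).map (QuotientGroup.mk' (frattiniCore r N))).comap
        (QuotientGroup.mk' (frattiniCore r N)) := h2
    rwa [Subgroup.comap_map_eq, QuotientGroup.ker_mk', sup_eq_left.mpr (frattiniCore_le r N)] at h3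
  let π := QuotientGroup.mk' c.ker
  let ρ : Ĝ ⧸ c.ker →* AddMonoid.End (Additive W) := QuotientGroup.lift c.ker c le_rfl
  have hρ : Function.Injective ρ := by
    rw [injective_iff_map_eq_one]
    intro a
    induction a using QuotientGroup.induction_on with
    | H a => exact fun h => (QuotientGroup.eq_one_iff a).mpr h
  have hπ : ∀ a, ρ (π a) = c a := fun a => rfl
  set Nb := N.map π with hNbdef
  have : Nb.Normal := Subgroup.Normal.map inferInstance π (QuotientGroup.mk'_surjective _)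
  have hgs : Function.Surjective (π.subgroupMap N) := π.subgroupMap_surjective N
  have : Group.IsSolvable Nb := Group.isSolvable_of_surjective hgs
  have hxN : x ∈ Subgroup.normalizer (N : Set Ĝ) := by
    rw [Subgroup.normalizer_eq_top_iff.mpr inferInstance]; trivial
  have hfpfb : IsFPF (π x) Nb := hfpf.map π hxN
  have hxP : π x ^ p ^ (m + 1) = 1 := by rw [← map_pow, hx, map_one]
  -- `O_r` of the image is trivial
  have hcore : pCore r Nb = ⊥ := by
    have hker : (π.subgroupMap N).ker ≤ pCore r N := fun a ha => hcN a (by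
      rw [← hπ]
      have h1 : π a = 1 := congrArg Subtype.val ha
      rw [h1, map_one])
    have h1 := (pCore_isPGroup (p := r) (G := Nb)).comap_of_ker_isPGroup (π.subgroupMap N)
      ((pCore_isPGroup (p := r) (G := N)).to_le hker)
    have h2 := le_pCore (Subgroup.Normal.comap (CfsgLib.Fitting.pCore_normal r) _) h1
    rw [← Subgroup.map_comap_eq_self_of_surjective hgs (pCore r Nb), eq_bot_iff]
    rintro _ ⟨a, ha, rfl⟩
    refine Subgroup.mem_bot.mpr (Subtype.ext (hρ ?_))
    show ρ (π a) = ρ 1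
    rw [map_one, hπ, ← MonoidHom.mem_ker]
    show f a ∈ (conjEnd W).ker
    rw [conjEnd_ker]
    intro w hw
    exact congrArg Subtype.val (hab.is_comm.comm ⟨w, hw⟩ ⟨f a, ⟨a, ⟨a, h2 ha, rfl⟩, rfl⟩⟩)
  -- no fixed vector
  have hxV : x ∈ Subgroup.normalizer (Vh : Set Ĝ) := by
    rw [Subgroup.normalizer_eq_top_iff.mpr inferInstance]; trivial
  have hfW : IsFPF (f x) W := (hfpf.mono (Subgroup.map_subtype_le _)).map f hxV
  have hsum : ∑ i ∈ Finset.range (p ^ (m + 1)), c x ^ i = 0 := by
    refine AddMonoidHom.ext fun v => ?_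
    set s := (∑ i ∈ Finset.range (p ^ (m + 1)), c x ^ i) v with hs
    have h1 := mul_geom_sum (c x) (p ^ (m + 1))
    rw [← map_pow, hx, map_one, sub_self, sub_mul, one_mul, sub_eq_zero] at h1
    have h2 : c x s = s := DFunLike.congr_fun h1 v
    have h3 : ((Additive.toMul s : W) : Ĝ ⧸ Φ) = 1 := hfW _ (Additive.toMul s).2 (by
      have h4 := congrArg (fun t => ((Additive.toMul t : W) : Ĝ ⧸ Φ)) h2
      simp only [c, MonoidHom.comp_apply, conjEnd_apply] at h4
      exact mul_inv_eq_iff_eq_mul.mp h4)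
    exact Additive.toMul.injective (Subtype.ext h3)
  obtain ⟨U, _, _, _, Ψ, hΨ⟩ := exists_linear_model (p := r) hA
  have : CharP (AlgebraicClosure (ZMod r)) r :=
    charP_of_injective_algebraMap (algebraMap (ZMod r) (AlgebraicClosure (ZMod r))).injective r
  let γ : Ĝ ⧸ c.ker →* Module.End (AlgebraicClosure (ZMod r)) U := Ψ.toMonoidHom.comp ρ
  have hγsum : ∑ i ∈ Finset.range (p ^ (m + 1)), γ (π x) ^ i = 0 := by
    show ∑ i ∈ Finset.range (p ^ (m + 1)), Ψ (c x) ^ i = 0
    simp only [← map_pow Ψ, ← map_sum, hsum, map_zero]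
  have hall : ∀ a ∈ Nb, π x ^ p ^ m * a = a * π x ^ p ^ m := by
    refine centralizes_of_centralizes_pCore (p := p) Nb (by rw [← pow_mul, ← pow_succ, hxP]) ?_ ?_ ?_
    · rw [Subgroup.normalizer_eq_top_iff.mpr inferInstance]; trivial
    · exact hfpfb.coprime (by rw [Subgroup.normalizer_eq_top_iff.mpr inferInstance]; trivial) hxP
    intro q hq z hz
    have := Fact.mk hq
    rcases eq_or_ne q r with rfl | hqr
    · rw [hcore, Subgroup.mem_bot] at hz
      subst hz
      simp
    rcases eq_or_ne q p with rfl | hqp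
    · have hc : (Nat.card Nb).Coprime q :=
        hfpfb.coprime (by rw [Subgroup.normalizer_eq_top_iff.mpr inferInstance]; trivial) hxP
      obtain ⟨j, hj⟩ := (pCore_isPGroup (p := q) (G := Nb)) ⟨z, hz⟩
      have hz1 : z = 1 := orderOf_eq_one_iff.mp (Nat.eq_one_of_dvd_coprimes (hc.pow_right j)
        (orderOf_dvd_natCard z) (orderOf_dvd_of_pow_eq_one (congrArg Subtype.val hj)))
      subst hz1
      simp
    have hR₀ : ((pCore q Nb).map Nb.subtype).Normal := inferInstance
    exact (mem_centralizer_of_no_fixed hp2 γ (hΨ.comp hρ) (π x) m hxP hγsum hrp hqr hqp _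
      (pCore_isPGroup.map _) (by rw [Subgroup.normalizer_eq_top_iff.mpr hR₀]; trivial)
      (hfpfb.mono (Subgroup.map_subtype_le _)) _ ⟨z, hz, rfl⟩).symm
  refine hcN _ ?_
  rw [← hπ]
  have h1 := hall (π g) ⟨g, g.2, rfl⟩
  show ρ (π ((g : Ĝ)⁻¹ * (y * g * y⁻¹))) = 1
  rw [hydef, map_mul π, map_mul π, map_mul π, map_inv π, map_inv π, map_pow π, h1, mul_inv_cancel_right, inv_mul_cancel,
    map_one]

/-- The commutator with the element of order `p` lands in the Fitting subgroup. -/
theorem twist_mem_fitting {Ĝ : Type*} [Group Ĝ] [Finite Ĝ] (hp2 : p ≠ 2) (N : Subgroup Ĝ) [N.Normal]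
    [Group.IsSolvable N] (x : Ĝ) (m : ℕ) (hx : x ^ p ^ (m + 1) = 1) (hfpf : IsFPF x N) (g : N) :
    (⟨(g : Ĝ)⁻¹ * (x ^ p ^ m * g * (x ^ p ^ m)⁻¹),
      N.mul_mem (N.inv_mem g.2) (Subgroup.Normal.conj_mem inferInstance _ g.2 _)⟩ : N) ∈ fittingSubgroup N := by
  refine mem_fitting_of_forall_mem_pCore _ fun r hr _ => ?_
  have := Fact.mk hr
  set P0 := (pPrimeCore r N).map N.subtype
  have : P0.Normal := inferInstance
  set π := QuotientGroup.mk' P0
  set Nb := N.map π
  have : Nb.Normal := Subgroup.Normal.map inferInstance π (QuotientGroup.mk'_surjective _)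
  set gN := π.subgroupMap N
  have hgs : Function.Surjective gN := π.subgroupMap_surjective N
  have hker : gN.ker = pPrimeCore r N := by
    ext a
    rw [MonoidHom.mem_ker]
    constructor
    · intro h
      obtain ⟨b, hb, hba⟩ := (QuotientGroup.eq_one_iff (a : Ĝ)).mp (congrArg Subtype.val h)
      exact Subtype.ext hba ▸ hb
    · exact fun h => Subtype.ext ((QuotientGroup.eq_one_iff (a : Ĝ)).mpr ⟨a, h, rfl⟩)
  have : Group.IsSolvable Nb := Group.isSolvable_of_surjective hgs
  have h0 : pPrimeCore r Nb = ⊥ := by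
    refine pPrimeCore_eq_bot_of_equiv
      ((QuotientGroup.quotientMulEquivOfEq hker.symm).trans (QuotientGroup.quotientKerEquivOfSurjective gN hgs))
      pPrimeCore_quotient_eq_bot
  refine mk_mem_pCore_of_image gN hgs _ hker ?_
  have h1 := twist_mem_pCore hp2 Nb (π x) m (by rw [← map_pow, hx, map_one])
    (hfpf.map π (by rw [Subgroup.normalizer_eq_top_iff.mpr inferInstance]; trivial)) h0 (gN g)
  convert h1 using 1
  apply Subtype.ext
  show π ((g : Ĝ)⁻¹ * (x ^ p ^ m * g * (x ^ p ^ m)⁻¹)) = (π g)⁻¹ * (π x ^ p ^ m * π g * (π x ^ p ^ m)⁻¹)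
  simp [map_mul, map_inv, map_pow]

/-- An automorphism of order dividing `p^(m+1)` without fixed points: the last power acts trivially on
`G ⧸ F(G)`. -/
theorem inv_mul_pow_mem_fitting {G : Type u} [Group G] [Finite G] [Group.IsSolvable G] (hp2 : p ≠ 2)
    (σ : MulAut G) (m : ℕ) (hσ : σ ^ p ^ (m + 1) = 1) (hfpf : ∀ g, σ g = g → g = 1) (g : G) :
    g⁻¹ * (σ ^ p ^ m) g ∈ fittingSubgroup G := by
  let φ := (Subgroup.zpowers σ).subtype
  let E := SemidirectProduct G (Subgroup.zpowers σ) φ
  have : Finite E := Finite.of_equiv (G × Subgroup.zpowers σ) SemidirectProduct.equivProd.symm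
  let inl : G →* E := SemidirectProduct.inl
  have : inl.range.Normal := by
    rw [SemidirectProduct.range_inl_eq_ker_rightHom]
    infer_instance
  let x : E := SemidirectProduct.inr ⟨σ, Subgroup.mem_zpowers σ⟩
  have hconj : ∀ (i : ℕ) (a : G), inl ((σ ^ i) a) = x ^ i * inl a * (x ^ i)⁻¹ := fun i a => by
    rw [← map_pow, ← map_inv, ← SemidirectProduct.inl_aut]
    rfl
  have hinj : Function.Injective inl := SemidirectProduct.inl_injective
  let e : G ≃* inl.range := MonoidHom.ofInjective hinj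
  have : Group.IsSolvable inl.range := Group.isSolvable_of_surjective e.surjective
  have hx : x ^ p ^ (m + 1) = 1 := by
    rw [← map_pow, show (⟨σ, Subgroup.mem_zpowers σ⟩ : Subgroup.zpowers σ) ^ p ^ (m + 1) = 1 from Subtype.ext hσ,
      map_one]
  have hE : IsFPF x inl.range := by
    rintro _ ⟨a, rfl⟩ ha
    have h1 := hconj 1 a
    rw [pow_one, pow_one, ha, mul_inv_cancel_right] at h1
    rw [hfpf a (hinj h1), map_one]
  have h := twist_mem_fitting hp2 inl.range x m hx hE (e g)
  rw [← CfsgLib.Fitting.fitting_map_mulEquiv e] at h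
  obtain ⟨w, hw, hwe⟩ := h
  have h2 : inl w = inl (g⁻¹ * (σ ^ p ^ m) g) := by
    rw [map_mul, map_inv, hconj]
    exact congrArg Subtype.val hwe
  rwa [← hinj h2]

/-- The Fitting height is at most `n` for a fixed-point-free automorphism of order dividing `p^n`. -/
theorem exists_fitting_chain (hp2 : p ≠ 2) (n : ℕ) : ∀ (G : Type u) [Group G] [Finite G] [Group.IsSolvable G]
    (σ : MulAut G), σ ^ p ^ n = 1 → (∀ g, σ g = g → g = 1) →
    ∃ F : Fin (n + 1) → Subgroup G, F 0 = ⊥ ∧ F (Fin.last n) = ⊤ ∧ Monotone F ∧ (∀ i, (F i).Normal) ∧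
      ∀ i : Fin n, ∃ k : ℕ, (F i.succ).lowerCentralSeries k ≤ F i.castSucc := by
  induction n with
  | zero =>
    intro G _ _ _ σ hσ hfpf
    rw [pow_zero, pow_one] at hσ
    have h1 : ∀ g : G, g = 1 := fun g => hfpf g (by rw [hσ]; rfl)
    refine ⟨fun _ => ⊥, rfl, ?_, monotone_const, fun _ => inferInstance, fun i => i.elim0⟩
    exact (Subgroup.eq_top_iff' _).mpr fun g => Subgroup.mem_bot.mpr (h1 g)
  | succ n ih =>
    intro G _ _ _ σ hσ hfpf
    set N := fittingSubgroup G with hN
    have : N.Normal := CfsgLib.Fitting.fitting_normal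
    have hmap : N.map σ.toMonoidHom = N :=
      Subgroup.characteristic_iff_map_eq.mp CfsgLib.Fitting.fitting_characteristic σ
    let σb : MulAut (G ⧸ N) := QuotientGroup.congr _ _ σ hmap
    set π := QuotientGroup.mk' N
    have hπs : Function.Surjective π := QuotientGroup.mk'_surjective N
    have hb : ∀ (i : ℕ) (a : G), (σb ^ i) (π a) = π ((σ ^ i) a) := by
      intro i
      induction i with
      | zero => intro a; rfl
      | succ i ih' =>
        intro a
        rw [pow_succ, MulAut.mul_apply, pow_succ, MulAut.mul_apply, ← ih' (σ a)]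
        rfl
    have hσb : σb ^ p ^ n = 1 := MulEquiv.ext fun b => by
      obtain ⟨a, rfl⟩ := hπs b
      rw [hb]
      exact (QuotientGroup.eq.mpr (inv_mul_pow_mem_fitting hp2 σ n hσ hfpf a)).symm
    have hfpfb : ∀ b, σb b = b → b = 1 := by
      let θ : G → G := fun a => a⁻¹ * σ a
      have hθ : Function.Surjective θ := Finite.injective_iff_surjective.mp fun a b hab => by
        refine mul_inv_eq_one.mp (hfpf (a * b⁻¹) ?_)
        have h1 : a⁻¹ * σ a = b⁻¹ * σ b := hab
        rw [map_mul, map_inv, show σ a = a * (b⁻¹ * σ b) by rw [← h1, mul_inv_cancel_left]]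
        group
      let θb : G ⧸ N → G ⧸ N := fun b => b⁻¹ * σb b
      have hθb : Function.Injective θb := Finite.injective_iff_surjective.mpr fun c => by
        obtain ⟨d, rfl⟩ := hπs c
        obtain ⟨a, rfl⟩ := hθ d
        exact ⟨π a, rfl⟩
      intro b hbb
      exact hθb (show b⁻¹ * σb b = (1 : G ⧸ N)⁻¹ * σb 1 by rw [hbb, map_one]; simp)
    obtain ⟨F, hF0, hFl, hFm, hFn, hFk⟩ := ih (G ⧸ N) σb hσb hfpfb
    refine ⟨Fin.cases ⊥ fun i => (F i).comap π, rfl, ?_, ?_, ?_, ?_⟩
    · rw [← Fin.succ_last]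
      simp only [Fin.cases_succ]
      rw [hFl, Subgroup.comap_top]
    · refine Fin.monotone_iff_le_succ.mpr fun i => ?_
      refine Fin.cases ?_ (fun j => ?_) i
      · exact bot_le
      · rw [← Fin.succ_castSucc, Fin.cases_succ, Fin.cases_succ]
        exact Subgroup.comap_mono (hFm j.castSucc_le_succ)
    · refine Fin.cases ?_ fun j => ?_
      · simp only [Fin.cases_zero]; infer_instance
      · simp only [Fin.cases_succ]; exact (hFn j).comap π
    · refine Fin.cases ?_ fun j => ?_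
      · obtain ⟨k, hk⟩ := (Subgroup.isNilpotent_iff_lowerCentralSeries (S := N)).mp CfsgLib.Fitting.fitting_isNilpotent
        refine ⟨k, ?_⟩
        simp only [Fin.cases_succ, Fin.castSucc_zero, Fin.cases_zero]
        rw [hF0, MonoidHom.comap_bot, QuotientGroup.ker_mk', hk]
      · obtain ⟨k, hk⟩ := hFk j
        refine ⟨k, ?_⟩
        rw [← Fin.succ_castSucc]
        simp only [Fin.cases_succ]
        rw [← Subgroup.map_le_iff_le_comap,
          Subgroup.map_lowerCentralSeries, Subgroup.map_comap_eq_self_of_surjective hπs]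
        exact hk

end CfsgLib.HallHigman
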