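import Cfsg.Agent.Lib.HallHigman.PLength
import Cfsg.Agent.Lib.HallHigman.Linear

/-!
# The exponent bound on the `p`-length, away from the exceptional case
-/

namespace CfsgLib.HallHigman

open Cfsg CfsgLib.PCore

universe u

/-- Every Sylow subgroup of a homomorphic image is an image of one. -/
theorem exists_sylow_eq_map {G H : Type*} [Group G] [Finite G] [Group H] {q : ℕ} [Fact q.Prime]
    (f : G →* H) (hf : Function.Surjective f) (Q : Sylow q H) :
    ∃ P : Sylow q G, (Q : Subgroup H) = (P : Subgroup G).map f := by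
  obtain ⟨P, rfl⟩ := Sylow.mapSurjective_surjective hf q Q
  exact ⟨P, Sylow.coe_mapSurjective hf P⟩

variable {p : ℕ} [hp : Fact p.Prime]

theorem pPrimeCore_quotient_eq_bot {G : Type*} [Group G] [Finite G] :
    pPrimeCore p (G ⧸ pPrimeCore p G) = ⊥ := by
  have h1 := comap_pPrimeCore_quotient (p := p) (G := G) (N := pPrimeCore p G) pPrimeCore_coprime
  rw [← Subgroup.map_comap_eq_self_of_surjective (QuotientGroup.mk'_surjective (pPrimeCore p G))
    (pPrimeCore p (G ⧸ pPrimeCore p G)), h1, QuotientGroup.map_mk'_self]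

theorem pow_eq_one_of_surjective {G H : Type*} [Group G] [Finite G] [Group H] {N : ℕ} (f : G →* H)
    (hf : Function.Surjective f) (hexp : ∀ (P : Sylow p G), ∀ x ∈ (P : Subgroup G), x ^ N = 1) :
    ∀ (P : Sylow p H), ∀ x ∈ (P : Subgroup H), x ^ N = 1 := by
  intro Q
  obtain ⟨P, hP⟩ := exists_sylow_eq_map f hf Q
  rw [hP]
  rintro _ ⟨a, ha, rfl⟩
  rw [← map_pow, hexp P a ha, map_one]

/-- The exceptional case occurs in `G`. -/
def IsExceptional (p n : ℕ) (G : Type*) [Group G] : Prop :=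
  ∃ q n₀ d : ℕ, ∃ _ : Fact q.Prime, 1 ≤ n₀ ∧ n₀ ≤ n ∧ 1 ≤ d ∧ p ^ n₀ = q ^ d + 1 ∧
    ∀ T : Sylow q G, ¬ ∀ a ∈ (T : Subgroup G), ∀ b ∈ (T : Subgroup G), a * b = b * a

omit hp in
theorem IsExceptional.of_surjective {G H : Type*} [Group G] [Finite G] [Group H] [Finite H] {m n : ℕ}
    (hmn : m ≤ n) (f : G →* H) (hf : Function.Surjective f) (h : IsExceptional p m H) :
    IsExceptional p n G := by
  obtain ⟨q, n₀, d, hq, h1, h2, h3, h4, h5⟩ := h
  refine ⟨q, n₀, d, hq, h1, h2.trans hmn, h3, h4, fun T hT => h5 (T.mapSurjective hf) ?_⟩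
  rw [Sylow.coe_mapSurjective]
  rintro _ ⟨a, ha, rfl⟩ _ ⟨b, hb, rfl⟩
  rw [← map_mul, hT a ha b hb, map_mul]

/-- A `p`-soluble group whose Sylow `p`-subgroups have exponent dividing `p^n` has `p`-length at most `n`
unless the exceptional case of the theorem of Hall and Higman occurs. -/
theorem pLengthLE_of_exponent (n : ℕ) : ∀ (G : Type u) [Group G] [Finite G], IsPSolvable p G →
    ¬ IsExceptional p n G →
    (∀ (P : Sylow p G), ∀ x ∈ (P : Subgroup G), x ^ p ^ n = 1) → PLengthLE p n G := by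
  induction n with
  | zero =>
    intro G _ _ _ _ hexp
    have htop : pPrimeCore p G = ⊤ := by
      refine top_le_iff.mp (le_pPrimeCore inferInstance ?_)
      rw [Subgroup.card_top, Nat.coprime_comm, hp.out.coprime_iff_not_dvd]
      intro hdvd
      obtain ⟨x, hx⟩ := exists_prime_orderOf_dvd_card' p hdvd
      have hxp : IsPGroup p (Subgroup.zpowers x) :=
        IsPGroup.of_card (n := 1) (by rw [Nat.card_zpowers, hx, pow_one])
      obtain ⟨P, hP⟩ := hxp.exists_le_sylow
      have h1 := hexp P x (hP (Subgroup.mem_zpowers x))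
      rw [pow_zero, pow_one] at h1
      exact hp.out.ne_one (by rw [← hx, h1, orderOf_one])
    unfold PLengthLE
    exact upperPSeries_one.trans htop
  | succ n ih =>
    intro G _ _ hG hexc hexp
    refine pLengthLE_of_coprime_kernel (pPrimeCore p G) pPrimeCore_coprime ?_
    have hH : IsPSolvable p (G ⧸ pPrimeCore p G) := isPSolvable_quotient hG _
    have hπ := QuotientGroup.mk'_surjective (pPrimeCore p G)
    have hexpH := pow_eq_one_of_surjective _ hπ hexp
    set H := G ⧸ pPrimeCore p G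
    set V := pCore p H with hV
    have : V.Normal := CfsgLib.Fitting.pCore_normal p
    refine pLengthLE_succ_of_pGroup_kernel V pCore_isPGroup (ih (H ⧸ V) (isPSolvable_quotient hH V) ?_ ?_)
    · exact fun h => hexc (IsExceptional.of_surjective (Nat.le_succ n)
        ((QuotientGroup.mk' V).comp (QuotientGroup.mk' _)) ((QuotientGroup.mk'_surjective V).comp hπ) h)
    intro Q
    obtain ⟨P, hP⟩ := exists_sylow_eq_map _ (QuotientGroup.mk'_surjective V) Q
    rw [hP]
    rintro _ ⟨x, hx, rfl⟩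
    rw [← map_pow]
    refine (QuotientGroup.eq_one_iff _).mpr ?_
    by_contra hy
    exact hexc (IsExceptional.of_surjective le_rfl (QuotientGroup.mk' _) hπ
      (pow_mem_pCore_or_exceptional hH pPrimeCore_quotient_eq_bot n hexpH P x hx hy))

/-- For odd `p`, `p^n = q^d + 1` forces `q = 2` and `p` of the form `2^k + 1`. -/
theorem eq_two_of_pow_eq_pow_add_one (hp2 : p ≠ 2) {q n d : ℕ} (hq : q.Prime) (hd : 1 ≤ d)
    (h : p ^ n = q ^ d + 1) : q = 2 ∧ ∃ k, p = 2 ^ k + 1 := by
  have hpodd : Odd p := hp.out.odd_of_ne_two hp2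
  have hq2 : q = 2 := by
    by_contra hne
    have h1 : Odd (p ^ n) := hpodd.pow
    rw [h] at h1
    exact Nat.not_even_iff_odd.mpr h1 ((hq.odd_of_ne_two hne).pow.add_odd odd_one)
  refine ⟨hq2, ?_⟩
  subst hq2
  have hdvd : p - 1 ∣ p ^ n - 1 := by
    simpa using Nat.sub_dvd_pow_sub_pow p 1 n
  rw [h, Nat.add_sub_cancel] at hdvd
  obtain ⟨k, -, hk⟩ := (Nat.dvd_prime_pow Nat.prime_two).mp hdvd
  exact ⟨k, by have := hp.out.pos; omega⟩

end CfsgLib.HallHigman
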