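import Cfsg.Agent.Lib.HallHigman.FixedPoints
import Cfsg.Agent.Lib.HallHigman.Setup
import Cfsg.Agent.Lib.HallHigman.Exponent

/-!
# Alperin's theorem on solvable groups with an automorphism of prime order
-/

set_option autoImplicit false

namespace CfsgLib.HallHigman

open Cfsg Subgroup CfsgLib.PCore CfsgLib.Kreknin76

variable {p : ℕ} [hp : Fact p.Prime]

/-- A solvable group has derived length at most its order. -/
theorem derivedSeries_card_eq_bot {X : Type*} [Group X] [Finite X] [hX : Group.IsSolvable X] {b : ℕ}
    (hb : Nat.card X ≤ b) : derivedSeries X b = ⊥ := by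
  suffices ∀ j, derivedSeries X j = ⊥ ∨ Nat.card (derivedSeries X j) + j ≤ Nat.card X by
    rcases this b with h | h
    · exact h
    · have : 0 < Nat.card (derivedSeries X b) := Nat.card_pos
      omega
  intro j
  induction j with
  | zero => right; simp
  | succ j ih =>
    by_cases h0 : derivedSeries X (j + 1) = ⊥
    · exact Or.inl h0
    have hle : derivedSeries X (j + 1) ≤ derivedSeries X j := derivedSeries_antitone X j.le_succ
    rcases ih with h | h
    · exact Or.inl (le_bot_iff.mp (hle.trans h.le))
    right
    have hlt : derivedSeries X (j + 1) ≠ derivedSeries X j := by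
      intro e
      obtain ⟨c, hc⟩ := hX.solvable
      have hall : ∀ i, derivedSeries X j ≤ derivedSeries X (j + i) := by
        intro i
        induction i with
        | zero => exact le_rfl
        | succ i hi =>
          rw [← Nat.add_assoc, derivedSeries_succ]
          calc derivedSeries X j = derivedSeries X (j + 1) := e.symm
            _ = ⁅derivedSeries X j, derivedSeries X j⁆ := derivedSeries_succ X j
            _ ≤ _ := Subgroup.commutator_mono hi hi
      exact h0 (e.trans (le_bot_iff.mp ((hall c).trans ((derivedSeries_antitone X (Nat.le_add_left c j)).trans hc.le))))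
    have := Nat.lt_of_le_of_ne (Subgroup.card_le_of_le hle) fun e => hlt (Subgroup.eq_of_le_of_card_ge hle e.ge)
    omega

/-- The fixed points of an automorphism, as a subgroup. -/
def fixSubgroup {G : Type*} [Group G] (α : MulAut G) : Subgroup G where
  carrier := {g | α g = g}
  one_mem' := map_one α
  mul_mem' := fun {x y} (hx : α x = x) (hy : α y = y) => show α (x * y) = x * y by rw [map_mul, hx, hy]
  inv_mem' := fun {x} (hx : α x = x) => show α x⁻¹ = x⁻¹ by rw [map_inv, hx]

/-- Sufficient bound for `p`-solvable groups without normal `p'`-subgroups. -/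
theorem derivedSeries_le_of_pPrimeCore_eq_bot {G : Type*} [Group G] [Finite G] [Group.IsSolvable G]
    (h0 : pPrimeCore p G = ⊥) (α : MulAut G) (hα : α ^ p = 1) (n : ℕ)
    (hfix : Nat.card {g : G // α g = g} ≤ p ^ n) :
    derivedSeries G ((p ^ (p * n)) ^ p ^ (p * n) + pDerivedBound p n) = ⊥ := by
  set U := pCore p G with hU
  have hUn : U.Normal := CfsgLib.Fitting.pCore_normal p
  have hUinv : U.map α.toMonoidHom = U := Subgroup.characteristic_iff_map_eq.mp inferInstance α
  set Φ := frattiniCore p G
  set V := U.map (QuotientGroup.mk' Φ) with hV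
  obtain ⟨hcomm, hpow, hcen⟩ := frattini_quotient_props (p := p) (isPSolvable_of_isSolvable (G := G)) h0
  -- the module has bounded order
  have hVcard : Nat.card V ≤ p ^ (p * n) := by
    let Φ' : Subgroup U := frattini U
    have : Φ'.Normal := inferInstance
    set β := restrictAut α U hUinv
    have hΦ' : Φ'.map β.toMonoidHom = Φ' := Subgroup.characteristic_iff_map_eq.mp inferInstance β
    let δ : MulAut (U ⧸ Φ') := QuotientGroup.congr _ _ β hΦ'
    have hδ : δ ^ p = 1 := by
      have hkey : ∀ (m : ℕ) (x : U), (δ ^ m) (x : U ⧸ Φ') = (((β ^ m) x : U) : U ⧸ Φ') := by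
        intro m
        induction m with
        | zero => intro x; rfl
        | succ m ih => intro x; rw [pow_succ, pow_succ, MulAut.mul_apply, MulAut.mul_apply, ← ih (β x)]; rfl
      refine MulEquiv.ext fun w => ?_
      induction w using QuotientGroup.induction_on with
      | H x => rw [hkey, restrictAut_pow_eq_one α U hUinv hα]; rfl
    let g : U →* G ⧸ Φ := (QuotientGroup.mk' Φ).comp U.subtype
    have hker : g.ker = Φ' := by
      ext u
      rw [MonoidHom.mem_ker]
      constructor
      · intro h
        obtain ⟨w, hw, hwu⟩ := (QuotientGroup.eq_one_iff (u : G)).mp h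
        rwa [← Subtype.ext hwu]
      · exact fun h => (QuotientGroup.eq_one_iff (u : G)).mpr ⟨u, h, rfl⟩
    let e : U ⧸ Φ' ≃* V := ((QuotientGroup.quotientMulEquivOfEq hker.symm).trans
      (QuotientGroup.quotientKerEquivRange g)).trans
        (MulEquiv.subgroupCongr (by rw [MonoidHom.range_comp, Subgroup.range_subtype]))
    let : CommGroup (U ⧸ Φ') :=
      { (inferInstance : Group (U ⧸ Φ')) with
        mul_comm := fun a b => e.injective (Subtype.ext (by
          rw [map_mul, map_mul]; exact hcomm _ (e a).2 _ (e b).2)) }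
    rw [← Nat.card_congr e.toEquiv]
    have h1 := card_le_of_fixed δ hδ ((card_fixed_quotient β Φ' hΦ').trans ((card_fixed_restrict α U hUinv).trans hfix)) 1
      (fun w => e.injective (Subtype.ext (by
        rw [map_pow, Subgroup.coe_pow, pow_one, hpow _ (e w).2, map_one, Subgroup.coe_one])))
    rwa [mul_one, ← pow_mul, mul_comm n p] at h1
  -- the quotient acts faithfully on the module
  have hVn : V.Normal := hUn.map _ (QuotientGroup.mk'_surjective Φ)
  have hXcard : Nat.card (G ⧸ U) ≤ (p ^ (p * n)) ^ p ^ (p * n) := by
    let F : G → (V → V) := fun g v =>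
      ⟨QuotientGroup.mk' Φ g * v * (QuotientGroup.mk' Φ g)⁻¹, hVn.conj_mem _ v.2 _⟩
    have hinj : Function.Injective fun q : G ⧸ U => F q.out := by
      intro a b h
      have hmem : (a.out)⁻¹ * b.out ∈ U := by
        have h1 : QuotientGroup.mk' Φ ((a.out)⁻¹ * b.out) ∈
            Subgroup.centralizer (V : Set (G ⧸ Φ)) := by
          rw [Subgroup.mem_centralizer_iff]
          intro v hv
          have h2 := congrArg Subtype.val (congrFun h ⟨v, hv⟩)
          simp only [F] at h2
          rw [map_mul, map_inv]
          calc v * ((QuotientGroup.mk' Φ a.out)⁻¹ * QuotientGroup.mk' Φ b.out)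
              = (QuotientGroup.mk' Φ a.out)⁻¹ * (QuotientGroup.mk' Φ a.out * v * (QuotientGroup.mk' Φ a.out)⁻¹) *
                  QuotientGroup.mk' Φ b.out := by group
            _ = _ := by rw [h2]; group
        rw [hcen] at h1
        have h3 : (a.out)⁻¹ * b.out ∈ V.comap (QuotientGroup.mk' Φ) := h1
        rwa [hV, Subgroup.comap_map_eq, QuotientGroup.ker_mk', sup_eq_left.mpr (frattiniCore_le p G)] at h3
      rw [← QuotientGroup.out_eq' a, ← QuotientGroup.out_eq' b]
      exact QuotientGroup.eq.mpr hmem
    refine (Nat.card_le_card_of_injective _ hinj).trans ?_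
    rw [Nat.card_fun]
    exact (Nat.pow_le_pow_left hVcard _).trans (Nat.pow_le_pow_right (pow_pos hp.out.pos _) hVcard)
  refine derivedSeries_eq_bot_of_le U (derivedSeries_le_of_quotient U (derivedSeries_card_eq_bot hXcard)) ?_
  exact derivedSeries_pGroup pCore_isPGroup (restrictAut α U hUinv) (restrictAut_pow_eq_one α U hUinv hα) n
    ((card_fixed_restrict α U hUinv).trans hfix)

/-- The bound in Alperin's theorem. -/
def alperinBound (p n : ℕ) : ℕ :=
  (p ^ (p * n)) ^ p ^ (p * n) + pDerivedBound p n + xi (p - 1) (2 ^ (p - 1) - 1)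

/-- Alperin's theorem. -/
theorem derivedSeries_eq_bot_of_fixed {G : Type*} [Group G] [Finite G] [Group.IsSolvable G] (α : MulAut G)
    (hα : α ^ p = 1) (n : ℕ) (hfix : Nat.card {g : G // α g = g} = p ^ n) :
    derivedSeries G (alperinBound p n) = ⊥ := by
  set K := pPrimeCore p G with hK
  have hKn : K.Normal := inferInstance
  have hKinv : K.map α.toMonoidHom = K := Subgroup.characteristic_iff_map_eq.mp inferInstance α
  have hKcop : (Nat.card K).Coprime p := (hp.out.coprime_iff_not_dvd.mpr not_dvd_card_pPrimeCore).symm
  set β := restrictAut α K hKinv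
  have hfpf : ∀ x, β x = x → x = 1 := by
    intro x hx
    have h : α (x : G) = x := congrArg Subtype.val hx
    have h1 : orderOf (x : G) ∣ p ^ n :=
      hfix ▸ Subgroup.orderOf_dvd_natCard (fixSubgroup α) (x := (x : G)) h
    exact Subtype.ext (orderOf_eq_one_iff.mp (Nat.eq_one_of_dvd_coprimes (hKcop.pow_right n)
      (Subgroup.orderOf_dvd_natCard K x.2) h1))
  refine derivedSeries_eq_bot_of_le K (derivedSeries_le_of_quotient K ?_) ?_
  · let δ : MulAut (G ⧸ K) := QuotientGroup.congr _ _ α hKinv
    have hδ : δ ^ p = 1 := by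
      have hkey : ∀ (m : ℕ) (x : G), (δ ^ m) (x : G ⧸ K) = (((α ^ m) x : G) : G ⧸ K) := by
        intro m
        induction m with
        | zero => intro x; rfl
        | succ m ih => intro x; rw [pow_succ, pow_succ, MulAut.mul_apply, MulAut.mul_apply, ← ih (α x)]; rfl
      refine MulEquiv.ext fun w => ?_
      induction w using QuotientGroup.induction_on with
      | H x => rw [hkey, hα]; rfl
    exact derivedSeries_le_of_pPrimeCore_eq_bot pPrimeCore_quotient_eq_bot δ hδ n
      ((card_fixed_quotient α K hKinv).trans hfix.le)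
  · rcases (Nat.dvd_prime hp.out).mp (orderOf_dvd_of_pow_eq_one (restrictAut_pow_eq_one α K hKinv hα)) with h | h
    · have hbot : ∀ x : K, x = 1 := fun x => hfpf x (by
        have e : β = 1 := orderOf_eq_one_iff.mp h
        rw [e]; rfl)
      exact (eq_bot_iff_forall _).mpr fun x _ => hbot x
    · exact le_bot_iff.mp ((Subgroup.derived_le_lower_central _).trans
        (Cfsg.Agent.S3779.result hp.out β h hfpf).2.2.le)

end CfsgLib.HallHigman
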