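import Cfsg.Agent.Lib.HallHigman.CoprimeTools
import Cfsg.Agent.Lib.HallHigman.Exponent

/-!
# The theorem of Shult: a `p`-element acting fixed-point-freely on a `q`-group and without fixed vectors
-/

namespace CfsgLib.HallHigman

open Module (End)
open scoped commutatorElement IsMulCommutative

/-- For `p^(n+1) = 2^d + 1`, the order of `2` modulo `p^(n+1+k)` is at least `2 d p^k`. -/
theorem mul_pow_le_of_dvd {p n k d f : ℕ} [hp : Fact p.Prime] (hp2 : p ≠ 2) (hd : 1 ≤ d) (hf : 0 < f)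
    (h : p ^ (n + 1) = 2 ^ d + 1) (hdvd : p ^ (n + 1 + k) ∣ 2 ^ f - 1) : 2 * d * p ^ k ≤ f := by
  have hpodd : Odd p := hp.out.odd_of_ne_two hp2
  have hsq : 2 ^ (2 * d) - 1 = p ^ (n + 1) * (2 ^ d - 1) := by
    rw [h, mul_comm 2 d, pow_mul, ← Nat.sq_sub_sq, one_pow]
  have hg : p ^ (n + 1) ∣ 2 ^ Nat.gcd f (2 * d) - 1 := by
    rw [← Nat.pow_sub_one_gcd_pow_sub_one]
    exact Nat.dvd_gcd (dvd_trans (pow_dvd_pow p (by omega)) hdvd) ⟨_, hsq⟩
  set g := Nat.gcd f (2 * d) with hgdef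
  have hg0 : 0 < g := Nat.gcd_pos_of_pos_left _ hf
  have hgd : d < g := by
    by_contra hle
    push Not at hle
    have h1 : 2 ^ g - 1 < p ^ (n + 1) := by
      have := Nat.pow_le_pow_right Nat.two_pos hle
      rw [h]
      have := Nat.one_le_pow g 2 Nat.two_pos
      omega
    have h2 := Nat.eq_zero_of_dvd_of_lt hg h1
    have h3 : 1 < 2 ^ g := Nat.one_lt_pow hg0.ne' one_lt_two
    omega
  have hg2 : g = 2 * d := by
    obtain ⟨c, hc⟩ : g ∣ 2 * d := Nat.gcd_dvd_right f (2 * d)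
    have hc2 : c < 2 := by
      by_contra hc2
      have : g * 2 ≤ g * c := Nat.mul_le_mul_left g (by omega)
      omega
    interval_cases c
    · omega
    · omega
  obtain ⟨j, rfl⟩ : 2 * d ∣ f := hg2 ▸ Nat.gcd_dvd_left f (2 * d)
  have hj : j ≠ 0 := fun e => by simp [e] at hf
  have h4 : 4 ≤ 2 ^ (2 * d) := by
    calc 4 = 2 ^ 2 := rfl
      _ ≤ 2 ^ (2 * d) := Nat.pow_le_pow_right Nat.two_pos (by omega)
  have hp3 : 3 ≤ p := by have := hp.out.two_le; omega
  have hx : ¬ p ∣ 2 ^ (2 * d) := fun e => hp2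
    ((Nat.prime_dvd_prime_iff_eq hp.out Nat.prime_two).mp (hp.out.dvd_of_dvd_pow e))
  have hx1 : p ∣ 2 ^ (2 * d) - 1 := hsq ▸ Dvd.dvd.mul_right (dvd_pow_self p (by omega)) _
  have hv := padicValNat.pow_sub_pow (y := 1) hpodd (by omega) hx1 hx hj
  rw [one_pow, ← pow_mul, hsq] at hv
  have hd1 : 2 ≤ 2 ^ d := Nat.le_self_pow (by omega) 2
  have hnd : ¬ p ∣ 2 ^ d - 1 := by
    intro e
    have h5 : p ∣ 2 ^ d + 1 := h ▸ dvd_pow_self p (by omega)
    have h6 := Nat.dvd_sub h5 e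
    rw [show 2 ^ d + 1 - (2 ^ d - 1) = 2 by omega] at h6
    exact hp2 ((Nat.prime_dvd_prime_iff_eq hp.out Nat.prime_two).mp h6)
  rw [padicValNat.mul (pow_ne_zero _ hp.out.ne_zero) (by omega), padicValNat.prime_pow,
    padicValNat.eq_zero_of_not_dvd hnd, add_zero] at hv
  have hne : 2 ^ (2 * d * j) - 1 ≠ 0 := by
    have : 1 < 2 ^ (2 * d * j) := Nat.one_lt_pow (Nat.mul_ne_zero (by omega) hj) one_lt_two
    omega
  have h7 := (padicValNat_dvd_iff_le hne).mp hdvd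
  rw [hv] at h7
  have h8 : p ^ k ∣ j := (padicValNat_dvd_iff_le hj).mpr (by omega)
  exact Nat.mul_le_mul_left _ (Nat.le_of_dvd (Nat.pos_of_ne_zero hj) h8)

variable {K V : Type*} [Field K] [IsAlgClosed K] [AddCommGroup V] [Module K V] [FiniteDimensional K V]
  {X : Type*} [Group X] [Finite X] {p : ℕ} [hp : Fact p.Prime] {r : ℕ} [Fact r.Prime] [CharP K r]

set_option maxHeartbeats 2000000 in
set_option synthInstance.maxHeartbeats 200000 in
/-- Shult: in characteristic other than `p`, if `x` has no fixed vector and fixes no nontrivial element of the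
`q`-group `R₀`, then `x ^ p ^ m` centralizes `R₀`. -/
theorem mem_centralizer_of_no_fixed (hp2 : p ≠ 2) (γ : X →* End K V) (hγ : Function.Injective γ) (x : X) (m : ℕ)
    (hx : x ^ p ^ (m + 1) = 1) (hsum : ∑ i ∈ Finset.range (p ^ (m + 1)), γ x ^ i = 0) (hrp : r ≠ p) {q : ℕ}
    [Fact q.Prime] (hqr : q ≠ r) (hqp : q ≠ p) (R₀ : Subgroup X) (hR₀ : IsPGroup q R₀)
    (hxR₀ : x ∈ Subgroup.normalizer (R₀ : Set X)) (hfpf : IsFPF x R₀) :
    x ^ p ^ m ∈ Subgroup.centralizer (R₀ : Set X) := by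
  classical
  by_contra hyR₀
  set y := x ^ p ^ m with hydef
  have hγmul : ∀ a b v, γ (a * b) v = γ a (γ b v) := fun a b v => by rw [map_mul]; rfl
  have hPK : ∀ j : ℕ, ((p ^ j : ℕ) : K) ≠ 0 := fun j => by
    rw [Nat.cast_pow]
    refine pow_ne_zero _ fun h => ?_
    rw [CharP.cast_eq_zero_iff K r] at h
    exact hrp ((Nat.prime_dvd_prime_iff_eq Fact.out hp.out).mp h)
  obtain ⟨R, hRR₀, ⟨hxR, hyR⟩, hRmin⟩ := Finite.exists_le_minimal
    (p := fun R : Subgroup X => x ∈ Subgroup.normalizer (R : Set X) ∧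
      y ∉ Subgroup.centralizer (R : Set X)) (a := R₀) ⟨hxR₀, hyR₀⟩
  have hR : IsPGroup q R := hR₀.to_le hRR₀
  have hyord : y ^ p = 1 := by rw [hydef, ← pow_mul, ← pow_succ, hx]
  have hna : ¬ ∀ a ∈ R, ∀ b ∈ R, a * b = b * a := fun hab => hyR fun g hg => hγ (by
    rw [map_mul, map_mul]
    exact commute_of_no_fixed γ x m hx hsum hrp hqr R hR hxR
      (fun a ha b hb => by rw [← map_mul, ← map_mul, hab a ha b hb]) g hg)
  obtain ⟨hcl, hiff, hfix, -⟩ := minimal_structure hqp x y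
    (Subgroup.pow_mem _ (Subgroup.mem_zpowers x) _) hyord R hR hxR hyR
    (fun S hS hxS => by_contra fun h => hS.not_ge (hRmin ⟨hxS, h⟩ hS.le)) hna
  obtain ⟨χ, T, hZT, hTR, hTiff, hW⟩ := exists_central_character (p := r) γ hγ hqr R hR hcl hna
  set Z := R ⊓ Subgroup.centralizer (R : Set X) with hZdef
  have hconjZ : ∀ g ∈ Subgroup.normalizer (R : Set X), ∀ z ∈ Z, g * z * g⁻¹ ∈ Z := by
    intro g hg z hz
    refine ⟨mem_normalizer_map_conj.mp hg z hz.1, fun b hb => ?_⟩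
    have h1 := hz.2 _ (mem_normalizer_map_conj.mp (Subgroup.inv_mem _ hg) b hb)
    calc b * (g * z * g⁻¹) = g * (g⁻¹ * b * g⁻¹⁻¹ * z) * g⁻¹ := by group
      _ = g * (z * (g⁻¹ * b * g⁻¹⁻¹)) * g⁻¹ := by rw [h1]
      _ = g * z * g⁻¹ * b := by group
  have hxZ : x ∈ Subgroup.normalizer (Z : Set X) := mem_normalizer_map_conj.mpr (hconjZ x hxR)
  have hFm : ∀ z ∈ Z, χ (x ^ p ^ m * z * (x ^ p ^ m)⁻¹) = χ z := fun z hz => by
    rw [← hydef, (hiff z hz.1).mpr hz, mul_inv_cancel_right]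
  have hkex : ∃ k, ∀ z ∈ Z, χ (x ^ p ^ k * z * (x ^ p ^ k)⁻¹) = χ z := ⟨m, hFm⟩
  set k := Nat.find hkex with hkdef
  have hFk := Nat.find_spec hkex
  rw [← hkdef] at hFk
  have hkm : k ≤ m := Nat.find_min' hkex hFm
  set n := m - k with hndef
  set τ := x ^ p ^ k with hτdef
  have hτn : τ ^ p ^ (n + 1) = 1 := by
    rw [hτdef, ← pow_mul, ← pow_add, show k + (n + 1) = m + 1 by omega, hx]
  have hτy : τ ^ p ^ n = y := by
    rw [hτdef, ← pow_mul, ← pow_add, show k + n = m by omega]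
  have hτR : τ ∈ Subgroup.normalizer (R : Set X) := Subgroup.pow_mem _ hxR _
  have hyRn : y ∈ Subgroup.normalizer (R : Set X) := Subgroup.pow_mem _ hxR _
  have hyZ : y ∈ Subgroup.normalizer (Z : Set X) := Subgroup.pow_mem _ hxZ _
  have hZc : Z ≤ Subgroup.centralizer (R : Set X) := inf_le_right
  have hτT : ∀ t ∈ T, τ * t * τ⁻¹ ∈ T := mem_radical_conj hcl hTR.le hTiff hτR hFk
  have hτTn : τ ∈ Subgroup.normalizer (T : Set X) := mem_normalizer_map_conj.mpr hτT
  have hyTn : y ∈ Subgroup.normalizer (T : Set X) := hτy ▸ Subgroup.pow_mem _ hτTn _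
  have hinv : ∀ z ∈ Z, τ⁻¹ * z * τ ∈ Z ∧ χ (τ⁻¹ * z * τ) = χ z := by
    intro z hz
    have h1 : τ⁻¹ * z * τ ∈ Z := by simpa using hconjZ τ⁻¹ (Subgroup.inv_mem _ hτR) z hz
    refine ⟨h1, ?_⟩
    have h2 := hFk _ h1
    rw [show τ * (τ⁻¹ * z * τ) * τ⁻¹ = z by group] at h2
    exact h2.symm
  set W := charSpace γ Z χ with hWdef
  obtain ⟨u, huW, hu0⟩ := W.ne_bot_iff.mp hW
  have hτW : τ ∈ stabSub γ W := charSpace_map_mem γ hinv
  have hRW : R ≤ stabSub γ W := fun g hg => charSpace_map_mem γ fun z hz => by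
    rw [mul_assoc, ← hz.2 g hg, inv_mul_cancel_left]
    exact ⟨hz, rfl⟩
  have hnofix : ∀ w ∈ W, γ τ w = w → w = 0 := fun w hw hfw => by
    by_contra hw0
    obtain ⟨v, hv, hvx⟩ := exists_fixed_vector γ x m k hx (by omega) Z hxZ χ
      (fun e he => Nat.find_min hkex he) w hw hw0 hfw
    exact hv (eq_zero_of_sum_pow_eq_zero (γ x) (hPK _) hsum hvx)
  let φ := restrictUnits γ W
  let γW : stabSub γ W →* End K W := (Units.coeHom _).comp φ
  set τ' : stabSub γ W := ⟨τ, hτW⟩ with hτ'def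
  have hτ'n : τ' ^ p ^ (n + 1) = 1 := Subtype.ext hτn
  have hsumW : ∑ i ∈ Finset.range (p ^ (n + 1)), γW τ' ^ i = 0 :=
    sum_pow_eq_zero_of_no_fixed _ (by rw [← map_pow, hτ'n, map_one]) fun w hw =>
      Subtype.ext (hnofix w w.2 (congrArg Subtype.val hw))
  have hcomW : ∀ g ∈ R, ∀ h ∈ R, χ ⁅g, h⁆ = 1 → ∀ w ∈ W, γ g (γ h w) = γ h (γ g w) := by
    intro g hg h hh h1 w hw
    have hw' : γ h (γ g w) ∈ W := hRW hh _ (hRW hg w hw)
    have h2 : γ ⁅g, h⁆ (γ h (γ g w)) = γ h (γ g w) := by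
      rw [hw' _ (hcl g hg h hh), h1, one_smul]
    rw [← h2, ← hγmul, ← hγmul, ← hγmul]
    simp [commutatorElement_def, mul_assoc]
  -- `T` acts by scalars on `W`
  have hyW : y ∈ stabSub γ W := hτy ▸ (stabSub γ W).pow_mem hτW _
  have hyT : ∀ t ∈ T, ∀ w ∈ W, γ t (γ y w) = γ y (γ t w) := by
    intro t ht w hw
    have h1 := commute_of_no_fixed γW τ' n hτ'n hsumW hrp hqr (T.subgroupOf (stabSub γ W))
      ((hR.to_le hTR.le).of_equiv (Subgroup.subgroupOfEquivOfLe (hTR.le.trans hRW)).symm)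
      (mem_normalizer_map_conj.mpr fun t ht => Subgroup.mem_subgroupOf.mpr (hτT t (Subgroup.mem_subgroupOf.mp ht)))
      (fun a ha b hb => LinearMap.ext fun w => Subtype.ext
        (hcomW a (hTR.le ha) b (hTR.le hb) ((hTiff a (hTR.le ha)).mp ha b (hTR.le hb)) w w.2))
      ⟨t, hRW (hTR.le ht)⟩ ht
    have h2 := congrArg Subtype.val (LinearMap.congr_fun h1 ⟨w, hw⟩)
    have e : ((τ' ^ p ^ n : stabSub γ W) : X) = y := hτy
    rw [← e]
    exact h2
  have hscal : ∀ t ∈ T, ∃ a : K, ∀ w ∈ W, γ t w = a • w := by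
    intro t ht
    obtain ⟨h, hh, hz⟩ := exists_twist_mod hZT hTR.le hZc hyTn hyZ hfix ht
    refine ⟨χ (t⁻¹ * (h⁻¹ * (y * h * y⁻¹)))⁻¹, fun w hw => ?_⟩
    have h1 : γ (h⁻¹ * (y * h * y⁻¹)) w = w := by
      have hw' : γ y⁻¹ w ∈ W := (stabSub γ W).inv_mem hyW _ hw
      rw [hγmul, hγmul, hγmul, ← hyT h hh _ hw', ← hγmul y, mul_inv_cancel, map_one, Module.End.one_apply,
        ← hγmul, inv_mul_cancel, map_one, Module.End.one_apply]
    conv_lhs => rw [show t = h⁻¹ * (y * h * y⁻¹) * (t⁻¹ * (h⁻¹ * (y * h * y⁻¹)))⁻¹ by group]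
    rw [hγmul _ (t⁻¹ * _)⁻¹, hw _ (Z.inv_mem hz), map_smul, h1]
  choose! l hl using hscal
  -- the image of `R`
  set R₂ := (R.subgroupOf (stabSub γ W)).map φ with hR₂def
  let fR : R →* R₂ :=
    { toFun := fun g => ⟨φ ⟨g, hRW g.2⟩, ⟨g, hRW g.2⟩, g.2, rfl⟩
      map_one' := Subtype.ext (map_one φ)
      map_mul' := fun a b => Subtype.ext (map_mul φ ⟨a, hRW a.2⟩ ⟨b, hRW b.2⟩) }
  have hfR : ∀ (g : R) (w : W), ((((fR g : (End K W)ˣ) : End K W) w : W) : V) = γ g w := fun g w => rfl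
  have hfRs : Function.Surjective fR := by
    rintro ⟨_, ⟨g, hgN⟩, hg, rfl⟩
    exact ⟨⟨g, hg⟩, rfl⟩
  have : Finite R₂ := Finite.of_surjective _ hfRs
  have hcen : ∀ g : R, fR g ∈ Subgroup.center R₂ ↔ (g : X) ∈ T := by
    intro g
    constructor
    · intro hc
      refine (hTiff g g.2).mpr fun h hh => ?_
      have h1 : fR ⁅g, ⟨h, hh⟩⁆ = 1 := by
        rw [map_commutatorElement, commutatorElement_eq_one_iff_mul_comm]
        exact (Subgroup.mem_center_iff.mp hc _).symm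
      have h2 := hfR ⁅g, ⟨h, hh⟩⁆ ⟨u, huW⟩
      rw [h1] at h2
      have h3 : γ ⁅(g : X), h⁆ u = u := h2.symm
      rw [huW _ (hcl g g.2 h hh)] at h3
      have h4 : (χ ⁅(g : X), h⁆ - 1) • u = 0 := by rw [sub_smul, h3, one_smul, sub_self]
      exact sub_eq_zero.mp ((smul_eq_zero.mp h4).resolve_right hu0)
    · intro hgT
      refine Subgroup.mem_center_iff.mpr fun b => ?_
      obtain ⟨b, rfl⟩ := hfRs b
      refine Subtype.ext (Units.ext (LinearMap.ext fun w => Subtype.ext ?_))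
      show γ b (γ g w) = γ g (γ b w)
      rw [hl g hgT w w.2, hl g hgT _ (hRW b.2 w w.2), map_smul]
  set τb : (End K W)ˣ := φ τ' with hτbdef
  have hτb : ∀ g : R, τb * (fR g : (End K W)ˣ) * τb⁻¹ =
      fR ⟨τ * g * τ⁻¹, mem_normalizer_map_conj.mp hτR g g.2⟩ := fun g => by
    show φ τ' * φ ⟨g, hRW g.2⟩ * (φ τ')⁻¹ = φ _
    rw [← map_inv, ← map_mul, ← map_mul]
    rfl
  have hτR₂ : τb ∈ Subgroup.normalizer (R₂ : Set (End K W)ˣ) :=
    Subgroup.le_normalizer_map φ ⟨τ', mem_normalizer_map_conj.mpr fun a ha => Subgroup.mem_subgroupOf.mpr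
      (mem_normalizer_map_conj.mp hτR a (Subgroup.mem_subgroupOf.mp ha)), rfl⟩
  let σ : MulAut R₂ :=
    { toFun := fun g => ⟨τb * g * τb⁻¹, (Subgroup.mem_normalizer_iff.mp hτR₂ g).mp g.2⟩
      invFun := fun g => ⟨τb⁻¹ * g * τb⁻¹⁻¹,
        (Subgroup.mem_normalizer_iff.mp (Subgroup.inv_mem _ hτR₂) g).mp g.2⟩
      left_inv := fun g => Subtype.ext (by simp [mul_assoc])
      right_inv := fun g => Subtype.ext (by simp [mul_assoc])
      map_mul' := fun a b => Subtype.ext (by simp [mul_assoc]) }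
  have hσfR : ∀ (i : ℕ) (g : R), (σ ^ i) (fR g) =
      fR ⟨τ ^ i * g * (τ ^ i)⁻¹, mem_normalizer_map_conj.mp (Subgroup.pow_mem _ hτR i) g g.2⟩ := by
    intro i
    induction i with
    | zero => intro g; exact congrArg fR (Subtype.ext (by simp))
    | succ i ih =>
      intro g
      rw [pow_succ, MulAut.mul_apply, show σ (fR g) = fR _ from Subtype.ext (hτb g), ih]
      refine congrArg fR (Subtype.ext ?_)
      show τ ^ i * (τ * g * τ⁻¹) * (τ ^ i)⁻¹ = τ ^ (i + 1) * g * (τ ^ (i + 1))⁻¹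
      rw [pow_succ]; group
  set P := p ^ (n + 1) with hPdef
  have hP1 : 1 < P := Nat.one_lt_pow (by omega) hp.out.one_lt
  have hσP : σ ^ P = 1 := MulEquiv.ext fun g => by
    obtain ⟨g, rfl⟩ := hfRs g
    rw [hσfR]
    exact congrArg fR (Subtype.ext (show τ ^ P * g * (τ ^ P)⁻¹ = g by rw [hτn]; simp))
  obtain ⟨U, hUmem, hUmin⟩ := exists_minimal_of_wellFoundedLT
    (fun U : Submodule K W => U ≠ ⊥ ∧ ∀ a : R₂, ∀ w ∈ U, ((a : (End K W)ˣ) : End K W) w ∈ U)
    ⟨⊤, fun h => hu0 (congrArg Subtype.val ((Submodule.mem_bot K).mp (h ▸ Submodule.mem_top : (⟨u, huW⟩ : W) ∈ ⊥))),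
      fun _ _ _ => trivial⟩
  obtain ⟨hU0, hUinv⟩ := hUmem
  have : Nontrivial U := Submodule.nontrivial_iff_ne_bot.mpr hU0
  obtain ⟨w₀, hw₀⟩ := exists_ne (0 : U)
  let π₂ : R₂ →* End K W := (Units.coeHom _).comp R₂.subtype
  let ρU : R₂ →* End K U :=
    { toFun := fun g => (π₂ g).restrict (hUinv g)
      map_one' := LinearMap.ext fun w => Subtype.ext (by show π₂ 1 w = w; rw [map_one]; rfl)
      map_mul' := fun a b => LinearMap.ext fun w => Subtype.ext (by
        show π₂ (a * b) w = π₂ a (π₂ b w)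
        rw [map_mul]; rfl) }
  have hirr : IsIrred ρU := by
    intro W' hW'
    by_cases h : W' = ⊥
    · exact Or.inl h
    refine Or.inr ?_
    have hle : W'.map U.subtype ≤ U := Submodule.map_subtype_le U W'
    have h1 := hUmin (y := W'.map U.subtype) ⟨?_, ?_⟩ hle
    · refine Submodule.map_injective_of_injective U.injective_subtype ?_
      rw [Submodule.map_top, Submodule.range_subtype]
      exact le_antisymm hle h1
    · intro e
      exact h (Submodule.map_injective_of_injective U.injective_subtype (by rw [e, Submodule.map_bot]))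
    · rintro g _ ⟨w, hw, rfl⟩
      exact ⟨ρU g w, hW' g w hw, rfl⟩
  have hcl' : ∀ a b : R₂, ⁅a, b⁆ ∈ Subgroup.center R₂ := by
    intro a b
    obtain ⟨a, rfl⟩ := hfRs a
    obtain ⟨b, rfl⟩ := hfRs b
    rw [← map_commutatorElement, hcen]
    exact hZT (hcl a a.2 b b.2)
  have hscal₂ : ∀ z ∈ Subgroup.center R₂, ∃ a : K, π₂ z = a • 1 := by
    intro z hz
    obtain ⟨g, rfl⟩ := hfRs z
    exact ⟨l g, LinearMap.ext fun w => Subtype.ext (hl g ((hcen g).mp hz) w w.2)⟩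
  have hram : IsFullyRamified ρU := fun g hg => by
    rw [Subgroup.mem_center_iff]
    intro h
    have h1 : ρU ⁅g, h⁆ = 1 := by
      rw [commutatorElement_def, map_mul, map_mul, map_mul, hg h, mul_assoc (ρU h), map_mul_map_inv, mul_one,
        map_mul_map_inv]
    obtain ⟨a, ha⟩ := hscal₂ _ (hcl' g h)
    have h3 : π₂ ⁅g, h⁆ (w₀ : W) = (w₀ : W) := congrArg Subtype.val (LinearMap.congr_fun h1 w₀)
    rw [ha] at h3
    have h5 : (a - 1) • (w₀ : W) = 0 := by rw [sub_smul, one_smul, sub_eq_zero]; exact h3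
    have ha1 := sub_eq_zero.mp ((smul_eq_zero.mp h5).resolve_right fun e => hw₀ (Subtype.ext e))
    rw [ha1, one_smul] at ha
    exact (commutatorElement_eq_one_iff_mul_comm.mp (Subtype.ext (Units.ext ha))).symm
  have hσz : ∀ z ∈ Subgroup.center R₂, ρU (σ z) = ρU z := fun z hz => by
    obtain ⟨a, ha⟩ := hscal₂ z hz
    refine congrArg ρU (Subtype.ext (Units.ext ?_))
    show (τb : End K W) * π₂ z * (τb⁻¹ : (End K W)ˣ) = π₂ z
    rw [ha, mul_smul_comm, mul_one, smul_mul_assoc, ← Units.val_mul, mul_inv_cancel]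
    rfl
  obtain ⟨T₀, hT₀, hT₀ρ⟩ := exists_twist hirr hcl' hram σ (by omega) hσP hσz
  obtain ⟨f, μ, hμ, hf0, hfg, hfS⟩ := exists_equivariant_map_up_to_root ρU π₂ σ T₀ (τb : End K W)
    (P := P) (by omega) hT₀ (by
      rw [← Units.val_pow_eq_pow_val, hτbdef, ← map_pow, hτ'n, map_one, Units.val_one]) hT₀ρ
    (fun g => by
      show ((τb * g : (End K W)ˣ) : End K W) = ((τb * g * τb⁻¹ * τb : (End K W)ˣ) : End K W)
      rw [inv_mul_cancel_right])
    U.subtype (fun e => hw₀ (Subtype.ext (LinearMap.congr_fun e w₀))) (fun g => rfl)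
  set S := μ • T₀ with hSdef
  have hSP : S ^ P = 1 := by rw [hSdef, smul_pow, hμ, hT₀, one_smul]
  have hSρ : ∀ g, S * ρU g = ρU (σ g) * S := fun g => by
    rw [hSdef, smul_mul_assoc, hT₀ρ, mul_smul_comm]
  have hfinj : Function.Injective f := by
    rw [← LinearMap.ker_eq_bot]
    refine (hirr _ fun g w hw => ?_).resolve_right fun h => hf0 (LinearMap.ker_eq_top.mp h)
    rw [LinearMap.mem_ker] at hw ⊢
    have := LinearMap.congr_fun (hfg g) w
    simp only [LinearMap.comp_apply] at this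
    rw [← this, hw, map_zero]
  have hSsum : ∑ i ∈ Finset.range P, S ^ i = 0 := sum_pow_eq_zero_of_no_fixed S hSP fun w hw =>
    hfinj (by
      rw [map_zero]
      refine Subtype.ext (hnofix _ (f w).2 ?_)
      exact congrArg Subtype.val ((hfS w).trans (by rw [hw])))
  let bas := Module.Basis.mk (linearIndependent_cosetOp hirr hcl' hram) (span_cosetOp_eq_top hirr).ge
  have hmap : (Subgroup.center R₂).map σ.toMonoidHom = Subgroup.center R₂ :=
    Subgroup.characteristic_iff_map_eq.mp inferInstance σ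
  let σq : MulAut (R₂ ⧸ Subgroup.center R₂) := QuotientGroup.congr _ _ σ hmap
  let π : Equiv.Perm (R₂ ⧸ Subgroup.center R₂) := σq.toEquiv
  have hπ : ∀ (i : ℕ) (g : R₂), (π ^ i) (g : R₂ ⧸ Subgroup.center R₂) =
      (((σ ^ i) g : R₂) : R₂ ⧸ Subgroup.center R₂) := by
    intro i
    induction i with
    | zero => intro g; rfl
    | succ i ih =>
      intro g
      rw [pow_succ, Equiv.Perm.mul_apply, pow_succ σ, MulAut.mul_apply, ← ih (σ g)]
      rfl
  obtain ⟨hdvdN, hNle⟩ := finrank_lt_of_free_conj S hP1 (hPK _) hSP hSsum Module.finrank_pos bas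
    (1 : R₂ ⧸ Subgroup.center R₂) π (map_one σq)
    (Equiv.ext fun a => QuotientGroup.induction_on a fun g => by rw [hπ, hσP]; rfl)
    (fun a => QuotientGroup.induction_on a fun g => by
      intro hg i hi0 hiP hfx
      obtain ⟨g, rfl⟩ := hfRs g
      rw [hπ, hσfR] at hfx
      have h0 : (g : X)⁻¹ * (τ ^ i * g * (τ ^ i)⁻¹) ∈ T := by
        have h1 := QuotientGroup.eq.mp hfx.symm
        rw [← map_inv, ← map_mul, hcen] at h1
        exact h1
      apply hg
      refine (QuotientGroup.eq_one_iff _).mpr ((hcen g).mpr ?_)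
      obtain ⟨e, v, he, -, heq⟩ := exists_pow_eq_prime_pow hp.out hτn hi0 hiP
      have hpow : ∀ j, (g : X)⁻¹ * ((τ ^ i) ^ j * g * ((τ ^ i) ^ j)⁻¹) ∈ T := by
        intro j
        induction j with
        | zero => simp
        | succ j ihj =>
          have h1 := mem_normalizer_map_conj.mp (Subgroup.pow_mem _ (Subgroup.pow_mem _ hτTn i) j) _ h0
          have h2 := T.mul_mem ihj h1
          convert h2 using 1
          rw [pow_succ]
          group
      have h3 := hpow (v * p ^ (n - e))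
      rw [pow_mul, heq, ← pow_mul, ← pow_add, show e + (n - e) = n by omega, hτy] at h3
      exact mem_of_twist_mem hZT hTR.le hZc hyTn hyZ hyRn hfix g.2 h3)
    (fun a => by
      obtain ⟨c, -, hc⟩ := exists_smul_cosetOp hirr (σ a.out)
      refine ⟨c, ?_⟩
      simp only [bas, Module.Basis.mk_apply]
      have hidx : ((σ a.out : R₂) : R₂ ⧸ Subgroup.center R₂) = π a := by
        rw [← pow_one σ, ← hπ, QuotientGroup.out_eq', pow_one]
      rw [hidx] at hc
      rw [show cosetOp ρU a = ρU a.out from rfl, hSρ, hc, smul_mul_assoc])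
  set N := Module.finrank K U
  have hN2 : N ^ 2 = T.relIndex R := by
    rw [finrank_sq hirr hcl' hram, ← Subgroup.index_eq_card, ← Subgroup.index_comap_of_surjective _ hfRs,
      Subgroup.relIndex]
    congr 1
    ext g
    rw [Subgroup.mem_comap, Subgroup.mem_subgroupOf]
    exact hcen g
  have hTRne : T.relIndex R ≠ 1 := fun h => hTR.not_ge (Subgroup.relIndex_eq_one.mp h)
  have hN1 : 2 ≤ N := by
    by_contra hlt
    interval_cases N
    · exact Subgroup.FiniteIndex.index_ne_zero (hN2.symm : T.relIndex R = 0)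
    · exact hTRne (by rw [← hN2]; rfl)
  have hNP : N + 1 = P := by
    have h1 : N ^ 2 - 1 = (N + 1) * (N - 1) := by rw [← Nat.sq_sub_sq, one_pow]
    rw [h1] at hdvdN
    rcases em (p ∣ N - 1) with h2 | h2
    · exfalso
      have h3 : ¬ p ∣ N + 1 := fun h3 => by
        have h4 := Nat.dvd_sub h3 h2
        rw [show N + 1 - (N - 1) = 2 by omega] at h4
        exact hp2 ((Nat.prime_dvd_prime_iff_eq hp.out Nat.prime_two).mp h4)
      have h5 := Nat.le_of_dvd (by omega)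
        ((Nat.Coprime.pow_left (n + 1) (hp.out.coprime_iff_not_dvd.mpr h3)).dvd_of_dvd_mul_left hdvdN)
      rw [← hPdef] at h5
      omega
    · have h5 := Nat.le_of_dvd (by omega)
        ((Nat.Coprime.pow_left (n + 1) (hp.out.coprime_iff_not_dvd.mpr h2)).dvd_of_dvd_mul_right hdvdN)
      rw [← hPdef] at h5
      omega
  obtain ⟨jR, hjR⟩ := hR.exists_card_eq
  obtain ⟨d, -, hd⟩ := (Nat.dvd_prime_pow (Fact.out : q.Prime)).mp
    ((dvd_pow_self N two_ne_zero).trans (hjR ▸ hN2 ▸ Subgroup.index_dvd_card _ : N ^ 2 ∣ q ^ jR))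
  have hd1 : 1 ≤ d := by
    rcases d with _ | d
    · rw [pow_zero] at hd; omega
    · omega
  obtain ⟨rfl, -⟩ := eq_two_of_pow_eq_pow_add_one hp2 Fact.out hd1
    (show p ^ (n + 1) = q ^ d + 1 by rw [← hd, hNP])
  -- the exceptional case: the conjugate radicals are independent
  have hTn : (T.subgroupOf R).Normal := ⟨fun t ht g => by
    rw [Subgroup.mem_subgroupOf] at ht ⊢
    have h1 : ⁅(g : X), (t : X)⁆ ∈ T := hZT (hcl _ g.2 _ t.2)
    have := T.mul_mem h1 ht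
    simpa [commutatorElement_def, mul_assoc] using this⟩
  have hxn : ∀ i : ℕ, x ^ i ∈ Subgroup.normalizer (R : Set X) := fun i => Subgroup.pow_mem _ hxR i
  let F : R →* (Fin (p ^ k) → R ⧸ T.subgroupOf R) :=
    { toFun := fun g i => ((⟨x ^ (i : ℕ) * g * (x ^ (i : ℕ))⁻¹, mem_normalizer_map_conj.mp (hxn i) g g.2⟩ : R) :
        R ⧸ T.subgroupOf R)
      map_one' := funext fun i => congrArg QuotientGroup.mk (Subtype.ext (by simp))
      map_mul' := fun a b => funext fun i => congrArg QuotientGroup.mk (Subtype.ext (by simp [mul_assoc])) }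
  have hFker : ∀ g : R, F g = 1 ↔ ∀ i, i < p ^ k → x ^ i * g * (x ^ i)⁻¹ ∈ T := by
    intro g
    rw [funext_iff]
    exact ⟨fun h i hi => Subgroup.mem_subgroupOf.mp ((QuotientGroup.eq_one_iff _).mp (h ⟨i, hi⟩)),
      fun h i => (QuotientGroup.eq_one_iff _).mpr (Subgroup.mem_subgroupOf.mpr (h i i.2))⟩
  set D := F.ker.map R.subtype with hDdef
  have hDR : D ≤ R := Subgroup.map_subtype_le _
  have hDsub : D.subgroupOf R = F.ker := by
    rw [← Subgroup.comap_subtype, hDdef, Subgroup.comap_map_eq_self_of_injective R.subtype_injective]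
  have : (D.subgroupOf R).Normal := hDsub ▸ inferInstance
  have hpk : 0 < p ^ k := pow_pos hp.out.pos k
  have hDT : D ≤ T := by
    rintro _ ⟨g, hg, rfl⟩
    have := (hFker g).mp hg 0 hpk
    simpa using this
  have hZD : Z ≤ D := fun z hz => ⟨⟨z, hz.1⟩, (hFker _).mpr fun i _ => hZT (hconjZ _ (hxn i) z hz), rfl⟩
  have hxD : x ∈ Subgroup.normalizer (D : Set X) := mem_normalizer_map_conj.mpr (by
    rintro _ ⟨g, hg, rfl⟩
    refine ⟨⟨x * g * x⁻¹, mem_normalizer_map_conj.mp hxR g g.2⟩, (hFker _).mpr fun i hi => ?_, rfl⟩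
    show x ^ i * (x * g * x⁻¹) * (x ^ i)⁻¹ ∈ T
    rw [show x ^ i * (x * g * x⁻¹) * (x ^ i)⁻¹ = x ^ (i + 1) * g * (x ^ (i + 1))⁻¹ by rw [pow_succ]; group]
    rcases eq_or_lt_of_le (Nat.succ_le_of_lt hi) with h | h
    · rw [show x ^ (i + 1) = τ by rw [hτdef, ← h]]
      exact hτT _ (by simpa using (hFker g).mp hg 0 hpk)
    · exact (hFker g).mp hg (i + 1) h)
  have hdvdD := dvd_relIndex_sub_one hx hDR hxR hxD fun g hg hgD =>
    mem_of_twist_mem hZD hDR hZc (Subgroup.pow_mem _ hxD _) hyZ hyRn hfix hg hgD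
  have hDrel : D.relIndex R = Nat.card F.range := by rw [Subgroup.relIndex, hDsub, Subgroup.index_ker]
  have hTcard : Nat.card (R ⧸ T.subgroupOf R) = 2 ^ (2 * d) := by
    rw [← Subgroup.index_eq_card, ← Subgroup.relIndex, ← hN2, hd, ← pow_mul, mul_comm]
  have hPi : Nat.card (Fin (p ^ k) → R ⧸ T.subgroupOf R) = 2 ^ (2 * d * p ^ k) := by
    rw [Nat.card_fun, Nat.card_fin, hTcard, ← pow_mul]
  obtain ⟨e, -, he⟩ := (Nat.dvd_prime_pow Nat.prime_two).mp
    (hPi ▸ Subgroup.card_subgroup_dvd_card F.range)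
  have he0 : 0 < e := by
    rcases e with _ | e
    · exfalso
      refine hTR.not_ge (le_trans ?_ hDT)
      rw [← Subgroup.relIndex_eq_one, hDrel, he, pow_zero]
    · omega
  have hFs : Function.Surjective F := by
    rw [← MonoidHom.range_eq_top]
    refine Subgroup.eq_top_of_le_card _ ?_
    rw [hPi, he]
    refine Nat.pow_le_pow_right Nat.two_pos (mul_pow_le_of_dvd (n := n) hp2 hd1 he0 (by rw [← hd, hNP]) ?_)
    rw [show n + 1 + k = m + 1 by omega, ← he, ← hDrel]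
    exact hdvdD
  obtain ⟨a₀, ha₀, ha₀T⟩ := SetLike.exists_of_lt hTR
  obtain ⟨a, hFa⟩ := hFs (Pi.mulSingle ⟨0, hpk⟩ ((⟨a₀, ha₀⟩ : R) : R ⧸ T.subgroupOf R))
  have haT : (a : X) ∉ T := fun h => by
    have h1 := congrFun hFa ⟨0, hpk⟩
    rw [Pi.mulSingle_eq_same] at h1
    have h2 := Subgroup.mem_subgroupOf.mp (QuotientGroup.eq.mp h1)
    simp only [Subgroup.coe_mul, Subgroup.coe_inv, pow_zero, one_mul, inv_one, mul_one] at h2
    exact ha₀T (by simpa using T.mul_mem h h2)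
  obtain ⟨h₀, hh₀, hχ₀⟩ : ∃ h ∈ R, χ ⁅(a : X), h⁆ ≠ 1 := by
    by_contra hcon
    push Not at hcon
    exact haT ((hTiff a a.2).mpr hcon)
  obtain ⟨b, hFb⟩ := hFs (Pi.mulSingle ⟨0, hpk⟩ ((⟨h₀, hh₀⟩ : R) : R ⧸ T.subgroupOf R))
  set c := ⁅(a : X), (b : X)⁆ with hcdef
  have hcZ : c ∈ Z := hcl a a.2 b b.2
  have hχmul : ∀ s ∈ Z, ∀ t ∈ Z, χ (s * t) = χ s * χ t := fun s hs t ht => by
    have h1 := huW _ (Z.mul_mem hs ht)
    rw [hγmul, huW t ht, map_smul, huW s hs, smul_smul] at h1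
    have h2 : (χ t * χ s - χ (s * t)) • u = 0 := by rw [sub_smul, h1, sub_self]
    rw [← sub_eq_zero.mp ((smul_eq_zero.mp h2).resolve_right hu0), mul_comm]
  have hχ1 : χ 1 = 1 := by
    have h1 := huW 1 (one_mem _)
    rw [map_one, Module.End.one_apply] at h1
    have h2 : (χ 1 - 1) • u = 0 := by rw [sub_smul, ← h1, one_smul, sub_self]
    exact sub_eq_zero.mp ((smul_eq_zero.mp h2).resolve_right hu0)
  have hTl : ∀ t ∈ T, ∀ g ∈ R, χ ⁅g, t⁆ = 1 := fun t ht g hg => by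
    have h1 := hχmul _ (hcl t (hTR.le ht) g hg) _ (Z.inv_mem (hcl t (hTR.le ht) g hg))
    rw [mul_inv_cancel, hχ1, (hTiff t (hTR.le ht)).mp ht g hg, one_mul, commutatorElement_inv] at h1
    exact h1.symm
  have hχc : χ c ≠ 1 := by
    have h1 := congrFun hFb ⟨0, hpk⟩
    rw [Pi.mulSingle_eq_same] at h1
    have h2 := Subgroup.mem_subgroupOf.mp (QuotientGroup.eq.mp h1.symm)
    simp only [Subgroup.coe_mul, Subgroup.coe_inv, pow_zero, one_mul, inv_one, mul_one] at h2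
    set t := h₀⁻¹ * (b : X) with htdef
    have htR : t ∈ R := hTR.le h2
    have e : c = ⁅(a : X), h₀⁆ * (h₀ * ⁅(a : X), t⁆ * h₀⁻¹) := by
      rw [hcdef, show (b : X) = h₀ * t by rw [htdef]; group]
      simp only [commutatorElement_def]; group
    have hz := hcl a a.2 t htR
    rw [hz.2 h₀ hh₀, mul_inv_cancel_right] at e
    rw [e, hχmul _ (hcl a a.2 h₀ hh₀) _ hz, hTl t h2 a a.2, mul_one]
    exact hχ₀
  -- the norm of `c` is a fixed point of `x`, hence trivial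
  have : IsMulCommutative Z := ⟨⟨fun s t => Subtype.ext (t.2.2 s s.2.1)⟩⟩
  let α : Z →* Z :=
    { toFun := fun s => ⟨x * s * x⁻¹, hconjZ x hxR s s.2⟩
      map_one' := Subtype.ext (by simp)
      map_mul' := fun s t => Subtype.ext (by simp [mul_assoc]) }
  let g : ℕ → Z := fun i => ⟨x ^ i * c * (x ^ i)⁻¹, hconjZ _ (hxn i) c hcZ⟩
  set z₀ := ∏ i ∈ Finset.range (p ^ (m + 1)), g i with hz₀def
  have hαz₀ : α z₀ = z₀ := by
    rw [hz₀def, map_prod]
    have e1 := Finset.prod_range_succ' g (p ^ (m + 1))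
    have e2 := Finset.prod_range_succ g (p ^ (m + 1))
    rw [e2, show g (p ^ (m + 1)) = g 0 from Subtype.ext (by simp only [g]; rw [hx, pow_zero])] at e1
    refine Eq.trans (Finset.prod_congr rfl fun i _ => ?_) (mul_right_cancel e1).symm
    exact Subtype.ext (by simp only [g, α, MonoidHom.coe_mk, OneHom.coe_mk]; rw [pow_succ']; group)
  have hz₀1 : (z₀ : X) = 1 := hfpf z₀ (hRR₀ z₀.2.1)
    (mul_inv_eq_iff_eq_mul.mp (congrArg Subtype.val hαz₀))
  let χh : Z →* K :=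
    { toFun := fun s => χ s
      map_one' := hχ1
      map_mul' := fun s t => hχmul s s.2 t t.2 }
  have hχper : ∀ j l, l < p ^ k → χh (g (p ^ k * j + l)) = if l = 0 then χ c else 1 := by
    intro j l hl'
    show χ (x ^ (p ^ k * j + l) * c * (x ^ (p ^ k * j + l))⁻¹) = _
    have h1 : ∀ j : ℕ, ∀ z ∈ Z, χ (τ ^ j * z * (τ ^ j)⁻¹) = χ z := by
      intro j
      induction j with
      | zero => intro z _; simp
      | succ j ih =>
        intro z hz
        rw [pow_succ, show τ ^ j * τ * z * (τ ^ j * τ)⁻¹ = τ ^ j * (τ * z * τ⁻¹) * (τ ^ j)⁻¹ by group,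
          ih _ (hconjZ τ hτR z hz), hFk z hz]
    rw [pow_add, pow_mul, ← hτdef, show τ ^ j * x ^ l * c * (τ ^ j * x ^ l)⁻¹ =
      τ ^ j * (x ^ l * c * (x ^ l)⁻¹) * (τ ^ j)⁻¹ by group, h1 j _ (hconjZ _ (hxn l) c hcZ)]
    split_ifs with h0
    · subst h0; simp
    · have h2 := congrFun hFa ⟨l, hl'⟩
      rw [Pi.mulSingle_eq_of_ne (fun e => h0 (congrArg Fin.val e))] at h2
      have h3 : x ^ l * (a : X) * (x ^ l)⁻¹ ∈ T := Subgroup.mem_subgroupOf.mp ((QuotientGroup.eq_one_iff _).mp h2)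
      rw [show x ^ l * c * (x ^ l)⁻¹ = ⁅x ^ l * (a : X) * (x ^ l)⁻¹, x ^ l * (b : X) * (x ^ l)⁻¹⁆ by
        rw [hcdef]; simp only [commutatorElement_def]; group]
      exact (hTiff _ (hTR.le h3)).mp h3 _ (mem_normalizer_map_conj.mp (hxn l) b b.2)
  have hprod : ∀ J, ∏ i ∈ Finset.range (p ^ k * J), χh (g i) = χ c ^ J := by
    intro J
    induction J with
    | zero => simp
    | succ J ih =>
      rw [Nat.mul_succ, Finset.prod_range_add, ih, pow_succ]
      congr 1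
      rw [Finset.prod_congr rfl fun l hl' => hχper J l (Finset.mem_range.mp hl'),
        Finset.prod_ite_eq' _ 0 fun _ => χ c, if_pos (Finset.mem_range.mpr hpk)]
  have h1 : χ c ^ P = 1 := by
    rw [← hprod P, hPdef, ← pow_add, show k + (n + 1) = m + 1 by omega, ← map_prod, ← hz₀def]
    show χ (z₀ : X) = 1
    rw [hz₀1, hχ1]
  obtain ⟨j, hj⟩ := hR ⟨c, hcZ.1⟩
  have h2 : χ c ^ 2 ^ j = 1 := by
    rw [show χ c = χh ⟨c, hcZ⟩ from rfl, ← map_pow,
      show (⟨c, hcZ⟩ : Z) ^ 2 ^ j = 1 from Subtype.ext (congrArg Subtype.val hj : c ^ 2 ^ j = 1), map_one]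
  exact hχc (orderOf_eq_one_iff.mp (Nat.eq_one_of_dvd_coprimes
    (Nat.Coprime.pow (n + 1) j ((Nat.coprime_primes hp.out Nat.prime_two).mpr hp2))
    (orderOf_dvd_of_pow_eq_one h1) (orderOf_dvd_of_pow_eq_one h2)))

end CfsgLib.HallHigman
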