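import Mathlib

/-!
# A unipotent operator of order `P` whose conjugation action is trivial plus free

Such an operator, if it satisfies `(T - 1)^(P-1) = 0`, is a single Jordan block of size `P - 1`.
-/

namespace CfsgLib.HallHigman

open Finset Module

/-- In characteristic `p`, `∑_{i < p^m} s^i = (s - 1)^(p^m - 1)`. -/
theorem geom_sum_eq_sub_one_pow {E : Type*} [Ring E] (p m : ℕ) [hp : Fact p.Prime] (hE : (p : E) = 0)
    (s : E) : ∑ i ∈ range (p ^ m), s ^ i = (s - 1) ^ (p ^ m - 1) := by
  rcases subsingleton_or_nontrivial E with h | h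
  · exact Subsingleton.elim _ _
  have : CharP E p := (CharP.charP_iff_prime_eq_zero hp.out).mpr hE
  let : Algebra (ZMod p) E := ZMod.algebra E p
  have key : ∑ i ∈ range (p ^ m), (Polynomial.X : Polynomial (ZMod p)) ^ i =
      (Polynomial.X - 1) ^ (p ^ m - 1) := by
    have hX : (Polynomial.X - 1 : Polynomial (ZMod p)) ≠ 0 := by
      simpa using Polynomial.X_sub_C_ne_zero (1 : ZMod p)
    apply mul_right_cancel₀ hX
    rw [geom_sum_mul, ← pow_succ, Nat.sub_add_cancel (Nat.one_le_pow _ _ hp.out.pos),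
      sub_pow_char_pow, one_pow]
  simpa using congrArg (Polynomial.aeval s) key

variable {K U : Type*} [Field K] [AddCommGroup U] [Module K U] [FiniteDimensional K U] [Nontrivial U]

/-- The endo-trivial argument. -/
theorem single_block_of_free_conj {ι : Type*} [Fintype ι] (T : End K U) (P : ℕ) (hP : 2 ≤ P)
    (hT : T ^ P = 1) (hrel : ∑ i ∈ range P, T ^ i = 0) (hnil : (T - 1) ^ (P - 1) = 0)
    (o : ι) (e : Basis ι K (End K U)) (ho : e o = 1) (σ : Equiv.Perm ι) (hσo : σ o = o)
    (hσP : σ ^ P = 1) (hσ : ∀ a, a ≠ o → ∀ i, 0 < i → i < P → (σ ^ i) a ≠ a)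
    (hconj : ∀ a, ∃ μ : K, μ ≠ 0 ∧ T * e a = μ • (e (σ a) * T)) (hne : ∃ a, a ≠ o) :
    finrank K U + 1 = P ∧ ∀ j < P - 1, (T - 1) ^ j ≠ 0 := by
  classical
  have hP0 : 0 < P := by omega
  set Ti := T ^ (P - 1) with hTi
  have hTTi : T * Ti = 1 := by rw [hTi, ← pow_succ', Nat.sub_add_cancel (by omega), hT]
  have hTiT : Ti * T = 1 := by rw [hTi, ← pow_succ, Nat.sub_add_cancel (by omega), hT]
  have hpowmod : ∀ (i : ℕ) (a : ι), (σ ^ i) a = (σ ^ (i % P)) a := fun i a => by
    rw [← pow_eq_pow_mod i hσP]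
  have hfixo : ∀ i : ℕ, (σ ^ i) o = o := by
    intro i
    induction i with
    | zero => rfl
    | succ i ih => rw [pow_succ, Equiv.Perm.mul_apply, hσo, ih]
  let f := Fintype.equivFin ι
  let S : Finset ι := univ.filter fun a => a ≠ o ∧ ∀ i, f a ≤ f ((σ ^ i) a)
  have hS : ∀ a, a ∈ S ↔ a ≠ o ∧ ∀ i, f a ≤ f ((σ ^ i) a) := fun a => by simp [S]
  let Φ : Option (S × Fin P) → ι := fun j => j.elim o fun x => (σ ^ (x.2 : ℕ)) x.1
  have hΦo : ∀ x : S × Fin P, Φ (some x) ≠ o := fun x h => by
    have h1 : (σ ^ (x.2 : ℕ)) (x.1 : ι) = (σ ^ (x.2 : ℕ)) o := by rw [hfixo]; exact h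
    exact ((hS _).mp x.1.2).1 ((σ ^ (x.2 : ℕ)).injective h1)
  have hΦi : Function.Injective Φ := by
    rintro (_ | ⟨⟨a, ha⟩, i⟩) (_ | ⟨⟨b, hb⟩, j⟩) h
    · rfl
    · exact absurd h.symm (hΦo _)
    · exact absurd h (hΦo _)
    · simp only [Φ, Option.elim_some] at h
      have h1 : (σ ^ (P - (j : ℕ) + i)) a = b := by
        rw [pow_add, Equiv.Perm.mul_apply, h, ← Equiv.Perm.mul_apply, ← pow_add,
          Nat.sub_add_cancel j.2.le, hσP, Equiv.Perm.one_apply]
      have h2 : (σ ^ (P - (i : ℕ) + j)) b = a := by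
        rw [pow_add, Equiv.Perm.mul_apply, ← h, ← Equiv.Perm.mul_apply, ← pow_add,
          Nat.sub_add_cancel i.2.le, hσP, Equiv.Perm.one_apply]
      have hab : a = b := f.injective (le_antisymm (h1 ▸ ((hS a).mp ha).2 _) (h2 ▸ ((hS b).mp hb).2 _))
      subst hab
      have hij : i = j := by
        rw [hpowmod] at h1
        by_contra hne
        refine hσ a ((hS a).mp ha).1 _ (Nat.pos_of_ne_zero ?_) (Nat.mod_lt _ hP0) h1
        intro h0
        apply hne
        apply Fin.ext
        obtain ⟨q, hq⟩ := Nat.dvd_of_mod_eq_zero h0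
        have hi := i.2
        have hj := j.2
        have : q = 1 := by
          rcases q with _ | _ | q
          · omega
          · rfl
          · have : P * (q + 1 + 1) = P * q + P + P := by ring
            omega
        subst this
        omega
      rw [hij]
  have hΦs : Function.Surjective Φ := by
    intro a
    by_cases hao : a = o
    · exact ⟨none, hao.symm⟩
    obtain ⟨k, hk, hmin⟩ := Finset.exists_min_image (range P) (fun i => f ((σ ^ i) a)) ⟨0, by simpa⟩
    rw [Finset.mem_range] at hk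
    have hb : (σ ^ k) a ∈ S := by
      refine (hS _).mpr ⟨fun h => hao ((σ ^ k).injective (h.trans (hfixo k).symm)), fun i => ?_⟩
      rw [← Equiv.Perm.mul_apply, ← pow_add, hpowmod (i + k)]
      exact hmin _ (Finset.mem_range.mpr (Nat.mod_lt _ hP0))
    refine ⟨some (⟨_, hb⟩, ⟨(P - k) % P, Nat.mod_lt _ hP0⟩), ?_⟩
    simp only [Φ, Option.elim_some]
    rw [← hpowmod, ← Equiv.Perm.mul_apply, ← pow_add, Nat.sub_add_cancel hk.le, hσP, Equiv.Perm.one_apply]
  -- conjugates of the basis vectors
  have hconj' : ∀ (i : ℕ) (a : ι), ∃ ν : K, ν ≠ 0 ∧ T ^ i * e a * Ti ^ i = ν • e ((σ ^ i) a) := by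
    intro i
    induction i with
    | zero => exact fun a => ⟨1, one_ne_zero, by simp⟩
    | succ i ih =>
      intro a
      obtain ⟨ν, hν, h⟩ := ih a
      obtain ⟨μ, hμ, h'⟩ := hconj ((σ ^ i) a)
      refine ⟨ν * μ, mul_ne_zero hν hμ, ?_⟩
      rw [pow_succ' T, pow_succ Ti, show T * T ^ i * e a * (Ti ^ i * Ti) = T * (T ^ i * e a * Ti ^ i) * Ti by
        simp only [mul_assoc], h, mul_smul_comm, h', smul_smul, smul_mul_assoc, mul_assoc, hTTi, mul_one,
        pow_succ', Equiv.Perm.mul_apply]
  choose ν hν0 hν using hconj'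
  let w : Option (S × Fin P) → Kˣ := fun j => j.elim 1 fun x => Units.mk0 _ (hν0 x.2 x.1)
  let B : Basis (Option (S × Fin P)) K (End K U) :=
    (e.reindex (Equiv.ofBijective Φ ⟨hΦi, hΦs⟩).symm).unitsSMul w
  have hBnone : B none = 1 := by
    rw [Basis.unitsSMul_apply, Basis.reindex_apply, Equiv.symm_symm]
    show (1 : Kˣ) • e o = 1
    rw [one_smul, ho]
  have hBsome : ∀ x : S × Fin P, B (some x) = T ^ (x.2 : ℕ) * e x.1 * Ti ^ (x.2 : ℕ) := fun x => by
    rw [hν, Basis.unitsSMul_apply, Basis.reindex_apply, Equiv.symm_symm]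
    rfl
  -- conjugation permutes the basis
  let rot : Fin P → Fin P := fun i => ⟨((i : ℕ) + 1) % P, Nat.mod_lt _ hP0⟩
  have hTiP : Ti ^ P = 1 := by rw [hTi, ← pow_mul, mul_comm, pow_mul, hT, one_pow]
  have hrot : ∀ (a : S) (i : Fin P), T * B (some (a, i)) * Ti = B (some (a, rot i)) := fun a i => by
    rw [hBsome, hBsome, show T * (T ^ (i : ℕ) * e a * Ti ^ (i : ℕ)) * Ti =
      T ^ ((i : ℕ) + 1) * e a * Ti ^ ((i : ℕ) + 1) by simp only [pow_succ', mul_assoc, ← (Commute.pow_self Ti i).eq],
      pow_eq_pow_mod ((i : ℕ) + 1) hT, pow_eq_pow_mod ((i : ℕ) + 1) hTiP]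
  let L : (Option S → K) →ₗ[K] End K U :=
    ∑ j : Option (S × Fin P), (LinearMap.proj (j.map Prod.fst)).smulRight (B j)
  have hL : ∀ d, L d = ∑ j : Option (S × Fin P), d (j.map Prod.fst) • B j := fun d => by
    simp [L, LinearMap.sum_apply]
  have hLi : Function.Injective L := by
    intro d d' h
    rw [hL, hL] at h
    have h' := Fintype.linearIndependent_iff.mp B.linearIndependent
      (fun j => d (j.map Prod.fst) - d' (j.map Prod.fst))
      (by simp only [sub_smul, Finset.sum_sub_distrib, h, sub_self])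
    funext a
    cases a with
    | none => exact sub_eq_zero.mp (h' none)
    | some a => exact sub_eq_zero.mp (h' (some (a, ⟨0, hP0⟩)))
  have hLdec : ∀ d, L d = d none • 1 + ∑ a : S, d (some a) • ∑ i : Fin P, B (some (a, i)) := fun d => by
    rw [hL, Fintype.sum_option, hBnone, Fintype.sum_prod_type]
    simp only [Option.map_none, Option.map_some, Finset.smul_sum]
  have hLcomm : ∀ d, T * L d = L d * T := by
    intro d
    have h1 : ∀ a : S, T * (∑ i : Fin P, B (some (a, i))) * Ti = ∑ i : Fin P, B (some (a, i)) := by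
      intro a
      rw [Finset.mul_sum, Finset.sum_mul]
      simp only [hrot]
      have hbij : Function.Bijective rot := by
        refine (Finite.injective_iff_bijective).mp fun i j h => Fin.ext ?_
        have h' : ((i : ℕ) + 1) % P = ((j : ℕ) + 1) % P := congrArg Fin.val h
        have h'' : (i : ℕ) % P = (j : ℕ) % P := Nat.ModEq.add_right_cancel' 1 h'
        rwa [Nat.mod_eq_of_lt i.2, Nat.mod_eq_of_lt j.2] at h''
      exact Equiv.sum_comp (Equiv.ofBijective rot hbij) (fun i => B (some (a, i)))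
    have h2 : T * L d * Ti = L d := by
      rw [hLdec, mul_add, add_mul, mul_smul_comm, mul_one, smul_mul_assoc, hTTi, Finset.mul_sum,
        Finset.sum_mul]
      simp only [mul_smul_comm, smul_mul_assoc, h1]
    calc T * L d = T * L d * Ti * T := by rw [mul_assoc (T * L d), hTiT, mul_one]
      _ = L d * T := by rw [h2]
  have hLsurj : ∀ C, T * C = C * T → ∃ d, L d = C := by
    intro C hC
    refine ⟨fun a => a.elim (B.repr C none) fun a => B.repr C (some (a, ⟨0, hP0⟩)), ?_⟩
    have hC' : T * C * Ti = C := by rw [hC, mul_assoc, hTTi, mul_one]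
    let ψ : Option (S × Fin P) → Option (S × Fin P) := fun j => j.map fun x => (x.1, rot x.2)
    have hψ : ∀ j, T * B j * Ti = B (ψ j) := by
      rintro (_ | ⟨a, i⟩)
      · simp [ψ, hBnone, hTTi]
      · exact hrot a i
    have hcoef : ∀ j, B.repr C (ψ j) = B.repr C j := by
      have hψi : Function.Injective ψ := by
        refine Option.map_injective fun x y h => ?_
        simp only [Prod.mk.injEq] at h
        refine Prod.ext h.1 (Fin.ext ?_)
        have h' : ((x.2 : ℕ) + 1) % P = ((y.2 : ℕ) + 1) % P := congrArg Fin.val h.2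
        have h'' : (x.2 : ℕ) % P = (y.2 : ℕ) % P := Nat.ModEq.add_right_cancel' 1 h'
        rwa [Nat.mod_eq_of_lt x.2.2, Nat.mod_eq_of_lt y.2.2] at h''
      let ψe := Equiv.ofBijective ψ ((Finite.injective_iff_bijective).mp hψi)
      intro j
      have h1 : C = ∑ k, B.repr C (ψe.symm k) • B k := by
        conv_lhs => rw [← hC', ← B.sum_repr C]
        rw [Finset.mul_sum, Finset.sum_mul]
        simp only [mul_smul_comm, smul_mul_assoc, hψ]
        rw [← Equiv.sum_comp ψe (fun k => B.repr C (ψe.symm k) • B k)]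
        simp only [Equiv.symm_apply_apply]
        rfl
      have h2 := congrArg (fun X => B.repr X (ψ j)) h1
      simp only [map_sum, map_smul, Finsupp.coe_finset_sum, Finset.sum_apply, Finsupp.coe_smul,
        Pi.smul_apply, Basis.repr_self, Finsupp.single_apply, smul_eq_mul, mul_ite, mul_one, mul_zero,
        Finset.sum_ite_eq', Finset.mem_univ, if_true] at h2
      rw [h2]
      exact congrArg (B.repr C) (Equiv.symm_apply_apply ψe j)
    have hconst : ∀ (a : S) (i : ℕ) (hi : i < P),
        B.repr C (some (a, ⟨i, hi⟩)) = B.repr C (some (a, ⟨0, hP0⟩)) := by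
      intro a i
      induction i with
      | zero => intro _; rfl
      | succ i ih =>
        intro hi
        rw [← ih (by omega), ← hcoef (some (a, ⟨i, by omega⟩))]
        congr 1
        simp [ψ, rot, Nat.mod_eq_of_lt hi]
    rw [hL]
    conv_rhs => rw [← B.sum_repr C]
    refine Finset.sum_congr rfl fun j _ => ?_
    rcases j with _ | ⟨a, i, hi⟩
    · rfl
    · simp [hconst a i hi]
  -- commuting operators are scalar on the fixed points
  have hscal : ∀ d v, (T - 1) v = 0 → L d v = d none • v := by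
    intro d v hv
    have hTv : T v = v := by rwa [LinearMap.sub_apply, Module.End.one_apply, sub_eq_zero] at hv
    have hTiv : ∀ i : ℕ, (Ti ^ i) v = v := by
      intro i
      induction i with
      | zero => rfl
      | succ i ih =>
        rw [pow_succ, Module.End.mul_apply]
        conv_lhs => rw [← hTv, ← Module.End.mul_apply Ti, hTiT, Module.End.one_apply]
        exact ih
    have h0 : ∀ a : S, (∑ i : Fin P, B (some (a, i))) v = 0 := fun a => by
      simp only [LinearMap.sum_apply, hBsome, Module.End.mul_apply, hTiv]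
      rw [Fin.sum_univ_eq_sum_range (fun i => (T ^ i) (e a v)) P, ← LinearMap.sum_apply, hrel]
      rfl
    simp [hLdec, LinearMap.sum_apply, LinearMap.smul_apply, h0]
  -- a single block
  set u := T - 1 with hu
  have hex : ∃ r, u ^ r = 0 := ⟨P - 1, hnil⟩
  set r := Nat.find hex with hr
  have hr0 : u ^ r = 0 := Nat.find_spec hex
  have hrpos : 0 < r := by
    rcases Nat.eq_zero_or_pos r with h | h
    · rw [h, pow_zero] at hr0
      exact absurd hr0 one_ne_zero
    · exact h
  have hne0 : u ^ (r - 1) ≠ 0 := Nat.find_min hex (by omega)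
  obtain ⟨v, hv⟩ : ∃ v, (u ^ (r - 1)) v ≠ 0 := by
    by_contra h
    push Not at h
    exact hne0 (LinearMap.ext h)
  obtain ⟨φ, hφ⟩ : ∃ φ : U →ₗ[K] K, φ ((u ^ (r - 1)) v) = 1 := by
    obtain ⟨φ, hφ⟩ : ∃ φ : U →ₗ[K] K, φ ((u ^ (r - 1)) v) ≠ 0 := by
      by_contra h
      push Not at h
      exact hv ((Module.forall_dual_apply_eq_zero_iff K _).mp h)
    exact ⟨(φ ((u ^ (r - 1)) v))⁻¹ • φ, by simp [hφ]⟩
  let π : End K U := ∑ j ∈ range r, (φ ∘ₗ (u ^ (r - 1 - j))).smulRight ((u ^ j) v)
  have hπ : ∀ x, π x = ∑ j ∈ range r, φ ((u ^ (r - 1 - j)) x) • (u ^ j) v := fun x => by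
    simp [π, LinearMap.sum_apply]
  have hπu : π * u = u * π := by
    refine LinearMap.ext fun x => ?_
    simp only [Module.End.mul_apply, hπ, map_sum, map_smul]
    obtain ⟨r', hr'⟩ := Nat.exists_eq_succ_of_ne_zero hrpos.ne'
    rw [hr', Finset.sum_range_succ', Finset.sum_range_succ]
    simp only [← Module.End.mul_apply, ← pow_succ, ← pow_succ']
    have e1 : u ^ (r' + 1 - 1 - 0 + 1) = 0 := by rw [show r' + 1 - 1 - 0 + 1 = r by omega]; exact hr0
    have e2 : u ^ (r' + 1) = 0 := by rw [show r' + 1 = r by omega]; exact hr0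
    rw [e1, e2]
    simp only [LinearMap.zero_apply, map_zero, zero_smul, smul_zero, add_zero]
    refine Finset.sum_congr rfl fun j hj => ?_
    rw [Finset.mem_range] at hj
    rw [show r' + 1 - 1 - (j + 1) + 1 = r' + 1 - 1 - j by omega]
  have hπT : T * π = π * T := by
    have : T = u + 1 := by rw [hu, sub_add_cancel]
    rw [this, add_mul, mul_add, one_mul, mul_one, hπu]
  obtain ⟨d, hd⟩ := hLsurj π hπT
  have hkill : ∀ j, 0 < j → ∀ x, u x = 0 → (u ^ j) x = 0 := fun j hj x hx => by
    obtain ⟨j', rfl⟩ := Nat.exists_eq_succ_of_ne_zero hj.ne'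
    rw [pow_succ, Module.End.mul_apply, hx, map_zero]
  have hπfix : ∀ x, u x = 0 → π x = φ x • (u ^ (r - 1)) v := fun x hx => by
    rw [hπ, Finset.sum_eq_single (r - 1)]
    · simp
    · intro j hj hjr
      rw [Finset.mem_range] at hj
      rw [hkill _ (by omega) x hx, map_zero, zero_smul]
    · intro h; simp [hrpos] at h
  have hv0 : u ((u ^ (r - 1)) v) = 0 := by
    rw [← Module.End.mul_apply, ← pow_succ', Nat.sub_add_cancel hrpos, hr0]; rfl
  have hd1 : d none = 1 := by
    have h1 := hπfix _ hv0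
    rw [← hd, hscal d _ hv0, hφ] at h1
    exact smul_left_injective K hv h1
  have hker : ∀ x, u x = 0 → x = φ x • (u ^ (r - 1)) v := fun x hx => by
    rw [← hπfix x hx, ← hd, hscal d x hx, hd1, one_smul]
  set V := Submodule.span K ((fun j => (u ^ j) v) '' (range r : Set ℕ)) with hV
  have hcyc : ∀ k, ∀ x, (u ^ k) x = 0 → x ∈ V := by
    intro k
    induction k with
    | zero =>
      intro x hx
      rw [pow_zero, Module.End.one_apply] at hx
      rw [hx]; exact zero_mem _
    | succ k ih =>
      intro x hx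
      by_cases hk : k < r
      · have h1 := hker ((u ^ k) x) (by rw [← Module.End.mul_apply, ← pow_succ']; exact hx)
        set c := φ ((u ^ k) x)
        have h2 : x - c • (u ^ (r - 1 - k)) v ∈ V := ih _ (by
          rw [map_sub, map_smul, ← Module.End.mul_apply, ← pow_add, show k + (r - 1 - k) = r - 1 by omega,
            ← h1, sub_self])
        have h3 : (u ^ (r - 1 - k)) v ∈ V :=
          Submodule.subset_span ⟨_, by simp; omega, rfl⟩
        simpa using add_mem h2 (Submodule.smul_mem _ c h3)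
      · exact ih x (by rw [show k = r + (k - r) by omega, pow_add, hr0, zero_mul]; rfl)
  have hVtop : ∀ x, x ∈ V := fun x => hcyc r x (by rw [hr0]; rfl)
  have hdim : finrank K U ≤ r := by
    have htop : V = ⊤ := eq_top_iff.mpr fun x _ => hVtop x
    rw [← finrank_top, ← htop, hV, ← Finset.coe_image]
    exact (finrank_span_finset_le_card _).trans (Finset.card_image_le.trans (by simp))
  let ev : (Option S → K) →ₗ[K] U := (LinearMap.applyₗ v) ∘ₗ L
  have hev : ∀ d, ev d = L d v := fun d => rfl
  have hcommu : ∀ d (j : ℕ), L d * u ^ j = u ^ j * L d := fun d j => by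
    refine (Commute.pow_right ?_ j).eq
    rw [hu]
    exact (Commute.sub_right (hLcomm d).symm (Commute.one_right _))
  have hevi : Function.Injective ev := by
    intro d d' h
    apply hLi
    rw [← sub_eq_zero, ← map_sub]
    refine LinearMap.ext fun x => ?_
    have hsub : V ≤ LinearMap.ker (L (d - d')) := by
      rw [hV, Submodule.span_le]
      rintro _ ⟨j, -, rfl⟩
      rw [SetLike.mem_coe, LinearMap.mem_ker, ← Module.End.mul_apply, hcommu, Module.End.mul_apply,
        ← hev, map_sub, h, sub_self, map_zero]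
    exact hsub (hVtop x)
  have hevs : Function.Surjective ev := by
    intro x
    have hx : x ∈ V := hVtop x
    rw [hV] at hx
    induction hx using Submodule.span_induction with
    | mem y hy =>
      obtain ⟨j, -, rfl⟩ := hy
      obtain ⟨d, hd⟩ := hLsurj (u ^ j) (by
        refine (Commute.pow_right ?_ j).eq
        rw [hu]; exact (Commute.refl T).sub_right (Commute.one_right T))
      exact ⟨d, by rw [hev, hd]⟩
    | zero => exact ⟨0, map_zero _⟩
    | add a b _ _ iha ihb =>
      obtain ⟨da, rfl⟩ := iha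
      obtain ⟨db, rfl⟩ := ihb
      exact ⟨da + db, map_add _ _ _⟩
    | smul c a _ iha =>
      obtain ⟨da, rfl⟩ := iha
      exact ⟨c • da, map_smul _ _ _⟩
  have hN : finrank K U = 1 + S.card := by
    rw [← (LinearEquiv.ofBijective ev ⟨hevi, hevs⟩).finrank_eq, Module.finrank_fintype_fun_eq_card,
      Fintype.card_option, Fintype.card_coe, add_comm]
  have hN2 : finrank K U * finrank K U = 1 + S.card * P := by
    rw [← Module.finrank_linearMap K K U U, Module.finrank_eq_card_basis B, Fintype.card_option,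
      Fintype.card_prod, Fintype.card_coe, Fintype.card_fin, add_comm]
  obtain ⟨a, ha⟩ := hne
  have hSpos : 0 < S.card := by
    obtain ⟨j, hj⟩ := hΦs a
    rcases j with _ | ⟨x, _⟩
    · exact absurd hj.symm ha
    · exact Finset.card_pos.mpr ⟨_, x.2⟩
  have hfin : finrank K U + 1 = P := by
    rw [hN] at hN2 ⊢
    refine Nat.eq_of_mul_eq_mul_left hSpos ?_
    nlinarith
  refine ⟨hfin, fun j hj hzero => ?_⟩
  have h1 : r ≤ j := Nat.find_min' hex hzero
  omega

end CfsgLib.HallHigman
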