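import Cfsg.Agent.Lib.HallHigman.DerivedLevel

/-!
# Eigenspaces of a normalized abelian `q`-group and the derived series

If all chains of length `d + 1` of a `2`-group vanish, some term of level at most `d` of the derived series
fixes any given character, and its chains of the complementary length vanish on the eigenspace.
-/

namespace CfsgLib.HallHigman

open Module (End)
open scoped commutatorElement

variable {X : Type*} [Group X] [Finite X] {k V : Type*} [Field k] [AddCommGroup V] [Module k V]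

/-- A homomorphism into the stabilizer, followed by restriction. -/
noncomputable def stepHom (γ : X →* End k V) (W : Submodule k V) {G : Type*} [Group G] (f : G →* X)
    (h : ∀ g, f g ∈ stabSub γ W) : G →* imgGroup γ W :=
  (imgHom γ W).comp (f.codRestrict _ h)

theorem map_stepHom (γ : X →* End k V) (W : Submodule k V) {G : Type*} [Group G] (f : G →* X)
    (h : ∀ g, f g ∈ stabSub γ W) (H : Subgroup G) : H.map (stepHom γ W f h) = imgSub γ W (H.map f) := by
  ext y
  rw [mem_imgSub]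
  constructor
  · rintro ⟨g, hg, rfl⟩
    exact ⟨⟨f g, h g⟩, ⟨g, hg, rfl⟩, rfl⟩
  · rintro ⟨x, ⟨g, hg, hgx⟩, rfl⟩
    exact ⟨g, hg, congrArg (imgHom γ W) (Subtype.ext hgx)⟩

/-- Chains killed on the subspace are killed in the operator group. -/
theorem killsChains_img (γ : X →* End k V) {W : Submodule k V} {K : Subgroup X} (hKW : K ≤ stabSub γ W) {n : ℕ}
    (h : ∀ l : List X, IsDerChain K l → l.length = n → ∀ w ∈ W, opsProd γ l w = 0) :
    KillsChains (imgRep γ W) (imgSub γ W K) n := fun l hl hll => by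
  obtain ⟨l', hl', hlen, hop⟩ := exists_chain_lift γ hKW hl
  exact LinearMap.ext fun w => Subtype.ext ((hop w).trans (h l' hl' (hlen.trans hll) w w.2))

/-- Commutators act as scalars. -/
def ScalComm (γ : X →* End k V) (C : Subgroup X) : Prop := ∀ c ∈ C, ∀ d ∈ C, ∃ l : k, γ ⁅c, d⁆ = l • 1

theorem scalComm_img (γ : X →* End k V) {W : Submodule k V} {C : Subgroup X}
    (h : ∀ c ∈ C, ∀ d ∈ C, ∃ l : k, ∀ w ∈ W, γ ⁅c, d⁆ w = l • w) :
    ScalComm (imgRep γ W) (imgSub γ W C) := fun c' hc' d' hd' => by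
  obtain ⟨c, hc, rfl⟩ := (mem_imgSub γ W).mp hc'
  obtain ⟨d, hd, rfl⟩ := (mem_imgSub γ W).mp hd'
  obtain ⟨l, hl⟩ := h c hc d hd
  refine ⟨l, LinearMap.ext fun w => Subtype.ext ?_⟩
  rw [← map_commutatorElement, imgRep_apply]
  exact hl w w.2

theorem mem_centre_img_iff (γ : X →* End k V) {W : Submodule k V} {C : Subgroup X} (hCW : C ≤ stabSub γ W)
    {c : X} (hc : c ∈ C) :
    imgHom γ W ⟨c, hCW hc⟩ ∈ centreOf (imgSub γ W C) ↔ ∀ d ∈ C, ∀ w ∈ W, γ ⁅c, d⁆ w = w := by
  constructor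
  · intro h d hd
    refine (imgHom_eq_one_iff γ W ⁅(⟨c, hCW hc⟩ : stabSub γ W), ⟨d, hCW hd⟩⁆).mp ?_
    rw [map_commutatorElement, commutatorElement_eq_one_iff_mul_comm]
    exact (h.2 _ (imgHom_mem γ W hd (hCW hd))).symm
  · intro h
    refine ⟨imgHom_mem γ W hc (hCW hc), fun d' hd' => ?_⟩
    obtain ⟨d, hd, rfl⟩ := (mem_imgSub γ W).mp hd'
    refine (commutatorElement_eq_one_iff_mul_comm.mp ?_).symm
    rw [← map_commutatorElement]
    exact (imgHom_eq_one_iff γ W _).mpr (h d hd)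

theorem cl_of_scalComm {γ : X →* End k V} (hγ : Function.Injective γ) {C : Subgroup X} (h : ScalComm γ C) :
    ∀ c ∈ C, ∀ d ∈ C, ⁅c, d⁆ ∈ centreOf C := fun c hc d hd => by
  refine ⟨?_, fun b _ => hγ ?_⟩
  · rw [commutatorElement_def]
    exact C.mul_mem (C.mul_mem (C.mul_mem hc hd) (C.inv_mem hc)) (C.inv_mem hd)
  · obtain ⟨l, hl⟩ := h c hc d hd
    rw [map_mul, map_mul, hl, mul_smul_comm, smul_mul_assoc, mul_one, one_mul]

/-- With scalar commutators, the centre is detected on any nonzero subspace. -/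
theorem mem_centre_img_of_scal {γ : X →* End k V} (hγ : Function.Injective γ) {W : Submodule k V} (hW : W ≠ ⊥)
    {C : Subgroup X} (hs : ScalComm γ C) (hCW : C ≤ stabSub γ W) {c : X} (hc : c ∈ C) :
    imgHom γ W ⟨c, hCW hc⟩ ∈ centreOf (imgSub γ W C) ↔ c ∈ centreOf C := by
  rw [mem_centre_img_iff γ hCW hc]
  constructor
  · intro h
    refine ⟨hc, fun d hd => (commutatorElement_eq_one_iff_mul_comm.mp (hγ ?_)).symm⟩
    obtain ⟨l, hl⟩ := hs c hc d hd
    obtain ⟨v, hv, hv0⟩ := Submodule.exists_mem_ne_zero_of_ne_bot hW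
    have h1 := h d hd v hv
    rw [hl, LinearMap.smul_apply, Module.End.one_apply] at h1
    have h2 : (l - 1) • v = 0 := by rw [sub_smul, h1, one_smul, sub_self]
    rw [hl, sub_eq_zero.mp ((smul_eq_zero.mp h2).resolve_right hv0), one_smul, map_one]
  · intro h d hd w _
    rw [commutatorElement_eq_one_iff_mul_comm.mpr (h.2 d hd).symm, map_one, Module.End.one_apply]

variable [IsAlgClosed k] [FiniteDimensional k V]

omit [Finite X] in
/-- An abelian group has an eigencharacter on every invariant subspace. -/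
theorem exists_eigen_char (γ : X →* End k V) {Z : Subgroup X} (hab : ∀ a ∈ Z, ∀ b ∈ Z, a * b = b * a)
    {I : Submodule k V} (hI : I ≠ ⊥) (hinv : ∀ z ∈ Z, ∀ w ∈ I, γ z w ∈ I) :
    ∃ (χ : X → k) (v : V), v ∈ I ∧ v ≠ 0 ∧ v ∈ {v | ∀ z ∈ Z, γ z v = χ z • v} := by
  obtain ⟨U, ⟨hU0, hUI, hUinv⟩, hUmin⟩ := exists_minimal_of_wellFoundedLT
    (fun U : Submodule k V => U ≠ ⊥ ∧ U ≤ I ∧ ∀ z ∈ Z, ∀ w ∈ U, γ z w ∈ U) ⟨I, hI, le_rfl, hinv⟩
  have : Nontrivial U := Submodule.nontrivial_iff_ne_bot.mpr hU0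
  let ρ : Z →* End k U :=
    { toFun := fun g => (γ g).restrict (hUinv g g.2)
      map_one' := LinearMap.ext fun w => Subtype.ext (by show γ (1 : X) w = w; rw [map_one]; rfl)
      map_mul' := fun a b => LinearMap.ext fun w => Subtype.ext (by
        show γ ((a : X) * b) w = γ a (γ b w)
        rw [map_mul]; rfl) }
  have hirr : IsIrred ρ := by
    intro W hW
    by_cases h : W = ⊥
    · exact Or.inl h
    refine Or.inr ?_
    have hle : W.map U.subtype ≤ U := Submodule.map_subtype_le U W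
    refine Submodule.map_injective_of_injective U.injective_subtype ?_
    rw [Submodule.map_top, Submodule.range_subtype]
    refine le_antisymm hle (hUmin (y := W.map U.subtype) ⟨?_, hle.trans hUI, ?_⟩ hle)
    · intro e
      exact h (Submodule.map_injective_of_injective U.injective_subtype (by rw [e, Submodule.map_bot]))
    · rintro g hg _ ⟨w, hw, rfl⟩
      exact ⟨ρ ⟨g, hg⟩ w, hW ⟨g, hg⟩ w hw, rfl⟩
  have hsc : ∀ z ∈ Z, ∃ a : k, ∀ w ∈ U, γ z w = a • w := by
    intro z hz
    obtain ⟨a, ha⟩ := exists_eq_smul_one hirr (ρ ⟨z, hz⟩) fun g => by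
      rw [← map_mul, ← map_mul]; exact congrArg ρ (Subtype.ext (hab z hz g g.2))
    exact ⟨a, fun w hw => congrArg Subtype.val (LinearMap.congr_fun ha ⟨w, hw⟩)⟩
  choose! χ hχ using hsc
  obtain ⟨v, hv, hv0⟩ := Submodule.exists_mem_ne_zero_of_ne_bot hU0
  exact ⟨χ, v, hUI hv, hv0, fun z hz => hχ z hz v hv⟩

/-- Some eigenspace of an abelian group is nonzero. -/
theorem exists_char_ne_bot [Nontrivial V] (γ : X →* End k V) {Z : Subgroup X}
    (hab : ∀ a ∈ Z, ∀ b ∈ Z, a * b = b * a) : ∃ χ : X → k, charSpace γ Z χ ≠ ⊥ := by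
  obtain ⟨χ, v, -, hv0, hv⟩ := exists_eigen_char γ hab top_ne_bot fun _ _ _ _ => Submodule.mem_top
  refine ⟨χ, fun h => hv0 ?_⟩
  have h1 : v ∈ charSpace γ Z χ := hv
  rwa [h, Submodule.mem_bot] at h1

variable [CharP k 2]

/-- A nontrivial element of an abelian `q`-group moves some eigencharacter. -/
theorem exists_char_ne (γ : X →* End k V) (hγ : Function.Injective γ) {q : ℕ} [Fact q.Prime] (hq2 : q ≠ 2)
    {Z : Subgroup X} (hZ : IsPGroup q Z) (hab : ∀ a ∈ Z, ∀ b ∈ Z, a * b = b * a) {e : X} (he : e ∈ Z)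
    (he1 : e ≠ 1) : ∃ χ : X → k, charSpace γ Z χ ≠ ⊥ ∧ χ e ≠ 1 := by
  obtain ⟨χ, u, hu, hu0, hχ⟩ := exists_eigen_char γ hab (I := LinearMap.range (γ e - 1))
    (fun h => he1 (hγ (by rw [map_one]; exact sub_eq_zero.mp (LinearMap.range_eq_bot.mp h))))
    (fun z hz => by
      rintro _ ⟨v, rfl⟩
      refine ⟨γ z v, ?_⟩
      show γ e (γ z v) - γ z v = γ z (γ e v - v)
      rw [map_sub, ← Module.End.mul_apply, ← map_mul, ← Module.End.mul_apply, ← map_mul, hab e he z hz])
  refine ⟨χ, fun h => hu0 ?_, fun h1 => hu0 ?_⟩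
  · have h1 : u ∈ charSpace γ Z χ := hχ
    rwa [h, Submodule.mem_bot] at h1
  · obtain ⟨v, rfl⟩ := hu
    have hfix : γ e ((γ e - 1) v) = (γ e - 1) v := by rw [hχ e he, h1, one_smul]
    have hpow : ∀ n : ℕ, (γ e ^ n) v = v + n • (γ e - 1) v := by
      intro n
      induction n with
      | zero => simp
      | succ n ih =>
        rw [pow_succ', Module.End.mul_apply, ih, map_add, map_nsmul, hfix,
          show γ e v = v + (γ e - 1) v by simp, succ_nsmul]
        abel
    obtain ⟨j, hj⟩ := hZ ⟨e, he⟩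
    have h4 := hpow (q ^ j)
    rw [← map_pow, show e ^ q ^ j = 1 from congrArg Subtype.val hj, map_one, Module.End.one_apply, left_eq_add,
      ← Nat.cast_smul_eq_nsmul k, smul_eq_zero] at h4
    refine h4.resolve_left fun h5 => ?_
    rw [CharP.cast_eq_zero_iff k 2] at h5
    exact hq2 ((Nat.prime_dvd_prime_iff_eq Nat.prime_two Fact.out).mp (Nat.prime_two.dvd_of_dvd_pow h5)).symm

omit [IsAlgClosed k] [FiniteDimensional k V] in
set_option maxHeartbeats 800000 in
/-- The block lemma. -/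
theorem exists_block (γ : X →* End k V) {P : Subgroup X} (hP : IsPGroup 2 P) {d : ℕ}
    (hkill : KillsChains γ P (d + 1)) {q : ℕ} [Fact q.Prime] (hq2 : q ≠ 2) {Z : Subgroup X} (hZ : IsPGroup q Z)
    (hPZ : P ≤ Subgroup.normalizer (Z : Set X)) (χ : X → k) (hW : charSpace γ Z χ ≠ ⊥) :
    ∃ j ≤ d, (∀ g ∈ dSer P j, ∀ z ∈ Z, χ (g * z * g⁻¹) = χ z) ∧
      dSer P j ≤ stabSub γ (charSpace γ Z χ) ∧
      KillsChains (imgRep γ (charSpace γ Z χ)) (imgSub γ (charSpace γ Z χ) (dSer P j)) (d + 1 - j) := by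
  classical
  have := Fact.mk Nat.prime_two
  set W := charSpace γ Z χ with hWdef
  obtain ⟨u₀, hu₀W, hu₀⟩ := W.ne_bot_iff.mp hW
  let H : Subgroup X :=
    { carrier := {g | g ∈ P ∧ ∀ z ∈ Z, χ (g * z * g⁻¹) = χ z}
      one_mem' := ⟨P.one_mem, fun z _ => by simp⟩
      mul_mem' := fun {a b} ha hb => ⟨P.mul_mem ha.1 hb.1, fun z hz => by
        rw [show a * b * z * (a * b)⁻¹ = a * (b * z * b⁻¹) * a⁻¹ by group,
          ha.2 _ ((Subgroup.mem_normalizer_iff.mp (hPZ hb.1) z).mp hz), hb.2 z hz]⟩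
      inv_mem' := fun {a} ha => ⟨P.inv_mem ha.1, fun z hz => by
        have h2 := ha.2 _ ((Subgroup.mem_normalizer_iff.mp (hPZ (P.inv_mem ha.1)) z).mp hz)
        rw [show a * (a⁻¹ * z * a⁻¹⁻¹) * a⁻¹ = z by group] at h2
        exact h2.symm⟩ }
  have hHW : H ≤ stabSub γ W := fun g hg => charSpace_map_mem γ fun z hz => by
    have h1 : g⁻¹ * z * g ∈ Z := (Subgroup.mem_normalizer_iff''.mp (hPZ hg.1) z).mp hz
    refine ⟨h1, ?_⟩
    have h2 := hg.2 _ h1
    rw [show g * (g⁻¹ * z * g) * g⁻¹ = z by group] at h2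
    exact h2.symm
  let F : Submodule k V := Submodule.span k {v | ∃ h ∈ P, h ∉ H ∧ ∃ w ∈ W, v = γ h w}
  have hFmem : ∀ h ∈ P, h ∉ H → ∀ w ∈ W, γ h w ∈ F := fun h hh hhH w hw =>
    Submodule.subset_span ⟨h, hh, hhH, w, hw, rfl⟩
  have hFinv : H ≤ stabSub γ F := fun g hg v hv => by
    induction hv using Submodule.span_induction with
    | mem v hv =>
      obtain ⟨h, hh, hhH, w, hw, rfl⟩ := hv
      rw [← Module.End.mul_apply, ← map_mul]
      refine hFmem _ (P.mul_mem hg.1 hh) (fun h1 => hhH ?_) w hw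
      have h2 := H.mul_mem (H.inv_mem hg) h1
      rwa [inv_mul_cancel_left] at h2
    | zero => rw [map_zero]; exact F.zero_mem
    | add x y _ _ hx hy => rw [map_add]; exact F.add_mem hx hy
    | smul c x _ hx => rw [map_smul]; exact F.smul_mem c hx
  have hdisj : ∀ w ∈ W, w ∈ F → w = 0 := by
    intro w hw hwF
    have := Fintype.ofFinite Z
    let P0 : End k V := ∑ z : Z, (χ z)⁻¹ • γ z
    have hinj : ∀ a b : k, a • u₀ = b • u₀ → a = b := fun a b h =>
      sub_eq_zero.mp ((smul_eq_zero.mp (show (a - b) • u₀ = 0 by rw [sub_smul, h, sub_self])).resolve_right hu₀)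
    have hχ1 : χ 1 = 1 := hinj _ _ (by rw [← hu₀W 1 (one_mem _), map_one, Module.End.one_apply, one_smul])
    have hχmul : ∀ z ∈ Z, ∀ z' ∈ Z, χ (z * z') = χ z * χ z' := fun z hz z' hz' => hinj _ _ (by
      rw [← hu₀W _ (Z.mul_mem hz hz'), map_mul, Module.End.mul_apply, hu₀W z' hz', map_smul, hu₀W z hz,
        smul_smul, mul_comm])
    have hχ0 : ∀ z ∈ Z, χ z ≠ 0 := fun z hz h => by
      have h1 := hχmul z hz _ (Z.inv_mem hz)
      rw [mul_inv_cancel, hχ1, h, zero_mul] at h1
      exact one_ne_zero h1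
    have hker : F ≤ LinearMap.ker P0 := by
      rw [Submodule.span_le]
      rintro _ ⟨h, hh, hhH, v, hv, rfl⟩
      have hconj : ∀ z ∈ Z, h⁻¹ * z * h ∈ Z := fun z hz =>
        (Subgroup.mem_normalizer_iff''.mp (hPZ hh) z).mp hz
      let ψ : Z →* k :=
        { toFun := fun z => (χ z)⁻¹ * χ (h⁻¹ * z * h)
          map_one' := by simp [hχ1]
          map_mul' := fun z z' => by
            simp only [Subgroup.coe_mul]
            rw [show h⁻¹ * ((z : X) * z') * h = h⁻¹ * z * h * (h⁻¹ * z' * h) by group,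
              hχmul _ (hconj z z.2) _ (hconj z' z'.2), hχmul z z.2 z' z'.2, mul_inv]
            ring }
      have hψ : ψ ≠ 1 := by
        intro e
        refine hhH ⟨hh, fun w hw => ?_⟩
        have h1 : h * w * h⁻¹ ∈ Z := (Subgroup.mem_normalizer_iff.mp (hPZ hh) w).mp hw
        have h2 := DFunLike.congr_fun e ⟨_, h1⟩
        rw [show ψ ⟨_, h1⟩ = (χ (h * w * h⁻¹))⁻¹ * χ (h⁻¹ * (h * w * h⁻¹) * h) from rfl,
          show h⁻¹ * (h * w * h⁻¹) * h = w by group, MonoidHom.one_apply,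
          inv_mul_eq_one₀ (hχ0 _ h1)] at h2
        exact h2
      show P0 (γ h v) = 0
      have e : ∀ z : Z, ((χ z)⁻¹ • γ z : End k V) (γ h v) = ψ z • γ h v := fun z => by
        rw [LinearMap.smul_apply, ← Module.End.mul_apply, ← map_mul,
          show (z : X) * h = h * (h⁻¹ * z * h) by group, map_mul, Module.End.mul_apply,
          hv _ (hconj z z.2), map_smul, smul_smul]
        rfl
      rw [LinearMap.sum_apply, Finset.sum_congr rfl fun z _ => e z, ← Finset.sum_smul,
        sum_hom_units_eq_zero ψ hψ, zero_smul]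
    have h1 : P0 w = (Fintype.card Z : k) • w := by
      rw [LinearMap.sum_apply, Finset.sum_congr rfl fun (z : Z) _ =>
        show ((χ (z : X))⁻¹ • γ (z : X) : End k V) w = w by
          rw [LinearMap.smul_apply, hw z z.2, smul_smul, inv_mul_cancel₀ (hχ0 z z.2), one_smul],
        Finset.sum_const, Finset.card_univ, Nat.cast_smul_eq_nsmul]
    rw [LinearMap.mem_ker.mp (hker hwF)] at h1
    refine (smul_eq_zero.mp h1.symm).resolve_left fun h2 => ?_
    rw [CharP.cast_eq_zero_iff k 2, ← Nat.card_eq_fintype_card] at h2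
    obtain ⟨i, hi⟩ := hZ.exists_card_eq
    rw [hi] at h2
    exact hq2 ((Nat.prime_dvd_prime_iff_eq Nat.prime_two Fact.out).mp (Nat.prime_two.dvd_of_dvd_pow h2)).symm
  -- a chain acting as the identity modulo the other blocks
  have key : ∀ (m j : ℕ), (∀ i, j ≤ i → i < j + m → ¬ dSer P i ≤ H) →
      ∃ l : List X, IsDerChain (dSer P j) l ∧ l.length = m ∧
        (∀ u, (∀ h ∈ dSer P j, γ h u ∈ F) → opsProd γ l u ∈ F) ∧ ∀ w ∈ W, opsProd γ l w - w ∈ F := by
    intro m
    induction m with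
    | zero =>
      intro j _
      refine ⟨[], trivial, rfl, fun u hu => ?_, fun w _ => ?_⟩
      · have h1 := hu 1 (one_mem _)
        rwa [map_one] at h1
      · rw [opsProd_nil, Module.End.one_apply, sub_self]
        exact F.zero_mem
    | succ m ih =>
      intro j hno
      obtain ⟨l, hl, hlen, hl1, hl2⟩ := ih (j + 1) fun i hi hi' => hno i (by omega) (by omega)
      obtain ⟨g, hg, hgn⟩ : ∃ g ∈ dSer P j, g ∉ dSer P (j + 1) ⊔ (dSer P j ⊓ H) :=
        SetLike.not_le_iff_exists.mp fun h => hno j le_rfl (by omega)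
          (le_of_le_sup_commutator _ _ (hP.to_le (dSer_le P j)) (dSer_succ P j ▸ h))
      refine ⟨l ++ [g], IsDerChain.append
        (show IsDerChain (dSer P j) [g] from ⟨(dSer_zero (dSer P j)).symm ▸ hg, trivial⟩) rfl
        (by rwa [dSer_dSer]), by rw [List.length_append, hlen, List.length_singleton], fun u hu => ?_, fun w hw => ?_⟩
      · rw [opsProd_append, opsProd_singleton, Module.End.mul_apply, LinearMap.sub_apply, Module.End.one_apply,
          map_sub]
        refine F.sub_mem (hl1 _ fun h hh => ?_) (hl1 _ fun h hh => hu h (dSer_antitone P (Nat.le_succ j) hh))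
        rw [← Module.End.mul_apply, ← map_mul]
        exact hu _ (Subgroup.mul_mem _ (dSer_antitone P (Nat.le_succ j) hh) hg)
      · have h1 : opsProd γ l (γ g w) ∈ F := hl1 _ fun h hh => by
          rw [← Module.End.mul_apply, ← map_mul]
          refine hFmem _ (P.mul_mem (dSer_le P _ hh) (dSer_le P j hg)) (fun hH => hgn ?_) w hw
          rw [show g = h⁻¹ * (h * g) by group]
          exact Subgroup.mul_mem _ (Subgroup.mem_sup_left (Subgroup.inv_mem _ hh)) (Subgroup.mem_sup_right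
            ⟨Subgroup.mul_mem _ (dSer_antitone P (Nat.le_succ j) hh) hg, hH⟩)
        rw [opsProd_append, opsProd_singleton, Module.End.mul_apply, LinearMap.sub_apply, Module.End.one_apply,
          map_sub, show opsProd γ l (γ g w) - opsProd γ l w - w =
            opsProd γ l (γ g w) - (opsProd γ l w - w) - (w + w) by abel,
          show w + w = (0 : V) from LinearMap.congr_fun (end_add_self (1 : End k V)) w, sub_zero]
        exact F.sub_mem h1 (hl2 w hw)
  have hex : ∃ j, j ≤ d ∧ dSer P j ≤ H := by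
    by_contra hcon
    push Not at hcon
    obtain ⟨l, hl, hlen, -, hl2⟩ := key (d + 1) 0 fun i _ hi => hcon i (by omega)
    rw [dSer_zero] at hl
    have h1 := hl2 u₀ hu₀W
    rw [hkill l hl hlen, LinearMap.zero_apply, zero_sub, neg_mem_iff] at h1
    exact hu₀ (hdisj u₀ hu₀W h1)
  set j₀ := Nat.find hex
  obtain ⟨hj₀, hj₀H⟩ : j₀ ≤ d ∧ dSer P j₀ ≤ H := Nat.find_spec hex
  obtain ⟨l₀, hl₀, hlen₀, -, hl₀2⟩ := key j₀ 0 fun i _ hi hle => Nat.find_min hex (show i < j₀ by omega)
    ⟨by omega, hle⟩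
  rw [dSer_zero] at hl₀
  refine ⟨j₀, hj₀, fun g hg => (hj₀H hg).2, hj₀H.trans hHW,
    killsChains_img γ (hj₀H.trans hHW) fun l hl hlen w hw => ?_⟩
  have hmem : ∀ g ∈ l, g ∈ H := fun g hg => hj₀H (hl.mem g hg)
  have h1 := LinearMap.congr_fun (hkill (l ++ l₀) (IsDerChain.append hl₀ hlen₀ hl)
    (by rw [List.length_append, hlen, hlen₀]; omega)) w
  rw [opsProd_append, Module.End.mul_apply, LinearMap.zero_apply] at h1
  have h2 : opsProd γ l (opsProd γ l₀ w - w) ∈ F := opsProd_mem γ (fun g hg => hFinv (hmem g hg)) (hl₀2 w hw)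
  rw [map_sub, h1, zero_sub, neg_mem_iff] at h2
  exact hdisj _ (opsProd_mem γ (fun g hg => hHW (hmem g hg)) hw) h2

end CfsgLib.HallHigman
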