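import Cfsg.Agent.Lib.HallHigman.DerivedData

/-!
# The centre of a nonabelian normal subgroup of a `2`-group inside the derived group

Burnside's lemma: such a centre is not cyclic, so it contains an involution with at most two conjugates.
-/

namespace CfsgLib.HallHigman

open scoped commutatorElement

variable {X : Type*} [Group X] [Finite X]

omit [Finite X] in
theorem eq_or_eq_of_mem_zpowers {a x : X} (haa : a * a = 1) (hx : x ∈ Subgroup.zpowers a) : x = 1 ∨ x = a := by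
  obtain ⟨n, rfl⟩ := Subgroup.mem_zpowers_iff.mp hx
  rcases Int.even_or_odd n with ⟨m, rfl⟩ | ⟨m, rfl⟩
  · exact Or.inl (by rw [← two_mul, zpow_mul, zpow_two, haa, one_zpow])
  · exact Or.inr (by rw [zpow_add, zpow_one, zpow_mul, zpow_two, haa, one_zpow, one_mul])

omit [Finite X] in
/-- If two conjugations agree after reordering, the commutator centralizes. -/
theorem commutator_commutes_of_forall {S : Subgroup X} {x : X}
    (h : ∀ g ∈ S, ∀ h ∈ S, g * h * x * (g * h)⁻¹ = h * g * x * (h * g)⁻¹) :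
    ⁅S, S⁆ ≤ Subgroup.centralizer ({x} : Set X) := by
  rw [Subgroup.commutator_le]
  intro g hg k hk
  rw [Subgroup.mem_centralizer_singleton_iff]
  have h1 := h _ (inv_mem hg) _ (inv_mem hk)
  have h2 := congrArg (fun t => (g * k) * t * (g * k)⁻¹) h1
  simp only [commutatorElement_def] at h2 ⊢
  have e1 : g * k * (g⁻¹ * k⁻¹ * x * (g⁻¹ * k⁻¹)⁻¹) * (g * k)⁻¹ =
      g * k * g⁻¹ * k⁻¹ * x * (g * k * g⁻¹ * k⁻¹)⁻¹ := by group
  have e2 : g * k * (k⁻¹ * g⁻¹ * x * (k⁻¹ * g⁻¹)⁻¹) * (g * k)⁻¹ = x := by group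
  rw [e1, e2, mul_inv_eq_iff_eq_mul] at h2
  exact h2

/-- An abelian `2`-subgroup with one involution is cyclic. -/
theorem exists_generator_of_unique_involution {Z : Subgroup X} (hZ : IsPGroup 2 Z)
    (hab : ∀ x ∈ Z, ∀ y ∈ Z, x * y = y * x) {a : X} (ha : a ∈ Z) (haa : a * a = 1) (ha1 : a ≠ 1)
    (huniq : ∀ x ∈ Z, x * x = 1 → x = 1 ∨ x = a) : ∃ u ∈ Z, u ≠ 1 ∧ Z ≤ Subgroup.zpowers u := by
  obtain ⟨u, huZ, humax⟩ := Set.exists_max_image (Z : Set X) orderOf (Set.toFinite _) ⟨1, Z.one_mem⟩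
  have hu1 : u ≠ 1 := fun h => by
    have h1 := humax a ha
    rw [h, orderOf_one] at h1
    exact ha1 (orderOf_eq_one_iff.mp (le_antisymm h1 (orderOf_pos a)))
  have hpow : ∀ x ∈ Z, ∃ i : ℕ, x ^ 2 ^ i = 1 := fun x hx => by
    obtain ⟨i, hi⟩ := hZ ⟨x, hx⟩
    exact ⟨i, congrArg Subtype.val hi⟩
  -- the involution is a power of `u`
  have hau : a ∈ Subgroup.zpowers u := by
    obtain ⟨i, hi⟩ := hpow u huZ
    obtain ⟨j, -, hj⟩ := (Nat.dvd_prime_pow Nat.prime_two).mp (orderOf_dvd_of_pow_eq_one hi)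
    obtain ⟨j, rfl⟩ : ∃ j', j = j' + 1 := by
      rcases j with _ | j
      · exact absurd (orderOf_eq_one_iff.mp (hj.trans (pow_zero 2))) hu1
      · exact ⟨j, rfl⟩
    have h1 : u ^ 2 ^ j ≠ 1 := fun h => by
      have h2 := Nat.le_of_dvd (pow_pos two_pos _) (orderOf_dvd_of_pow_eq_one h)
      rw [hj] at h2
      exact absurd ((Nat.pow_le_pow_iff_right one_lt_two).mp h2) (by omega)
    have h2 := (huniq _ (Z.pow_mem huZ (2 ^ j)) (by
      rw [← pow_add, ← two_mul, ← pow_succ', ← hj, pow_orderOf_eq_one])).resolve_left h1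
    rw [← h2]
    exact Subgroup.pow_mem _ (Subgroup.mem_zpowers u) _
  refine ⟨u, huZ, hu1, fun x hx => ?_⟩
  obtain ⟨i, hi⟩ := hpow x hx
  induction i generalizing x with
  | zero => rw [pow_zero, pow_one] at hi; rw [hi]; exact one_mem _
  | succ i ih =>
    have hx2 : x * x ∈ Z := Z.mul_mem hx hx
    have h1 : (x * x) ^ 2 ^ i = 1 := by rw [← pow_two, ← pow_mul, ← pow_succ', hi]
    obtain ⟨m, hm⟩ := Subgroup.mem_zpowers_iff.mp (ih _ hx2 h1)
    rcases Int.even_or_odd m with ⟨j, rfl⟩ | hodd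
    · have hc : Commute x (u ^ (-j)) := hab x hx _ (Z.zpow_mem huZ _)
      have h2 : (x * u ^ (-j)) * (x * u ^ (-j)) = 1 := by
        calc (x * u ^ (-j)) * (x * u ^ (-j)) = (x * u ^ (-j)) ^ 2 := (pow_two _).symm
          _ = (x * x) * (u ^ (-j) * u ^ (-j)) := by rw [hc.mul_pow, pow_two, pow_two]
          _ = 1 := by rw [← hm, ← zpow_add, ← zpow_add, show j + j + (-j + -j) = 0 by ring, zpow_zero]
      have h3 : x * u ^ (-j) ∈ Subgroup.zpowers u := by
        rcases huniq _ (Z.mul_mem hx (Z.zpow_mem huZ _)) h2 with h | h <;> rw [h]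
        exacts [one_mem _, hau]
      have h4 := mul_mem h3 (Subgroup.zpow_mem_zpowers u j)
      rwa [mul_assoc, ← zpow_add, neg_add_cancel, zpow_zero, mul_one] at h4
    · -- an odd power generates
      exfalso
      obtain ⟨iu, hiu⟩ := hpow u huZ
      obtain ⟨su, -, hsu⟩ := (Nat.dvd_prime_pow Nat.prime_two).mp (orderOf_dvd_of_pow_eq_one hiu)
      obtain ⟨sx, -, hsx⟩ := (Nat.dvd_prime_pow Nat.prime_two).mp (orderOf_dvd_of_pow_eq_one hi)
      have h2 : orderOf u ∣ orderOf (x * x) := by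
        have h3 : (u ^ m) ^ orderOf (x * x) = 1 := by rw [hm, pow_orderOf_eq_one]
        rw [← zpow_natCast, ← zpow_mul, ← orderOf_dvd_iff_zpow_eq_one, hsu] at h3
        have h4 : IsCoprime ((2 ^ su : ℕ) : ℤ) m := by
          push_cast
          refine IsCoprime.pow_left ?_
          obtain ⟨t, rfl⟩ := hodd
          exact ⟨-t, 1, by ring⟩
        rw [hsu]
        exact_mod_cast h4.dvd_of_dvd_mul_left h3
      have h3 := Nat.le_of_dvd (orderOf_pos _) h2
      have h4 := humax x hx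
      have hsu0 : 0 < su := Nat.pos_of_ne_zero fun h => hu1 (orderOf_eq_one_iff.mp (by rw [hsu, h, pow_zero]))
      rcases sx with _ | sx
      · rw [pow_zero] at hsx
        rw [orderOf_eq_one_iff.mp hsx, one_mul, orderOf_one] at h3
        rw [hsu] at h3
        have := Nat.one_lt_two_pow hsu0.ne'
        omega
      · have h5 : orderOf (x * x) ≤ 2 ^ sx := by
          refine Nat.le_of_dvd (pow_pos two_pos _) (orderOf_dvd_of_pow_eq_one ?_)
          rw [← pow_two, ← pow_mul, ← pow_succ', ← hsx, pow_orderOf_eq_one]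
        rw [hsx, pow_succ] at h4
        have := pow_pos (two_pos : (0 : ℕ) < 2) sx
        omega

/-- Burnside's lemma, as an involution with at most two conjugates. -/
theorem exists_swapped_involution {K B : Subgroup X} (hK : IsPGroup 2 K) (hBK' : B ≤ dSer K 1)
    (hBn : ∀ g ∈ K, ∀ x ∈ B, g * x * g⁻¹ ∈ B) (hna : ¬ B ≤ Subgroup.centralizer (B : Set X)) {a : X}
    (ha : a ∈ B) (haa : a * a = 1) (ha1 : a ≠ 1) (hac : ∀ g ∈ K, g * a = a * g) :
    ∃ z ∈ B, z * z = 1 ∧ z ≠ 1 ∧ z ≠ a ∧ ∀ g ∈ K, g * z * g⁻¹ = z ∨ g * z * g⁻¹ = a * z := by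
  have hBK : B ≤ K := hBK'.trans (dSer_le K 1)
  set Z := centreOf B with hZdef
  have haZ : a ∈ Z := ⟨ha, fun b hb => hac b (hBK hb)⟩
  have hZn : ∀ g ∈ K, ∀ x ∈ Z, g * x * g⁻¹ ∈ Z := fun g hg x hx => ⟨hBn g hg x hx.1, fun b hb => by
    have h1 := hx.2 _ (hBn g⁻¹ (inv_mem hg) b hb)
    calc b * (g * x * g⁻¹) = g * (g⁻¹ * b * g⁻¹⁻¹ * x) * g⁻¹ := by group
      _ = g * (x * (g⁻¹ * b * g⁻¹⁻¹)) * g⁻¹ := by rw [h1]
      _ = g * x * g⁻¹ * b := by group⟩
  have hZab : ∀ x ∈ Z, ∀ y ∈ Z, x * y = y * x := fun x hx y hy => hy.2 x hx.1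
  let Ω : Subgroup X :=
    { carrier := {x | x ∈ Z ∧ x * x = 1}
      one_mem' := ⟨one_mem _, mul_one 1⟩
      mul_mem' := fun {x y} hx hy => ⟨mul_mem hx.1 hy.1, by
        rw [← pow_two, (show Commute x y from hZab x hx.1 y hy.1).mul_pow, pow_two, pow_two, hx.2, hy.2, one_mul]⟩
      inv_mem' := fun {x} hx => ⟨inv_mem hx.1, by rw [← mul_inv_rev, hx.2, inv_one]⟩ }
  have hmemA : ∀ {x : X}, x ∈ Subgroup.zpowers a → x = 1 ∨ x = a := eq_or_eq_of_mem_zpowers haa
  by_cases hΩ : Ω ≤ Subgroup.zpowers a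
  swap
  · obtain ⟨l, hl, hla, -, hconj⟩ := exists_central_step hK
      (Subgroup.zpowers_le.mpr (show a ∈ Ω from ⟨haZ, haa⟩)) (fun x hx => hBK hx.1.1)
      (fun g hg x hx => by
        rcases hmemA hx with rfl | rfl
        · simp
        · rw [hac g hg, mul_inv_cancel_right]; exact Subgroup.mem_zpowers _)
      (fun g hg x hx => ⟨hZn g hg x hx.1, by
        rw [show g * x * g⁻¹ * (g * x * g⁻¹) = g * (x * x) * g⁻¹ by group, hx.2, mul_one, mul_inv_cancel]⟩) hΩ
    refine ⟨l, hl.1.1, hl.2, fun h => hla (h ▸ one_mem _), fun h => hla (h ▸ Subgroup.mem_zpowers _),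
      fun g hg => ?_⟩
    rcases hmemA (hconj g hg) with h | h
    · exact Or.inl (mul_inv_eq_one.mp h)
    · exact Or.inr (mul_inv_eq_iff_eq_mul.mp h)
  exfalso
  obtain ⟨u, huZ, hu1, hZu⟩ := exists_generator_of_unique_involution (hK.to_le (inf_le_left.trans hBK)) hZab haZ
    haa ha1 fun x hx hxx => hmemA (hΩ ⟨hx, hxx⟩)
  have hZB : ¬ B ≤ Z := fun h => hna (h.trans inf_le_right)
  obtain ⟨l, hlB, hlZ, hll, hlconj⟩ := exists_central_step hK (inf_le_left : Z ≤ B) hBK hZn hBn hZB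
  obtain ⟨s, hs⟩ := Subgroup.mem_zpowers_iff.mp (hZu hll)
  set n : ℤ := (orderOf u : ℤ) with hn
  have heq : ∀ {i j : ℤ}, u ^ i = u ^ j ↔ i ≡ j [ZMOD n] := fun {i j} => zpow_eq_zpow_iff_modEq
  have hnv : (2 : ℤ) ∣ n := by
    obtain ⟨i, hi⟩ := hK ⟨u, hBK huZ.1⟩
    obtain ⟨j, -, hj⟩ := (Nat.dvd_prime_pow Nat.prime_two).mp
      (orderOf_dvd_of_pow_eq_one (congrArg Subtype.val hi : u ^ 2 ^ i = 1))
    rcases j with _ | j
    · exact absurd (orderOf_eq_one_iff.mp (hj.trans (pow_zero 2))) hu1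
    · exact ⟨(2 : ℤ) ^ j, by rw [hn, hj]; push_cast; ring⟩
  have hact : ∀ g ∈ K, ∃ e f : ℤ, g * u * g⁻¹ = u ^ e ∧ g * l * g⁻¹ = l * u ^ f ∧ ¬ (2 : ℤ) ∣ e ∧
      2 * f ≡ (e - 1) * s [ZMOD n] := by
    intro g hg
    obtain ⟨e, he⟩ := Subgroup.mem_zpowers_iff.mp (hZu (hZn g hg u huZ))
    obtain ⟨f, hf⟩ := Subgroup.mem_zpowers_iff.mp (hZu (hlconj g hg))
    have hcl : Commute (u ^ f) l := ((show Commute l u from huZ.2 l hlB).zpow_right f).symm
    have hfl : g * l * g⁻¹ = l * u ^ f := by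
      calc g * l * g⁻¹ = g * l * g⁻¹ * l⁻¹ * l := (inv_mul_cancel_right _ _).symm
        _ = u ^ f * l := by rw [hf]
        _ = l * u ^ f := hcl.eq
    refine ⟨e, f, he.symm, hfl, ?_, ?_⟩
    · rintro ⟨h, rfl⟩
      obtain ⟨nh, hnh⟩ := hnv
      have h1 : (g * u * g⁻¹) ^ nh = 1 := by
        rw [← he, ← zpow_mul, show 2 * h * nh = n * h by rw [hnh]; ring, zpow_mul, hn, zpow_natCast,
          pow_orderOf_eq_one, one_zpow]
      rw [conj_zpow, conj_eq_one_iff] at h1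
      have h2 : n ∣ nh := orderOf_dvd_iff_zpow_eq_one.mpr h1
      have h3 : 0 < n := by rw [hn]; exact_mod_cast orderOf_pos u
      have h4 : n ≤ nh := Int.le_of_dvd (by omega) h2
      omega
    · have h1 : u ^ (s + 2 * f) = u ^ (e * s) := by
        calc u ^ (s + 2 * f) = (l * l) * (u ^ f * u ^ f) := by rw [← hs, ← zpow_add, ← zpow_add]; ring_nf
          _ = (l * u ^ f) * (l * u ^ f) := by
              calc l * l * (u ^ f * u ^ f) = l * (l * u ^ f) * u ^ f := by group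
                _ = l * (u ^ f * l) * u ^ f := by rw [hcl.eq]
                _ = _ := by group
          _ = g * (l * l) * g⁻¹ := by rw [← hfl]; group
          _ = u ^ (e * s) := by rw [← hs, zpow_mul, he, conj_zpow]
      have h2 := (heq.mp h1).sub_right s
      ring_nf at h2 ⊢
      exact h2
  have hKl : dSer K 1 ≤ Subgroup.centralizer ({l} : Set X) := by
    rw [dSer_succ, dSer_zero]
    refine commutator_commutes_of_forall fun g hg h hh => ?_
    obtain ⟨e, f, he, hf, hed, hef⟩ := hact g hg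
    obtain ⟨e', f', he', hf', hed', hef'⟩ := hact h hh
    have hgu : ∀ j : ℤ, g * u ^ j * g⁻¹ = u ^ (e * j) := fun j => by rw [zpow_mul, ← he, conj_zpow]
    have hhu : ∀ j : ℤ, h * u ^ j * h⁻¹ = u ^ (e' * j) := fun j => by rw [zpow_mul, ← he', conj_zpow]
    calc g * h * l * (g * h)⁻¹ = g * (h * l * h⁻¹) * g⁻¹ := by group
      _ = (g * l * g⁻¹) * (g * u ^ f' * g⁻¹) := by rw [hf']; group
      _ = l * u ^ (f + e * f') := by rw [hf, hgu, mul_assoc, ← zpow_add]
      _ = l * u ^ (f' + e' * f) := by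
          rw [heq.mpr ?_]
          obtain ⟨p, hp⟩ : (2 : ℤ) ∣ e - 1 := by omega
          obtain ⟨p', hp'⟩ : (2 : ℤ) ∣ e' - 1 := by omega
          have key : (e - 1) * f' ≡ (e' - 1) * f [ZMOD n] :=
            calc (e - 1) * f' = p * (2 * f') := by rw [hp]; ring
              _ ≡ p * ((e' - 1) * s) [ZMOD n] := hef'.mul_left p
              _ = p' * ((e - 1) * s) := by rw [hp, hp']; ring
              _ ≡ p' * (2 * f) [ZMOD n] := (hef.mul_left p').symm
              _ = (e' - 1) * f := by rw [hp']; ring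
          have key2 := key.add_left (f + f')
          ring_nf at key2 ⊢
          exact key2
      _ = (h * l * h⁻¹) * (h * u ^ f * h⁻¹) := by rw [hf', hhu, mul_assoc, ← zpow_add]
      _ = h * g * l * (h * g)⁻¹ := by
          calc (h * l * h⁻¹) * (h * u ^ f * h⁻¹) = h * (l * u ^ f) * h⁻¹ := by group
            _ = _ := by rw [← hf]; group
  exact hlZ ⟨hlB, fun b hb => Subgroup.mem_centralizer_singleton_iff.mp (hKl (hBK' hb))⟩

end CfsgLib.HallHigman
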