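import Cfsg.Agent.Lib.HallHigman.DerivedLength

/-!
# Products along the derived series, and restriction to an invariant subspace
-/

namespace CfsgLib.HallHigman

open Module (End)
open scoped commutatorElement

universe u

variable {X : Type*} [Group X]

/-- The product `(g₁ - 1) ⋯ (gₙ - 1)` in a ring. -/
def opsProd {G R : Type*} [Group G] [Ring R] (φ : G →* R) (l : List G) : R :=
  (l.map fun g => φ g - 1).prod

section ops

variable {G R : Type*} [Group G] [Ring R] (φ : G →* R)

theorem opsProd_nil : opsProd φ [] = 1 := rfl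

theorem opsProd_cons (g : G) (l : List G) : opsProd φ (g :: l) = (φ g - 1) * opsProd φ l := List.prod_cons

theorem opsProd_append (l l' : List G) : opsProd φ (l ++ l') = opsProd φ l * opsProd φ l' := by
  rw [opsProd, List.map_append, List.prod_append]; rfl

theorem opsProd_singleton (g : G) : opsProd φ [g] = φ g - 1 := by
  rw [opsProd_cons, opsProd_nil, mul_one]

theorem opsProd_comp {G' : Type*} [Group G'] (ψ : G' →* G) (l : List G') :
    opsProd (φ.comp ψ) l = opsProd φ (l.map ψ) := by
  rw [opsProd, opsProd, List.map_map]; rfl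

theorem opsProd_ringHom {R' : Type*} [Ring R'] (f : R →+* R') (l : List G) :
    opsProd (f.toMonoidHom.comp φ) l = f (opsProd φ l) := by
  induction l with
  | nil => rw [opsProd_nil, opsProd_nil, map_one]
  | cons g l ih =>
    rw [opsProd_cons, opsProd_cons, map_mul, map_sub, map_one, ← ih]
    rfl

/-- Whatever commutes with all factors commutes with the product. -/
theorem commute_opsProd {a : R} {l : List G} (h : ∀ g ∈ l, Commute a (φ g)) : Commute a (opsProd φ l) := by
  induction l with
  | nil => exact Commute.one_right a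
  | cons g l ih =>
    rw [opsProd_cons]
    exact ((h g (List.mem_cons_self)).sub_right (Commute.one_right a)).mul_right
      (ih fun x hx => h x (List.mem_cons_of_mem _ hx))

end ops

theorem dSer_dSer (P : Subgroup X) (j i : ℕ) : dSer (dSer P j) i = dSer P (j + i) := by
  induction i with
  | zero => rw [dSer_zero, add_zero]
  | succ i ih => rw [dSer_succ, ih, ← add_assoc, dSer_succ]

theorem dSer_mono {P Q : Subgroup X} (h : P ≤ Q) (i : ℕ) : dSer P i ≤ dSer Q i := by
  induction i with
  | zero => rwa [dSer_zero, dSer_zero]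
  | succ i ih => rw [dSer_succ, dSer_succ]; exact Subgroup.commutator_mono ih ih

/-- A list whose entry followed by `i` entries lies in the `i`-th term of the derived series. -/
def IsDerChain (P : Subgroup X) : List X → Prop
  | [] => True
  | g :: l => g ∈ dSer P l.length ∧ IsDerChain P l

theorem IsDerChain.mem {P : Subgroup X} : ∀ {l : List X}, IsDerChain P l → ∀ g ∈ l, g ∈ P
  | [], _, g, hg => absurd hg (by simp)
  | a :: l, h, g, hg => by
    rcases List.mem_cons.mp hg with rfl | hg
    · exact dSer_le P _ h.1
    · exact IsDerChain.mem h.2 g hg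

theorem IsDerChain.mono {P Q : Subgroup X} (hPQ : P ≤ Q) : ∀ {l : List X}, IsDerChain P l → IsDerChain Q l
  | [], _ => trivial
  | _ :: _, h => ⟨dSer_mono hPQ _ h.1, IsDerChain.mono hPQ h.2⟩

theorem IsDerChain.append {P : Subgroup X} {j : ℕ} {l' : List X} (h' : IsDerChain P l') (hj : l'.length = j) :
    ∀ {l : List X}, IsDerChain (dSer P j) l → IsDerChain P (l ++ l')
  | [], _ => h'
  | g :: l, h => by
    refine ⟨?_, IsDerChain.append h' hj h.2⟩
    show g ∈ dSer P (l ++ l').length
    rw [List.length_append, hj, add_comm, ← dSer_dSer]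
    exact h.1

theorem IsDerChain.map {Y : Type*} [Group Y] (f : X →* Y) {P : Subgroup X} :
    ∀ {l : List X}, IsDerChain P l → IsDerChain (P.map f) (l.map f)
  | [], _ => trivial
  | g :: l, h => by
    refine ⟨?_, IsDerChain.map f h.2⟩
    rw [List.length_map, ← map_dSer]
    exact ⟨g, h.1, rfl⟩

theorem IsDerChain.exists_lift {Y : Type*} [Group Y] (f : X →* Y) {P : Subgroup X} :
    ∀ {l : List Y}, IsDerChain (P.map f) l → ∃ l' : List X, IsDerChain P l' ∧ l'.map f = l
  | [], _ => ⟨[], trivial, rfl⟩
  | g :: l, h => by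
    obtain ⟨l', hl', rfl⟩ := IsDerChain.exists_lift f h.2
    have h1 := h.1
    rw [List.length_map, ← map_dSer] at h1
    obtain ⟨g', hg', rfl⟩ := h1
    exact ⟨g' :: l', ⟨hg', hl'⟩, rfl⟩

/-- All products along the derived series of length `n` vanish. -/
def KillsChains {R : Type*} [Ring R] (γ : X →* R) (P : Subgroup X) (n : ℕ) : Prop :=
  ∀ l : List X, IsDerChain P l → l.length = n → opsProd γ l = 0

/-! ## Restriction to an invariant subspace -/

section img

variable [Finite X] {k V : Type*} [Field k] [AddCommGroup V] [Module k V]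

/-- The operator group induced on a subspace. -/
noncomputable abbrev imgGroup (γ : X →* End k V) (S : Submodule k V) : Subgroup (End k S)ˣ :=
  (restrictUnits γ S).range

/-- The map onto the operator group. -/
noncomputable def imgHom (γ : X →* End k V) (S : Submodule k V) : stabSub γ S →* imgGroup γ S :=
  (restrictUnits γ S).rangeRestrict

/-- The operator group as a representation. -/
noncomputable def imgRep (γ : X →* End k V) (S : Submodule k V) : imgGroup γ S →* End k S :=
  (Units.coeHom _).comp (imgGroup γ S).subtype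

instance imgGroup_finite (γ : X →* End k V) (S : Submodule k V) : Finite (imgGroup γ S) :=
  Finite.of_surjective _ (restrictUnits γ S).rangeRestrict_surjective

omit [Finite X] in
theorem imgRep_injective [Finite X] (γ : X →* End k V) (S : Submodule k V) :
    Function.Injective (imgRep γ S) := fun _ _ h => Subtype.ext (Units.ext h)

theorem imgHom_surjective (γ : X →* End k V) (S : Submodule k V) : Function.Surjective (imgHom γ S) :=
  (restrictUnits γ S).rangeRestrict_surjective

theorem imgRep_apply (γ : X →* End k V) (S : Submodule k V) (g : stabSub γ S) (w : S) :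
    ((imgRep γ S (imgHom γ S g) w : S) : V) = γ g w := rfl

/-- The image of a subgroup in the operator group. -/
noncomputable def imgSub (γ : X →* End k V) (S : Submodule k V) (H : Subgroup X) : Subgroup (imgGroup γ S) :=
  (H.subgroupOf (stabSub γ S)).map (imgHom γ S)

theorem mem_imgSub (γ : X →* End k V) (S : Submodule k V) {H : Subgroup X} {y : imgGroup γ S} :
    y ∈ imgSub γ S H ↔ ∃ g : stabSub γ S, (g : X) ∈ H ∧ imgHom γ S g = y := by
  constructor
  · rintro ⟨g, hg, rfl⟩; exact ⟨g, hg, rfl⟩
  · rintro ⟨g, hg, rfl⟩; exact ⟨g, hg, rfl⟩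

theorem imgHom_mem (γ : X →* End k V) (S : Submodule k V) {H : Subgroup X} {g : X} (hgH : g ∈ H)
    (hg : g ∈ stabSub γ S) : imgHom γ S ⟨g, hg⟩ ∈ imgSub γ S H := ⟨⟨g, hg⟩, hgH, rfl⟩

theorem dSer_imgSub (γ : X →* End k V) (S : Submodule k V) {H : Subgroup X} (hH : H ≤ stabSub γ S) (i : ℕ) :
    dSer (imgSub γ S H) i = imgSub γ S (dSer H i) := by
  rw [imgSub, ← map_dSer, imgSub]
  congr 1
  refine Subgroup.map_injective (stabSub γ S).subtype_injective ?_
  rw [map_dSer, Subgroup.map_subgroupOf_eq_of_le hH, Subgroup.map_subgroupOf_eq_of_le ((dSer_le H i).trans hH)]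

theorem imgRep_opsProd (γ : X →* End k V) (S : Submodule k V) (l : List (stabSub γ S)) (w : S) :
    ((opsProd (imgRep γ S) (l.map (imgHom γ S)) w : S) : V) = opsProd γ (l.map Subtype.val) (w : V) := by
  induction l with
  | nil => rfl
  | cons g l ih =>
    simp only [List.map_cons, opsProd_cons, Module.End.mul_apply, LinearMap.sub_apply, Module.End.one_apply,
      Submodule.coe_sub, imgRep_apply, ih]

theorem isPGroup_imgSub {p : ℕ} (γ : X →* End k V) (S : Submodule k V) {H : Subgroup X} (hH : IsPGroup p H) :
    IsPGroup p (imgSub γ S H) :=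
  (hH.of_injective
    ({ toFun := fun g => ⟨(g : stabSub γ S), g.2⟩
       map_one' := rfl
       map_mul' := fun _ _ => rfl } : H.subgroupOf (stabSub γ S) →* H)
    fun _ _ h => Subtype.ext (Subtype.ext (congrArg (fun x : H => (x : X)) h))).map _

theorem imgSub_le_normalizer (γ : X →* End k V) (S : Submodule k V) {H C : Subgroup X}
    (hH : H ≤ Subgroup.normalizer (C : Set X)) :
    imgSub γ S H ≤ Subgroup.normalizer (imgSub γ S C : Set (imgGroup γ S)) := by
  intro y hy
  obtain ⟨g, hg, rfl⟩ := (mem_imgSub γ S).mp hy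
  refine mem_normalizer_map_conj.mpr fun z hz => ?_
  obtain ⟨c, hc, rfl⟩ := (mem_imgSub γ S).mp hz
  exact (mem_imgSub γ S).mpr ⟨g * c * g⁻¹, (Subgroup.mem_normalizer_iff.mp (hH hg) _).mp hc,
    by rw [map_mul, map_mul, map_inv]⟩

end img

end CfsgLib.HallHigman
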