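import Cfsg.Agent.Lib.HallHigman.DerivedIrred
import Cfsg.Agent.Lib.OddOrder.PuigSeries

/-!
# A `2`-group acting on an irreducible `q`-group of class two

The centre of the `q`-group consists of scalars, and an involution splits the `q`-group into the part it fixes
and the part it inverts modulo the centre.
-/

namespace CfsgLib.HallHigman

open Module (End)
open scoped commutatorElement

variable {X : Type*} [Group X]

/-- A normal step of index two between invariant subgroups of a `2`-group. -/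
theorem exists_central_step [Finite X] {K N L : Subgroup X} (hK : IsPGroup 2 K) (hNL : N ≤ L) (hLK : L ≤ K)
    (hNn : ∀ g ∈ K, ∀ x ∈ N, g * x * g⁻¹ ∈ N) (hLn : ∀ g ∈ K, ∀ x ∈ L, g * x * g⁻¹ ∈ L) (hne : ¬ L ≤ N) :
    ∃ l ∈ L, l ∉ N ∧ l * l ∈ N ∧ ∀ g ∈ K, g * l * g⁻¹ * l⁻¹ ∈ N := by
  have := Fact.mk Nat.prime_two
  set N' := N.subgroupOf K with hN'
  have hN'n : N'.Normal := ⟨fun x hx g => Subgroup.mem_subgroupOf.mpr (hNn g g.2 x hx)⟩
  have hL'n : (L.subgroupOf K).Normal := ⟨fun x hx g => Subgroup.mem_subgroupOf.mpr (hLn g g.2 x hx)⟩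
  let f := QuotientGroup.mk' N'
  set Lb := (L.subgroupOf K).map f with hLb
  have : Lb.Normal := Subgroup.Normal.map hL'n f (QuotientGroup.mk'_surjective _)
  have hQ : IsPGroup 2 (K ⧸ N') := hK.to_quotient N'
  have := hQ.isNilpotent
  have hLb0 : Lb ≠ ⊥ := fun h => hne fun x hx => by
    have h1 : f ⟨x, hLK hx⟩ ∈ Lb := ⟨⟨x, hLK hx⟩, hx, rfl⟩
    rw [h, Subgroup.mem_bot] at h1
    exact Subgroup.mem_subgroupOf.mp ((QuotientGroup.eq_one_iff _).mp h1)
  obtain ⟨w, hw1⟩ := (Subgroup.ne_bot_iff_exists_ne_one).mp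
    (CfsgLib.OddOrder.PuigSeries.inf_center_ne_bot Lb hLb0)
  have hw1' : (w : K ⧸ N') ≠ 1 := fun h => hw1 (Subtype.ext h)
  obtain ⟨i, hi, hio⟩ := (Nat.dvd_prime_pow Nat.prime_two).mp
    (orderOf_dvd_of_pow_eq_one (hQ (w : K ⧸ N')).choose_spec)
  have hi1 : 1 ≤ i := by
    by_contra h
    rw [show i = 0 by omega, pow_zero, orderOf_eq_one_iff] at hio
    exact hw1' hio
  set v := (w : K ⧸ N') ^ 2 ^ (i - 1) with hv
  have hv2 : v * v = 1 := by
    rw [hv, ← pow_add, ← two_mul, ← pow_succ', Nat.sub_add_cancel hi1, ← hio, pow_orderOf_eq_one]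
  have hv1 : v ≠ 1 := fun h => by
    have h1 := Nat.le_of_dvd (pow_pos two_pos _) (orderOf_dvd_of_pow_eq_one h)
    rw [hio] at h1
    exact absurd ((Nat.pow_le_pow_iff_right one_lt_two).mp h1) (by omega)
  have hvc : v ∈ Subgroup.center (K ⧸ N') ⊓ Lb := Subgroup.pow_mem _ w.2 _
  obtain ⟨hvc, l, hl, hlv⟩ := hvc
  refine ⟨l, hl, fun h => hv1 ?_, ?_, fun g hg => ?_⟩
  · rw [← hlv]
    exact (QuotientGroup.eq_one_iff _).mpr (Subgroup.mem_subgroupOf.mpr h)
  · have h1 : f (l * l) = 1 := by rw [map_mul, hlv, hv2]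
    exact Subgroup.mem_subgroupOf.mp ((QuotientGroup.eq_one_iff _).mp h1)
  · have h1 : f (⟨g, hg⟩ * l * ⟨g, hg⟩⁻¹ * l⁻¹) = 1 := by
      rw [map_mul, map_mul, map_mul, map_inv, map_inv, hlv, Subgroup.mem_center_iff.mp hvc, mul_inv_cancel_right,
        mul_inv_cancel]
    exact Subgroup.mem_subgroupOf.mp ((QuotientGroup.eq_one_iff _).mp h1)

/-- The elements inverted modulo the centre. -/
def negSub {C : Subgroup X} (hcl : ∀ c ∈ C, ∀ d ∈ C, ⁅c, d⁆ ∈ centreOf C) (y : X) : Subgroup X where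
  carrier := {c | c ∈ C ∧ y * c * y⁻¹ * c ∈ centreOf C}
  one_mem' := ⟨one_mem _, by simp⟩
  mul_mem' := fun {c d} hc hd => ⟨C.mul_mem hc.1 hd.1, by
    have hz := hd.2.2 c⁻¹ (C.inv_mem hc.1)
    set t₂ := y * d * y⁻¹ * d
    have e : y * (c * d) * y⁻¹ * (c * d) = (y * c * y⁻¹ * c) * t₂ * ⁅c⁻¹, d⁻¹⁆ := by
      calc y * (c * d) * y⁻¹ * (c * d) = (y * c * y⁻¹ * c) * (c⁻¹ * t₂) * (d⁻¹ * c * d) := by
            simp only [t₂]; group
        _ = (y * c * y⁻¹ * c) * (t₂ * c⁻¹) * (d⁻¹ * c * d) := by rw [hz]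
        _ = _ := by rw [commutatorElement_def]; group
    rw [e]
    exact mul_mem (mul_mem hc.2 hd.2) (hcl _ (C.inv_mem hc.1) _ (C.inv_mem hd.1))⟩
  inv_mem' := fun {c} hc => ⟨C.inv_mem hc.1, by
    have hz := hc.2.2 c hc.1
    set t := y * c * y⁻¹ * c
    have e : y * c⁻¹ * y⁻¹ * c⁻¹ = t⁻¹ := by
      calc y * c⁻¹ * y⁻¹ * c⁻¹ = c * t⁻¹ * c⁻¹ := by simp only [t]; group
        _ = t⁻¹ * c * c⁻¹ := by rw [(show Commute c t from hz).inv_right.eq]
        _ = t⁻¹ := mul_inv_cancel_right _ _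
    rw [e]
    exact inv_mem hc.2⟩

theorem mem_negSub {C : Subgroup X} {hcl : ∀ c ∈ C, ∀ d ∈ C, ⁅c, d⁆ ∈ centreOf C} {y c : X} :
    c ∈ negSub hcl y ↔ c ∈ C ∧ y * c * y⁻¹ * c ∈ centreOf C := Iff.rfl

/-- The fixed part. -/
abbrev posSub (C : Subgroup X) (y : X) : Subgroup X := C ⊓ Subgroup.centralizer ({y} : Set X)

theorem mem_posSub {C : Subgroup X} {y c : X} : c ∈ posSub C y ↔ c ∈ C ∧ c * y = y * c := by
  rw [posSub, Subgroup.mem_inf, Subgroup.mem_centralizer_singleton_iff]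

theorem negSub_le {C : Subgroup X} (hcl : ∀ c ∈ C, ∀ d ∈ C, ⁅c, d⁆ ∈ centreOf C) (y : X) : negSub hcl y ≤ C :=
  fun _ hc => hc.1

section rep

variable [Finite X] {k V : Type*} [Field k] [AddCommGroup V] [Module k V]

/-- An irreducible class-two `q`-group with a `2`-group normalizing it. -/
structure IrrData (γ : X →* End k V) (q : ℕ) (C K : Subgroup X) : Prop where
  inj : Function.Injective γ
  prime : q.Prime
  q2 : q ≠ 2
  qC : IsPGroup q C
  cl : ∀ c ∈ C, ∀ d ∈ C, ⁅c, d⁆ ∈ centreOf C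
  nt : Nontrivial V
  irr : ∀ W : Submodule k V, C ≤ stabSub γ W → W = ⊥ ∨ W = ⊤
  pK : IsPGroup 2 K
  norm : K ≤ Subgroup.normalizer (C : Set X)

variable {γ : X →* End k V} {q : ℕ} {C K : Subgroup X}

namespace IrrData

theorem mono {K' : Subgroup X} (D : IrrData γ q C K) (h : K' ≤ K) : IrrData γ q C K' :=
  ⟨D.inj, D.prime, D.q2, D.qC, D.cl, D.nt, D.irr, D.pK.to_le h, h.trans D.norm⟩

theorem conj_mem (D : IrrData γ q C K) {g c : X} (hg : g ∈ K) (hc : c ∈ C) : g * c * g⁻¹ ∈ C :=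
  (Subgroup.mem_normalizer_iff.mp (D.norm hg) c).mp hc

theorem eq_one_of_pow (D : IrrData γ q C K) {c : X} (hc : c ∈ C) {i : ℕ} (h : c ^ 2 ^ i = 1) : c = 1 := by
  obtain ⟨j, hj⟩ := D.qC ⟨c, hc⟩
  exact orderOf_eq_one_iff.mp (Nat.eq_one_of_dvd_coprimes
    (((Nat.coprime_primes Nat.prime_two D.prime).mpr (Ne.symm D.q2)).pow i j)
    (orderOf_dvd_of_pow_eq_one h) (orderOf_dvd_of_pow_eq_one (congrArg Subtype.val hj)))

theorem eq_one_of_sq (D : IrrData γ q C K) {c : X} (hc : c ∈ C) (h : c * c = 1) : c = 1 :=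
  D.eq_one_of_pow hc (i := 1) (by rw [pow_one, pow_two, h])

theorem exists_sqrt (D : IrrData γ q C K) {c : X} (hc : c ∈ C) : ∃ n : ℕ, c ^ n * c ^ n = c := by
  obtain ⟨j, hj⟩ := D.qC ⟨c, hc⟩
  have hodd : Odd (q ^ j) := (D.prime.odd_of_ne_two D.q2).pow
  obtain ⟨m, hm⟩ := hodd
  refine ⟨m + 1, ?_⟩
  rw [← pow_add, show m + 1 + (m + 1) = q ^ j + 1 by omega, pow_succ,
    show c ^ q ^ j = 1 from congrArg Subtype.val hj, one_mul]

theorem sq_mem (D : IrrData γ q C K) {H : Subgroup X} {c : X} (hc : c ∈ C) (h : c * c ∈ H) : c ∈ H := by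
  obtain ⟨n, hn⟩ := D.exists_sqrt hc
  rw [← hn, ← (Commute.refl c).mul_pow]
  exact H.pow_mem h n

/-- A square root of an inverted element is inverted, and splits off the fixed part. -/
theorem exists_split_in (D : IrrData γ q C K) {y : X} (hy : y ∈ K) (hyy : y * y = 1) {c : X} (hc : c ∈ C)
    {H : Subgroup X} (hcH : c ∈ H) (hyH : ∀ h ∈ H, y * h * y⁻¹ ∈ H) :
    ∃ a ∈ posSub C y, ∃ b ∈ negSub D.cl y, a ∈ H ∧ b ∈ H ∧ a * b = c := by
  have hyinv : y⁻¹ = y := inv_eq_of_mul_eq_one_right hyy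
  set u := y * c⁻¹ * y⁻¹ * c with hu
  have huC : u ∈ C := C.mul_mem (D.conj_mem hy (C.inv_mem hc)) hc
  have huH : u ∈ H := H.mul_mem (hyH _ (H.inv_mem hcH)) hcH
  have hyu : y * u * y⁻¹ = u⁻¹ := by
    calc y * u * y⁻¹ = (y * y) * c⁻¹ * (y⁻¹ * c * y⁻¹) := by rw [hu]; group
      _ = c⁻¹ * (y * c * y⁻¹) := by rw [hyy, one_mul, hyinv]
      _ = u⁻¹ := by rw [hu]; group
  obtain ⟨n, hn⟩ := D.exists_sqrt huC
  set b := u ^ n with hb
  have hyb : y * b * y⁻¹ = b⁻¹ := by rw [hb, ← conj_pow, hyu, inv_pow]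
  have hbC : b ∈ C := C.pow_mem huC n
  have hbH : b ∈ H := H.pow_mem huH n
  refine ⟨c * b⁻¹, ?_, b, ⟨hbC, by rw [hyb, inv_mul_cancel]; exact one_mem _⟩,
    H.mul_mem hcH (H.inv_mem hbH), hbH, inv_mul_cancel_right _ _⟩
  refine mem_posSub.mpr ⟨C.mul_mem hc (C.inv_mem hbC), ?_⟩
  have h1 : y * (c * b⁻¹) * y⁻¹ = c * b⁻¹ := by
    calc y * (c * b⁻¹) * y⁻¹ = (y * c * y⁻¹) * (y * b * y⁻¹)⁻¹ := by group
      _ = c * u⁻¹ * b := by rw [hyb, inv_inv, hu]; group
      _ = c * (b * b)⁻¹ * b := by rw [hn]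
      _ = c * b⁻¹ := by group
  exact (mul_inv_eq_iff_eq_mul.mp h1).symm

theorem exists_split (D : IrrData γ q C K) {y : X} (hy : y ∈ K) (hyy : y * y = 1) {c : X} (hc : c ∈ C) :
    ∃ a ∈ posSub C y, ∃ b ∈ negSub D.cl y, a * b = c := by
  obtain ⟨a, ha, b, hb, -, -, h⟩ := D.exists_split_in hy hyy hc hc fun h hh => D.conj_mem hy hh
  exact ⟨a, ha, b, hb, h⟩

variable [IsAlgClosed k] [CharP k 2] [FiniteDimensional k V]

omit [CharP k 2] in
/-- Schur's lemma for `C`. -/
theorem exists_scalar (D : IrrData γ q C K) (f : End k V) (hf : ∀ c ∈ C, Commute f (γ c)) :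
    ∃ l : k, f = l • 1 := by
  have := D.nt
  exact exists_eq_smul_one (ρ := γ.comp C.subtype) (fun W hW => D.irr W fun c hc w hw => hW ⟨c, hc⟩ w hw) f
    fun c => hf c c.2

omit [CharP k 2] in
theorem centre_scalar (D : IrrData γ q C K) {z : X} (hz : z ∈ centreOf C) : ∃ l : k, γ z = l • 1 :=
  D.exists_scalar (γ z) fun c hc => by rw [Commute, SemiconjBy, ← map_mul, ← map_mul, hz.2 c hc]

omit [CharP k 2] in
theorem central (D : IrrData γ q C K) {z : X} (hz : z ∈ centreOf C) (x : X) : x * z = z * x := by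
  obtain ⟨l, hl⟩ := D.centre_scalar hz
  apply D.inj
  rw [map_mul, map_mul, hl, mul_smul_comm, smul_mul_assoc, mul_one, one_mul]

omit [CharP k 2] in
/-- A scalar that fixes a nonzero vector is trivial. -/
theorem centre_eq_one (D : IrrData γ q C K) {z : X} (hz : z ∈ centreOf C) {v : V} (hv : v ≠ 0)
    (h : γ z v = v) : z = 1 := by
  obtain ⟨l, hl⟩ := D.centre_scalar hz
  rw [hl, LinearMap.smul_apply, Module.End.one_apply] at h
  have h1 : (l - 1) • v = 0 := by rw [sub_smul, h, one_smul, sub_self]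
  apply D.inj
  rw [hl, sub_eq_zero.mp ((smul_eq_zero.mp h1).resolve_right hv), one_smul, map_one]

omit [CharP k 2] in
theorem centre_le_posSub (D : IrrData γ q C K) (y : X) : centreOf C ≤ posSub C y := fun t ht =>
  mem_posSub.mpr ⟨ht.1, (D.central ht y).symm⟩

omit [CharP k 2] in
theorem centre_le_negSub (D : IrrData γ q C K) (y : X) : centreOf C ≤ negSub D.cl y := fun t ht =>
  ⟨ht.1, by rw [D.central ht y, mul_inv_cancel_right]; exact mul_mem ht ht⟩

omit [CharP k 2] in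
theorem mem_posSub_of_mod (D : IrrData γ q C K) {y c : X} (hyy : y * y = 1) (hc : c ∈ C)
    (h : c⁻¹ * (y * c * y⁻¹) ∈ centreOf C) : c ∈ posSub C y := by
  set t := c⁻¹ * (y * c * y⁻¹) with ht
  have e : y * c * y⁻¹ = c * t := by rw [ht]; group
  have h2 : t * t = 1 := by
    have e2 : c = c * (t * t) := by
      calc c = (y * y) * c * (y * y)⁻¹ := by rw [hyy]; simp
        _ = y * (y * c * y⁻¹) * y⁻¹ := by group
        _ = y * (c * t) * y⁻¹ := by rw [e]
        _ = (y * c * y⁻¹) * (y * t * y⁻¹) := by group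
        _ = c * (t * t) := by rw [e, D.central h y, mul_inv_cancel_right, mul_assoc]
    exact mul_eq_left.mp e2.symm
  refine mem_posSub.mpr ⟨hc, ?_⟩
  rw [D.eq_one_of_sq h.1 h2, mul_one] at e
  exact (mul_inv_eq_iff_eq_mul.mp e).symm

omit [CharP k 2] in
theorem mem_centre_of_pos_neg (D : IrrData γ q C K) {y c : X} (h₁ : c ∈ posSub C y) (h₂ : c ∈ negSub D.cl y) :
    c ∈ centreOf C := by
  have h := (mem_negSub.mp h₂).2
  rw [← (mem_posSub.mp h₁).2, mul_inv_cancel_right] at h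
  exact D.sq_mem h₂.1 h

omit [CharP k 2] in
/-- The two parts commute. -/
theorem pos_neg_commute (D : IrrData γ q C K) {y a b : X} (ha : a ∈ posSub C y) (hb : b ∈ negSub D.cl y) :
    a * b = b * a := by
  set t := ⁅a, b⁆ with ht
  have htC : t ∈ centreOf C := D.cl a ha.1 b hb.1
  set s := y * b * y⁻¹ * b with hs
  have hsC : s ∈ centreOf C := hb.2
  have h1 : t = t⁻¹ := by
    calc t = y * t * y⁻¹ := by rw [D.central htC y, mul_inv_cancel_right]
      _ = ⁅y * a * y⁻¹, y * b * y⁻¹⁆ := by rw [ht, commutatorElement_def, commutatorElement_def]; group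
      _ = ⁅a, s * b⁻¹⁆ := by
          rw [← (mem_posSub.mp ha).2, mul_inv_cancel_right, hs]; congr 1; group
      _ = (a * s) * b⁻¹ * a⁻¹ * b * s⁻¹ := by rw [commutatorElement_def]; group
      _ = (s * a) * b⁻¹ * a⁻¹ * b * s⁻¹ := by rw [D.central hsC a]
      _ = s * (b⁻¹ * t⁻¹ * b) * s⁻¹ := by rw [ht, commutatorElement_def]; group
      _ = s * t⁻¹ * s⁻¹ := by rw [D.central (inv_mem htC) b⁻¹, inv_mul_cancel_right]
      _ = t⁻¹ := by rw [← D.central hsC t⁻¹, mul_inv_cancel_right]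
  have h2 : t * t = 1 := by rw [← mul_inv_cancel t, ← h1]
  exact commutatorElement_eq_one_iff_mul_comm.mp (D.eq_one_of_sq htC.1 h2)

/-- An element trivial modulo the centre is trivial. -/
theorem eq_one_of_trivial (D : IrrData γ q C K) {g : X} (hg : g ∈ K)
    (h : ∀ c ∈ C, c⁻¹ * (g * c * g⁻¹) ∈ centreOf C) : g = 1 := by
  obtain ⟨i, hi⟩ := D.pK ⟨g, hg⟩
  have hgi : g ^ 2 ^ i = 1 := congrArg Subtype.val hi
  have hcomm : ∀ c ∈ C, g * c = c * g := by
    intro c hc
    set z := c⁻¹ * (g * c * g⁻¹) with hz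
    have hzC := h c hc
    have key : ∀ j : ℕ, g ^ j * c * (g ^ j)⁻¹ = c * z ^ j := by
      intro j
      induction j with
      | zero => simp
      | succ j ih =>
        calc g ^ (j + 1) * c * (g ^ (j + 1))⁻¹ = g * (g ^ j * c * (g ^ j)⁻¹) * g⁻¹ := by
              rw [pow_succ']; group
          _ = (g * c * g⁻¹) * (g * z ^ j * g⁻¹) := by rw [ih]; group
          _ = c * z * z ^ j := by
              rw [((show Commute g z from D.central hzC g).pow_right j).eq, mul_inv_cancel_right, hz]; group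
          _ = c * z ^ (j + 1) := by rw [pow_succ', mul_assoc]
    have h1 := key (2 ^ i)
    rw [hgi, one_mul, inv_one, mul_one, left_eq_mul] at h1
    have h2 := D.eq_one_of_pow hzC.1 h1
    calc g * c = c * z * g := by rw [hz]; group
      _ = c * g := by rw [hz, h2, mul_one]
  obtain ⟨l, hl⟩ := D.exists_scalar (γ g) fun c hc => by
    rw [Commute, SemiconjBy, ← map_mul, ← map_mul, hcomm c hc]
  have := D.nt
  obtain ⟨v, hv⟩ := exists_ne (0 : V)
  have h2 : l ^ 2 ^ i = 1 := by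
    have h3 := LinearMap.congr_fun (congrArg γ hgi) v
    rw [map_pow, hl, smul_pow, one_pow, map_one, LinearMap.smul_apply, Module.End.one_apply] at h3
    exact sub_eq_zero.mp ((smul_eq_zero.mp (show (l ^ 2 ^ i - 1) • v = 0 by
      rw [sub_smul, h3, one_smul, sub_self])).resolve_right hv)
  exact D.inj (by rw [hl, scalar_eq_one_of_pow h2, one_smul, map_one])

theorem eq_one_of_le_posSub (D : IrrData γ q C K) {y : X} (hy : y ∈ K) (h : C ≤ posSub C y) : y = 1 :=
  D.eq_one_of_trivial hy fun c hc => by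
    rw [← (mem_posSub.mp (h hc)).2, mul_inv_cancel_right, inv_mul_cancel]
    exact one_mem _

omit [CharP k 2] in
/-- Two commuting involutions with vanishing product of operators: mixed parts are central. -/
theorem mixed_le_centre (D : IrrData γ q C K) {a y c : X} (hy1 : y ≠ 1) (haa : a * a = 1) (hay : a * y = y * a)
    (hy : y ∈ K) (hyy : y * y = 1) (h0 : (γ a - 1) * (γ y - 1) = 0) (hca : c ∈ negSub D.cl a)
    (hcy : c ∈ posSub C y) : c ∈ centreOf C := by
  set I := LinearMap.range (γ y - 1) with hI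
  have hIne : I ≠ ⊥ := fun h => hy1 (D.inj (by
    rw [map_one]; exact sub_eq_zero.mp (LinearMap.range_eq_bot.mp h)))
  obtain ⟨v, hv, hv0⟩ := Submodule.exists_mem_ne_zero_of_ne_bot hIne
  have hfix : ∀ w ∈ I, γ a w = w := by
    rintro _ ⟨x, rfl⟩
    have h1 := LinearMap.congr_fun h0 x
    rw [Module.End.mul_apply, LinearMap.sub_apply, Module.End.one_apply, LinearMap.zero_apply, sub_eq_zero] at h1
    exact h1
  have hIC : ∀ d ∈ posSub C y, ∀ w ∈ I, γ d w ∈ I := by
    rintro d hd _ ⟨x, rfl⟩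
    refine ⟨γ d x, ?_⟩
    show γ y (γ d x) - γ d x = γ d (γ y x - x)
    rw [map_sub, ← Module.End.mul_apply, ← map_mul, ← Module.End.mul_apply, ← map_mul, (mem_posSub.mp hd).2]
  set e := c⁻¹ * (a * c * a⁻¹) with he
  have hs := hca.2
  have heP : e ∈ posSub C y := by
    rw [he, show c⁻¹ * (a * c * a⁻¹) = c⁻¹ * ((a * c * a⁻¹ * c) * c⁻¹) by group]
    exact mul_mem (inv_mem hcy) (mul_mem (D.centre_le_posSub y hs) (inv_mem hcy))
  have haI : ∀ w ∈ I, γ a⁻¹ w = w := fun w hw => by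
    rw [inv_eq_of_mul_eq_one_right haa]; exact hfix w hw
  have hefix : ∀ w ∈ I, γ e w = w := by
    intro w hw
    rw [he]
    simp only [map_mul, Module.End.mul_apply]
    rw [haI w hw, hfix _ (hIC c hcy w hw), ← Module.End.mul_apply, ← map_mul, inv_mul_cancel, map_one,
      Module.End.one_apply]
  have hepos : ∀ d ∈ posSub C y, e * d = d * e := by
    intro d hd
    refine commutatorElement_eq_one_iff_mul_comm.mp (D.centre_eq_one (D.cl e heP.1 d hd.1) hv0 ?_)
    have h1 : ∀ w ∈ I, γ e⁻¹ w = w := fun w hw => by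
      conv_lhs => rw [← hefix w hw]
      rw [← Module.End.mul_apply, ← map_mul, inv_mul_cancel, map_one, Module.End.one_apply]
    rw [commutatorElement_def]
    simp only [map_mul, Module.End.mul_apply]
    rw [h1 _ (hIC _ (inv_mem hd) v hv), ← Module.End.mul_apply (γ d), ← map_mul, mul_inv_cancel, map_one,
      Module.End.one_apply, hefix v hv]
  have heT : e ∈ centreOf C := by
    refine ⟨heP.1, fun d hd => ?_⟩
    obtain ⟨d₁, hd₁, d₂, hd₂, rfl⟩ := D.exists_split hy hyy hd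
    exact ((show Commute d₁ e from (hepos d₁ hd₁).symm).mul_left
      (show Commute d₂ e from (D.pos_neg_commute heP hd₂).symm)).eq
  refine D.sq_mem hca.1 ?_
  have h1 := mul_mem (inv_mem heT) hs
  have e2 : e⁻¹ * (a * c * a⁻¹ * c) = (a * c * a⁻¹)⁻¹ * c * ((a * c * a⁻¹) * c) := by rw [he]; group
  rw [e2] at h1
  have e3 : c * ((a * c * a⁻¹) * c) = (a * c * a⁻¹ * c) * c := (hs.2 c hca.1)
  have e4 : (a * c * a⁻¹)⁻¹ * c * ((a * c * a⁻¹) * c) = c * c := by
    rw [mul_assoc ((a * c * a⁻¹)⁻¹), e3]; group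
  rwa [e4] at h1

/-- Two distinct commuting involutions have nonzero product of operators. -/
theorem ne_zero_of_ne (D : IrrData γ q C K) {a y : X} (ha : a ∈ K) (hy : y ∈ K) (haa : a * a = 1)
    (hyy : y * y = 1) (ha1 : a ≠ 1) (hy1 : y ≠ 1) (hay : a * y = y * a) (hne : a ≠ y) :
    (γ a - 1) * (γ y - 1) ≠ 0 := by
  intro h0
  have h0' : (γ y - 1) * (γ a - 1) = 0 := by
    rw [← h0]
    exact (((show Commute (γ y) (γ a) by rw [Commute, SemiconjBy, ← map_mul, ← map_mul, hay]).sub_right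
      (Commute.one_right _)).sub_left (Commute.one_left _)).eq
  have m₁ : ∀ c ∈ negSub D.cl a, c ∈ posSub C y → c ∈ centreOf C := fun c hc hc' =>
    D.mixed_le_centre hy1 haa hay hy hyy h0 hc hc'
  have m₂ : ∀ c ∈ negSub D.cl y, c ∈ posSub C a → c ∈ centreOf C := fun c hc hc' =>
    D.mixed_le_centre ha1 hyy hay.symm ha haa h0' hc hc'
  have hay1 : a * y = 1 := by
    refine D.eq_one_of_trivial (mul_mem ha hy) fun c hc => ?_
    obtain ⟨c₁, hc₁, c₂, hc₂, rfl⟩ := D.exists_split ha haa hc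
    have hy₁ : ∀ h ∈ posSub C a, y * h * y⁻¹ ∈ posSub C a := fun h hh => by
      have hh' := mem_posSub.mp hh
      refine mem_posSub.mpr ⟨D.conj_mem hy hh'.1, ?_⟩
      calc y * h * y⁻¹ * a = y * h * (y⁻¹ * a) := by group
        _ = y * h * (a * y⁻¹) := by rw [(show Commute a y from hay).inv_right.eq]
        _ = y * (h * a) * y⁻¹ := by group
        _ = y * a * h * y⁻¹ := by rw [hh'.2]; group
        _ = a * (y * h * y⁻¹) := by rw [← hay]; group
    have hy₂ : ∀ h ∈ negSub D.cl a, y * h * y⁻¹ ∈ negSub D.cl a := fun h hh => by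
      refine ⟨D.conj_mem hy hh.1, ?_⟩
      rw [show a * (y * h * y⁻¹) * a⁻¹ * (y * h * y⁻¹) = y * (a * h * a⁻¹ * h) * y⁻¹ by
        calc a * (y * h * y⁻¹) * a⁻¹ * (y * h * y⁻¹) = (a * y) * h * (a * y)⁻¹ * (y * h * y⁻¹) := by group
          _ = (y * a) * h * (y * a)⁻¹ * (y * h * y⁻¹) := by rw [hay]
          _ = _ := by group]
      rw [D.central hh.2 y, mul_inv_cancel_right]
      exact hh.2
    obtain ⟨p, hp, m, hm, -, hma, hc₁e⟩ := D.exists_split_in hy hyy hc₁.1 hc₁ hy₁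
    obtain ⟨p', hp', m', hm', hpa', hma', hc₂e⟩ := D.exists_split_in hy hyy hc₂.1 hc₂ hy₂
    have hmT := m₂ m hm hma
    have hpT := m₁ p' hpa' hp'
    have hpfix : ∀ {w : X}, w * a = a * w → w * y = y * w → a * y * w * (a * y)⁻¹ = w := by
      intro w h1 h2
      rw [((show Commute w a from h1).mul_right (show Commute w y from h2)).symm.eq, mul_inv_cancel_right]
    have hpA : p * a = a * p := by
      have h1 : c₁ * a = a * c₁ := (mem_posSub.mp hc₁).2
      rw [← hc₁e] at h1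
      have h2 : Commute m a := (D.central hmT a).symm
      exact ((show Commute (p * m) a from h1).mul_left h2.inv_left |>.eq |> fun e => by
        simpa [mul_assoc] using e)
    -- the doubly inverted part
    set s := y * m' * y⁻¹ * m' with hs
    set t := a * m' * a⁻¹ * m' with ht
    have hm'eq : a * y * m' * (a * y)⁻¹ = m' * (t⁻¹ * s) := by
      have hta : a * m'⁻¹ * a⁻¹ = m' * t⁻¹ := by rw [ht]; group
      calc a * y * m' * (a * y)⁻¹ = a * (s * m'⁻¹) * a⁻¹ := by rw [hs]; group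
        _ = s * (a * m'⁻¹ * a⁻¹) := by
            rw [← mul_assoc a, D.central hm'.2 a, hs]; group
        _ = m' * (t⁻¹ * s) := by rw [hta, ← mul_assoc m', ← D.central hm'.2]
    have hall : a * y * (c₁ * c₂) * (a * y)⁻¹ = c₁ * c₂ * (t⁻¹ * s) := by
      rw [← hc₁e, ← hc₂e]
      calc a * y * (p * m * (p' * m')) * (a * y)⁻¹
          = (a * y * p * (a * y)⁻¹) * (a * y * m * (a * y)⁻¹) * (a * y * p' * (a * y)⁻¹) *
              (a * y * m' * (a * y)⁻¹) := by group
        _ = p * m * p' * (m' * (t⁻¹ * s)) := by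
            rw [hm'eq, hpfix hpA (mem_posSub.mp hp).2, hpfix (D.central hmT a).symm (D.central hmT y).symm,
              hpfix (D.central hpT a).symm (mem_posSub.mp hp').2]
        _ = p * m * (p' * m') * (t⁻¹ * s) := by group
    rw [hall, inv_mul_cancel_left]
    exact mul_mem (inv_mem hma'.2) hm'.2
  apply hne
  rw [← inv_eq_of_mul_eq_one_right haa, inv_eq_of_mul_eq_one_right hay1]

omit [IsAlgClosed k] [CharP k 2] [FiniteDimensional k V] in
/-- A central character of `C`. -/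
theorem exists_char (D : IrrData γ q C K) [IsAlgClosed k] [FiniteDimensional k V] :
    ∃ χ : X → k, charSpace γ (centreOf C) χ ≠ ⊥ ∧
      ∀ g ∈ C, (g ∈ centreOf C ↔ ∀ h ∈ C, χ ⁅g, h⁆ = 1) := by
  have hsc : ∀ z ∈ centreOf C, ∃ l : k, γ z = l • 1 := fun z hz => D.centre_scalar hz
  choose! χ hχ using hsc
  have := D.nt
  obtain ⟨v, hv⟩ := exists_ne (0 : V)
  refine ⟨χ, fun h => ?_, fun g hg => ⟨fun hgT h hh => ?_, fun h => ⟨hg, fun d hd => ?_⟩⟩⟩
  · have h1 : v ∈ charSpace γ (centreOf C) χ := fun z hz => by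
      rw [hχ z hz, LinearMap.smul_apply, Module.End.one_apply]
    rw [h, Submodule.mem_bot] at h1
    exact hv h1
  · have h1 : γ ⁅g, h⁆ v = χ ⁅g, h⁆ • v := by
      rw [hχ _ (D.cl g hg h hh), LinearMap.smul_apply, Module.End.one_apply]
    rw [commutatorElement_eq_one_iff_mul_comm.mpr (hgT.2 h hh).symm, map_one, Module.End.one_apply] at h1
    rw [commutatorElement_eq_one_iff_mul_comm.mpr (hgT.2 h hh).symm]
    exact sub_eq_zero.mp ((smul_eq_zero.mp (show (χ 1 - 1) • v = 0 by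
      rw [sub_smul, ← h1, one_smul, sub_self])).resolve_right hv)
  · have h1 : γ ⁅g, d⁆ = 1 := by rw [hχ _ (D.cl g hg d hd), h d hd, one_smul]
    exact (commutatorElement_eq_one_iff_mul_comm.mp (D.inj (by rw [h1, map_one]))).symm

omit [CharP k 2] in
theorem card_pos_mul_card_neg (D : IrrData γ q C K) {y : X} (hy : y ∈ K) (hyy : y * y = 1) {H : Subgroup X}
    (hHC : H ≤ C) (hyH : ∀ h ∈ H, y * h * y⁻¹ ∈ H) (hTH : centreOf C ≤ H) :
    Nat.card (posSub C y ⊓ H : Subgroup X) * Nat.card (negSub D.cl y ⊓ H : Subgroup X) =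
      Nat.card H * Nat.card (centreOf C : Subgroup X) := by
  have hnorm : posSub C y ⊓ H ≤ Subgroup.normalizer ((negSub D.cl y ⊓ H : Subgroup X) : Set X) := fun a ha =>
    mem_normalizer_map_conj.mpr fun b hb => by
      rw [D.pos_neg_commute ha.1 hb.1, mul_inv_cancel_right]
      exact hb
  have hsup : (posSub C y ⊓ H) ⊔ (negSub D.cl y ⊓ H) = H := by
    refine le_antisymm (sup_le inf_le_right inf_le_right) fun c hc => ?_
    obtain ⟨a, ha, b, hb, haH, hbH, rfl⟩ := D.exists_split_in hy hyy (hHC hc) hc hyH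
    exact Subgroup.mul_mem_sup ⟨ha, haH⟩ ⟨hb, hbH⟩
  have hinf : (negSub D.cl y ⊓ H) ⊓ (posSub C y ⊓ H) = centreOf C :=
    le_antisymm (fun c hc => D.mem_centre_of_pos_neg hc.2.1 hc.1.1)
      fun c hc => ⟨⟨D.centre_le_negSub y hc, hTH hc⟩, D.centre_le_posSub y hc, hTH hc⟩
  have h1 := CfsgLib.Coprime.card_sup_mul_card_inf hnorm
  rw [hsup, hinf] at h1
  exact h1.symm

omit [CharP k 2] in
/-- The index of the fixed part is the order of the inverted part modulo the centre. -/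
theorem relIndex_negSub (D : IrrData γ q C K) {y : X} (hy : y ∈ K) (hyy : y * y = 1) :
    (centreOf C).relIndex (negSub D.cl y) = (posSub C y).relIndex C := by
  have h := D.card_pos_mul_card_neg hy hyy le_rfl (fun h hh => D.conj_mem hy hh) inf_le_left
  rw [inf_eq_left.mpr inf_le_left, inf_eq_left.mpr (negSub_le _ _)] at h
  have h1 := Subgroup.relIndex_mul_relIndex ⊥ (posSub C y) C bot_le inf_le_left
  have h2 := Subgroup.relIndex_mul_relIndex ⊥ (centreOf C) (negSub D.cl y) bot_le (D.centre_le_negSub y)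
  simp only [Subgroup.relIndex_bot_left] at h1 h2
  rw [← h1, ← h2, mul_comm (Nat.card (centreOf C : Subgroup X)), ← mul_assoc, mul_assoc _ ((posSub C y).relIndex C)]
    at h
  exact Nat.eq_of_mul_eq_mul_right (Nat.card_pos (α := (centreOf C : Subgroup X)))
    (Nat.eq_of_mul_eq_mul_left (Nat.card_pos (α := posSub C y)) (by rw [← mul_assoc]; linarith))

omit [CharP k 2] in
/-- An involution commuting with `z` acts by a sign on the plane inverted by `z`. -/
theorem sign_on_plane (D : IrrData γ q C K) {z y : X} (hz : z ∈ K) (hy : y ∈ K) (hzz : z * z = 1)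
    (hyy : y * y = 1) (hzy : z * y = y * z) (hidx : (posSub C z).relIndex C = q ^ 2) :
    negSub D.cl z ≤ posSub C y ∨ negSub D.cl z ≤ negSub D.cl y := by
  set M := negSub D.cl z with hM
  have hyM : ∀ h ∈ M, y * h * y⁻¹ ∈ M := fun h hh => ⟨D.conj_mem hy hh.1, by
    rw [show z * (y * h * y⁻¹) * z⁻¹ * (y * h * y⁻¹) = y * (z * h * z⁻¹ * h) * y⁻¹ by
      calc z * (y * h * y⁻¹) * z⁻¹ * (y * h * y⁻¹) = (z * y) * h * (z * y)⁻¹ * (y * h * y⁻¹) := by group
        _ = (y * z) * h * (y * z)⁻¹ * (y * h * y⁻¹) := by rw [hzy]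
        _ = _ := by group]
    rw [D.central hh.2 y, mul_inv_cancel_right]
    exact hh.2⟩
  set A := posSub C y ⊓ M with hA
  set B := negSub D.cl y ⊓ M with hB
  by_cases hAT : A ≤ centreOf C
  · refine Or.inr fun c hc => ?_
    obtain ⟨a, ha, b, hb, haM, -, rfl⟩ := D.exists_split_in hy hyy hc.1 hc hyM
    exact mul_mem (D.centre_le_negSub y (hAT ⟨ha, haM⟩)) hb
  by_cases hBT : B ≤ centreOf C
  · refine Or.inl fun c hc => ?_
    obtain ⟨a, ha, b, hb, -, hbM, rfl⟩ := D.exists_split_in hy hyy hc.1 hc hyM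
    exact mul_mem ha (D.centre_le_posSub y (hBT ⟨hb, hbM⟩))
  exfalso
  have hTA : centreOf C ≤ A := le_inf (D.centre_le_posSub y) (D.centre_le_negSub z)
  have hTB : centreOf C ≤ B := le_inf (D.centre_le_negSub y) (D.centre_le_negSub z)
  have hcards : Nat.card A * Nat.card B = Nat.card M * Nat.card (centreOf C : Subgroup X) :=
    D.card_pos_mul_card_neg hy hyy (negSub_le _ _) hyM (D.centre_le_negSub z)
  have h1 := Subgroup.relIndex_mul_relIndex ⊥ (centreOf C) A bot_le hTA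
  have h2 := Subgroup.relIndex_mul_relIndex ⊥ (centreOf C) B bot_le hTB
  have h3 := Subgroup.relIndex_mul_relIndex ⊥ (centreOf C) M bot_le (D.centre_le_negSub z)
  simp only [Subgroup.relIndex_bot_left] at h1 h2 h3
  rw [← h1, ← h2, ← h3, D.relIndex_negSub hz hzz, hidx] at hcards
  set iA := (centreOf C).relIndex A with hiA
  set iB := (centreOf C).relIndex B with hiB
  have hAB : iA * iB = q ^ 2 :=
    Nat.eq_of_mul_eq_mul_left (Nat.mul_pos (Nat.card_pos (α := (centreOf C : Subgroup X)))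
      (Nat.card_pos (α := (centreOf C : Subgroup X)))) (by linarith)
  have hA1 : iA ≠ 1 := fun h => hAT (Subgroup.relIndex_eq_one.mp h)
  have hB1 : iB ≠ 1 := fun h => hBT (Subgroup.relIndex_eq_one.mp h)
  have hAq : iA = q := by
    obtain ⟨j, hj, hj'⟩ := (Nat.dvd_prime_pow D.prime).mp (show iA ∣ q ^ 2 from ⟨iB, hAB.symm⟩)
    interval_cases j
    · exact absurd (hj'.trans (pow_zero q)) hA1
    · exact hj'.trans (pow_one q)
    · refine absurd ?_ hB1
      rw [hj'] at hAB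
      exact Nat.eq_of_mul_eq_mul_left (pow_pos D.prime.pos 2) (by rw [mul_one]; exact hAB)
  obtain ⟨a₀, ha₀, ha₀T⟩ := SetLike.not_le_iff_exists.mp hAT
  set A₀ := centreOf C ⊔ Subgroup.zpowers a₀ with hA₀
  have hA₀A : A₀ ≤ A := sup_le hTA (Subgroup.zpowers_le.mpr ha₀)
  have h4 := Subgroup.relIndex_mul_relIndex (centreOf C) A₀ A le_sup_left hA₀A
  rw [← hiA, hAq] at h4
  have hAA : A ≤ A₀ := by
    rcases D.prime.eq_one_or_self_of_dvd _ (Dvd.intro _ h4) with h | h
    · exact absurd (Subgroup.relIndex_eq_one.mp h (Subgroup.mem_sup_right (Subgroup.mem_zpowers a₀))) ha₀T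
    · rw [h] at h4
      exact Subgroup.relIndex_eq_one.mp (Nat.eq_of_mul_eq_mul_left D.prime.pos (by rw [h4, mul_one]))
  have hcomm : A₀ ≤ Subgroup.centralizer ({a₀} : Set X) := sup_le
    (fun t ht => Subgroup.mem_centralizer_singleton_iff.mpr (D.central ht a₀).symm)
    (Subgroup.zpowers_le.mpr (Subgroup.mem_centralizer_singleton_iff.mpr rfl))
  apply ha₀T
  refine ⟨ha₀.1.1, fun c hc => ?_⟩
  obtain ⟨c₁, hc₁, c₂, hc₂, rfl⟩ := D.exists_split hz hzz hc
  obtain ⟨a, ha, b, hb, haM, -, hab⟩ := D.exists_split_in hy hyy hc₂.1 hc₂ hyM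
  have e₁ : Commute c₁ a₀ := D.pos_neg_commute hc₁ ha₀.2
  have e₂ : Commute a a₀ := Subgroup.mem_centralizer_singleton_iff.mp (hcomm (hAA ⟨ha, haM⟩))
  have e₃ : Commute b a₀ := (D.pos_neg_commute ha₀.1 hb).symm
  rw [← hab]
  exact (e₁.mul_left (e₂.mul_left e₃)).eq

/-- If a central commutator involution multiplies every operator to zero, it is the only involution and
negates a plane over three elements. -/
theorem unique_involution (D : IrrData γ q C K) {a : X} (ha : a ∈ K) (haa : a * a = 1) (ha1 : a ≠ 1)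
    (hac : ∀ g ∈ K, g * a = a * g) (haK : a ∈ dSer K 1) (h0 : ∀ g ∈ K, (γ a - 1) * (γ g - 1) = 0) :
    (∀ y ∈ K, y * y = 1 → y = 1 ∨ y = a) ∧ q = 3 ∧ (posSub C a).relIndex C = 9 := by
  have := Fact.mk D.prime
  have := Fact.mk Nat.prime_two
  have huniq : ∀ y ∈ K, y * y = 1 → y = 1 ∨ y = a := by
    intro y hy hyy
    by_contra hcon
    push Not at hcon
    exact D.ne_zero_of_ne ha hy haa hyy ha1 hcon.1 (hac y hy).symm (Ne.symm hcon.2) (h0 y hy)
  obtain ⟨g, hg, hga⟩ : ∃ g ∈ K, g * g = a := by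
    by_contra hcon
    push Not at hcon
    have hexp : ∀ g ∈ K, g = 1 ∨ g = a := by
      intro g hg
      obtain ⟨i, hi⟩ := D.pK ⟨g, hg⟩
      have hgi : g ^ 2 ^ i = 1 := congrArg Subtype.val hi
      clear hi
      induction i with
      | zero => exact Or.inl (by rw [pow_zero, pow_one] at hgi; exact hgi)
      | succ i ih =>
        rcases eq_or_ne (g ^ 2 ^ i) 1 with h | h
        · exact ih h
        rcases i with _ | i
        · rw [pow_one, pow_two] at hgi
          exact huniq g hg hgi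
        · refine absurd ?_ (hcon _ (K.pow_mem hg (2 ^ i)))
          rw [← pow_add, ← two_mul, ← pow_succ']
          refine (huniq _ (K.pow_mem hg _) ?_).resolve_left h
          rw [← pow_add, ← two_mul, ← pow_succ', hgi]
    refine ha1 ?_
    have hbot : dSer K 1 ≤ ⊥ := by
      rw [dSer_succ, dSer_zero, Subgroup.commutator_le]
      intro x hx y hy
      rw [Subgroup.mem_bot, commutatorElement_eq_one_iff_mul_comm]
      rcases hexp x hx with rfl | rfl
      · rw [one_mul, mul_one]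
      · exact (hac y hy).symm
    exact Subgroup.mem_bot.mp (hbot haK)
  have hg4 : g ^ 2 ^ (1 + 1) = 1 := by
    rw [show (2 : ℕ) ^ (1 + 1) = 2 + 2 by norm_num, pow_add, pow_two, hga, haa]
  have hdeg : (γ g - 1) ^ (2 ^ (1 + 1) - 1) = 0 := by
    rcases subsingleton_or_nontrivial (End k V) with h | h
    · exact Subsingleton.elim _ _
    have hch : CharP (End k V) 2 := (CharP.charP_iff_prime_eq_zero Nat.prime_two).mpr (LinearMap.ext fun v => by
      rw [Module.End.natCast_apply, ← Nat.cast_smul_eq_nsmul k, CharP.cast_eq_zero, zero_smul]; rfl)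
    rw [show (2 : ℕ) ^ (1 + 1) - 1 = 2 ^ 1 + 1 by norm_num, pow_succ,
      sub_pow_char_pow_of_commute 2 1 (Commute.one_right (γ g)), one_pow, pow_one, ← map_pow, pow_two, hga]
    exact h0 g hg
  obtain ⟨χ, hW, hTiff⟩ := D.exists_char
  have hga2 : g ^ 2 ^ 1 = a := by rw [pow_one, pow_two, hga]
  obtain ⟨n, τ, N, hn, -, -, -, -, hN, hidx⟩ := exists_small_support γ D.inj D.q2 C (centreOf C) D.qC χ D.cl
    le_rfl inf_le_left hTiff hW g 1 hg4 hdeg (D.norm hg) (by
      rw [hga2]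
      exact fun h => ha1 (D.eq_one_of_trivial ha h))
  have hidx' : (posSub C a).relIndex C = N ^ 2 := hidx _ fun r hr => by
    rw [hga2]
    exact ⟨fun h => ⟨hr, by
      rw [← (mem_posSub.mp h).2, mul_inv_cancel_right, inv_mul_cancel]; exact one_mem _⟩,
      fun h => D.mem_posSub_of_mod haa hr h.2⟩
  have hN1 : (posSub C a).relIndex C ≠ 1 := fun h =>
    ha1 (D.eq_one_of_le_posSub ha (Subgroup.relIndex_eq_one.mp h))
  interval_cases n
  · rw [hidx', show N = 1 by simpa using hN, one_pow] at hN1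
    exact absurd rfl hN1
  · obtain rfl : N = 3 := by simp at hN; omega
    refine ⟨huniq, ?_, hidx'⟩
    obtain ⟨j, hj⟩ := D.qC.exists_card_eq
    have h1 := Subgroup.relIndex_mul_relIndex ⊥ (posSub C a) C bot_le inf_le_left
    simp only [Subgroup.relIndex_bot_left] at h1
    rw [hidx', hj] at h1
    have h3 : 3 ∣ q ^ j := ⟨Nat.card (posSub C a) * 3, by rw [← h1]; ring⟩
    exact ((Nat.prime_dvd_prime_iff_eq Nat.prime_three D.prime).mp (Nat.prime_three.dvd_of_dvd_pow h3)).symm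

/-- All products of two vanish: the derived group is generated by a plane involution. -/
theorem dSer_one_of_kills (D : IrrData γ q C K) (h : KillsChains γ K 2) :
    dSer K 1 = ⊥ ∨ ∃ z ∈ K, z * z = 1 ∧ z ≠ 1 ∧ (∀ g ∈ K, g * z = z * g) ∧
      (∀ b ∈ dSer K 1, b = 1 ∨ b = z) ∧ (posSub C z).relIndex C = q ^ 2 := by
  refine or_iff_not_imp_left.mpr fun hne => ?_
  obtain ⟨a, ha, ha1, haa, hac⟩ := exists_central_step D.pK (bot_le : (⊥ : Subgroup X) ≤ dSer K 1) (dSer_le K 1)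
    (fun g _ x hx => by rw [Subgroup.mem_bot.mp hx]; simp) (fun g hg x hx => conj_mem_dSer K 1 hg hx)
    fun hle => hne (le_bot_iff.mp hle)
  rw [Subgroup.mem_bot] at ha1 haa
  have hac' : ∀ g ∈ K, g * a = a * g := fun g hg => by
    have h1 := Subgroup.mem_bot.mp (hac g hg)
    rw [mul_inv_eq_one, mul_inv_eq_iff_eq_mul] at h1
    exact h1
  have h0 : ∀ v ∈ dSer K 1, ∀ g ∈ K, (γ v - 1) * (γ g - 1) = 0 := fun v hv g hg => by
    have h1 := h [v, g] ⟨hv, (dSer_zero K).symm ▸ hg, trivial⟩ rfl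
    rwa [opsProd_cons, opsProd_singleton] at h1
  obtain ⟨huniq, hq3, hidx⟩ := D.unique_involution (dSer_le K 1 ha) haa ha1 hac' ha (h0 a ha)
  refine ⟨a, dSer_le K 1 ha, haa, ha1, hac', fun b hb => huniq b (dSer_le K 1 hb) ?_,
    by rw [hidx, hq3]; norm_num⟩
  apply D.inj
  rcases subsingleton_or_nontrivial (End k V) with hs | hs
  · exact Subsingleton.elim _ _
  have hch : CharP (End k V) 2 := (CharP.charP_iff_prime_eq_zero Nat.prime_two).mpr (LinearMap.ext fun v => by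
    rw [Module.End.natCast_apply, ← Nat.cast_smul_eq_nsmul k, CharP.cast_eq_zero, zero_smul]; rfl)
  have h1 : (γ b - 1) ^ 2 ^ 1 = 0 := by rw [pow_one, pow_two]; exact h0 b hb b (dSer_le K 1 hb)
  have := Fact.mk Nat.prime_two
  rw [sub_pow_char_pow_of_commute 2 1 (Commute.one_right (γ b)), one_pow, pow_one, sub_eq_zero, pow_two] at h1
  rw [map_mul, h1, map_one]

/-- All operators vanish on shifting: the group is trivial. -/
theorem eq_bot_of_kills (D : IrrData γ q C K) (h : KillsChains γ K 1) : K = ⊥ :=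
  (Subgroup.eq_bot_iff_forall _).mpr fun g hg => D.inj (by
    have h1 := h [g] ⟨(dSer_zero K).symm ▸ hg, trivial⟩ rfl
    rw [opsProd_singleton, sub_eq_zero] at h1
    rw [h1, map_one])

end IrrData

end rep

end CfsgLib.HallHigman
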