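import Cfsg.Agent.Lib.HallHigman.SympCore
import Cfsg.Agent.Lib.HallHigman.Commutator
import Cfsg.Agent.Lib.PGroup.Critical
import Cfsg.Agent.S3784

/-!
# The symplectic sections of the class-two normal subgroups

For `p = 2`, an element of bounded degree acts on such a section so that its last power is trivial or negates
a plane and has a square root there.
-/

namespace CfsgLib.HallHigman

open Module (End finrank)
open Cfsg CfsgLib.PCore
open scoped commutatorElement

universe u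

variable {X : Type u} [Group X]

/-- The centre of `C` as a subgroup of `X`. -/
abbrev centreOf (C : Subgroup X) : Subgroup X := C ⊓ Subgroup.centralizer (C : Set X)

/-- A normal `q`-subgroup of class at most two whose centre contains all `q`-th powers. -/
def IsClassTwoNormal (q : ℕ) (C : Subgroup X) : Prop :=
  C.Normal ∧ IsPGroup q C ∧ (∀ g ∈ C, ∀ h ∈ C, ⁅g, h⁆ ∈ centreOf C) ∧ ∀ g ∈ C, g ^ q ∈ centreOf C

theorem conj_mem_centreOf {C : Subgroup X} (hC : C.Normal) (g : X) {z : X} (hz : z ∈ centreOf C) :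
    g * z * g⁻¹ ∈ centreOf C := by
  refine ⟨hC.conj_mem z hz.1 g, fun b hb => ?_⟩
  have h1 := hz.2 _ (hC.conj_mem b hb g⁻¹)
  calc b * (g * z * g⁻¹) = g * (g⁻¹ * b * g⁻¹⁻¹ * z) * g⁻¹ := by group
    _ = g * (z * (g⁻¹ * b * g⁻¹⁻¹)) * g⁻¹ := by rw [h1]
    _ = g * z * g⁻¹ * b := by group

/-- The elements centralizing the centres of all class-two normal subgroups of odd order. -/
def centreKernel (X : Type u) [Group X] : Subgroup X :=
  ⨅ (q : ℕ) (C : Subgroup X) (_ : q.Prime ∧ q ≠ 2 ∧ IsClassTwoNormal q C),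
    Subgroup.centralizer (centreOf C : Set X)

theorem mem_centreKernel {g : X} : g ∈ centreKernel X ↔
    ∀ (q : ℕ) (C : Subgroup X), q.Prime ∧ q ≠ 2 ∧ IsClassTwoNormal q C → ∀ z ∈ centreOf C, z * g = g * z := by
  simp only [centreKernel, Subgroup.mem_iInf, Subgroup.mem_centralizer_iff, SetLike.mem_coe]

instance centreKernel_normal : (centreKernel X).Normal := ⟨fun g hg a => by
  rw [mem_centreKernel] at hg ⊢
  intro q C hqC z hz
  have h1 := hg q C hqC _ (conj_mem_centreOf hqC.2.2.1 a⁻¹ hz)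
  calc z * (a * g * a⁻¹) = a * (a⁻¹ * z * a⁻¹⁻¹ * g) * a⁻¹ := by group
    _ = a * (g * (a⁻¹ * z * a⁻¹⁻¹)) * a⁻¹ := by rw [h1]
    _ = a * g * a⁻¹ * z := by group⟩

/-- The stabilizer of a function on the centre of a normal subgroup. -/
def centreStab {K : Type*} (C : Subgroup X) [hC : C.Normal] (χ : X → K) : Subgroup X where
  carrier := {g | ∀ z ∈ centreOf C, χ (g * z * g⁻¹) = χ z}
  one_mem' := fun z _ => by simp
  mul_mem' := fun {a b} ha hb z hz => by
    rw [show a * b * z * (a * b)⁻¹ = a * (b * z * b⁻¹) * a⁻¹ by group,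
      ha _ (conj_mem_centreOf hC b hz), hb z hz]
  inv_mem' := fun {a} ha z hz => by
    have h2 := ha _ (conj_mem_centreOf hC a⁻¹ hz)
    rw [show a * (a⁻¹ * z * a⁻¹⁻¹) * a⁻¹ = z by group] at h2
    exact h2.symm

/-- Additive endomorphisms of a `ZMod q`-module are linear. -/
def endLinHom (q : ℕ) (A : Type*) [AddCommGroup A] [Module (ZMod q) A] :
    AddMonoid.End A →* End (ZMod q) A where
  toFun f := AddMonoidHom.toZModLinearMap q f
  map_one' := LinearMap.ext fun _ => rfl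
  map_mul' _ _ := LinearMap.ext fun _ => rfl

/-- The units of linear endomorphisms given by an additive action. -/
def actUnits (q : ℕ) {G A : Type*} [Group G] [AddCommGroup A] [Module (ZMod q) A]
    (φ : G →* AddMonoid.End A) : G →* (End (ZMod q) A)ˣ :=
  ((endLinHom q A).comp φ).toHomUnits

theorem actUnits_smul (q : ℕ) {G A : Type*} [Group G] [AddCommGroup A] [Module (ZMod q) A]
    (φ : G →* AddMonoid.End A) (g : G) (a : A) : actUnits q φ g • a = φ g a := rfl

variable [Finite X] {K : Type*} [Field K] [IsAlgClosed K] [CharP K 2] {V : Type*} [AddCommGroup V]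
  [Module K V] [FiniteDimensional K V]

/-- An element of bounded degree has its last power in the kernel on the centres. -/
theorem pow_mem_centreKernel (γ : X →* End K V) (hγ : Function.Injective γ) (x : X) (m : ℕ)
    (hx : x ^ 2 ^ (m + 1) = 1) (hdeg : (γ x - 1) ^ (2 ^ (m + 1) - 1) = 0) :
    x ^ 2 ^ m ∈ centreKernel X := by
  rw [mem_centreKernel]
  rintro q C ⟨hq, hq2, hCn, hCq, hcl, -⟩ z hz
  have := Fact.mk hq
  have := Fact.mk Nat.prime_two
  apply hγ
  rw [map_mul, map_mul]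
  exact commute_of_degree_lt γ x m hx hdeg hq2 (centreOf C) (hCq.to_le inf_le_left)
    (mem_normalizer_map_conj.mpr fun w hw => conj_mem_centreOf hCn x hw)
    (fun a ha b hb => by rw [← map_mul, ← map_mul, hb.2 a ha.1]) z hz

omit [IsAlgClosed K] [FiniteDimensional K V] [CharP K 2] [Finite X] in
/-- A character with nonzero eigenspace is multiplicative. -/
theorem exists_unitsHom_of_charSpace (γ : X →* End K V) (Z : Subgroup X) (χ : X → K)
    (hW : charSpace γ Z χ ≠ ⊥) : ∃ χ' : Z →* Kˣ, ∀ z : Z, ((χ' z : Kˣ) : K) = χ z := by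
  obtain ⟨v, hv, hv0⟩ := Submodule.exists_mem_ne_zero_of_ne_bot hW
  have hinj : ∀ a b : K, a • v = b • v → a = b := fun a b h =>
    sub_eq_zero.mp ((smul_eq_zero.mp (show (a - b) • v = 0 by rw [sub_smul, h, sub_self])).resolve_right hv0)
  let χ₀ : Z →* K :=
    { toFun := fun z => χ z
      map_one' := hinj _ _ (by rw [← hv _ (1 : Z).2, Subgroup.coe_one, map_one, Module.End.one_apply, one_smul])
      map_mul' := fun a b => hinj _ _ (by
        rw [← hv _ (a * b).2, Subgroup.coe_mul, map_mul, Module.End.mul_apply, hv _ b.2, map_smul, hv _ a.2,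
          smul_smul, mul_comm]) }
  exact ⟨χ₀.toHomUnits, fun z => rfl⟩

omit [IsAlgClosed K] [FiniteDimensional K V] [CharP K 2] in
/-- The symplectic module of a central character. -/
theorem exists_symp_model (γ : X →* End K V) {q : ℕ} [Fact q.Prime] (hq2 : q.Coprime 2) (C : Subgroup X)
    [hCn : C.Normal] (hC : IsClassTwoNormal q C) (χ : X → K) (T : Subgroup X) (hZT : centreOf C ≤ T)
    (hT : T ≤ C) (hTiff : ∀ g ∈ C, (g ∈ T ↔ ∀ h ∈ C, χ ⁅g, h⁆ = 1))
    (hW : charSpace γ (centreOf C) χ ≠ ⊥) :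
    ∃ (W : Type u) (_ : AddCommGroup W) (_ : Module (ZMod q) W) (_ : FiniteDimensional (ZMod q) W)
      (B : W → W → Kˣ) (ρ : centreStab C χ →* (End (ZMod q) W)ˣ),
      Symp.IsSymp B ∧ (∀ g, Symp.IsIso B (ρ g)) ∧
      (∀ g, ρ g = 1 ↔ ∀ r ∈ C, r⁻¹ * ((g : X) * r * (g : X)⁻¹) ∈ T) ∧
      ∀ g, ρ g * ρ g = 1 → ∀ C' : Subgroup X, (∀ r ∈ C, (r ∈ C' ↔ r ∈ fixMod C T g)) →
        C'.relIndex C = q ^ finrank (ZMod q) (Symp.minus (ρ g)) := by
  classical
  obtain ⟨-, hCq, hcl, hpow⟩ := hC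
  obtain ⟨χ', hχ'⟩ := exists_unitsHom_of_charSpace γ (centreOf C) χ hW
  have hTn : (T.subgroupOf C).Normal := ⟨fun t ht g => by
    rw [Subgroup.mem_subgroupOf] at ht ⊢
    have h1 : ⁅(g : X), (t : X)⁆ ∈ T := hZT (hcl _ g.2 _ t.2)
    have := T.mul_mem h1 ht
    simpa [commutatorElement_def, mul_assoc] using this⟩
  have hHC : ∀ g ∈ centreStab C χ, ∀ r ∈ C, g * r * g⁻¹ ∈ C := fun g _ r hr => hCn.conj_mem r hr g
  have hHT : ∀ g ∈ centreStab C χ, ∀ t ∈ T, g * t * g⁻¹ ∈ T := fun g hg =>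
    mem_radical_conj hcl hT hTiff (mem_normalizer_map_conj.mpr fun r hr => hCn.conj_mem r hr g) hg
  let : CommGroup (C ⧸ T.subgroupOf C) :=
    { (inferInstance : Group (C ⧸ T.subgroupOf C)) with
      mul_comm := fun a b => QuotientGroup.induction_on a fun a => QuotientGroup.induction_on b fun b => by
        rw [← QuotientGroup.mk_mul, ← QuotientGroup.mk_mul, QuotientGroup.eq, Subgroup.mem_subgroupOf]
        have := hZT (hcl _ (C.inv_mem b.2) _ (C.inv_mem a.2))
        simpa [commutatorElement_def, mul_assoc] using this }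
  have hexp : ∀ w : Additive (C ⧸ T.subgroupOf C), q • w = 0 := fun w => by
    induction w using Additive.rec with
    | ofMul a =>
      induction a using QuotientGroup.induction_on with
      | H r =>
        apply Additive.toMul.injective
        rw [toMul_nsmul, toMul_zero, toMul_ofMul, ← QuotientGroup.mk_pow, QuotientGroup.eq_one_iff,
          Subgroup.mem_subgroupOf, Subgroup.coe_pow]
        exact hZT (hpow r r.2)
  have : Module (ZMod q) (Additive (C ⧸ T.subgroupOf C)) := AddCommGroup.zmodModule hexp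
  have : Module.Finite (ZMod q) (Additive (C ⧸ T.subgroupOf C)) := Module.Finite.of_finite
  -- the bicharacter
  let b : C → C → Kˣ := fun r s => χ' ⟨⁅(r : X), (s : X)⁆, hcl r r.2 s s.2⟩
  have hbl : ∀ r r' s : C, b (r * r') s = b r s * b r' s := fun r r' s => by
    simp only [b]
    rw [← map_mul]
    refine congrArg χ' (Subtype.ext ?_)
    have h1 : Commute (r : X) ⁅(r' : X), (s : X)⁆ := (hcl r' r'.2 s s.2).2 r r.2
    have h2 : Commute ⁅(r' : X), (s : X)⁆ ⁅(r : X), (s : X)⁆ :=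
      ((hcl r' r'.2 s s.2).2 _ (hcl r r.2 s s.2).1).symm
    show ⁅(r : X) * r', (s : X)⁆ = ⁅(r : X), (s : X)⁆ * ⁅(r' : X), (s : X)⁆
    calc ⁅(r : X) * r', (s : X)⁆ = (r : X) * ⁅(r' : X), (s : X)⁆ * (r : X)⁻¹ * ⁅(r : X), (s : X)⁆ := by
          simp [commutatorElement_def, mul_assoc]
      _ = ⁅(r : X), (s : X)⁆ * ⁅(r' : X), (s : X)⁆ := by rw [h1.eq, mul_inv_cancel_right, h2.eq]
  have hbs : ∀ r s : C, b s r = (b r s)⁻¹ := fun r s => by
    simp only [b]
    rw [← map_inv]
    exact congrArg χ' (Subtype.ext (commutatorElement_inv _ _).symm)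
  have hbT : ∀ r s : C, (r : X) ∈ T → b r s = 1 := fun r s hr =>
    Units.ext ((hχ' _).trans ((hTiff r r.2).mp hr s s.2))
  have hbcongr : ∀ r r' s : C, (r : C ⧸ T.subgroupOf C) = (r' : C ⧸ T.subgroupOf C) → b r s = b r' s := by
    intro r r' s h
    rw [QuotientGroup.eq, Subgroup.mem_subgroupOf] at h
    rw [← mul_inv_cancel_left r r', hbl r, hbT _ s h, mul_one]
  let B : Additive (C ⧸ T.subgroupOf C) → Additive (C ⧸ T.subgroupOf C) → Kˣ := fun w w' =>
    b (Additive.toMul w).out (Additive.toMul w').out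
  have hBmk : ∀ r s : C, B (Additive.ofMul (r : C ⧸ T.subgroupOf C))
      (Additive.ofMul (s : C ⧸ T.subgroupOf C)) = b r s := by
    intro r s
    show b (r : C ⧸ T.subgroupOf C).out (s : C ⧸ T.subgroupOf C).out = b r s
    rw [hbcongr _ r _ (QuotientGroup.out_eq' _), hbs _ r, hbcongr _ s r (QuotientGroup.out_eq' _), ← hbs]
  have hsurj : ∀ w : Additive (C ⧸ T.subgroupOf C), ∃ r : C, Additive.ofMul (r : C ⧸ T.subgroupOf C) = w :=
    fun w => ⟨(Additive.toMul w).out, congrArg Additive.ofMul (QuotientGroup.out_eq' _)⟩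
  have hBl : ∀ a a' c, B (a + a') c = B a c * B a' c := fun a a' c => by
    obtain ⟨r, rfl⟩ := hsurj a
    obtain ⟨r', rfl⟩ := hsurj a'
    obtain ⟨s, rfl⟩ := hsurj c
    rw [← ofMul_mul, ← QuotientGroup.mk_mul, hBmk, hBmk, hBmk, hbl]
  have hBswap : ∀ a c, B c a = (B a c)⁻¹ := fun a c => hbs _ _
  -- the action
  let act := conjQuotAct C T (centreStab C χ) hHC hHT
  let actA : centreStab C χ →* AddMonoid.End (Additive (C ⧸ T.subgroupOf C)) :=
    { toFun := fun g => MonoidHom.toAdditive (act g)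
      map_one' := by rw [map_one]; rfl
      map_mul' := fun a b => by rw [map_mul]; rfl }
  let ρ := actUnits q actA
  have hρmk : ∀ (g : centreStab C χ) (r : C), ρ g • Additive.ofMul (r : C ⧸ T.subgroupOf C) =
      Additive.ofMul ((⟨(g : X) * r * (g : X)⁻¹, hHC g g.2 r r.2⟩ : C) : C ⧸ T.subgroupOf C) := fun g r => by
    refine (actUnits_smul q actA g _).trans ?_
    rfl
  have hfix : ∀ (g : centreStab C χ) (r : C),
      ρ g • Additive.ofMul (r : C ⧸ T.subgroupOf C) = Additive.ofMul (r : C ⧸ T.subgroupOf C) ↔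
        (r : X)⁻¹ * ((g : X) * r * (g : X)⁻¹) ∈ T := fun g r =>
    conjQuotAct_fixed C T (centreStab C χ) hHC hHT g r
  refine ⟨Additive (C ⧸ T.subgroupOf C), inferInstance, inferInstance, inferInstance, B, ρ,
    ⟨hBl, fun a c d => ?_, fun a => ?_, fun a ha => ?_⟩, fun g a c => ?_, fun g => ?_, fun g hg C' hC' => ?_⟩
  · rw [hBswap _ a, hBl, mul_inv_rev, ← hBswap, ← hBswap, mul_comm]
  · obtain ⟨r, rfl⟩ := hsurj a
    rw [hBmk]
    refine Units.ext ((hχ' _).trans ?_)
    show χ ⁅(r : X), (r : X)⁆ = 1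
    have h1 := congrArg Units.val (map_one χ')
    rw [hχ', Units.val_one] at h1
    rwa [commutatorElement_self]
  · obtain ⟨r, rfl⟩ := hsurj a
    have hr : (r : X) ∈ T := (hTiff r r.2).mpr fun h hh => by
      have h1 := congrArg Units.val (ha (Additive.ofMul ((⟨h, hh⟩ : C) : C ⧸ T.subgroupOf C)))
      rw [hBmk, Units.val_one] at h1
      exact (hχ' _).symm.trans h1
    rw [(QuotientGroup.eq_one_iff r).mpr (Subgroup.mem_subgroupOf.mpr hr)]
    rfl
  · obtain ⟨r, rfl⟩ := hsurj a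
    obtain ⟨s, rfl⟩ := hsurj c
    rw [hρmk, hρmk, hBmk, hBmk]
    refine Units.ext ((hχ' _).trans (Eq.trans ?_ (hχ' _).symm))
    show χ ⁅(g : X) * r * (g : X)⁻¹, (g : X) * s * (g : X)⁻¹⁆ = χ ⁅(r : X), (s : X)⁆
    rw [show ⁅(g : X) * r * (g : X)⁻¹, (g : X) * s * (g : X)⁻¹⁆ = (g : X) * ⁅(r : X), (s : X)⁆ * (g : X)⁻¹ by
      simp [commutatorElement_def, mul_assoc]]
    exact g.2 _ (hcl r r.2 s s.2)
  · refine ⟨fun h r hr => (hfix g ⟨r, hr⟩).mp (by rw [h, one_smul]), fun h => Symp.units_ext fun w => ?_⟩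
    obtain ⟨r, rfl⟩ := hsurj w
    rw [one_smul]
    exact (hfix g r).mpr (h r r.2)
  · let f : Additive (C ⧸ T.subgroupOf C) →+ Additive (C ⧸ T.subgroupOf C) :=
      ((ρ g : End (ZMod q) (Additive (C ⧸ T.subgroupOf C))) - 1).toAddMonoidHom
    have hf : ∀ w, f w = ρ g • w - w := fun w => rfl
    have hrange : (f.range : Set (Additive (C ⧸ T.subgroupOf C))) = (Symp.minus (ρ g) : Set _) := by
      ext w
      constructor
      · rintro ⟨x, rfl⟩
        rw [hf]
        exact Symp.mem_minus_sub hg x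
      · intro hw
        refine ⟨-((2 : ZMod q)⁻¹ • w), ?_⟩
        rw [hf, smul_neg, smul_comm (ρ g), Symp.mem_minus.mp hw, smul_neg, neg_neg, sub_neg_eq_add,
          ← two_smul (ZMod q), smul_smul, Symp.two_mul_half hq2, one_smul]
    have h1 : Nat.card f.range = q ^ finrank (ZMod q) (Symp.minus (ρ g)) := by
      rw [show Nat.card f.range = Nat.card (Symp.minus (ρ g)) from Nat.card_congr (Equiv.setCongr hrange),
        Module.natCard_eq_pow_finrank (K := ZMod q), Nat.card_zmod]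
    rw [← h1, ← AddSubgroup.index_ker, Subgroup.relIndex,
      show f.ker.index = (AddSubgroup.toSubgroup' f.ker).index from rfl,
      ← Subgroup.index_comap_of_surjective _ (QuotientGroup.mk'_surjective (T.subgroupOf C))]
    congr 1
    ext r
    rw [Subgroup.mem_subgroupOf, hC' r r.2]
    show (r : X) ∈ C ∧ _ ↔ f (Additive.ofMul (r : C ⧸ T.subgroupOf C)) = 0
    rw [and_iff_right r.2, hf, sub_eq_zero, hfix]

/-- A nontrivial `2`-element of the kernel on the centres acts nontrivially on some symplectic section. -/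
theorem exists_separating_rep (hX : Group.IsSolvable X) (h0 : pCore 2 X = ⊥) (γ : X →* End K V)
    (hγ : Function.Injective γ) {c : X} (hc : c ∈ centreKernel X) (hc2 : ∃ k : ℕ, c ^ 2 ^ k = 1) (hc1 : c ≠ 1) :
    ∃ (q : ℕ) (_ : Fact q.Prime) (_ : q.Coprime 2) (W : Type u) (_ : AddCommGroup W) (_ : Module (ZMod q) W)
      (_ : FiniteDimensional (ZMod q) W) (B : W → W → Kˣ) (H : Subgroup X) (hH : centreKernel X ≤ H)
      (ρ : H →* (End (ZMod q) W)ˣ),
      Symp.IsSymp B ∧ (∀ g, Symp.IsIso B (ρ g)) ∧ ρ ⟨c, hH hc⟩ ≠ 1 ∧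
      ∀ (x : X) (m : ℕ), x ^ 2 ^ (m + 1) = 1 → (γ x - 1) ^ (2 ^ (m + 1) - 1) = 0 →
        ∀ hy : x ^ 2 ^ m ∈ H, ρ ⟨x ^ 2 ^ m, hy⟩ ≠ 1 →
          ∃ σ : H, (σ : X) ∈ Subgroup.zpowers x ∧ σ * σ = ⟨x ^ 2 ^ m, hy⟩ ∧
            finrank (ZMod q) (Symp.minus (ρ ⟨x ^ 2 ^ m, hy⟩)) = 2 := by
  classical
  obtain ⟨k, hk⟩ := hc2
  have h2 := Fact.mk Nat.prime_two
  -- some class-two normal subgroup is moved
  obtain ⟨q, C, hqC, hmove⟩ : ∃ (q : ℕ) (C : Subgroup X), (q.Prime ∧ q ≠ 2 ∧ IsClassTwoNormal q C) ∧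
      ¬ ∀ r ∈ C, c * r = r * c := by
    by_contra hcon
    push Not at hcon
    have hF : c ∈ Subgroup.centralizer (fittingSubgroup X : Set X) := by
      rw [Subgroup.mem_centralizer_iff]
      intro f hf
      have hle : fittingSubgroup X ≤ Subgroup.centralizer ({c} : Set X) := by
        rw [CfsgLib.Fitting.fitting_eq_iSup_pCore]
        refine iSup_le fun q => ?_
        set P := pCore (q : ℕ) X with hP
        have hqp : (q : ℕ).Prime := Nat.prime_of_mem_primeFactors q.2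
        have := Fact.mk hqp
        by_cases hq2 : (q : ℕ) = 2
        · rw [hP, hq2, h0]; exact bot_le
        obtain ⟨C₀, hC₀c, hC₀self, hC₀cl, hC₀pow⟩ :=
          CfsgLib.PGroup.exists_critical (CfsgLib.Fitting.pCore_isPGroup (G := X) (q : ℕ))
        have : P.Normal := CfsgLib.Fitting.pCore_normal _
        set C := C₀.map P.subtype with hC
        have hcen : ∀ a : P, a ∈ C₀ ⊓ Subgroup.centralizer (C₀ : Set P) → (a : X) ∈ centreOf C := by
          rintro a ⟨ha, ha'⟩
          refine ⟨⟨a, ha, rfl⟩, ?_⟩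
          rintro _ ⟨b, hb, rfl⟩
          exact congrArg Subtype.val (ha' b hb)
        have hCgood : IsClassTwoNormal (q : ℕ) C := by
          refine ⟨inferInstanceAs (C₀.map P.subtype).Normal, ?_, ?_, ?_⟩
          · exact (((CfsgLib.Fitting.pCore_isPGroup (q : ℕ)).to_subgroup C₀).map P.subtype)
          · rintro _ ⟨a, ha, rfl⟩ _ ⟨b, hb, rfl⟩
            rw [← map_commutatorElement]
            exact hcen _ (hC₀cl a b hb)
          · rintro _ ⟨a, ha, rfl⟩
            rw [← map_pow]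
            exact hcen _ (hC₀pow a ha)
        have hcC := hcon q C ⟨hqp, hq2, hCgood⟩
        -- coprime action trivial on a critical subgroup
        set A := Subgroup.zpowers c with hA
        have hAC : ⁅A, C⁆ = ⊥ := by
          rw [Subgroup.commutator_eq_bot_iff_le_centralizer, hA, Subgroup.zpowers_le]
          exact fun r hr => (hcC r hr).symm
        have hPC : ⁅C, P⁆ ≤ C := by
          have : C.Normal := hCgood.1
          exact Subgroup.commutator_le_left C P
        have h1 : ⁅⁅P, A⁆, C⁆ = ⊥ := by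
          refine Subgroup.commutator_commutator_eq_bot_of_rotate ?_ ?_
          · rw [hAC, Subgroup.commutator_bot_left]
          · exact eq_bot_iff.mpr ((Subgroup.commutator_mono hPC le_rfl).trans
              (by rw [Subgroup.commutator_comm, hAC]))
        have hAP : A ≤ Subgroup.normalizer (P : Set X) := Subgroup.le_normalizer_of_normal
        have h3 : ⁅P, A⁆ ≤ C := by
          intro w hw
          have hwP : w ∈ P := CfsgLib.Coprime.commutator_le_of_normalizes hAP hw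
          have hwC : (⟨w, hwP⟩ : P) ∈ Subgroup.centralizer (C₀ : Set P) := fun b hb => Subtype.ext
            ((Subgroup.commutator_eq_bot_iff_le_centralizer.mp h1 hw) (b : X) ⟨b, hb, rfl⟩)
          exact ⟨⟨w, hwP⟩, hC₀self hwC, rfl⟩
        have h4 : ⁅⁅P, A⁆, A⁆ = ⊥ := eq_bot_iff.mpr ((Subgroup.commutator_mono h3 le_rfl).trans
          (by rw [Subgroup.commutator_comm, hAC]))
        have hcop : (Nat.card A).Coprime (Nat.card P) := by
          obtain ⟨j, hj⟩ := (CfsgLib.Fitting.pCore_isPGroup (G := X) (q : ℕ)).exists_card_eq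
          rw [hA, Nat.card_zpowers, hj]
          exact Nat.Coprime.coprime_dvd_left (orderOf_dvd_of_pow_eq_one hk)
            (Nat.Coprime.pow _ _ ((Nat.coprime_primes Nat.prime_two hqp).mpr (Ne.symm hq2)))
        have h5 := CfsgLib.Coprime.commutator_eq_bot_of_commutator_commutator_eq_bot A P hAP hcop
          (Or.inl inferInstance) h4
        intro r hr
        rw [Subgroup.mem_centralizer_singleton_iff]
        exact ((Subgroup.commutator_eq_bot_iff_le_centralizer.mp h5) hr c (Subgroup.mem_zpowers c)).symm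
      exact (Subgroup.mem_centralizer_singleton_iff.mp (hle hf))
    have hcF : c ∈ fittingSubgroup X := CfsgLib.Fitting.centralizer_fitting_le hF
    have hP : IsPGroup 2 (Subgroup.zpowers (⟨c, hcF⟩ : fittingSubgroup X)) := by
      obtain ⟨j, -, hj⟩ := (Nat.dvd_prime_pow Nat.prime_two).mp
        (orderOf_dvd_of_pow_eq_one (show (⟨c, hcF⟩ : fittingSubgroup X) ^ 2 ^ k = 1 from Subtype.ext hk))
      exact IsPGroup.of_card (n := j) (by rw [Nat.card_zpowers, hj])
    obtain ⟨S, hS⟩ := hP.exists_le_sylow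
    have h5 := CfsgLib.Fitting.sylow_fitting_eq_pCore S
    have h6 : c ∈ (S : Subgroup (fittingSubgroup X)).map (fittingSubgroup X).subtype :=
      ⟨⟨c, hcF⟩, hS (Subgroup.mem_zpowers _), rfl⟩
    rw [h5, h0, Subgroup.mem_bot] at h6
    exact hc1 h6
  obtain ⟨hq, hq2, hCgood⟩ := hqC
  have := Fact.mk hq
  have hq2' : q.Coprime 2 := (Nat.coprime_primes hq Nat.prime_two).mpr hq2
  obtain ⟨hCn, hCq, hcl, -⟩ := id hCgood
  have hcZ : ∀ z ∈ centreOf C, z * c = c * z := mem_centreKernel.mp hc q C ⟨hq, hq2, hCgood⟩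
  -- some element is moved modulo the centre
  obtain ⟨r, hr, hd⟩ : ∃ r ∈ C, r⁻¹ * (c * r * c⁻¹) ∉ centreOf C := by
    by_contra hcon
    push Not at hcon
    refine hmove fun r hr => ?_
    set z := r⁻¹ * (c * r * c⁻¹) with hzdef
    have hz := hcon r hr
    have hkk : ∀ i : ℕ, c ^ i * r * (c ^ i)⁻¹ = r * z ^ i := by
      intro i
      induction i with
      | zero => simp
      | succ i ih =>
        rw [pow_succ' c, show c * c ^ i * r * (c * c ^ i)⁻¹ = c * (c ^ i * r * (c ^ i)⁻¹) * c⁻¹ by group, ih,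
          show c * (r * z ^ i) * c⁻¹ = (c * r * c⁻¹) * (c * z ^ i * c⁻¹) by group,
          ((show Commute c z from (hcZ z hz).symm).pow_right i).eq, mul_inv_cancel_right,
          show c * r * c⁻¹ = r * z by rw [hzdef]; group, mul_assoc, ← pow_succ']
    have h1 := hkk (2 ^ k)
    rw [hk, one_mul, inv_one, mul_one, left_eq_mul] at h1
    obtain ⟨j, hj⟩ := hCq ⟨z, hz.1⟩
    have hz1 : z = 1 := orderOf_eq_one_iff.mp (Nat.eq_one_of_dvd_coprimes
      ((hq2'.symm.pow_left k).pow_right j)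
      (orderOf_dvd_of_pow_eq_one h1) (orderOf_dvd_of_pow_eq_one (congrArg Subtype.val hj)))
    calc c * r = r * (r⁻¹ * (c * r * c⁻¹)) * c := by group
      _ = r * c := by rw [← hzdef, hz1, mul_one]
  have hdC : r⁻¹ * (c * r * c⁻¹) ∈ C := C.mul_mem (C.inv_mem hr) (hCn.conj_mem r hr c)
  obtain ⟨h, hh, hdh⟩ : ∃ h ∈ C, r⁻¹ * (c * r * c⁻¹) * h ≠ h * (r⁻¹ * (c * r * c⁻¹)) := by
    by_contra hcon
    push Not at hcon
    exact hd ⟨hdC, fun h hh => (hcon h hh).symm⟩
  obtain ⟨χ, T, hZT, hTC, hTiff, hWχ, hχd⟩ :=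
    exists_central_character_of_ne γ hγ hq2 C hCq hcl hdC hh hdh
  obtain ⟨W, _, _, _, B, ρ, hB, hiso, hker, hcard⟩ :=
    exists_symp_model γ hq2' C hCgood χ T hZT hTC.le hTiff hWχ
  have hle : centreKernel X ≤ centreStab C χ := fun g hg z hz => by
    rw [← mem_centreKernel.mp hg q C ⟨hq, hq2, hCgood⟩ z hz, mul_inv_cancel_right]
  refine ⟨q, inferInstance, hq2', W, inferInstance, inferInstance, inferInstance, B, centreStab C χ, hle, ρ,
    hB, hiso, fun h1 => ?_, fun x m hx hdeg hy hy1 => ?_⟩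
  · exact hχd ((hTiff _ hdC).mp ((hker _).mp h1 r hr) h hh)
  · have hyy : ρ ⟨x ^ 2 ^ m, hy⟩ * ρ ⟨x ^ 2 ^ m, hy⟩ = 1 := by
      rw [← map_mul, ← map_one ρ]
      refine congrArg ρ (Subtype.ext ?_)
      show x ^ 2 ^ m * x ^ 2 ^ m = 1
      rw [← pow_add, ← two_mul, ← pow_succ', hx]
    obtain ⟨n, τ, N, -, hτx, hτn, hτy, hτχ, hN, hidx⟩ :=
      exists_small_support γ hγ hq2 C T hCq χ hcl hZT hTC.le hTiff hWχ x m hx hdeg
        (mem_normalizer_map_conj.mpr fun r hr => hCn.conj_mem r hr x)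
        fun hall => hy1 ((hker _).mpr hall)
    set F := finrank (ZMod q) (Symp.minus (ρ ⟨x ^ 2 ^ m, hy⟩)) with hF
    -- the fixed points as a subgroup
    let C' : Subgroup X :=
      { carrier := {r | r ∈ C ∧ ∀ hr : r ∈ C, r⁻¹ * (x ^ 2 ^ m * r * (x ^ 2 ^ m)⁻¹) ∈ T}
        one_mem' := ⟨C.one_mem, fun _ => by simp⟩
        mul_mem' := fun {a b} ha hb => ⟨C.mul_mem ha.1 hb.1, fun _ => by
          have h1 := ha.2 ha.1
          have h2 := hb.2 hb.1
          set t := a⁻¹ * (x ^ 2 ^ m * a * (x ^ 2 ^ m)⁻¹) with ht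
          have h3 : b⁻¹ * t * b ∈ T := by
            have h4 := hZT (hcl _ (C.inv_mem hb.1) t (hTC.le h1))
            have h5 : ⁅b⁻¹, t⁆ * t ∈ T := T.mul_mem h4 h1
            simpa [commutatorElement_def, mul_assoc] using h5
          have h6 : (a * b)⁻¹ * (x ^ 2 ^ m * (a * b) * (x ^ 2 ^ m)⁻¹) =
              b⁻¹ * t * b * (b⁻¹ * (x ^ 2 ^ m * b * (x ^ 2 ^ m)⁻¹)) := by rw [ht]; group
          rw [h6]
          exact T.mul_mem h3 h2⟩
        inv_mem' := fun {a} ha => ⟨C.inv_mem ha.1, fun _ => by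
          have h1 := T.inv_mem (ha.2 ha.1)
          set t := (a⁻¹ * (x ^ 2 ^ m * a * (x ^ 2 ^ m)⁻¹))⁻¹ with ht
          have h4 := hZT (hcl _ ha.1 t (hTC.le h1))
          have h5 : ⁅a, t⁆ * t ∈ T := T.mul_mem h4 h1
          have h6 : a⁻¹⁻¹ * (x ^ 2 ^ m * a⁻¹ * (x ^ 2 ^ m)⁻¹) = ⁅a, t⁆ * t := by
            rw [commutatorElement_def, ht]; group
          rw [h6]
          exact h5⟩ }
    have hC' : ∀ r ∈ C, (r ∈ C' ↔ r ∈ fixMod C T (x ^ 2 ^ m)) := fun r hr =>
      ⟨fun h => ⟨hr, h.2 hr⟩, fun h => ⟨hr, fun _ => h.2⟩⟩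
    have e : q ^ F = N ^ 2 := (hcard ⟨_, hy⟩ hyy C' hC').symm.trans (hidx C' hC')
    have hF0 : F ≠ 0 := fun h => hy1 (Symp.units_ext fun w => by
      obtain ⟨a, b, ha, hb, rfl⟩ := Symp.exists_split hq2' hyy w
      have hb0 : b = 0 := by
        have h1 := Submodule.finrank_eq_zero.mp h
        rw [← Submodule.mem_bot (ZMod q), ← h1]
        exact Symp.mem_minus.mpr hb
      rw [hb0, add_zero, ha, one_smul])
    obtain ⟨d, -, hd'⟩ := (Nat.dvd_prime_pow hq).mp (show N ∣ q ^ F by rw [e]; exact dvd_pow_self N two_ne_zero)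
    have hd1 : 1 ≤ d := by
      by_contra hd0
      rw [show d = 0 by omega, pow_zero] at hd'
      rw [hd', one_pow] at e
      exact hF0 ((Nat.pow_eq_one.mp e).resolve_left hq.ne_one)
    rcases Cfsg.Agent.S3784.result 2 q (n + 1) d Nat.prime_two hq (by omega) hd1 (by rw [← hd', ← hN])
      with ⟨-, rfl, hn, -⟩ | ⟨hq', -⟩ | ⟨h9, -⟩
    · have hn1 : 1 ≤ n := by
        by_contra h0
        rw [show n = 0 by omega] at hn
        exact Nat.not_prime_one hn
      have hσ : τ ^ 2 ^ (n - 1) ∈ centreStab C χ := Subgroup.pow_mem _ (show τ ∈ centreStab C χ from hτχ) _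
      refine ⟨⟨_, hσ⟩, Subgroup.pow_mem _ hτx _, Subtype.ext ?_, ?_⟩
      · show τ ^ 2 ^ (n - 1) * τ ^ 2 ^ (n - 1) = x ^ 2 ^ m
        rw [← pow_add, ← two_mul, ← pow_succ', Nat.sub_add_cancel hn1, hτy]
      · rw [hd', pow_one] at e
        exact Nat.pow_right_injective hq.two_le e
    · exact absurd hq' hq2
    · have h1 : 2 ∣ 2 ^ (n + 1) := dvd_pow_self 2 (by omega)
      rw [h9] at h1
      omega

end CfsgLib.HallHigman
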