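import Cfsg.Agent.Lib.HallHigman.DerivedChain
import Cfsg.Agent.Lib.HallHigman.SympModel

/-!
# Invariant irreducible subspaces

A `2`-group normalizing a class-two `q`-group with scalar centre stabilizes, inside every invariant subspace,
some subspace irreducible under the `q`-group alone.
-/

namespace CfsgLib.HallHigman

open Module (End)
open scoped commutatorElement

variable {X : Type*} [Group X] [Finite X] {k V : Type*} [Field k] [IsAlgClosed k] [CharP k 2]
  [AddCommGroup V] [Module k V] [FiniteDimensional k V]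

omit [IsAlgClosed k] [CharP k 2] [FiniteDimensional k V] in
/-- The representation on an invariant subspace. -/
noncomputable def resHom (γ : X →* End k V) {H : Subgroup X} {S : Submodule k V} (h : H ≤ stabSub γ S) :
    H →* End k S :=
  ((Units.coeHom _).comp (restrictUnits γ S)).comp (Subgroup.inclusion h)

omit [IsAlgClosed k] [CharP k 2] [FiniteDimensional k V] in
theorem resHom_apply (γ : X →* End k V) {H : Subgroup X} {S : Submodule k V} (h : H ≤ stabSub γ S) (g : H)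
    (w : S) : ((resHom γ h g w : S) : V) = γ g w := rfl

omit [IsAlgClosed k] [FiniteDimensional k V] in
/-- A scalar of `2`-power order is trivial. -/
theorem scalar_eq_one_of_pow {l : k} {i : ℕ} (h : l ^ 2 ^ i = 1) : l = 1 := by
  have h1 : (l - 1) ^ 2 ^ i = 0 := by rw [sub_pow_char_pow, h, one_pow, sub_self]
  exact sub_eq_zero.mp (eq_zero_of_pow_eq_zero h1)

set_option maxHeartbeats 1600000 in
/-- Every invariant subspace contains an invariant one irreducible under the `q`-group. -/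
theorem exists_irred_invariant (γ : X →* End k V) (hγ : Function.Injective γ) {q : ℕ} [Fact q.Prime]
    (C : Subgroup X) (hC : IsPGroup q C) (hcl : ∀ c ∈ C, ∀ d ∈ C, ⁅c, d⁆ ∈ centreOf C)
    (hZ : ∀ z ∈ centreOf C, ∃ l : k, γ z = l • 1) (n : ℕ) :
    ∀ (K : Subgroup X), Nat.card K = n → IsPGroup 2 K → K ≤ Subgroup.normalizer (C : Set X) →
    ∀ M : Submodule k V, M ≠ ⊥ → C ≤ stabSub γ M → K ≤ stabSub γ M →
    ∃ S ≤ M, S ≠ ⊥ ∧ C ≤ stabSub γ S ∧ K ≤ stabSub γ S ∧
      ∀ S' ≤ S, C ≤ stabSub γ S' → S' = ⊥ ∨ S' = S := by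
  have := Fact.mk Nat.prime_two
  induction n using Nat.strong_induction_on with
  | h n ih =>
  intro K hKn hK hKC M hM0 hMC hMK
  by_cases hKbot : K = ⊥
  · obtain ⟨S, ⟨hS0, hSM, hSC⟩, hSmin⟩ := exists_minimal_of_wellFoundedLT
      (fun S : Submodule k V => S ≠ ⊥ ∧ S ≤ M ∧ C ≤ stabSub γ S) ⟨M, hM0, le_rfl, hMC⟩
    refine ⟨S, hSM, hS0, hSC, hKbot ▸ bot_le, fun S' hS' hC' => ?_⟩
    by_cases h : S' = ⊥
    · exact Or.inl h
    · exact Or.inr (le_antisymm hS' (hSmin (y := S') ⟨h, hS'.trans hSM, hC'⟩ hS'))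
  -- a subgroup of index two
  obtain ⟨a, ha⟩ := hK.exists_card_eq
  have ha1 : 1 ≤ a := by
    by_contra h
    exact hKbot (Subgroup.card_eq_one.mp (by rw [ha, show a = 0 by omega, pow_zero]))
  obtain ⟨K₀, hK₀⟩ := Sylow.exists_subgroup_card_pow_prime 2
    (show 2 ^ (a - 1) ∣ Nat.card K by rw [ha]; exact pow_dvd_pow 2 (by omega))
  have hK₀i : K₀.index = 2 := by
    have h1 := K₀.card_mul_index
    rw [hK₀, ha, show 2 ^ a = 2 ^ (a - 1) * 2 by rw [← pow_succ, Nat.sub_add_cancel ha1]] at h1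
    exact Nat.eq_of_mul_eq_mul_left (pow_pos two_pos _) h1
  have hK₀n : K₀.Normal := Subgroup.normal_of_index_eq_two hK₀i
  set K' := K₀.map K.subtype with hK'
  have hK'K : K' ≤ K := Subgroup.map_subtype_le _
  have hK'lt : Nat.card K' < n := by
    rw [hK', Subgroup.card_map_of_injective K.subtype_injective, hK₀, ← hKn, ha]
    exact Nat.pow_lt_pow_right one_lt_two (by omega)
  obtain ⟨S₀, hS₀M, hS₀0, hS₀C, hS₀K, hS₀irr⟩ :=
    ih _ hK'lt K' rfl (hK.to_le hK'K) (hK'K.trans hKC) M hM0 hMC (hK'K.trans hMK)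
  obtain ⟨g, hg⟩ : ∃ g : K, g ∉ K₀ := by
    by_contra h
    push Not at h
    rw [(Subgroup.eq_top_iff' K₀).mpr h, Subgroup.index_top] at hK₀i
    exact absurd hK₀i (by norm_num)
  have hgC : (g : X) ∈ Subgroup.normalizer (C : Set X) := hKC g.2
  have hgK' : (g : X) ∈ Subgroup.normalizer (K' : Set X) := mem_normalizer_map_conj.mpr fun b hb => by
    obtain ⟨b, hb, rfl⟩ := hb
    exact ⟨g * b * g⁻¹, hK₀n.conj_mem b hb g, rfl⟩
  obtain ⟨i, hi⟩ := hK g
  have hgi : (g : X) ^ 2 ^ (i + 1) = 1 := by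
    have h1 : (g : X) ^ 2 ^ i = 1 := congrArg Subtype.val hi
    rw [pow_succ, pow_mul, h1, one_pow]
  have : Nontrivial S₀ := Submodule.nontrivial_iff_ne_bot.mpr hS₀0
  let ρC := resHom γ hS₀C
  have hirr : IsIrred ρC := fun W hW => by
    have hle : W.map S₀.subtype ≤ S₀ := Submodule.map_subtype_le S₀ W
    rcases hS₀irr _ hle (fun c hc => by
      rintro _ ⟨w, hw, rfl⟩
      exact ⟨ρC ⟨c, hc⟩ w, hW ⟨c, hc⟩ w hw, rfl⟩) with h | h
    · exact Or.inl (Submodule.map_injective_of_injective S₀.injective_subtype (by rw [h, Submodule.map_bot]))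
    · refine Or.inr (Submodule.map_injective_of_injective S₀.injective_subtype ?_)
      rw [h, Submodule.map_top, Submodule.range_subtype]
  have hcen : ∀ c : C, c ∈ Subgroup.center C ↔ (c : X) ∈ centreOf C := fun c => by
    rw [Subgroup.mem_center_iff]
    exact ⟨fun h => ⟨c.2, fun b hb => congrArg Subtype.val (h ⟨b, hb⟩)⟩, fun h b => Subtype.ext (h.2 b b.2)⟩
  have hclC : ∀ c d : C, ⁅c, d⁆ ∈ Subgroup.center C := fun c d => (hcen _).mpr (hcl c c.2 d d.2)
  have hscal1 : ∀ z ∈ centreOf C, ∀ w : S₀, w ≠ 0 → γ z w = (w : V) → z = 1 := fun z hz w hw hfix => by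
    obtain ⟨l, hl⟩ := hZ z hz
    apply hγ
    rw [hl, LinearMap.smul_apply, Module.End.one_apply] at hfix
    have h1 : (l - 1) • (w : V) = 0 := by rw [sub_smul, hfix, one_smul, sub_self]
    rw [hl, sub_eq_zero.mp ((smul_eq_zero.mp h1).resolve_right fun h => hw (Subtype.ext h)), one_smul, map_one]
  have hram : IsFullyRamified ρC := fun c hc => by
    rw [Subgroup.mem_center_iff]
    intro d
    have h1 : ρC ⁅c, d⁆ = 1 := by
      rw [commutatorElement_def, map_mul, map_mul, map_mul, hc d, mul_assoc (ρC d), map_mul_map_inv, mul_one,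
        map_mul_map_inv]
    obtain ⟨w, hw⟩ := exists_ne (0 : S₀)
    have h2 := hscal1 _ (hcl c c.2 d d.2) w hw (congrArg Subtype.val (LinearMap.congr_fun h1 w))
    exact (Subtype.ext (commutatorElement_eq_one_iff_mul_comm.mp h2)).symm
  -- the automorphisms
  set Q := C ⊔ K' with hQ
  have hQS : Q ≤ stabSub γ S₀ := sup_le hS₀C hS₀K
  have hconjC : ∀ c ∈ C, (g : X) * c * (g : X)⁻¹ ∈ C := fun c hc => (Subgroup.mem_normalizer_iff.mp hgC c).mp hc
  have hgQ : (g : X) ∈ Subgroup.normalizer (Q : Set X) := mem_normalizer_map_conj.mpr fun b hb => by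
    have h1 : Q.map (MulAut.conj (g : X)).toMonoidHom ≤ Q := by
      rw [hQ, Subgroup.map_sup]
      refine sup_le_sup ?_ ?_ <;> rintro _ ⟨w, hw, rfl⟩
      · exact hconjC w hw
      · exact (Subgroup.mem_normalizer_iff.mp hgK' w).mp hw
    exact h1 ⟨b, hb, rfl⟩
  let conjAut : ∀ {H : Subgroup X}, (g : X) ∈ Subgroup.normalizer (H : Set X) → MulAut H := fun {H} h =>
    { toFun := fun b => ⟨g * b * (g : X)⁻¹, (Subgroup.mem_normalizer_iff.mp h b).mp b.2⟩
      invFun := fun b => ⟨(g : X)⁻¹ * b * g, (Subgroup.mem_normalizer_iff''.mp h b).mp b.2⟩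
      left_inv := fun b => Subtype.ext (by simp [mul_assoc])
      right_inv := fun b => Subtype.ext (by simp [mul_assoc])
      map_mul' := fun a b => Subtype.ext (by simp [mul_assoc]) }
  set σC : MulAut C := conjAut hgC with hσC
  set σQ : MulAut Q := conjAut hgQ with hσQ
  have hσpow : ∀ (j : ℕ) (c : C), (((σC ^ j) c : C) : X) = (g : X) ^ j * c * ((g : X) ^ j)⁻¹ := by
    intro j
    induction j with
    | zero => simp
    | succ j ihj =>
      intro c
      rw [pow_succ, MulAut.mul_apply, ihj, pow_succ]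
      show (g : X) ^ j * (g * c * (g : X)⁻¹) * ((g : X) ^ j)⁻¹ = _
      group
  have hσn : σC ^ 2 ^ (i + 1) = 1 := MulEquiv.ext fun c => Subtype.ext (by rw [hσpow, hgi]; simp)
  obtain ⟨T, hT, hTρ⟩ := exists_twist hirr hclC hram σC (pow_pos two_pos (i + 1)) hσn (fun z hz => by
    obtain ⟨l, hl⟩ := hZ z ((hcen z).mp hz)
    have h1 : (g : X) * z * (g : X)⁻¹ = z := hγ (by
      rw [map_mul, map_mul, hl, mul_smul_comm, mul_one, smul_mul_assoc, ← map_mul, mul_inv_cancel, map_one])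
    rw [show σC z = z from Subtype.ext h1])
  -- `T` twists `Q`
  set ρQ := resHom γ hQS with hρQ
  have hTu : T * T ^ (2 ^ (i + 1) - 1) = 1 := by
    rw [← pow_succ', Nat.sub_add_cancel Nat.one_le_two_pow, hT]
  have hTu' : T ^ (2 ^ (i + 1) - 1) * T = 1 := by
    rw [← pow_succ, Nat.sub_add_cancel Nat.one_le_two_pow, hT]
  let Tu : (End k S₀)ˣ := ⟨T, T ^ (2 ^ (i + 1) - 1), hTu, hTu'⟩
  let φ₁ : Q →* (End k S₀)ˣ := (MulAut.conj Tu).toMonoidHom.comp ρQ.toHomUnits
  let φ₂ : Q →* (End k S₀)ˣ := ρQ.toHomUnits.comp σQ.toMonoidHom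
  have hCeq : ∀ (c : X) (hc : c ∈ C), φ₁ ⟨c, (le_sup_left : C ≤ Q) hc⟩ = φ₂ ⟨c, (le_sup_left : C ≤ Q) hc⟩ :=
    fun c hc => Units.ext (by
      show T * ρC ⟨c, hc⟩ * T ^ (2 ^ (i + 1) - 1) = ρC (σC ⟨c, hc⟩)
      rw [hTρ, mul_assoc, hTu, mul_one])
  have hKeq : ∀ (b : X) (hb : b ∈ K'), φ₁ ⟨b, (le_sup_right : K' ≤ Q) hb⟩ = φ₂ ⟨b, (le_sup_right : K' ≤ Q) hb⟩ := by
    intro b hb
    set bQ : Q := ⟨b, (le_sup_right : K' ≤ Q) hb⟩ with hbQ
    set u := (φ₂ bQ)⁻¹ * φ₁ bQ with hu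
    have hbC : b ∈ Subgroup.normalizer (C : Set X) := hKC (hK'K hb)
    obtain ⟨l, hl⟩ := exists_eq_smul_one hirr (u : End k S₀) fun c => by
      set cQ : Q := ⟨c, (le_sup_left : C ≤ Q) c.2⟩ with hcQ
      have hc' : b * (c : X) * b⁻¹ ∈ C := (Subgroup.mem_normalizer_iff.mp hbC _).mp c.2
      -- the element whose image is `c`
      have hc'' : (g : X)⁻¹ * c * g ∈ C := (Subgroup.mem_normalizer_iff''.mp hgC _).mp c.2
      set d : Q := ⟨(g : X)⁻¹ * c * g, (le_sup_left : C ≤ Q) hc''⟩ with hd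
      set d' : Q := bQ * d * bQ⁻¹ with hd'
      have hd'C : (d' : X) ∈ C := (Subgroup.mem_normalizer_iff.mp hbC _).mp hc''
      have e1 : φ₁ d' = φ₂ d' := hCeq _ hd'C
      have e2 : φ₁ d = φ₂ d := hCeq _ hc''
      have e3 : φ₂ d = ρQ.toHomUnits cQ := congrArg ρQ.toHomUnits (Subtype.ext (by
        show (g : X) * ((g : X)⁻¹ * c * g) * (g : X)⁻¹ = c
        group))
      have e4 : u * φ₂ d = φ₂ d * u := by
        rw [hd', map_mul, map_mul, map_inv, map_mul, map_mul, map_inv, e2] at e1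
        have h3 := congrArg (fun t => (φ₂ bQ)⁻¹ * t * φ₁ bQ) e1
        simp only [mul_assoc, inv_mul_cancel, mul_one, inv_mul_cancel_left] at h3
        rw [hu, mul_assoc]
        exact h3
      rw [e3] at e4
      exact congrArg Units.val e4
    have hl1 : l = 1 := by
      obtain ⟨j, hj⟩ := hK ⟨b, hK'K hb⟩
      have hb2 : bQ ^ 2 ^ j = 1 :=
        Subtype.ext (by rw [Subgroup.coe_pow, Subgroup.coe_one]; exact congrArg Subtype.val hj)
      have e1 : φ₁ bQ = φ₂ bQ * u := by rw [hu, mul_inv_cancel_left]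
      have hcomm : Commute (φ₂ bQ) u := by
        generalize φ₂ bQ = a
        refine Units.ext ?_
        show (a : End k S₀) * (u : End k S₀) = (u : End k S₀) * (a : End k S₀)
        rw [hl, mul_smul_comm, mul_one, smul_mul_assoc, one_mul]
      have h1 : u ^ 2 ^ j = 1 := by
        have h2 := congrArg (· ^ 2 ^ j) e1
        rw [hcomm.mul_pow, ← map_pow, ← map_pow, hb2, map_one, map_one, one_mul] at h2
        exact h2.symm
      have h2 := congrArg Units.val h1
      rw [Units.val_pow_eq_pow_val, hl, smul_pow, one_pow, Units.val_one] at h2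
      obtain ⟨w, hw⟩ := exists_ne (0 : S₀)
      have h3 : (l ^ 2 ^ j - 1) • w = 0 := by
        have h4 := LinearMap.congr_fun h2 w
        rw [LinearMap.smul_apply, Module.End.one_apply] at h4
        rw [sub_smul, h4, one_smul, sub_self]
      exact scalar_eq_one_of_pow (sub_eq_zero.mp ((smul_eq_zero.mp h3).resolve_right hw))
    have hu1 : u = 1 := Units.ext (by rw [hl, hl1, one_smul, Units.val_one])
    rw [hu, inv_mul_eq_one] at hu1
    exact hu1.symm
  have htwist : ∀ b : Q, T * ρQ b = ρQ (σQ b) * T := by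
    intro b
    have h1 : φ₁.eqLocus φ₂ = ⊤ := by
      refine (Subgroup.eq_top_iff' _).mpr fun x => ?_
      have h2 : Q ≤ (φ₁.eqLocus φ₂).map Q.subtype :=
        sup_le (fun c hc => ⟨⟨c, (le_sup_left : C ≤ Q) hc⟩, hCeq c hc, rfl⟩)
          (fun b hb => ⟨⟨b, (le_sup_right : K' ≤ Q) hb⟩, hKeq b hb, rfl⟩)
      obtain ⟨y, hy, hyx⟩ := h2 x.2
      rwa [← Subtype.ext hyx]
    have h3 : φ₁ b = φ₂ b := h1.ge (Subgroup.mem_top b)
    have h4 : T * ρQ b * T ^ (2 ^ (i + 1) - 1) = ρQ (σQ b) := congrArg Units.val h3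
    rw [← h4, mul_assoc _ (T ^ _) T, hTu', mul_one]
  -- transport to `M`
  have hQM : Q ≤ stabSub γ M := sup_le hMC (hK'K.trans hMK)
  have hgM : (g : X) ∈ stabSub γ M := hMK g.2
  set πQ := resHom γ hQM with hπQ
  let S' : End k M := (restrictUnits γ M ⟨g, hgM⟩ : (End k M)ˣ)
  have hS' : S' ^ 2 ^ (i + 1) = 1 := by
    show ((restrictUnits γ M ⟨g, hgM⟩ : (End k M)ˣ) : End k M) ^ _ = 1
    rw [← Units.val_pow_eq_pow_val, ← map_pow,
      show (⟨g, hgM⟩ : stabSub γ M) ^ 2 ^ (i + 1) = 1 from Subtype.ext hgi, map_one, Units.val_one]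
  obtain ⟨f, hf0, hfg, hfT⟩ := exists_equivariant_map (p := 2) ρQ πQ σQ T S' (i + 1) hT hS' htwist
    (fun b => LinearMap.ext fun w => Subtype.ext (by
      show γ g (γ b w) = γ ((g : X) * b * (g : X)⁻¹) (γ g w)
      rw [← Module.End.mul_apply, ← map_mul, ← Module.End.mul_apply, ← map_mul, inv_mul_cancel_right]))
    (Submodule.inclusion hS₀M)
    (fun h => hS₀0 ((Submodule.eq_bot_iff _).mpr fun w hw =>
      congrArg Subtype.val (LinearMap.congr_fun h ⟨w, hw⟩)))
    (fun b => LinearMap.ext fun w => rfl)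
  have hfi : Function.Injective f := by
    rw [← LinearMap.ker_eq_bot]
    refine (hirr _ fun c w hw => ?_).resolve_right fun h => hf0 (LinearMap.ker_eq_top.mp h)
    rw [LinearMap.mem_ker] at hw ⊢
    have := LinearMap.congr_fun (hfg ⟨c, (le_sup_left : C ≤ Q) c.2⟩) w
    simp only [LinearMap.comp_apply] at this
    show f (ρQ ⟨c, (le_sup_left : C ≤ Q) c.2⟩ w) = 0
    rw [← this, hw, map_zero]
  set S := (LinearMap.range f).map M.subtype with hS
  have hSQ : ∀ b (hb : b ∈ Q), b ∈ stabSub γ S := fun b hb => by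
    rintro _ ⟨_, ⟨w, rfl⟩, rfl⟩
    exact ⟨f (ρQ ⟨b, hb⟩ w), ⟨_, rfl⟩, congrArg Subtype.val (LinearMap.congr_fun (hfg ⟨b, hb⟩) w).symm⟩
  have hgS : (g : X) ∈ stabSub γ S := by
    rintro _ ⟨_, ⟨w, rfl⟩, rfl⟩
    exact ⟨f (T w), ⟨_, rfl⟩, congrArg Subtype.val (hfT w).symm⟩
  refine ⟨S, Submodule.map_subtype_le M _, fun h => ?_, fun c hc => hSQ c (Subgroup.mem_sup_left hc),
    fun b hb => ?_, fun S₁ hS₁ hC₁ => ?_⟩
  · apply hf0
    refine LinearMap.ext fun w => Subtype.ext ?_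
    have h1 : (f w : V) ∈ S := ⟨f w, ⟨w, rfl⟩, rfl⟩
    rw [h, Submodule.mem_bot] at h1
    exact h1
  · by_cases hb0 : (⟨b, hb⟩ : K) ∈ K₀
    · exact hSQ b (Subgroup.mem_sup_right ⟨_, hb0, rfl⟩)
    · have h1 : g⁻¹ * ⟨b, hb⟩ ∈ K₀ := by
        rw [Subgroup.mul_mem_iff_of_index_two hK₀i, inv_mem_iff]
        exact iff_of_false hg hb0
      have h2 : (g : X)⁻¹ * b ∈ Q := Subgroup.mem_sup_right ⟨_, h1, rfl⟩
      have h3 := mul_mem hgS (hSQ _ h2)
      rwa [mul_inv_cancel_left] at h3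
  · let W : Submodule k S₀ := S₁.comap (M.subtype.comp f)
    rcases hirr W (fun c w hw => by
      show ((f (ρC c w) : M) : V) ∈ S₁
      have e := congrArg Subtype.val (LinearMap.congr_fun (hfg ⟨c, (le_sup_left : C ≤ Q) c.2⟩) w)
      rw [show ρC c = ρQ ⟨c, (le_sup_left : C ≤ Q) c.2⟩ from rfl]
      exact e ▸ hC₁ c.2 (f w : V) hw) with h | h
    · refine Or.inl ((Submodule.eq_bot_iff _).mpr fun v hv => ?_)
      obtain ⟨_, ⟨w, rfl⟩, rfl⟩ := hS₁ hv
      have hw : w ∈ W := hv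
      rw [h, Submodule.mem_bot] at hw
      rw [hw, map_zero, map_zero]
    · refine Or.inr (le_antisymm hS₁ ?_)
      rintro _ ⟨_, ⟨w, rfl⟩, rfl⟩
      exact (h.ge (Submodule.mem_top : w ∈ (⊤ : Submodule k S₀)) : w ∈ W)

end CfsgLib.HallHigman
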