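import Cfsg.Agent.Lib.HallHigman.SmallElements

/-!
# Commuting elements of order three moving four cosets
-/

namespace CfsgLib.HallHigman

open scoped commutatorElement

variable {M : Type*} [AddCommGroup M]

theorem end_pow_three_sub {f : AddMonoid.End M} {x : M} (h : f (f x - x) = f x - x) :
    (f ^ 3) x = x + 3 • (f x - x) := by
  show f (f (f x)) = x + 3 • (f x - x)
  set d := f x - x with hd
  have e : f x = x + d := by rw [hd]; abel
  rw [e, map_add, h, e, map_add, map_add, h, e]
  abel

/-- The image of `f - 1`. -/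
def moved (f : AddMonoid.End M) : AddSubgroup M := ((f - 1 : AddMonoid.End M) : M →+ M).range

theorem mem_moved {f : AddMonoid.End M} {x : M} : x ∈ moved f ↔ ∃ u, f u - u = x := Iff.rfl

theorem card_moved (f : AddMonoid.End M) : Nat.card (moved f) = (fixedBy f).index := by
  let g : M →+ M := (f - 1 : AddMonoid.End M)
  have h : g.ker = fixedBy f := by
    ext x
    exact ⟨fun hx => sub_eq_zero.mp hx, fun hx => sub_eq_zero.mpr hx⟩
  exact (AddSubgroup.index_ker g).symm.trans (congrArg AddSubgroup.index h)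

/-- A `3`-group of permutations of four points is commutative. -/
theorem commute_of_three_group {α : Type*} [Finite α] (hα : Nat.card α = 4) (G : Subgroup (Equiv.Perm α))
    (hG : IsPGroup 3 G) : ∀ a ∈ G, ∀ b ∈ G, a * b = b * a := by
  have : Fact (Nat.Prime 3) := ⟨Nat.prime_three⟩
  obtain ⟨k, hk⟩ := hG.exists_card_eq
  have hd : 3 ^ k ∣ 24 := by
    have h1 := Subgroup.card_subgroup_dvd_card G
    rwa [hk, Nat.card_perm, hα, show Nat.factorial 4 = 24 from rfl] at h1
  have hk1 : k ≤ 1 := by
    by_contra hk1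
    have h2 : 3 ^ 2 ∣ 24 := (Nat.pow_dvd_pow 3 (by omega : 2 ≤ k)).trans hd
    norm_num at h2
  intro a ha b hb
  interval_cases k
  · rw [pow_zero, Subgroup.card_eq_one] at hk
    rw [hk, Subgroup.mem_bot] at ha
    simp [ha]
  · have : IsCyclic G := isCyclic_of_prime_card (hk.trans (pow_one 3))
    let := IsCyclic.commGroup (α := G)
    exact congrArg Subtype.val (mul_comm (⟨a, ha⟩ : G) ⟨b, hb⟩)

set_option maxHeartbeats 1000000 in
/-- Commuting elements of order three moving four cosets each, in a normal subgroup `N` of a `3`-group,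
are not commutators. -/
theorem notMem_commutator_of_small [Finite M] (hcop : (Nat.card M).Coprime 3) {G : Type*} [Group G]
    (hG : IsPGroup 3 G) (φ : G →* (AddMonoid.End M)ˣ) (N : Subgroup G) [N.Normal]
    (hcomm : ∀ a ∈ N, ∀ b ∈ N, φ a * φ b = φ b * φ a) (hord : ∀ a ∈ N, φ a ^ 3 = 1)
    (hsmall : ∀ a ∈ N, φ a = 1 ∨ (fixedBy (φ a : AddMonoid.End M)).index = 4)
    (a : G) (ha : a ∈ N) (hne : φ a ≠ 1) : a ∉ commutator G := by
  classical
  have h3 : ∀ x : M, 3 • x = 0 → x = 0 := fun x hx => by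
    have h1 := Nat.dvd_gcd (addOrderOf_dvd_natCard x) (addOrderOf_dvd_of_nsmul_eq_zero hx)
    rw [hcop.gcd_eq_one, Nat.dvd_one] at h1
    exact AddMonoid.addOrderOf_eq_one_iff.mp h1
  let F : G → AddMonoid.End M := fun g => (φ g : AddMonoid.End M)
  have hFmul : ∀ g h (x : M), F (g * h) x = F g (F h x) := fun g h x => by
    show ((φ (g * h) : (AddMonoid.End M)ˣ) : AddMonoid.End M) x = _
    rw [map_mul]; rfl
  have hfree : ∀ b ∈ N, ∀ x ∈ moved (F b), F b x = x → x = 0 := by
    rintro b hb _ ⟨u, rfl⟩ hfix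
    have h1 := end_pow_three_sub (f := F b) (x := u) hfix
    rw [show F b ^ 3 = 1 by
      show (φ b : AddMonoid.End M) ^ 3 = 1
      rw [← Units.val_pow_eq_pow_val, hord b hb, Units.val_one]] at h1
    exact h3 _ (left_eq_add.mp h1)
  have hinv : ∀ b ∈ N, ∀ c ∈ N, ∀ x ∈ moved (F b), F c x ∈ moved (F b) := by
    rintro b hb c hc _ ⟨u, rfl⟩
    refine ⟨F c u, ?_⟩
    have e : F b (F c u) = F c (F b u) := by
      show ((φ b * φ c : (AddMonoid.End M)ˣ) : AddMonoid.End M) u = _
      rw [hcomm b hb c hc]; rfl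
    show F b (F c u) - F c u = F c (F b u - u)
    rw [map_sub, e]
  have hcard : ∀ b ∈ N, φ b ≠ 1 → Nat.card (moved (F b)) = 4 := fun b hb hbne => by
    rw [card_moved]; exact (hsmall b hb).resolve_left hbne
  have hsurj : ∀ b ∈ N, ∀ x ∈ moved (F b), ∃ y ∈ moved (F b), F b y - y = x := by
    intro b hb
    let g : moved (F b) → moved (F b) := fun y =>
      ⟨F b y - y, (moved (F b)).sub_mem (hinv b hb b hb y y.2) y.2⟩
    have hg : Function.Injective g := fun y y' h => by
      have h1 : F b (y : M) - y = F b (y' : M) - y' := congrArg Subtype.val h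
      refine Subtype.ext (sub_eq_zero.mp (hfree b hb _ ((moved (F b)).sub_mem y.2 y'.2) ?_))
      rw [map_sub, sub_eq_sub_iff_sub_eq_sub]
      exact h1
    intro x hx
    obtain ⟨y, hy⟩ := Finite.injective_iff_surjective.mp hg ⟨x, hx⟩
    exact ⟨y, y.2, congrArg Subtype.val hy⟩
  -- all nontrivial elements of `N` move the same subgroup
  have hsame : ∀ b ∈ N, φ b ≠ 1 → moved (F b) = moved (F a) := by
    intro b hb hbne
    set Db := moved (F b)
    set Da := moved (F a)
    by_contra hDne
    have hI : Db ⊓ Da = ⊥ := by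
      have hd : Nat.card (Db ⊓ Da : AddSubgroup M) ∣ 4 :=
        hcard b hb hbne ▸ AddSubgroup.card_dvd_of_le inf_le_left
      obtain ⟨i, hi, hi'⟩ := (Nat.dvd_prime_pow Nat.prime_two).mp (show _ ∣ 2 ^ 2 from hd)
      interval_cases i
      · exact AddSubgroup.card_eq_one.mp hi'
      · exfalso
        rw [pow_one] at hi'
        obtain ⟨v, hv, huniq⟩ := (Nat.card_eq_two_iff' (0 : (Db ⊓ Da : AddSubgroup M))).mp hi'
        have hw : F b v ∈ Db ⊓ Da := ⟨hinv b hb b hb _ v.2.1, hinv a ha b hb _ v.2.2⟩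
        have hw0 : (⟨_, hw⟩ : (Db ⊓ Da : AddSubgroup M)) ≠ 0 := fun h => hv (Subtype.ext
          (units_apply_injective (φ b) (by
            show F b (v : M) = F b (0 : M)
            rw [map_zero]; exact congrArg Subtype.val h)))
        exact hv (Subtype.ext (hfree b hb _ v.2.1 (congrArg Subtype.val (huniq _ hw0))))
      · exfalso
        have e1 : Db ⊓ Da = Db := AddSubgroup.eq_of_le_of_card_ge inf_le_left (by rw [hi', hcard b hb hbne]; rfl)
        exact hDne (AddSubgroup.eq_of_le_of_card_ge (e1 ▸ inf_le_right)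
          (by rw [hcard b hb hbne, hcard a ha hne]))
    have hcross : ∀ {c e}, c ∈ N → e ∈ N → moved (F c) ⊓ moved (F e) = ⊥ → ∀ x ∈ moved (F c), F e x = x := by
      intro c e hc he hce x hx
      have h1 : F e x - x ∈ moved (F c) ⊓ moved (F e) :=
        ⟨(moved (F c)).sub_mem (hinv c hc e he x hx) hx, ⟨x, rfl⟩⟩
      rw [hce, AddSubgroup.mem_bot, sub_eq_zero] at h1
      exact h1
    have hba := hcross hb ha hI
    have hab := hcross ha hb (by rw [inf_comm]; exact hI)
    have hmem : ∀ y : Db × Da, (y.1 : M) + y.2 ∈ moved (F (b * a)) := by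
      rintro ⟨⟨y, hy⟩, ⟨z, hz⟩⟩
      obtain ⟨y', hy', rfl⟩ := hsurj b hb y hy
      obtain ⟨z', hz', rfl⟩ := hsurj a ha z hz
      refine ⟨y' + z', ?_⟩
      show F (b * a) (y' + z') - (y' + z') = _
      rw [hFmul, map_add, hba y' hy', map_add, hab _ (hinv a ha a ha z' hz')]
      exact (sub_add_sub_comm _ _ _ _).symm
    have hinj : Function.Injective (fun y : Db × Da => (⟨_, hmem y⟩ : moved (F (b * a)))) := by
      rintro ⟨y, z⟩ ⟨y', z'⟩ h
      have h1 : (y : M) + z = y' + z' := congrArg Subtype.val h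
      have h2 : (y : M) - y' ∈ Db ⊓ Da := ⟨Db.sub_mem y.2 y'.2, by
        rw [show (y : M) - y' = z' - z by rw [sub_eq_sub_iff_add_eq_add, h1, add_comm]]
        exact Da.sub_mem z'.2 z.2⟩
      rw [hI, AddSubgroup.mem_bot, sub_eq_zero] at h2
      rw [h2, add_left_cancel_iff] at h1
      exact Prod.ext (Subtype.ext h2) (Subtype.ext h1)
    have h16 := Nat.card_le_card_of_injective _ hinj
    rw [Nat.card_prod, hcard b hb hbne, hcard a ha hne] at h16
    rcases hsmall (b * a) (N.mul_mem hb ha) with h | h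
    · rw [card_moved, show fixedBy (F (b * a)) = ⊤ from eq_top_iff.mpr fun x _ => by
        show ((φ (b * a) : (AddMonoid.End M)ˣ) : AddMonoid.End M) x = x
        rw [h]; rfl, AddSubgroup.index_top] at h16
      omega
    · rw [card_moved, h] at h16
      omega
  set D := moved (F a) with hDdef
  have hGD : ∀ g : G, ∀ x ∈ D, F g x ∈ D := by
    intro g x hx
    have hn : g * a * g⁻¹ ∈ N := Subgroup.Normal.conj_mem ‹N.Normal› a ha g
    have hne' : φ (g * a * g⁻¹) ≠ 1 := fun h => hne (by
      rwa [map_mul, map_mul, map_inv, conj_eq_one_iff] at h)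
    obtain ⟨u, rfl⟩ := hx
    refine (hsame _ hn hne').le ⟨F g u, ?_⟩
    show F (g * a * g⁻¹) (F g u) - F g u = F g (F a u - u)
    rw [map_sub, ← hFmul, ← hFmul, inv_mul_cancel_right]
  let ψ : G →* Equiv.Perm D :=
    { toFun := fun g =>
        { toFun := fun x => ⟨F g x, hGD g x x.2⟩
          invFun := fun x => ⟨F g⁻¹ x, hGD g⁻¹ x x.2⟩
          left_inv := fun x => Subtype.ext (by
            show F g⁻¹ (F g x) = x
            rw [← hFmul, inv_mul_cancel]; show ((φ 1 : (AddMonoid.End M)ˣ) : AddMonoid.End M) x = x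
            rw [map_one]; rfl)
          right_inv := fun x => Subtype.ext (by
            show F g (F g⁻¹ x) = x
            rw [← hFmul, mul_inv_cancel]; show ((φ 1 : (AddMonoid.End M)ˣ) : AddMonoid.End M) x = x
            rw [map_one]; rfl) }
      map_one' := Equiv.ext fun x => Subtype.ext (by
        show ((φ 1 : (AddMonoid.End M)ˣ) : AddMonoid.End M) x = x
        rw [map_one]; rfl)
      map_mul' := fun g h => Equiv.ext fun x => Subtype.ext (hFmul g h x) }
  intro hac
  have hker : commutator G ≤ ψ.ker := by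
    rw [commutator_def, Subgroup.commutator_le]
    intro g _ h _
    rw [MonoidHom.mem_ker, map_commutatorElement, commutatorElement_eq_one_iff_mul_comm]
    exact commute_of_three_group (hcard a ha hne) ψ.range
      (hG.of_surjective _ ψ.rangeRestrict_surjective) _ ⟨g, rfl⟩ _ ⟨h, rfl⟩
  have h4 : Nat.card D ≤ 1 := by
    refine le_of_eq (AddSubgroup.card_eq_one.mpr (eq_bot_iff.mpr fun x hx => ?_))
    exact hfree a ha x hx (congrArg Subtype.val (Equiv.ext_iff.mp (hker hac) ⟨x, hx⟩))
  rw [hcard a ha hne] at h4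
  omega

end CfsgLib.HallHigman
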