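import Cfsg.Agent.Lib.HallHigman.Commutator
import Cfsg.Agent.Lib.HallHigman.SmallSupport4
import Cfsg.Agent.Lib.HallHigman.Exponent
import Cfsg.Agent.Lib.PGroup.Frattini

/-!
# The `p`-length is at most the derived length of a Sylow `p`-subgroup
-/

namespace CfsgLib.HallHigman

open Module (End)
open Cfsg CfsgLib.PCore CfsgLib.ModuleTrick
open scoped commutatorElement IsMulCommutative

universe u

variable {p : ℕ} [hp : Fact p.Prime] {X : Type*} [Group X]

/-- The derived series of a subgroup, inside the ambient group. -/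
def dSer (P : Subgroup X) (j : ℕ) : Subgroup X := (derivedSeries P j).map P.subtype

theorem dSer_zero (P : Subgroup X) : dSer P 0 = P := by
  rw [dSer, derivedSeries_zero, ← MonoidHom.range_eq_map, Subgroup.range_subtype]

theorem dSer_succ (P : Subgroup X) (j : ℕ) : dSer P (j + 1) = ⁅dSer P j, dSer P j⁆ := by
  rw [dSer, derivedSeries_succ, Subgroup.map_commutator]
  rfl

theorem map_dSer {Y : Type*} [Group Y] (f : X →* Y) (P : Subgroup X) (j : ℕ) :
    (dSer P j).map f = dSer (P.map f) j := by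
  induction j with
  | zero => rw [dSer_zero, dSer_zero]
  | succ j ih => rw [dSer_succ, dSer_succ, Subgroup.map_commutator, ih]

theorem dSer_le (P : Subgroup X) (j : ℕ) : dSer P j ≤ P := Subgroup.map_subtype_le _

theorem dSer_antitone (P : Subgroup X) : Antitone (dSer P) := fun _ _ h =>
  Subgroup.map_mono (derivedSeries_antitone _ h)

theorem conj_mem_dSer (P : Subgroup X) (j : ℕ) {g x : X} (hg : g ∈ P) (hx : x ∈ dSer P j) :
    g * x * g⁻¹ ∈ dSer P j := by
  obtain ⟨x, hx, rfl⟩ := hx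
  exact ⟨⟨g, hg⟩ * x * ⟨g, hg⟩⁻¹, (derivedSeries_normal P j).conj_mem x hx ⟨g, hg⟩, rfl⟩

variable [Finite X]

/-- In a `p`-group a proper subgroup does not cover the abelianization. -/
theorem le_of_le_sup_commutator (K S : Subgroup X) (hK : IsPGroup p K)
    (h : K ≤ ⁅K, K⁆ ⊔ (K ⊓ S)) : K ≤ S := by
  have e : (K ⊓ S).subgroupOf K ⊔ frattini K = ⊤ := by
    refine top_le_iff.mp (le_trans ?_ (sup_le_sup_left (CfsgLib.PGroup.commutator_le_frattini hK) _))
    refine (Subgroup.map_le_map_iff_of_injective K.subtype_injective).mp ?_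
    rw [← MonoidHom.range_eq_map, Subgroup.range_subtype, Subgroup.map_sup, Subgroup.subgroupOf_map_subtype,
      commutator_def, Subgroup.map_commutator, ← MonoidHom.range_eq_map, Subgroup.range_subtype, sup_comm]
    exact h.trans (sup_le_sup_left (le_inf le_rfl inf_le_left) _)
  have h1 := frattini_nongenerating e
  rw [Subgroup.subgroupOf_eq_top] at h1
  exact h1.trans inf_le_right

set_option maxHeartbeats 1600000 in
/-- The linear core: the last term of the derived series acts trivially. -/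
theorem dSer_eq_bot_of_action (hp2 : p ≠ 2) (hX : IsPSolvable p X) (h0 : pCore p X = ⊥)
    {A : Type*} [AddCommGroup A] [Finite A] (hA : ∀ a : A, p • a = 0) (ρ : X →* AddMonoid.End A)
    (hρ : Function.Injective ρ) (P : Subgroup X) (hP : IsPGroup p P) (d : ℕ) (hder : dSer P (d + 1) = ⊥)
    (Ω : ℕ → Set A) (hΩ0 : ∀ v, v ∈ Ω 0)
    (hstep : ∀ j, ∀ g ∈ dSer P j, ∀ v ∈ Ω j, ρ g v - v ∈ Ω (j + 1))
    (hlast : ∀ g ∈ dSer P d, ∀ v, ρ g v - v ∈ Ω d)
    (hfixΩ : ∀ g ∈ dSer P d, ∀ v ∈ Ω d, ρ g v = v) : dSer P d = ⊥ := by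
  classical
  by_contra hne
  have hE : (p : AddMonoid.End A) = 0 := AddMonoidHom.ext fun v => (AddMonoid.End.natCast_apply p v).trans (hA v)
  have hquad : ∀ g ∈ dSer P d, (ρ g - 1) ^ 2 = 0 := fun g hg => by
    rw [pow_two]
    refine AddMonoidHom.ext fun v => ?_
    show ρ g (ρ g v - v) - (ρ g v - v) = 0
    rw [hfixΩ g hg _ (hlast g hg v), sub_self]
  have hordp : ∀ g ∈ dSer P d, g ^ p ^ (0 + 1) = 1 := fun g hg => hρ (by
    have h1 : (ρ g - 1) ^ (p ^ (0 + 1) - 1) = 0 :=
      pow_eq_zero_of_le (by have := hp.out.two_le; rw [zero_add, pow_one]; omega) (hquad g hg)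
    rw [map_pow, map_one, ← sub_eq_zero, ← geom_sum_mul, geom_sum_eq_sub_one_pow p (0 + 1) hE, h1, zero_mul])
  obtain ⟨U, _, _, _, Φ, hΦ⟩ := exists_linear_model hA
  let K := AlgebraicClosure (ZMod p)
  have : CharP K p := charP_of_injective_algebraMap (algebraMap (ZMod p) K).injective p
  let γ : X →* End K U := Φ.toMonoidHom.comp ρ
  have hγ : Function.Injective γ := hΦ.comp hρ
  have hγmul : ∀ a b v, γ (a * b) v = γ a (γ b v) := fun a b v => by rw [map_mul]; rfl
  have hγdeg : ∀ g ∈ dSer P d, (γ g - 1) ^ (p ^ (0 + 1) - 1) = 0 := fun g hg => by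
    show (Φ (ρ g) - 1) ^ _ = 0
    rw [← map_one Φ, ← map_sub, ← map_pow,
      pow_eq_zero_of_le (by have := hp.out.two_le; rw [zero_add, pow_one]; omega) (hquad g hg), map_zero]
  set L := pPrimeCore p X with hL
  have hcop : (Nat.card P).Coprime (Nat.card L) := by
    obtain ⟨k, hk⟩ := hP.exists_card_eq
    rw [hk]
    exact Nat.Coprime.pow_left k pPrimeCore_coprime.symm
  have hnil := hP.isNilpotent
  -- an invariant Sylow subgroup of `O_{p'}` that is not centralized
  obtain ⟨q, hq, hqp, R₀, hR₀, hPR₀, hAR₀⟩ : ∃ (q : ℕ) (_ : Fact q.Prime) (_ : q ≠ p) (R₀ : Subgroup X),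
      IsPGroup q R₀ ∧ P ≤ Subgroup.normalizer (R₀ : Set X) ∧
        ¬ dSer P d ≤ Subgroup.centralizer (R₀ : Set X) := by
    by_contra hcon
    push Not at hcon
    have htop : (Subgroup.centralizer (dSer P d : Set X)).subgroupOf L = ⊤ := by
      apply CfsgLib.Fitting.eq_top_of_forall_sylow_le
      intro q hq hqd
      have := Fact.mk hq
      have hqp : q ≠ p := fun e => not_dvd_card_pPrimeCore (e ▸ hqd)
      obtain ⟨S, hS⟩ := CfsgLib.Coprime.exists_invariant_sylow P L Subgroup.le_normalizer_of_normal hcop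
        (Or.inl inferInstance) q
      exact ⟨S, fun w hw => Subgroup.mem_subgroupOf.mpr fun g hg =>
        (hcon q inferInstance hqp _ (S.2.map _) hS hg (w : X) ⟨w, hw, rfl⟩).symm⟩
    apply hne
    rw [eq_bot_iff]
    intro z hz
    have hzL := centralizer_pPrimeCore_le hX h0 (fun w hw => by
      have h1 : (⟨w, hw⟩ : L) ∈ (Subgroup.centralizer (dSer P d : Set X)).subgroupOf L := htop ▸ Subgroup.mem_top _
      exact (Subgroup.mem_subgroupOf.mp h1 z hz).symm : z ∈ Subgroup.centralizer (L : Set X))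
    have h1 : orderOf z ∣ Nat.card P := Subgroup.orderOf_mk z (dSer_le P d hz) ▸ orderOf_dvd_natCard _
    have h2 : orderOf z ∣ Nat.card L := Subgroup.orderOf_mk z hzL ▸ orderOf_dvd_natCard _
    exact orderOf_eq_one_iff.mp (Nat.eq_one_of_dvd_coprimes hcop h1 h2)
  -- `p = 3`
  obtain rfl : p = 3 := by
    obtain ⟨a, ha, hac⟩ := SetLike.not_le_iff_exists.mp hAR₀
    have hB := degree_bound (K := K) (p := p) γ a 0 (hordp a ha) hqp R₀ hR₀ (hPR₀ (dSer_le P d ha)) (by
      by_contra hall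
      push Not at hall
      refine hac fun r hr => hγ ?_
      simpa using hall r hr)
    have h2 : (γ a - 1) ^ 2 = 0 := by
      show (Φ (ρ a) - 1) ^ 2 = 0
      rw [← map_one Φ, ← map_sub, ← map_pow, hquad a ha, map_zero]
    have h3 := hp.out.two_le
    rcases hB with hB | ⟨n₀, e, h4, h5, -, -, -, h6⟩
    · exact absurd h2 (hB 2 (by rw [zero_add, pow_one]; omega))
    · obtain rfl : n₀ = 1 := by omega
      by_contra hp3
      exact h6 2 (by simp; omega) h2
  -- a minimal subgroup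
  obtain ⟨R, hRR₀, ⟨hPR, hAR⟩, hRmin⟩ := Finite.exists_le_minimal
    (p := fun R : Subgroup X => P ≤ Subgroup.normalizer (R : Set X) ∧
      ¬ dSer P d ≤ Subgroup.centralizer (R : Set X)) (a := R₀) ⟨hPR₀, hAR₀⟩
  have hR : IsPGroup q R := hR₀.to_le hRR₀
  have hna : ¬ ∀ a ∈ R, ∀ b ∈ R, a * b = b * a := by
    intro hab
    refine hAR fun a ha r hr => hγ ?_
    have h1 := commute_of_degree_lt γ a 0 (hordp a ha) (hγdeg a ha) hqp R hR (hPR (dSer_le P d ha))
      (fun a ha b hb => by rw [← map_mul, ← map_mul, hab a ha b hb]) r hr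
    simpa using h1
  have hPA : P ≤ Subgroup.normalizer (dSer P d : Set X) := fun g hg =>
    mem_normalizer_map_conj.mpr fun a ha => conj_mem_dSer P d hg ha
  obtain ⟨hcl, hAZ, hPZ, hRA⟩ := minimal_structure_normal hqp P (dSer P d) (dSer_le P d) hPA
    (hP.to_le (dSer_le P d)) R hR hPR hAR
    (fun S hS hPS => by_contra fun h => hS.not_ge (hRmin ⟨hPS, h⟩ hS.le)) hna
  obtain ⟨χ, T, hZT, hTR, hTiff, hW⟩ := exists_central_character γ hγ hqp R hR hcl hna
  set Z := R ⊓ Subgroup.centralizer (R : Set X) with hZdef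
  set Wχ := charSpace γ Z χ with hWχ
  obtain ⟨u₀, hu₀W, hu₀⟩ := Wχ.ne_bot_iff.mp hW
  -- the stabilizer of `χ`
  let H : Subgroup X :=
    { carrier := {g | g ∈ P ∧ ∀ w ∈ Z, χ (g * w * g⁻¹) = χ w}
      one_mem' := ⟨P.one_mem, fun w _ => by simp⟩
      mul_mem' := fun {a b} ha hb => ⟨P.mul_mem ha.1 hb.1, fun w hw => by
        rw [show a * b * w * (a * b)⁻¹ = a * (b * w * b⁻¹) * a⁻¹ by group,
          ha.2 _ ((Subgroup.mem_normalizer_iff.mp (hPZ hb.1) w).mp hw), hb.2 w hw]⟩
      inv_mem' := fun {a} ha => ⟨P.inv_mem ha.1, fun w hw => by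
        have h1 : a⁻¹ * w * a⁻¹⁻¹ ∈ Z :=
          (Subgroup.mem_normalizer_iff.mp (hPZ (P.inv_mem ha.1)) w).mp hw
        have h2 := ha.2 _ h1
        rw [show a * (a⁻¹ * w * a⁻¹⁻¹) * a⁻¹ = w by group] at h2
        exact h2.symm⟩ }
  have hHP : H ≤ P := fun g hg => hg.1
  have hAH : dSer P d ≤ H := fun a ha => ⟨dSer_le P d ha, fun w hw => by
    rw [← hAZ ha w hw, mul_inv_cancel_right]⟩
  have hHR : ∀ g ∈ H, ∀ r ∈ R, g * r * g⁻¹ ∈ R := fun g hg r hr =>
    (Subgroup.mem_normalizer_iff.mp (hPR hg.1) r).mp hr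
  have hHT : ∀ g ∈ H, ∀ t ∈ T, g * t * g⁻¹ ∈ T := fun g hg =>
    mem_radical_conj hcl hTR.le hTiff (hPR hg.1) hg.2
  -- an element moving `R ⧸ T`
  obtain ⟨a, ha, hmove⟩ : ∃ a ∈ dSer P d, ¬ ∀ r ∈ R, r⁻¹ * (a * r * a⁻¹) ∈ T := by
    by_contra hcon
    push Not at hcon
    refine hTR.not_ge (hRA.ge.trans (Subgroup.commutator_le.mpr fun r hr g hg => ?_))
    have := hcon g hg r⁻¹ (R.inv_mem hr)
    simpa [commutatorElement_def, mul_assoc] using this
  have hTn : (T.subgroupOf R).Normal := ⟨fun t ht g => by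
    rw [Subgroup.mem_subgroupOf] at ht ⊢
    have h1 : ⁅(g : X), (t : X)⁆ ∈ T := hZT (hcl _ g.2 _ t.2)
    have := T.mul_mem h1 ht
    simpa [commutatorElement_def, mul_assoc] using this⟩
  -- it is not a commutator in the stabilizer
  have hanot : (⟨a, hAH ha⟩ : H) ∉ commutator H := by
    let act := conjQuotAct R T H hHR hHT
    let : CommGroup (R ⧸ T.subgroupOf R) :=
      { (inferInstance : Group (R ⧸ T.subgroupOf R)) with
        mul_comm := fun a b => QuotientGroup.induction_on a fun a => QuotientGroup.induction_on b fun b => by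
          rw [← QuotientGroup.mk_mul, ← QuotientGroup.mk_mul, QuotientGroup.eq, Subgroup.mem_subgroupOf]
          have := hZT (hcl _ (R.inv_mem b.2) _ (R.inv_mem a.2))
          simpa [commutatorElement_def, mul_assoc] using this }
    let actA : H →* AddMonoid.End (Additive (R ⧸ T.subgroupOf R)) :=
      { toFun := fun g => MonoidHom.toAdditive (act g)
        map_one' := by rw [map_one]; rfl
        map_mul' := fun a b => by rw [map_mul]; rfl }
    let φ := actA.toHomUnits
    have hfix : ∀ (g : H) (r : R), ((φ g : (AddMonoid.End (Additive (R ⧸ T.subgroupOf R)))ˣ) :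
        AddMonoid.End (Additive (R ⧸ T.subgroupOf R))) (Additive.ofMul (r : R ⧸ T.subgroupOf R)) =
          Additive.ofMul (r : R ⧸ T.subgroupOf R) ↔ (r : X)⁻¹ * (g * r * (g : X)⁻¹) ∈ T := fun g r =>
      conjQuotAct_fixed R T H hHR hHT g r
    have : ((dSer P d).subgroupOf H).Normal := ⟨fun x hx g => Subgroup.mem_subgroupOf.mpr
      (conj_mem_dSer P d (hHP g.2) (Subgroup.mem_subgroupOf.mp hx))⟩
    refine notMem_commutator_of_small ?_ (hP.to_le hHP) φ ((dSer P d).subgroupOf H) ?_ ?_ ?_ _ ha ?_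
    · obtain ⟨k, hk⟩ := hR.exists_card_eq
      refine Nat.Coprime.coprime_dvd_left ?_ (Nat.Coprime.pow_left k
        ((Nat.coprime_primes Fact.out hp.out).mpr hqp))
      rw [← hk]
      exact Subgroup.card_quotient_dvd_card _
    · intro x hx y hy
      rw [← map_mul, ← map_mul]
      refine congrArg φ (Subtype.ext ?_)
      have h1 : ⁅(x : X), (y : X)⁆ ∈ dSer P (d + 1) := by
        rw [dSer_succ]; exact Subgroup.commutator_mem_commutator hx hy
      rw [hder, Subgroup.mem_bot, commutatorElement_eq_one_iff_mul_comm] at h1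
      exact h1
    · intro x hx
      rw [← map_pow, ← map_one φ]
      exact congrArg φ (Subtype.ext (by simpa using hordp x hx))
    · intro x hx
      by_cases hmv : ∀ r ∈ R, r⁻¹ * ((x : X) * r * (x : X)⁻¹) ∈ T
      · refine Or.inl (Units.ext (AddMonoidHom.ext fun v => ?_))
        induction v using Additive.rec with
        | ofMul v =>
          induction v using QuotientGroup.induction_on with
          | H r => exact (hfix x r).mpr (hmv r r.2)
      · obtain ⟨n, τ, N, hn, -, -, hτy, -, hN, hidx⟩ :=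
          exists_small_support γ hγ hqp R T hR χ hcl hZT hTR.le hTiff hW (x : X) 0 (hordp x hx) (hγdeg x hx)
            (hPR (hHP x.2)) (by simpa using hmv)
        obtain rfl : n = 0 := by omega
        obtain rfl : N = 2 := by simp at hN; omega
        refine Or.inr ?_
        set F := fixedBy ((φ x : (AddMonoid.End (Additive (R ⧸ T.subgroupOf R)))ˣ) :
          AddMonoid.End (Additive (R ⧸ T.subgroupOf R))) with hF
        have h1 := hidx (((AddSubgroup.toSubgroup' F).comap (QuotientGroup.mk' (T.subgroupOf R))).map R.subtype) (fun r hr => by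
          rw [pow_zero, pow_one]
          constructor
          · rintro ⟨r', hr', rfl⟩
            exact ⟨r'.2, (hfix x r').mp hr'⟩
          · rintro ⟨-, hrT⟩
            exact ⟨⟨r, hr⟩, (hfix x ⟨r, hr⟩).mpr hrT, rfl⟩)
        rw [Subgroup.relIndex, ← Subgroup.comap_subtype,
          Subgroup.comap_map_eq_self_of_injective R.subtype_injective,
          Subgroup.index_comap_of_surjective _ (QuotientGroup.mk'_surjective _)] at h1
        exact h1
    · intro h
      exact hmove fun r hr => (hfix ⟨a, hAH ha⟩ ⟨r, hr⟩).mp (by rw [h]; rfl)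
  -- hence every earlier term of the derived series moves `χ`
  have hnotS : ∀ j, j < d → ¬ dSer P j ≤ H := by
    intro j hj hle
    apply hanot
    have h1 : a ∈ (commutator H).map H.subtype := by
      have h2 : dSer P (j + 1) ≤ ⁅H, H⁆ := by
        rw [dSer_succ]; exact Subgroup.commutator_mono hle hle
      rw [commutator_def, Subgroup.map_commutator, ← MonoidHom.range_eq_map, Subgroup.range_subtype]
      exact h2 (dSer_antitone P hj ha)
    obtain ⟨b, hb, hba⟩ := h1
    rwa [show b = (⟨a, hAH ha⟩ : H) from Subtype.ext hba] at hb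
  let F : Submodule K U := Submodule.span K {v | ∃ h ∈ P, h ∉ H ∧ ∃ w ∈ Wχ, v = γ h w}
  have hFmem : ∀ h ∈ P, h ∉ H → ∀ w ∈ Wχ, γ h w ∈ F := fun h hh hhH w hw =>
    Submodule.subset_span ⟨h, hh, hhH, w, hw, rfl⟩
  have key : ∀ k j, j + k = d → ∃ D : AddMonoid.End A, (∀ v ∈ Ω j, ρ a (D v) = D v) ∧
      (∀ u : U, (∀ h ∈ dSer P j, γ h u ∈ F) → Φ D u ∈ F) ∧
      ∃ ε : K, ε ≠ 0 ∧ ∀ w ∈ Wχ, Φ D w - ε • w ∈ F := by
    intro k
    induction k with
    | zero =>
      intro j hj
      rw [add_zero] at hj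
      refine ⟨1, fun v hv => hfixΩ a ha v (hj ▸ hv), fun u hu => ?_, 1, one_ne_zero, fun w _ => ?_⟩
      · have := hu 1 (one_mem _)
        rwa [map_one] at this ⊢
      · simp
    | succ k ih =>
      intro j hj
      obtain ⟨D, hD1, hD2, ε, hε, hD3⟩ := ih (j + 1) (by omega)
      obtain ⟨g, hg, hgn⟩ : ∃ g ∈ dSer P j, g ∉ dSer P (j + 1) ⊔ (dSer P j ⊓ H) :=
        SetLike.not_le_iff_exists.mp fun h => hnotS j (by omega)
          (le_of_le_sup_commutator _ _ (hP.to_le (dSer_le P j)) (dSer_succ P j ▸ h))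
      refine ⟨D * (ρ g - 1), fun v hv => hD1 _ (hstep j g hg v hv), fun u hu => ?_, -ε, neg_ne_zero.mpr hε,
        fun w hw => ?_⟩
      · rw [map_mul, map_sub, map_one, Module.End.mul_apply]
        refine (map_sub (Φ D) _ _) ▸ F.sub_mem (hD2 _ fun h hh => ?_) (hD2 _ fun h hh => hu h ?_)
        · rw [show Φ (ρ g) u = γ g u from rfl, ← hγmul]
          exact hu _ (Subgroup.mul_mem _ (dSer_antitone P (Nat.le_succ j) hh) hg)
        · exact dSer_antitone P (Nat.le_succ j) hh
      · have h1 : Φ D (γ g w) ∈ F := hD2 _ fun h hh => by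
          rw [← hγmul]
          refine hFmem _ (P.mul_mem (dSer_le P _ hh) (dSer_le P j hg)) (fun hH => hgn ?_) w hw
          rw [show g = h⁻¹ * (h * g) by group]
          exact Subgroup.mul_mem _ (Subgroup.mem_sup_left (Subgroup.inv_mem _ hh)) (Subgroup.mem_sup_right
            ⟨Subgroup.mul_mem _ (dSer_antitone P (Nat.le_succ j) hh) hg, hH⟩)
        rw [map_mul, map_sub, map_one, Module.End.mul_apply, LinearMap.sub_apply, Module.End.one_apply, map_sub,
          show Φ D (Φ (ρ g) w) - Φ D w - -ε • w = Φ D (γ g w) - (Φ D w - ε • w) by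
            show Φ D (γ g w) - Φ D w - -ε • w = _
            rw [neg_smul]; abel]
        exact F.sub_mem h1 (hD3 w hw)
  obtain ⟨D, hD1, -, ε, hε, hD3⟩ := key d 0 (zero_add d)
  have hγaD : ∀ u, γ a (Φ D u) = Φ D u := fun u => by
    show (Φ (ρ a) * Φ D) u = _
    rw [← map_mul, show ρ a * D = D from AddMonoidHom.ext fun v => hD1 v (hΩ0 v)]
  have haW : ∀ w ∈ Wχ, γ a w ∈ Wχ := charSpace_map_mem γ fun z hz => by
    rw [mul_assoc, hAZ ha z hz, inv_mul_cancel_left]
    exact ⟨hz, rfl⟩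
  have haF : ∀ v ∈ F, γ a v ∈ F := fun v hv => by
    induction hv using Submodule.span_induction with
    | mem v hv =>
      obtain ⟨h, hh, hhH, w, hw, rfl⟩ := hv
      have h1 : h⁻¹ * a * h⁻¹⁻¹ ∈ dSer P d := conj_mem_dSer P d (P.inv_mem hh) ha
      rw [← hγmul, show a * h = h * (h⁻¹ * a * h⁻¹⁻¹) by group, hγmul]
      refine hFmem h hh hhH _ ?_
      refine charSpace_map_mem γ (fun z hz => ?_) w hw
      rw [mul_assoc, hAZ h1 z hz, inv_mul_cancel_left]
      exact ⟨hz, rfl⟩
    | zero => rw [map_zero]; exact F.zero_mem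
    | add x y _ _ hx hy => rw [map_add]; exact F.add_mem hx hy
    | smul c x _ hx => rw [map_smul]; exact F.smul_mem c hx
  have hdisj : ∀ w ∈ Wχ, w ∈ F → w = 0 := by
    intro w hw hwF
    have := Fintype.ofFinite Z
    let P0 : End K U := ∑ z : Z, (χ z)⁻¹ • γ z
    have hχ0 : ∀ z ∈ Z, χ z ≠ 0 := fun z hz h => hu₀ (by
      have h1 := hu₀W z hz
      rw [h, zero_smul] at h1
      have h2 := congrArg (γ z⁻¹) h1
      rwa [← hγmul, inv_mul_cancel, map_one, Module.End.one_apply, map_zero] at h2)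
    have hχmul : ∀ z ∈ Z, ∀ z' ∈ Z, χ (z * z') = χ z * χ z' := fun z hz z' hz' => by
      have h1 := hu₀W _ (Z.mul_mem hz hz')
      rw [hγmul, hu₀W z' hz', map_smul, hu₀W z hz, smul_smul] at h1
      have h2 : (χ z' * χ z - χ (z * z')) • u₀ = 0 := by rw [sub_smul, h1, sub_self]
      rw [← sub_eq_zero.mp ((smul_eq_zero.mp h2).resolve_right hu₀), mul_comm]
    have hχ1 : χ 1 = 1 := by
      have h1 := hu₀W 1 (one_mem _)
      rw [map_one, Module.End.one_apply] at h1
      have h2 : (χ 1 - 1) • u₀ = 0 := by rw [sub_smul, ← h1, one_smul, sub_self]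
      exact sub_eq_zero.mp ((smul_eq_zero.mp h2).resolve_right hu₀)
    have hker : F ≤ LinearMap.ker P0 := by
      rw [Submodule.span_le]
      rintro _ ⟨h, hh, hhH, v, hv, rfl⟩
      have hconj : ∀ z ∈ Z, h⁻¹ * z * h ∈ Z := fun z hz =>
        (Subgroup.mem_normalizer_iff''.mp (hPZ hh) z).mp hz
      let ψ : Z →* K :=
        { toFun := fun z => (χ z)⁻¹ * χ (h⁻¹ * z * h)
          map_one' := by simp [hχ1]
          map_mul' := fun z z' => by
            simp only [Subgroup.coe_mul]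
            rw [show h⁻¹ * ((z : X) * z') * h = h⁻¹ * z * h * (h⁻¹ * z' * h) by group,
              hχmul _ (hconj z z.2) _ (hconj z' z'.2), hχmul z z.2 z' z'.2, mul_inv]
            ring }
      have hψ : ψ ≠ 1 := by
        intro e
        refine hhH ⟨hh, fun w hw => ?_⟩
        have h1 : h * w * h⁻¹ ∈ Z := (Subgroup.mem_normalizer_iff.mp (hPZ hh) w).mp hw
        have h2 := DFunLike.congr_fun e ⟨_, h1⟩
        rw [show ψ ⟨_, h1⟩ = (χ (h * w * h⁻¹))⁻¹ * χ (h⁻¹ * (h * w * h⁻¹) * h) from rfl,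
          show h⁻¹ * (h * w * h⁻¹) * h = w by group, MonoidHom.one_apply,
          inv_mul_eq_one₀ (hχ0 _ h1)] at h2
        exact h2
      show P0 (γ h v) = 0
      have e : ∀ z : Z, ((χ z)⁻¹ • γ z : End K U) (γ h v) = ψ z • γ h v := fun z => by
        rw [LinearMap.smul_apply, ← hγmul, show (z : X) * h = h * (h⁻¹ * z * h) by group, hγmul,
          hv _ (hconj z z.2), map_smul, smul_smul]
        rfl
      rw [LinearMap.sum_apply, Finset.sum_congr rfl fun z _ => e z, ← Finset.sum_smul,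
        sum_hom_units_eq_zero ψ hψ, zero_smul]
    have h1 : P0 w = (Fintype.card Z : K) • w := by
      rw [LinearMap.sum_apply, Finset.sum_congr rfl fun (z : Z) _ =>
        show ((χ (z : X))⁻¹ • γ (z : X) : End K U) w = w by
          rw [LinearMap.smul_apply, hw z z.2, smul_smul, inv_mul_cancel₀ (hχ0 z z.2), one_smul],
        Finset.sum_const, Finset.card_univ, Nat.cast_smul_eq_nsmul]
    rw [LinearMap.mem_ker.mp (hker hwF)] at h1
    refine (smul_eq_zero.mp h1.symm).resolve_left fun h2 => ?_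
    rw [CharP.cast_eq_zero_iff K 3, ← Nat.card_eq_fintype_card] at h2
    obtain ⟨k, hk⟩ := (hR.to_le (inf_le_left : Z ≤ R)).exists_card_eq
    rw [hk] at h2
    exact hqp ((Nat.prime_dvd_prime_iff_eq hp.out Fact.out).mp (hp.out.dvd_of_dvd_pow h2)).symm
  -- `a` is trivial on the eigenspace, so it does not move `R ⧸ T`
  have htriv : ∀ w ∈ Wχ, γ a w = w := by
    intro w hw
    refine sub_eq_zero.mp (hdisj _ (sub_mem (haW w hw) hw) ?_)
    have h1 := F.sub_mem (haF _ (hD3 w hw)) (hD3 w hw)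
    rw [map_sub, hγaD, map_smul, show Φ D w - ε • γ a w - (Φ D w - ε • w) = -ε • (γ a w - w) by
      rw [smul_sub, neg_smul, neg_smul]; abel] at h1
    exact (F.smul_mem_iff (neg_ne_zero.mpr hε)).mp h1
  refine hmove fun r hr => ?_
  have hc : r⁻¹ * (a * r * a⁻¹) ∈ R := R.mul_mem (R.inv_mem hr) (hHR a (hAH ha) r hr)
  have hRW : ∀ g ∈ R, ∀ w ∈ Wχ, γ g w ∈ Wχ := fun g hg => charSpace_map_mem γ fun z hz => by
    rw [mul_assoc, ← hz.2 g hg, inv_mul_cancel_left]
    exact ⟨hz, rfl⟩
  have hainv : ∀ w ∈ Wχ, γ a⁻¹ w = w := fun w hw => by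
    conv_lhs => rw [← htriv w hw]
    rw [← hγmul, inv_mul_cancel, map_one, Module.End.one_apply]
  have hcW : ∀ w ∈ Wχ, γ (r⁻¹ * (a * r * a⁻¹)) w = w := fun w hw => by
    rw [hγmul, hγmul, hγmul, hainv w hw, htriv _ (hRW r hr w hw), ← hγmul, inv_mul_cancel, map_one,
      Module.End.one_apply]
  refine (hTiff _ hc).mpr fun h hh => ?_
  set c := r⁻¹ * (a * r * a⁻¹) with hcdef
  have hcinv : ∀ w ∈ Wχ, γ c⁻¹ w = w := fun w hw => by
    conv_lhs => rw [← hcW w hw]
    rw [← hγmul, inv_mul_cancel, map_one, Module.End.one_apply]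
  have h1 := hu₀W _ (hcl c hc h hh)
  have hu : γ h⁻¹ u₀ ∈ Wχ := hRW _ (R.inv_mem hh) _ hu₀W
  rw [commutatorElement_def, hγmul, hγmul, hγmul, hcinv _ hu, ← hγmul h, mul_inv_cancel, map_one,
    Module.End.one_apply, hcW _ hu₀W] at h1
  rw [commutatorElement_def]
  have h2 : (χ (c * h * c⁻¹ * h⁻¹) - 1) • u₀ = 0 := by rw [sub_smul, ← h1, one_smul, sub_self]
  exact sub_eq_zero.mp ((smul_eq_zero.mp h2).resolve_right hu₀)

/-- With trivial `O_{p'}`, the last nontrivial term of the derived series of a Sylow subgroup lies in `O_p`. -/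
theorem dSer_le_pCore {H : Type*} [Group H] [Finite H] (hp2 : p ≠ 2) (hH : IsPSolvable p H)
    (h0 : pPrimeCore p H = ⊥) (d : ℕ) (P : Sylow p H) (hder : dSer (P : Subgroup H) (d + 1) = ⊥) :
    dSer (P : Subgroup H) d ≤ pCore p H := by
  obtain ⟨hcomm, hpow, hcen⟩ := frattini_quotient_props hH h0
  set f1 := QuotientGroup.mk' (frattiniCore p H) with hf1
  set W := (pCore p H).map f1 with hW
  have hVn : (pCore p H).Normal := CfsgLib.Fitting.pCore_normal p
  have : W.Normal := Subgroup.Normal.map inferInstance f1 (QuotientGroup.mk'_surjective _)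
  have : IsMulCommutative W := ⟨⟨fun a b => Subtype.ext (hcomm a a.2 b b.2)⟩⟩
  let c := (conjEnd W).comp f1
  have hker : c.ker = pCore p H := by
    rw [← MonoidHom.comap_ker, conjEnd_ker, hcen, hW, Subgroup.comap_map_eq, hf1, QuotientGroup.ker_mk',
      sup_eq_left]
    exact frattiniCore_le p H
  let ρ : H ⧸ pCore p H →* AddMonoid.End (Additive W) := QuotientGroup.lift (pCore p H) c hker.ge
  have hρ : Function.Injective ρ := by
    rw [injective_iff_map_eq_one]
    intro a
    induction a using QuotientGroup.induction_on with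
    | H a => exact fun h => (QuotientGroup.eq_one_iff a).mpr (hker.le h)
  have hA : ∀ a : Additive W, p • a = 0 := fun a => by
    apply Additive.toMul.injective
    apply Subtype.ext
    rw [toMul_nsmul, Subgroup.coe_pow]
    exact hpow _ (Additive.toMul a).2
  have hconj : ∀ (g v : H) (w : Additive W), ((Additive.toMul w : W) : H ⧸ frattiniCore p H) = f1 v →
      ((Additive.toMul (ρ (g : H ⧸ pCore p H) w - w) : W) : H ⧸ frattiniCore p H) = f1 ⁅g, v⁆ := by
    intro g v w hw
    rw [toMul_sub, Subgroup.coe_div]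
    show ((Additive.toMul (conjEnd W (f1 g) w) : W) : H ⧸ frattiniCore p H) / _ = _
    rw [conjEnd_apply, hw, commutatorElement_def, div_eq_mul_inv]
    simp only [map_mul, map_inv]
  have h := dSer_eq_bot_of_action hp2 (isPSolvable_quotient hH _) pCore_quotient_pCore hA ρ hρ
    ((P : Subgroup H).map (QuotientGroup.mk' _)) (P.2.map _) d
    (by rw [← map_dSer, hder, Subgroup.map_bot])
    (fun j => {w | ∃ v ∈ pCore p H, v ∈ dSer (P : Subgroup H) j ∧
      ((Additive.toMul w : W) : H ⧸ frattiniCore p H) = f1 v}) ?_ ?_ ?_ ?_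
  · rwa [← map_dSer, Subgroup.map_eq_bot_iff, QuotientGroup.ker_mk'] at h
  · intro w
    obtain ⟨v, hv, hvw⟩ := (Additive.toMul w : W).2
    exact ⟨v, hv, (dSer_zero _).ge (pCore_le_sylow P hv), hvw.symm⟩
  · intro j g hg w ⟨v, hv, hvj, hvw⟩
    rw [← map_dSer] at hg
    obtain ⟨g, hg, rfl⟩ := hg
    refine ⟨⁅g, v⁆, ?_, ?_, hconj g v w hvw⟩
    · rw [commutatorElement_def]; exact Subgroup.mul_mem _ (hVn.conj_mem v hv g) (Subgroup.inv_mem _ hv)
    · rw [dSer_succ]; exact Subgroup.commutator_mem_commutator hg hvj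
  · intro g hg w
    rw [← map_dSer] at hg
    obtain ⟨g, hg, rfl⟩ := hg
    obtain ⟨v, hv, hvw⟩ := (Additive.toMul w : W).2
    refine ⟨⁅g, v⁆, ?_, ?_, hconj g v w hvw.symm⟩
    · rw [commutatorElement_def]; exact Subgroup.mul_mem _ (hVn.conj_mem v hv g) (Subgroup.inv_mem _ hv)
    · rw [commutatorElement_def, show g * v * g⁻¹ * v⁻¹ = g * (v * g⁻¹ * v⁻¹) by group]
      exact Subgroup.mul_mem _ hg (conj_mem_dSer _ d (pCore_le_sylow P hv) (Subgroup.inv_mem _ hg))
  · intro g hg w ⟨v, hv, hvd, hvw⟩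
    rw [← map_dSer] at hg
    obtain ⟨g, hg, rfl⟩ := hg
    refine sub_eq_zero.mp (Additive.toMul.injective (Subtype.ext ?_))
    rw [QuotientGroup.mk'_apply, hconj g v w hvw]
    have h1 : ⁅g, v⁆ ∈ dSer (P : Subgroup H) (d + 1) := by
      rw [dSer_succ]; exact Subgroup.commutator_mem_commutator hg hvd
    rw [hder, Subgroup.mem_bot] at h1
    rw [h1, map_one]
    rfl

/-- The `p`-length is at most the derived length of the Sylow `p`-subgroups. -/
theorem pLengthLE_of_derivedLength (hp2 : p ≠ 2) (d : ℕ) : ∀ (G : Type u) [Group G] [Finite G],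
    IsPSolvable p G → (∀ P : Sylow p G, dSer (P : Subgroup G) d = ⊥) → PLengthLE p d G := by
  induction d with
  | zero =>
    intro G _ _ hG hd
    refine pLengthLE_of_exponent 0 G hG (fun ⟨q, n₀, e, _, h1, h2, _⟩ => by omega) fun P x hx => ?_
    have h1 : x ∈ dSer (P : Subgroup G) 0 := (dSer_zero _).ge hx
    rw [hd P, Subgroup.mem_bot] at h1
    rw [h1, one_pow]
  | succ d ih =>
    intro G _ _ hG hd
    refine pLengthLE_of_coprime_kernel (pPrimeCore p G) pPrimeCore_coprime ?_
    have hH : IsPSolvable p (G ⧸ pPrimeCore p G) := isPSolvable_quotient hG _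
    have hdH : ∀ P : Sylow p (G ⧸ pPrimeCore p G), dSer (P : Subgroup (G ⧸ pPrimeCore p G)) (d + 1) = ⊥ := by
      intro P
      obtain ⟨Q, hQ⟩ := exists_sylow_eq_map _ (QuotientGroup.mk'_surjective _) P
      rw [hQ, ← map_dSer, hd Q, Subgroup.map_bot]
    have h0 : pPrimeCore p (G ⧸ pPrimeCore p G) = ⊥ := pPrimeCore_quotient_eq_bot
    set H := G ⧸ pPrimeCore p G
    have : (pCore p H).Normal := CfsgLib.Fitting.pCore_normal p
    refine pLengthLE_succ_of_pGroup_kernel (pCore p H) pCore_isPGroup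
      (ih (H ⧸ pCore p H) (isPSolvable_quotient hH _) fun Q => ?_)
    obtain ⟨R, hR⟩ := exists_sylow_eq_map _ (QuotientGroup.mk'_surjective (pCore p H)) Q
    rw [hR, ← map_dSer, Subgroup.map_eq_bot_iff, QuotientGroup.ker_mk']
    exact dSer_le_pCore hp2 hH h0 d R (hdH R)

end CfsgLib.HallHigman
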