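import Cfsg.Agent.Lib.HallHigman.DerivedLevelTwo

/-!
# No central involution deep in the derived series kills the chains

On an irreducible `q`-group of class two the derived series of the operators stops as soon as possible.
-/

namespace CfsgLib.HallHigman

open Module (End finrank)
open scoped commutatorElement

universe u w

variable {k : Type w} [Field k] [IsAlgClosed k] [CharP k 2]

set_option maxHeartbeats 1600000 in
/-- An involution of level `r ≥ 2` central in `K` does not annihilate all chains of length `r`. -/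
theorem false_of_level (n : ℕ) : ∀ {X V : Type u} [Group X] [Finite X] [AddCommGroup V] [Module k V]
    [FiniteDimensional k V] (γ : X →* End k V) {q : ℕ} {C K : Subgroup X}, finrank k V = n →
    IrrData γ q C K → ∀ (r : ℕ) (a : X), 2 ≤ r → a ∈ dSer K r → a * a = 1 → a ≠ 1 →
    (∀ g ∈ K, g * a = a * g) →
    (∀ l : List X, IsDerChain K l → l.length = r → (γ a - 1) * opsProd γ l = 0) → False := by
  induction n using Nat.strong_induction_on with
  | h n ih =>
  intro X V _ _ _ _ _ γ q C K hn D r a hr ha haa ha1 hac hkill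
  have := Fact.mk D.prime
  have := Fact.mk Nat.prime_two
  have haK := dSer_le K r ha
  -- lowering the dimension
  have descend : ∀ (M : Submodule k V) (C₁ K₁ : Subgroup X) (r₁ : ℕ), 2 ≤ r₁ →
      finrank k M < finrank k V → IrrData (imgRep γ M) q (imgSub γ M C₁) (imgSub γ M K₁) →
      ∀ (hK₁ : K₁ ≤ stabSub γ M) (_ : K₁ ≤ K) (ha₁ : a ∈ dSer K₁ r₁),
      (¬ ∀ w ∈ M, γ a w = w) →
      (∀ l : List X, IsDerChain K₁ l → l.length = r₁ → ∀ w ∈ M, (γ a - 1) (opsProd γ l w) = 0) → False := by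
    intro M C₁ K₁ r₁ hr₁ hlt D₁ hK₁ hK₁K ha₁ hne hk
    have haM := hK₁ (dSer_le K₁ r₁ ha₁)
    refine ih _ (hn ▸ hlt) (imgRep γ M) rfl D₁ r₁ (imgHom γ M ⟨a, haM⟩) hr₁ ?_ ?_ ?_ ?_ ?_
    · rw [dSer_imgSub γ M hK₁]
      exact imgHom_mem γ M ha₁ haM
    · rw [← map_mul, ← map_one (imgHom γ M)]
      exact congrArg _ (Subtype.ext haa)
    · exact fun h => hne ((imgHom_eq_one_iff γ M _).mp h)
    · intro g' hg'
      obtain ⟨g, hg, rfl⟩ := (mem_imgSub γ M).mp hg'
      rw [← map_mul, ← map_mul]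
      exact congrArg _ (Subtype.ext (hac g (hK₁K hg)))
    · intro l hl hll
      obtain ⟨l', hl', hlen, hop⟩ := exists_chain_lift γ hK₁ hl
      refine LinearMap.ext fun w => Subtype.ext ?_
      rw [Module.End.mul_apply, LinearMap.sub_apply, Module.End.one_apply, Submodule.coe_sub, imgRep_apply, hop w]
      exact hk l' hl' (hlen.trans hll) w w.2
  -- every central involution inverts everything
  have hinv : ∀ y ∈ K, y * y = 1 → y ≠ 1 → (∀ g ∈ K, g * y = y * g) → C ≤ negSub D.cl y := by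
    intro y hy hyy hy1 hyc
    refine D.le_negSub hy hyy ?_
    by_contra hpos
    have hnorm₁ : K ≤ Subgroup.normalizer (posSub C y : Set X) := fun g hg => mem_normalizer_map_conj.mpr
      fun c hc => mem_posSub.mpr ⟨D.conj_mem hg hc.1, by
        calc g * c * g⁻¹ * y = g * c * (g⁻¹ * y) := by group
          _ = g * c * (y * g⁻¹) := by rw [hyc g⁻¹ (inv_mem hg)]
          _ = g * (c * y) * g⁻¹ := by group
          _ = (g * y) * c * g⁻¹ := by rw [(mem_posSub.mp hc).2]; group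
          _ = y * (g * c * g⁻¹) := by rw [hyc g hg]; group⟩
    have hnorm₂ : K ≤ Subgroup.normalizer (negSub D.cl y : Set X) := fun g hg => mem_normalizer_map_conj.mpr
      fun c hc => ⟨D.conj_mem hg hc.1, by
        have e : y * (g * c * g⁻¹) * y⁻¹ * (g * c * g⁻¹) = g * (y * c * y⁻¹ * c) * g⁻¹ := by
          calc y * (g * c * g⁻¹) * y⁻¹ * (g * c * g⁻¹) = (y * g) * c * (y * g)⁻¹ * (g * c * g⁻¹) := by group
            _ = (g * y) * c * (g * y)⁻¹ * (g * c * g⁻¹) := by rw [hyc g hg]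
            _ = _ := by group
        rw [e, D.central hc.2 g, mul_inv_cancel_right]
        exact hc.2⟩
    have htopC : C ≤ stabSub γ (⊤ : Submodule k V) := fun _ _ _ _ => Submodule.mem_top
    have htopK : K ≤ stabSub γ (⊤ : Submodule k V) := fun _ _ _ _ => Submodule.mem_top
    have := D.nt
    have hfin : ∀ (C₁ C₂ : Subgroup X), C₁ ≤ C → C₂ ≤ C → (∀ u ∈ C₁, ∀ v ∈ C₂, u * v = v * u) →
        (∀ c ∈ C, ∃ u ∈ C₁, ∃ v ∈ C₂, u * v = c) → ¬ C₂ ≤ centreOf C →
        K ≤ Subgroup.normalizer (C₁ : Set X) → (∃ c ∈ C₁, c * a ≠ a * c) → False := by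
      intro C₁ C₂ h₁ h₂ hc hs hC₂ hn₁ hmove
      obtain ⟨M, -, -, hCM, hKM, hlt, -, D₁, hf⟩ := D.exists_reduction h₁ h₂ hc hs hC₂ le_rfl hn₁ top_ne_bot
        (h₁.trans htopC) htopK
      refine descend M C₁ K r hr hlt D₁ hKM le_rfl ha (fun h => ?_) fun l hl hll w _ => ?_
      · obtain ⟨c, hc, hne⟩ := hmove
        exact hne (D.commute_of_fixed (hn₁ haK) hCM hf h hc)
      · rw [← Module.End.mul_apply, hkill l hl hll, LinearMap.zero_apply]
    by_cases hmv : ∃ c ∈ negSub D.cl y, c * a ≠ a * c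
    · refine hfin _ _ (negSub_le _ _) inf_le_left (fun u hu v hv => (D.pos_neg_commute hv hu).symm)
        (fun c hc => ?_) hpos hnorm₂ hmv
      obtain ⟨u, hu, v, hv, rfl⟩ := D.exists_split hy hyy hc
      exact ⟨v, hv, u, hu, (D.pos_neg_commute hu hv).symm⟩
    · push Not at hmv
      refine hfin _ _ inf_le_left (negSub_le _ _) (fun u hu v hv => D.pos_neg_commute hu hv)
        (fun c hc => D.exists_split hy hyy hc)
        (fun h => hy1 (D.eq_one_of_le_posSub hy fun c hc => ?_)) hnorm₁ ?_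
      · obtain ⟨u, hu, v, hv, rfl⟩ := D.exists_split hy hyy hc
        exact mul_mem hu (D.centre_le_posSub y (h hv))
      · by_contra hno
        push Not at hno
        refine ha1 (D.eq_one_of_le_posSub haK fun c hc => ?_)
        obtain ⟨u, hu, v, hv, rfl⟩ := D.exists_split hy hyy hc
        exact mul_mem (mem_posSub.mpr ⟨hu.1, hno u hu⟩) (mem_posSub.mpr ⟨hv.1, hmv v hv⟩)
  have hia := hinv a haK haa ha1 hac
  have huniq : ∀ y ∈ K, y * y = 1 → y ≠ 1 → (∀ g ∈ K, g * y = y * g) → y = a := fun y hy hyy hy1 hyc =>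
    D.eq_of_inverts haK hy haa hia (hinv y hy hyy hy1 hyc)
  -- an involution with two conjugates
  set B := dSer K (r - 1) with hB
  have hB1 : B ≤ dSer K 1 := dSer_antitone K (by omega)
  have haB : ⁅B, B⁆ = dSer K r := by rw [hB, ← dSer_succ, Nat.sub_add_cancel (by omega : 1 ≤ r)]
  have hBna : ¬ B ≤ Subgroup.centralizer (B : Set X) := fun h => ha1 (by
    have h1 : ⁅B, B⁆ = ⊥ := Subgroup.commutator_eq_bot_iff_le_centralizer.mpr h
    rw [← haB, h1, Subgroup.mem_bot] at ha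
    exact ha)
  obtain ⟨z, hzB, hzz, hz1, hza, hconj⟩ := exists_swapped_involution D.pK hB1
    (fun g hg x hx => conj_mem_dSer K _ hg hx) hBna (dSer_antitone K (by omega : r - 1 ≤ r) ha) haa ha1 hac
  have hzK : z ∈ K := dSer_le K _ hzB
  obtain ⟨x₀, hx₀, hx₀z⟩ : ∃ g ∈ K, g * z * g⁻¹ ≠ z := by
    by_contra hcon
    push Not at hcon
    exact hza (huniq z hzK hzz hz1 fun g hg => mul_inv_eq_iff_eq_mul.mp (hcon g hg))
  set CK := K ⊓ Subgroup.centralizer ({z} : Set X) with hCK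
  have hmemCK : ∀ {g : X}, g ∈ CK ↔ g ∈ K ∧ g * z * g⁻¹ = z := fun {g} => by
    rw [hCK, Subgroup.mem_inf, Subgroup.mem_centralizer_singleton_iff, mul_inv_eq_iff_eq_mul]
  have hconjA : ∀ g ∈ K, g * (a * z) * g⁻¹ = a * (g * z * g⁻¹) := fun g hg => by
    rw [← mul_assoc g a, hac g hg]; group
  have hK'CK : dSer K 1 ≤ CK := le_inf (dSer_le K 1) (by
    rw [dSer_succ, dSer_zero]
    refine commutator_commutes_of_forall fun g hg h hh => ?_
    have e1 : g * h * z * (g * h)⁻¹ = g * (h * z * h⁻¹) * g⁻¹ := by group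
    have e2 : h * g * z * (h * g)⁻¹ = h * (g * z * g⁻¹) * h⁻¹ := by group
    rw [e1, e2]
    rcases hconj g hg with hgz | hgz <;> rcases hconj h hh with hhz | hhz <;>
      simp only [hgz, hhz, hconjA g hg, hconjA h hh])
  have haCK : a ∈ CK := hmemCK.mpr ⟨haK, by rw [← hac z hzK, mul_inv_cancel_right]⟩
  have hzCK : z ∈ CK := hmemCK.mpr ⟨hzK, mul_inv_cancel_right _ _⟩
  have hC₁ : ¬ posSub C z ≤ centreOf C := fun h => hza (D.eq_of_inverts haK hzK haa hia (D.le_negSub hzK hzz h))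
  have hC₂ : ¬ negSub D.cl z ≤ centreOf C := fun h => hz1 (D.eq_one_of_le_posSub hzK fun c hc => by
    obtain ⟨u, hu, v, hv, rfl⟩ := D.exists_split hzK hzz hc
    exact mul_mem hu (D.centre_le_posSub z (h hv)))
  have hnorm : CK ≤ Subgroup.normalizer (posSub C z : Set X) := fun g hg => mem_normalizer_map_conj.mpr
    fun c hc => mem_posSub.mpr ⟨D.conj_mem (hmemCK.mp hg).1 hc.1, by
      have hgz := (hmemCK.mp hg).2
      calc g * c * g⁻¹ * z = g * c * g⁻¹ * (g * z * g⁻¹) := by rw [hgz]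
        _ = g * (c * z) * g⁻¹ := by group
        _ = (g * z * g⁻¹) * (g * c * g⁻¹) := by rw [(mem_posSub.mp hc).2]; group
        _ = _ := by rw [hgz]⟩
  set I := LinearMap.range (γ z - 1) with hI
  have hI0 : I ≠ ⊥ := fun h => hz1 (D.inj (by
    rw [map_one]; exact sub_eq_zero.mp (LinearMap.range_eq_bot.mp h)))
  have hIz : ∀ g : X, g * z = z * g → g ∈ stabSub γ I := by
    rintro g hg _ ⟨v, rfl⟩
    refine ⟨γ g v, ?_⟩
    show γ z (γ g v) - γ g v = γ g (γ z v - v)
    rw [map_sub, ← Module.End.mul_apply, ← map_mul, ← Module.End.mul_apply, ← map_mul, hg]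
  obtain ⟨M, hMI, hM0, hCM, hKM, hlt, hirr, D₁, hf⟩ := D.exists_reduction inf_le_left (negSub_le D.cl z)
    (fun u hu v hv => D.pos_neg_commute hu hv) (fun c hc => D.exists_split hzK hzz hc) hC₂ inf_le_left hnorm hI0
    (fun c hc => hIz c (mem_posSub.mp hc).2)
    (fun g hg => hIz g (Subgroup.mem_centralizer_singleton_iff.mp hg.2))
  have hzM : ∀ w ∈ M, γ z w = w := fun w hw => by
    obtain ⟨v, rfl⟩ := hMI hw
    have h1 : γ z ((γ z - 1) v) - (γ z - 1) v = ((γ z - 1) * (γ z - 1)) v := rfl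
    rw [sub_one_mul_self, hzz, map_one, sub_self, LinearMap.zero_apply, sub_eq_zero] at h1
    exact h1
  have haM : ¬ ∀ w ∈ M, γ a w = w := fun h => hC₁ fun c hc =>
    D.mem_centre_of_pos_neg (mem_posSub.mpr ⟨hc.1, D.commute_of_fixed (hnorm haCK) hCM hf h hc⟩) (hia hc.1)
  -- the conjugate subspace meets `M` in at most a line
  set gM := M.map (γ x₀) with hgM
  have hx₀z' : x₀ * z * x₀⁻¹ = a * z := (hconj x₀ hx₀).resolve_left hx₀z
  have hCKgM : ∀ b ∈ CK, b ∈ stabSub γ gM := by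
    rintro b hb _ ⟨w, hw, rfl⟩
    have hb' : x₀⁻¹ * b * x₀ ∈ CK := by
      obtain ⟨hbK, hbz⟩ := hmemCK.mp hb
      refine hmemCK.mpr ⟨mul_mem (mul_mem (inv_mem hx₀) hbK) hx₀, ?_⟩
      calc x₀⁻¹ * b * x₀ * z * (x₀⁻¹ * b * x₀)⁻¹ = x₀⁻¹ * (b * (x₀ * z * x₀⁻¹) * b⁻¹) * x₀ := by group
        _ = x₀⁻¹ * (a * z) * x₀ := by rw [hx₀z', hconjA b hbK, hbz]
        _ = z := by rw [← hx₀z']; group
    refine ⟨γ (x₀⁻¹ * b * x₀) w, hKM hb' w hw, ?_⟩
    rw [← Module.End.mul_apply, ← map_mul, ← Module.End.mul_apply, ← map_mul,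
      show x₀ * (x₀⁻¹ * b * x₀) = b * x₀ by group]
  have hC₂conj : ∀ c ∈ posSub C z, x₀ * c * x₀⁻¹ ∈ negSub D.cl z := by
    intro c hc
    refine ⟨D.conj_mem hx₀ hc.1, ?_⟩
    have hzx : x₀⁻¹ * z * x₀ = a * z := by
      have h1 := hconjA x₀ hx₀
      rw [hx₀z', ← mul_assoc a a, haa, one_mul] at h1
      calc x₀⁻¹ * z * x₀ = x₀⁻¹ * (x₀ * (a * z) * x₀⁻¹) * x₀ := by rw [h1]
        _ = a * z := by group
    have hzc : z * c * z⁻¹ = c := by rw [← (mem_posSub.mp hc).2, mul_inv_cancel_right]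
    have ht := (hia hc.1).2
    have e : z * (x₀ * c * x₀⁻¹) * z⁻¹ * (x₀ * c * x₀⁻¹) = x₀ * (a * c * a⁻¹ * c) * x₀⁻¹ := by
      calc z * (x₀ * c * x₀⁻¹) * z⁻¹ * (x₀ * c * x₀⁻¹)
          = x₀ * ((x₀⁻¹ * z * x₀) * c * (x₀⁻¹ * z * x₀)⁻¹ * c) * x₀⁻¹ := by group
        _ = x₀ * (a * (z * c * z⁻¹) * a⁻¹ * c) * x₀⁻¹ := by rw [hzx]; group
        _ = _ := by rw [hzc]
    rw [e, D.central ht x₀, mul_inv_cancel_right]
    exact ht
  have hline : ∀ x ∈ M ⊓ gM, x ≠ 0 → ∀ y ∈ M ⊓ gM, ∃ l : k, y = l • x := by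
    rintro x ⟨hxM, hxg⟩ hx0 y ⟨hyM, hyg⟩
    set Sp := Submodule.span k {v | ∃ c ∈ negSub D.cl z, v = γ c x} with hSp
    have hSinv : ∀ c ∈ negSub D.cl z, ∀ v ∈ Sp, γ c v ∈ Sp := by
      intro c hc v hv
      induction hv using Submodule.span_induction with
      | mem v hv =>
        obtain ⟨d, hd, rfl⟩ := hv
        exact Submodule.subset_span ⟨c * d, mul_mem hc hd, by rw [map_mul]; rfl⟩
      | zero => rw [map_zero]; exact Sp.zero_mem
      | add u v _ _ hu hv => rw [map_add]; exact Sp.add_mem hu hv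
      | smul l u _ hu => rw [map_smul]; exact Sp.smul_mem l hu
    have hxS : x ∈ Sp := Submodule.subset_span ⟨1, one_mem _, by rw [map_one]; rfl⟩
    have hgS : gM ≤ Sp := by
      rcases hirr (M ⊓ Sp.comap (γ x₀)) inf_le_left (fun c hc w hw => ⟨hCM hc w hw.1, by
          show γ x₀ (γ c w) ∈ Sp
          rw [← Module.End.mul_apply, ← map_mul, show x₀ * c = x₀ * c * x₀⁻¹ * x₀ by group, map_mul,
            Module.End.mul_apply]
          exact hSinv _ (hC₂conj c hc) _ hw.2⟩) with h | h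
      · obtain ⟨w₀, hw₀, rfl⟩ := hxg
        refine absurd ?_ hx0
        have hw : w₀ ∈ M ⊓ Sp.comap (γ x₀) := ⟨hw₀, hxS⟩
        rw [h, Submodule.mem_bot] at hw
        rw [hw, map_zero]
      · rintro _ ⟨w, hw, rfl⟩
        exact (h.ge hw).2
    obtain ⟨Q, hQc, hQx⟩ : ∃ Q : End k V, (∀ c ∈ posSub C z, Commute Q (γ c)) ∧ Q x = y := by
      suffices hgen : ∀ v ∈ Sp, ∃ Q : End k V, (∀ c ∈ posSub C z, Commute Q (γ c)) ∧ Q x = v from
        hgen y (hgS hyg)
      intro v hvS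
      induction hvS using Submodule.span_induction with
      | mem v hv =>
        obtain ⟨d, hd, rfl⟩ := hv
        exact ⟨γ d, fun c hc => by
          rw [Commute, SemiconjBy, ← map_mul, ← map_mul, D.pos_neg_commute hc hd], rfl⟩
      | zero => exact ⟨0, fun c _ => Commute.zero_left _, rfl⟩
      | add u v _ _ hu hv =>
        obtain ⟨P₁, h₁, rfl⟩ := hu
        obtain ⟨P₂, h₂, rfl⟩ := hv
        exact ⟨P₁ + P₂, fun c hc => (h₁ c hc).add_left (h₂ c hc), rfl⟩
      | smul l u _ hu =>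
        obtain ⟨P, h, rfl⟩ := hu
        exact ⟨l • P, fun c hc => (h c hc).smul_left l, rfl⟩
    have hQM : ∀ w ∈ M, Q w ∈ M := by
      rcases hirr (M ⊓ M.comap Q) inf_le_left (fun c hc w hw => ⟨hCM hc w hw.1, by
          show Q (γ c w) ∈ M
          rw [← Module.End.mul_apply, (hQc c hc).eq, Module.End.mul_apply]
          exact hCM hc _ hw.2⟩) with h | h
      · refine absurd ?_ hx0
        have hx' : x ∈ M ⊓ M.comap Q := ⟨hxM, by
          show Q x ∈ M
          rw [hQx]; exact hyM⟩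
        rwa [h, Submodule.mem_bot] at hx'
      · exact fun w hw => (h.ge hw).2
    obtain ⟨l, hl⟩ := D₁.exists_scalar (Q.restrict hQM) fun c' hc' => by
      obtain ⟨c, hc, rfl⟩ := (mem_imgSub γ M).mp hc'
      refine LinearMap.ext fun w => Subtype.ext ?_
      show Q (γ c w) = γ c (Q w)
      rw [← Module.End.mul_apply, (hQc c hc).eq, Module.End.mul_apply]
    refine ⟨l, ?_⟩
    rw [← hQx]
    exact congrArg Subtype.val (LinearMap.congr_fun hl ⟨x, hxM⟩)
  have hfixline : ∀ b ∈ CK, ∀ x ∈ M ⊓ gM, γ b x = x := by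
    intro b hb x hx
    by_cases hx0 : x = 0
    · rw [hx0, map_zero]
    obtain ⟨l, hl⟩ := hline x hx hx0 (γ b x) ⟨hKM hb x hx.1, hCKgM b hb x hx.2⟩
    have hpow : ∀ j : ℕ, γ (b ^ j) x = l ^ j • x := by
      intro j
      induction j with
      | zero => rw [pow_zero, pow_zero, map_one, one_smul]; rfl
      | succ j ihj => rw [pow_succ, map_mul, Module.End.mul_apply, hl, map_smul, ihj, smul_smul, ← pow_succ']
    obtain ⟨i, hi⟩ := D.pK ⟨b, (hmemCK.mp hb).1⟩
    have h1 := hpow (2 ^ i)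
    rw [show b ^ 2 ^ i = 1 from congrArg Subtype.val hi, map_one, Module.End.one_apply] at h1
    have h2 : (l ^ 2 ^ i - 1) • x = 0 := by rw [sub_smul, ← h1, one_smul, sub_self]
    rw [hl, scalar_eq_one_of_pow (sub_eq_zero.mp ((smul_eq_zero.mp h2).resolve_right hx0)), one_smul]
  -- the chains one level down
  have hazCK : a * z ∈ CK := mul_mem haCK hzCK
  have hK'M : dSer K 1 ≤ stabSub γ M := hK'CK.trans hKM
  have hchain : ∀ l : List X, IsDerChain (dSer K 1) l → l.length = r - 1 → ∀ w ∈ M,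
      (γ a - 1) (opsProd γ l w) = 0 := by
    intro l hl hll w hw
    obtain ⟨b, l₃, rfl⟩ := List.exists_cons_of_length_pos (show 0 < l.length by omega)
    obtain ⟨hb, hl₃⟩ := hl
    rw [List.length_cons] at hll
    have hmem : ∀ g ∈ l₃, g ∈ CK := fun g hg => hK'CK (hl₃.mem g hg)
    have hbCK : b ∈ CK := hK'CK (dSer_le _ _ hb)
    obtain ⟨x, hx⟩ : ∃ x, (γ z - 1) x = w := hMI hw
    set N := (γ a - 1) * (γ z - 1) with hN
    set v := (γ a - 1) w with hv
    have hvN : v = N x := by rw [hv, ← hx]; rfl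
    have hvM : v ∈ M := by
      rw [hv, LinearMap.sub_apply, Module.End.one_apply]
      exact sub_mem (hKM haCK w hw) hw
    have hNc : ∀ g ∈ K, Commute N (γ g) := by
      intro g hg
      have h1 : γ g * (γ a - 1) = (γ a - 1) * γ g := by
        rw [mul_sub, sub_mul, ← map_mul, ← map_mul, hac g hg, mul_one, one_mul]
      have h2 : γ g * (γ z - 1) = (γ (g * z * g⁻¹) - 1) * γ g := by
        rw [mul_sub, sub_mul, ← map_mul, ← map_mul, inv_mul_cancel_right, mul_one, one_mul]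
      show N * γ g = γ g * N
      rw [hN, ← mul_assoc (γ g), h1, mul_assoc (γ a - 1) (γ g), h2, ← mul_assoc]
      rcases hconj g hg with h | h <;> rw [h]
      rw [(involution_identities γ haa hzz).2]
    have h0 := hkill (z :: (l₃ ++ [x₀])) ⟨by
        rw [List.length_append, List.length_singleton, show l₃.length + 1 = r - 1 by omega]
        exact hzB, IsDerChain.append (show IsDerChain K [x₀] from ⟨(dSer_zero K).symm ▸ hx₀, trivial⟩) rfl hl₃⟩
      (by rw [List.length_cons, List.length_append, List.length_singleton]; omega)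
    rw [opsProd_cons, opsProd_append, opsProd_singleton, ← mul_assoc, ← hN] at h0
    have hcD : Commute N (opsProd γ l₃) := commute_opsProd γ fun g hg => hNc g (hmemCK.mp (hmem g hg)).1
    have h1 : opsProd γ l₃ ((γ x₀) v) = opsProd γ l₃ v := by
      have e : N * (opsProd γ l₃ * (γ x₀ - 1)) = opsProd γ l₃ * ((γ x₀ - 1) * N) := by
        rw [← mul_assoc, hcD.eq, mul_assoc, ((hNc x₀ hx₀).sub_right (Commute.one_right N)).eq]
      rw [e] at h0
      have h2 := LinearMap.congr_fun h0 x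
      rw [Module.End.mul_apply, Module.End.mul_apply, LinearMap.sub_apply, Module.End.one_apply, ← hvN, map_sub,
        LinearMap.zero_apply, sub_eq_zero] at h2
      exact h2
    have hD : opsProd γ l₃ v ∈ M ⊓ gM := ⟨opsProd_mem γ (fun g hg => hKM (hmem g hg)) hvM, by
      show opsProd γ l₃ v ∈ gM
      rw [← h1]
      exact opsProd_mem γ (fun g hg => hCKgM g (hmem g hg)) ⟨v, hvM, rfl⟩⟩
    have h3 : opsProd γ (b :: l₃) v = 0 := by
      rw [opsProd_cons, Module.End.mul_apply, LinearMap.sub_apply, Module.End.one_apply,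
        hfixline b hbCK _ hD, sub_self]
    have hcA : Commute (γ a - 1) (opsProd γ (b :: l₃)) := commute_opsProd γ fun g hg => by
      have hgK : g ∈ K := dSer_le K 1 (IsDerChain.mem (l := b :: l₃) ⟨hb, hl₃⟩ g hg)
      have : Commute (γ a) (γ g) := by rw [Commute, SemiconjBy, ← map_mul, ← map_mul, hac g hgK]
      exact this.sub_left (Commute.one_left _)
    rw [← Module.End.mul_apply, hcA.eq, Module.End.mul_apply]
    exact h3
  have haK' : a ∈ dSer (dSer K 1) (r - 1) := by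
    rw [dSer_dSer, show 1 + (r - 1) = r by omega]; exact ha
  rcases Nat.lt_or_ge 2 r with h2r | h2r
  · exact descend M (posSub C z) (dSer K 1) (r - 1) (by omega) hlt
      (D₁.mono (Subgroup.map_mono (Subgroup.comap_mono hK'CK))) hK'M (dSer_le K 1) haK' haM hchain
  obtain rfl : r = 2 := by omega
  refine D.false_of_level_two (dSer_antitone K one_le_two ha) hzB haa hac hzz hconj hx₀ hx₀z hia hCM hKM D₁ hf hzM
    (fun h => haM ((imgHom_eq_one_iff γ M _).mp h)) ?_ ?_ ?_
  · rw [dSer_imgSub γ M hK'M]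
    exact imgHom_mem γ M haK' _
  · intro g' hg'
    obtain ⟨g, hg, rfl⟩ := (mem_imgSub γ M).mp hg'
    refine LinearMap.ext fun w => Subtype.ext ?_
    rw [Module.End.mul_apply, LinearMap.sub_apply, Module.End.one_apply, Submodule.coe_sub, imgRep_apply,
      LinearMap.sub_apply, Module.End.one_apply, Submodule.coe_sub, imgRep_apply]
    have h1 := hchain [(g : X)] ⟨(dSer_zero (dSer K 1)).symm ▸ hg, trivial⟩ rfl w w.2
    rw [opsProd_singleton] at h1
    exact h1
  · intro x hx hx2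
    have h1 := hkill [x * x, x] ⟨hx2, (dSer_zero K).symm ▸ hx, trivial⟩ rfl
    rwa [opsProd_cons, opsProd_singleton] at h1

/-- Killing the chains of length `n ≥ 3` kills level `n - 1`. -/
theorem IrrData.dSer_eq_bot_of_kills {X V : Type u} [Group X] [Finite X] [AddCommGroup V] [Module k V]
    [FiniteDimensional k V] {γ : X →* End k V} {q : ℕ} {C K : Subgroup X} (D : IrrData γ q C K) {n : ℕ}
    (hn : 3 ≤ n) (h : KillsChains γ K n) : dSer K (n - 1) = ⊥ := by
  by_contra hne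
  obtain ⟨a, ha, ha1, haa, hac⟩ := exists_central_step D.pK (bot_le : (⊥ : Subgroup X) ≤ dSer K (n - 1))
    (dSer_le K _) (fun g _ x hx => by rw [Subgroup.mem_bot.mp hx]; simp)
    (fun g hg x hx => conj_mem_dSer K _ hg hx) fun hle => hne (le_bot_iff.mp hle)
  rw [Subgroup.mem_bot] at ha1 haa
  refine false_of_level _ γ rfl D (n - 1) a (by omega) ha haa ha1 (fun g hg => ?_) fun l hl hll => ?_
  · have h1 := Subgroup.mem_bot.mp (hac g hg)
    rw [mul_inv_eq_one, mul_inv_eq_iff_eq_mul] at h1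
    exact h1
  · have h1 := h (a :: l) ⟨hll ▸ ha, hl⟩ (by rw [List.length_cons, hll]; omega)
    rwa [opsProd_cons] at h1

end CfsgLib.HallHigman
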