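import Cfsg.Agent.Lib.HallHigman.DerivedReduce

/-!
# The quaternion configuration

Two parts exchanged by `K`, each of order nine modulo the centre: an element of order eight would have
too small a support.
-/

namespace CfsgLib.HallHigman

open Module (End finrank)
open scoped commutatorElement

variable {X : Type*} [Group X]

/-- A homomorphism to an abelian group invariant under an element outside kills the derived group. -/
theorem dSer_one_le_ker {K H : Subgroup X} (hHK : H ≤ K) {A : Type*} [Group A]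
    (hA : ∀ u v : A, u * v = v * u) (f : H →* A) {x : X} (hx : x ∈ K)
    (hconj : ∀ b ∈ H, x * b * x⁻¹ ∈ H) (hrep : ∀ g ∈ K, g ∈ H ∨ x⁻¹ * g ∈ H)
    (hinv : ∀ (b : X) (hb : b ∈ H), f ⟨x * b * x⁻¹, hconj b hb⟩ = f ⟨b, hb⟩) :
    dSer K 1 ≤ f.ker.map H.subtype := by
  have hall : ∀ g ∈ K, ∀ (b : X) (hb : b ∈ H), ∃ h : g * b * g⁻¹ ∈ H, f ⟨g * b * g⁻¹, h⟩ = f ⟨b, hb⟩ := by
    intro g hg b hb
    have hin : ∀ c ∈ H, ∀ (b : X) (hb : b ∈ H), ∃ h : c * b * c⁻¹ ∈ H, f ⟨c * b * c⁻¹, h⟩ = f ⟨b, hb⟩ :=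
      fun c hc b hb => ⟨mul_mem (mul_mem hc hb) (inv_mem hc), by
        rw [show (⟨c * b * c⁻¹, _⟩ : H) = ⟨c, hc⟩ * ⟨b, hb⟩ * ⟨c, hc⟩⁻¹ from rfl, map_mul, map_mul, map_inv,
          hA (f ⟨c, hc⟩), mul_inv_cancel_right]⟩
    rcases hrep g hg with h | h
    · exact hin g h b hb
    · obtain ⟨h1, e1⟩ := hin _ h b hb
      have e2 : g * b * g⁻¹ = x * (x⁻¹ * g * b * (x⁻¹ * g)⁻¹) * x⁻¹ := by group
      refine ⟨e2 ▸ hconj _ h1, ?_⟩
      rw [← e1, ← hinv _ h1]
      exact congrArg f (Subtype.ext e2)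
  have hright : ∀ g ∈ K, ∀ v ∈ H, ⁅g, v⁆ ∈ f.ker.map H.subtype := by
    intro g hg v hv
    obtain ⟨h1, e1⟩ := hall g hg v hv
    refine ⟨⟨g * v * g⁻¹, h1⟩ * ⟨v, hv⟩⁻¹, MonoidHom.mem_ker.mpr ?_, ?_⟩
    · rw [map_mul, map_inv, e1, mul_inv_cancel]
    · show g * v * g⁻¹ * v⁻¹ = ⁅g, v⁆
      rw [commutatorElement_def]
  rw [dSer_succ, dSer_zero, Subgroup.commutator_le]
  intro g hg v hv
  by_cases hvH : v ∈ H
  · exact hright g hg v hvH
  by_cases hgH : g ∈ H
  · rw [← commutatorElement_inv]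
    exact inv_mem (hright v hv g hgH)
  · have hxg := (hrep g hg).resolve_left hgH
    have hxv := (hrep v hv).resolve_left hvH
    have hc : g⁻¹ * v ∈ H := by
      have := mul_mem (inv_mem hxg) hxv
      rwa [show (x⁻¹ * g)⁻¹ * (x⁻¹ * v) = g⁻¹ * v by group] at this
    obtain ⟨c', hc', hce⟩ := hright g hg _ hc
    obtain ⟨h1, e1⟩ := hall g hg _ c'.2
    refine ⟨⟨_, h1⟩, MonoidHom.mem_ker.mpr (e1.trans (MonoidHom.mem_ker.mp hc')), ?_⟩
    show g * (c' : X) * g⁻¹ = ⁅g, v⁆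
    rw [show (c' : X) = ⁅g, g⁻¹ * v⁆ from hce]
    simp only [commutatorElement_def]
    group

variable [Finite X] {k V : Type*} [Field k] [IsAlgClosed k] [CharP k 2] [AddCommGroup V] [Module k V]
  [FiniteDimensional k V] {γ : X →* End k V} {q : ℕ} {C K : Subgroup X}

set_option maxHeartbeats 1600000 in
theorem IrrData.false_of_level_two (D : IrrData γ q C K) {a z x₀ : X} (ha : a ∈ dSer K 1) (hz : z ∈ dSer K 1)
    (haa : a * a = 1) (hac : ∀ g ∈ K, g * a = a * g) (hzz : z * z = 1)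
    (hconj : ∀ g ∈ K, g * z * g⁻¹ = z ∨ g * z * g⁻¹ = a * z) (hx₀ : x₀ ∈ K) (hx₀z : x₀ * z * x₀⁻¹ ≠ z)
    (hia : C ≤ negSub D.cl a) {M : Submodule k V} (hCM : posSub C z ≤ stabSub γ M)
    (hKM : K ⊓ Subgroup.centralizer ({z} : Set X) ≤ stabSub γ M)
    (D₁ : IrrData (imgRep γ M) q (imgSub γ M (posSub C z))
      (imgSub γ M (K ⊓ Subgroup.centralizer ({z} : Set X))))
    (hf : ∀ c ∈ posSub C z, (∀ w ∈ M, γ c w = w) → c = 1) (hzM : ∀ w ∈ M, γ z w = w)
    (ha1 : imgHom γ M ⟨a, hKM ⟨dSer_le K 1 ha, Subgroup.mem_centralizer_singleton_iff.mpr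
      (hac z (dSer_le K 1 hz)).symm⟩⟩ ≠ 1)
    (haS : imgHom γ M ⟨a, hKM ⟨dSer_le K 1 ha, Subgroup.mem_centralizer_singleton_iff.mpr
      (hac z (dSer_le K 1 hz)).symm⟩⟩ ∈ dSer (imgSub γ M (dSer K 1)) 1)
    (h0 : ∀ g ∈ imgSub γ M (dSer K 1), (imgRep γ M (imgHom γ M ⟨a, hKM ⟨dSer_le K 1 ha,
      Subgroup.mem_centralizer_singleton_iff.mpr (hac z (dSer_le K 1 hz)).symm⟩⟩) - 1) *
        (imgRep γ M g - 1) = 0)
    (hdeg : ∀ x ∈ K, x * x ∈ dSer K 1 → (γ a - 1) * ((γ (x * x) - 1) * (γ x - 1)) = 0) : False := by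
  classical
  have := Fact.mk D.prime
  have := Fact.mk Nat.prime_two
  have haK := dSer_le K 1 ha
  have hzK := dSer_le K 1 hz
  set CK := K ⊓ Subgroup.centralizer ({z} : Set X) with hCK
  have haCK : a ∈ CK := ⟨haK, Subgroup.mem_centralizer_singleton_iff.mpr (hac z hzK).symm⟩
  have hzCK : z ∈ CK := ⟨hzK, Subgroup.mem_centralizer_singleton_iff.mpr rfl⟩
  set a₁ : imgGroup γ M := imgHom γ M ⟨a, hKM haCK⟩ with ha₁
  have hmemCK : ∀ {g : X}, g ∈ CK ↔ g ∈ K ∧ g * z * g⁻¹ = z := fun {g} => by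
    rw [hCK, Subgroup.mem_inf, Subgroup.mem_centralizer_singleton_iff, mul_inv_eq_iff_eq_mul]
  have hswap : ∀ {g : X}, g ∈ K → g ∉ CK → g * z * g⁻¹ = a * z := fun {g} hg hgC =>
    (hconj g hg).resolve_left fun h => hgC (hmemCK.mpr ⟨hg, h⟩)
  have hK'CK : dSer K 1 ≤ CK := le_inf (dSer_le K 1) (by
    rw [dSer_succ, dSer_zero]
    refine commutator_commutes_of_forall fun g hg h hh => ?_
    have e1 : g * h * z * (g * h)⁻¹ = g * (h * z * h⁻¹) * g⁻¹ := by group
    have e2 : h * g * z * (h * g)⁻¹ = h * (g * z * g⁻¹) * h⁻¹ := by group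
    have e3 : g * (a * z) * g⁻¹ = a * (g * z * g⁻¹) := by rw [← mul_assoc g a, hac g hg]; group
    have e4 : h * (a * z) * h⁻¹ = a * (h * z * h⁻¹) := by rw [← mul_assoc h a, hac h hh]; group
    rw [e1, e2]
    rcases hconj g hg with hgz | hgz <;> rcases hconj h hh with hhz | hhz <;>
      simp only [hgz, hhz, e3, e4])
  have hconjCK : ∀ x ∈ K, ∀ b ∈ CK, x * b * x⁻¹ ∈ CK := by
    intro x hx b hb
    obtain ⟨hbK, hbz⟩ := hmemCK.mp hb
    refine hmemCK.mpr ⟨mul_mem (mul_mem hx hbK) (inv_mem hx), ?_⟩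
    have hb' : b * (x⁻¹ * z * x) * b⁻¹ = x⁻¹ * z * x := by
      have h1 := hconj x⁻¹ (inv_mem hx)
      rw [inv_inv] at h1
      rcases h1 with h | h <;> rw [h]
      · exact hbz
      · rw [show b * (a * z) * b⁻¹ = (b * a) * z * b⁻¹ by group, hac b hbK,
          show a * b * z * b⁻¹ = a * (b * z * b⁻¹) by group, hbz]
    calc x * b * x⁻¹ * z * (x * b * x⁻¹)⁻¹ = x * (b * (x⁻¹ * z * x) * b⁻¹) * x⁻¹ := by group
      _ = z := by rw [hb']; group
  have hsq : ∀ {g h : X}, g ∈ K → h ∈ K → g ∉ CK → h ∉ CK → g⁻¹ * h ∈ CK := by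
    intro g h hg hh hgC hhC
    refine hmemCK.mpr ⟨mul_mem (inv_mem hg) hh, ?_⟩
    calc g⁻¹ * h * z * (g⁻¹ * h)⁻¹ = g⁻¹ * (h * z * h⁻¹) * g := by group
      _ = g⁻¹ * (g * z * g⁻¹) * g := by rw [hswap hh hhC, hswap hg hgC]
      _ = z := by group
  -- the operator group on `M`
  set R := imgSub γ M (posSub C z) with hR
  set S := imgSub γ M CK with hS
  set S' := imgSub γ M (dSer K 1) with hS'
  have hS'S : S' ≤ S := Subgroup.map_mono (Subgroup.comap_mono hK'CK)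
  have haS' : a₁ ∈ S' := imgHom_mem γ M ha (hKM haCK)
  have ha₁S : a₁ ∈ S := hS'S haS'
  have ha₁sq : a₁ * a₁ = 1 := by
    rw [ha₁, ← map_mul, show (⟨a, hKM haCK⟩ * ⟨a, hKM haCK⟩ : stabSub γ M) = 1 from Subtype.ext haa, map_one]
  have hcen₁ : ∀ g ∈ S, g * a₁ = a₁ * g := by
    intro g' hg'
    obtain ⟨g, hg, rfl⟩ := (mem_imgSub γ M).mp hg'
    rw [ha₁, ← map_mul, ← map_mul]
    exact congrArg _ (Subtype.ext (hac g (hmemCK.mp hg).1))
  obtain ⟨-, hq3, hidx⟩ := (D₁.mono hS'S).unique_involution haS' ha₁sq ha1 (fun g hg => hcen₁ g (hS'S hg)) haS h0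
  have hposR : posSub R a₁ ≤ centreOf R := by
    intro c' hc'
    obtain ⟨hcR, hcomm⟩ := mem_posSub.mp hc'
    obtain ⟨c, hc, rfl⟩ := (mem_imgSub γ M).mp hcR
    have hcCz := mem_posSub.mp hc
    have hca : (c : X) * a = a * c := by
      rw [ha₁, ← map_mul, ← map_mul] at hcomm
      have hacn : a * c * a⁻¹ ∈ posSub C z := mem_posSub.mpr ⟨D.conj_mem haK hcCz.1, by
        have hza : Commute a z := (hac z hzK).symm
        calc a * (c : X) * a⁻¹ * z = a * c * (a⁻¹ * z) := by group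
          _ = a * c * (z * a⁻¹) := by rw [hza.inv_left.eq]
          _ = a * ((c : X) * z) * a⁻¹ := by group
          _ = (a * z) * c * a⁻¹ := by rw [hcCz.2]; group
          _ = z * (a * c * a⁻¹) := by rw [hza.eq]; group⟩
      have h1 : imgHom γ M ⟨(c : X)⁻¹ * (a * c * a⁻¹), hCM (mul_mem (inv_mem hc) hacn)⟩ = 1 := by
        rw [show (⟨(c : X)⁻¹ * (a * c * a⁻¹), _⟩ : stabSub γ M) = c⁻¹ * ((⟨a, hKM haCK⟩ * c) * ⟨a, hKM haCK⟩⁻¹)
          from rfl, map_mul, map_mul _ (⟨a, hKM haCK⟩ * c), ← hcomm, map_mul _ c, map_inv, map_inv,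
          mul_inv_cancel_right, inv_mul_cancel]
      have h2 := hf _ (mul_mem (inv_mem hc) hacn) ((imgHom_eq_one_iff γ M _).mp h1)
      calc (c : X) * a = c * 1 * a := by rw [mul_one]
        _ = a * c := by rw [← h2]; group
    have hcT : (c : X) ∈ centreOf C :=
      D.mem_centre_of_pos_neg (mem_posSub.mpr ⟨hcCz.1, hca⟩) (hia hcCz.1)
    refine ⟨hcR, fun d' hd' => ?_⟩
    obtain ⟨d, hd, rfl⟩ := (mem_imgSub γ M).mp hd'
    rw [← map_mul, ← map_mul]
    exact congrArg _ (Subtype.ext (D.central hcT d))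
  have hia₁ : R ≤ negSub D₁.cl a₁ := D₁.le_negSub ha₁S ha₁sq hposR
  have hidxR : (centreOf R).relIndex R = 9 := by
    rw [← hidx]
    exact congrArg (fun H : Subgroup (imgGroup γ M) => H.relIndex R)
      (le_antisymm (D₁.centre_le_posSub a₁) hposR)
  have huniqS : ∀ y ∈ S, y * y = 1 → y = 1 ∨ y = a₁ := by
    intro y hy hyy
    rcases D₁.sign_on_plane ha₁S hy ha₁sq hyy (hcen₁ y hy).symm (by rw [hidx, hq3]; norm_num) with h | h
    · exact Or.inl (D₁.eq_one_of_le_posSub hy (hia₁.trans h))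
    · exact Or.inr (D₁.eq_of_inverts ha₁S hy ha₁sq hia₁ (hia₁.trans h))
  -- the action on nonzero vectors is free
  have hcardS : Nat.card S ≤ 8 := by
    obtain ⟨c₀, hc₀, hc₀T⟩ : ∃ c₀ ∈ R, c₀ ∉ centreOf R := SetLike.not_le_iff_exists.mp fun h => by
      rw [Subgroup.relIndex_eq_one.mpr h] at hidxR
      omega
    have : ((centreOf R).subgroupOf R).Normal := ⟨fun t ht g => by
      rw [Subgroup.mem_subgroupOf] at ht ⊢
      rw [Subgroup.coe_mul, Subgroup.coe_mul, Subgroup.coe_inv, D₁.central ht, mul_inv_cancel_right]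
      exact ht⟩
    let Q := R ⧸ (centreOf R).subgroupOf R
    let f : Option S → Q := fun o => o.elim 1 fun u =>
      QuotientGroup.mk (⟨u * c₀ * (u : imgGroup γ M)⁻¹, D₁.conj_mem u.2 hc₀⟩ : R)
    have hfree : ∀ u ∈ S, c₀⁻¹ * (u * c₀ * u⁻¹) ∈ centreOf R → u = 1 := by
      intro u hu hfix
      by_contra hu1
      have hpow : ∀ j : ℕ, c₀⁻¹ * (u ^ j * c₀ * (u ^ j)⁻¹) ∈ centreOf R := by
        intro j
        induction j with
        | zero => simp
        | succ j ih =>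
          set t := c₀⁻¹ * (u ^ j * c₀ * (u ^ j)⁻¹)
          have e : c₀⁻¹ * (u ^ (j + 1) * c₀ * (u ^ (j + 1))⁻¹) = c₀⁻¹ * (u * c₀ * u⁻¹) * (u * t * u⁻¹) := by
            rw [pow_succ']; simp only [t]; group
          rw [e, D₁.central ih u, mul_inv_cancel_right]
          exact mul_mem hfix ih
      obtain ⟨i, hi⟩ := D₁.pK ⟨u, hu⟩
      obtain ⟨j, -, hj⟩ := (Nat.dvd_prime_pow Nat.prime_two).mp
        (orderOf_dvd_of_pow_eq_one (congrArg Subtype.val hi : u ^ 2 ^ i = 1))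
      obtain ⟨j, rfl⟩ : ∃ j', j = j' + 1 := by
        rcases j with _ | j
        · exact absurd (orderOf_eq_one_iff.mp (hj.trans (pow_zero 2))) hu1
        · exact ⟨j, rfl⟩
      have h1 : u ^ 2 ^ j ≠ 1 := fun h => by
        have h2 := Nat.le_of_dvd (pow_pos two_pos _) (orderOf_dvd_of_pow_eq_one h)
        rw [hj] at h2
        exact absurd ((Nat.pow_le_pow_iff_right one_lt_two).mp h2) (by omega)
      have h2 := (huniqS _ (S.pow_mem hu _) (by
        rw [← pow_add, ← two_mul, ← pow_succ', ← hj, pow_orderOf_eq_one])).resolve_left h1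
      have h3 := hpow (2 ^ j)
      rw [h2] at h3
      exact hc₀T (D₁.mem_centre_of_pos_neg (D₁.mem_posSub_of_mod ha₁sq hc₀ h3) (hia₁ hc₀))
    have hmk : ∀ (c : imgGroup γ M) (hc : c ∈ R), (QuotientGroup.mk (⟨c, hc⟩ : R) : Q) = 1 → c ∈ centreOf R :=
      fun c hc h => Subgroup.mem_subgroupOf.mp ((QuotientGroup.eq_one_iff _).mp h)
    have hnone : ∀ u : S, f (some u) ≠ 1 := fun u h => hc₀T (by
      have h1 := hmk _ _ h
      rw [show c₀ = (u : imgGroup γ M)⁻¹ * (u * c₀ * (u : imgGroup γ M)⁻¹) * u by group, mul_assoc,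
        ← D₁.central h1 u, inv_mul_cancel_left]
      exact h1)
    have hinj : Function.Injective f := by
      rintro (_ | u) (_ | v) h
      · rfl
      · exact absurd h.symm (hnone v)
      · exact absurd h (hnone u)
      · have h1 := (QuotientGroup.eq).mp (show (QuotientGroup.mk _ : Q) = QuotientGroup.mk _ from h)
        rw [Subgroup.mem_subgroupOf, Subgroup.coe_mul, Subgroup.coe_inv] at h1
        set t : imgGroup γ M := ((u : imgGroup γ M) * c₀ * (u : imgGroup γ M)⁻¹)⁻¹ * (v * c₀ * (v : imgGroup γ M)⁻¹)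
        have h2 : c₀⁻¹ * (((u : imgGroup γ M)⁻¹ * v) * c₀ * ((u : imgGroup γ M)⁻¹ * v)⁻¹) = t := by
          calc c₀⁻¹ * (((u : imgGroup γ M)⁻¹ * v) * c₀ * ((u : imgGroup γ M)⁻¹ * v)⁻¹)
              = (u : imgGroup γ M)⁻¹ * (t * u) := by simp only [t]; group
            _ = (u : imgGroup γ M)⁻¹ * (u * t) := by rw [D₁.central h1 u]
            _ = t := inv_mul_cancel_left _ _
        have h3 := hfree _ (mul_mem (inv_mem u.2) v.2) (h2 ▸ h1)
        exact congrArg some (Subtype.ext (inv_mul_eq_one.mp h3))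
    have h9 : Nat.card Q = 9 := by rw [← hidxR]; rfl
    have hle := Nat.card_le_card_of_injective f hinj
    rw [Finite.card_option, h9] at hle
    omega
  -- hence it is a quaternion group
  have hnc : ¬ ∀ u ∈ S', ∀ v ∈ S', u * v = v * u := fun h => by
    have h1 : dSer S' 1 ≤ ⊥ := by
      rw [dSer_succ, dSer_zero, Subgroup.commutator_le]
      exact fun u hu v hv => Subgroup.mem_bot.mpr (commutatorElement_eq_one_iff_mul_comm.mpr (h u hu v hv))
    exact ha1 (Subgroup.mem_bot.mp (h1 haS))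
  have hS'8 : 8 ≤ Nat.card S' := by
    by_contra hlt
    apply hnc
    intro u hu v hv
    obtain ⟨j, hj⟩ := (D₁.pK.to_le hS'S).exists_card_eq
    have hj3 : j < 3 := by
      by_contra h3
      have := Nat.pow_le_pow_right (show 2 > 0 by norm_num) (show 3 ≤ j by omega)
      omega
    interval_cases j
    · rw [pow_zero, Subgroup.card_eq_one] at hj
      rw [Subgroup.eq_bot_iff_forall] at hj
      rw [hj u hu, hj v hv]
    · have : IsCyclic S' := isCyclic_of_prime_card (hj.trans (pow_one 2))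
      let := IsCyclic.commGroup (α := S')
      exact congrArg Subtype.val (mul_comm (⟨u, hu⟩ : S') ⟨v, hv⟩)
    · exact congrArg Subtype.val (IsPGroup.commutative_of_card_eq_prime_sq hj ⟨u, hu⟩ ⟨v, hv⟩)
  have hSS' : S' = S := Subgroup.eq_of_le_of_card_ge hS'S (hcardS.trans hS'8)
  have hS8 : Nat.card S = 8 := le_antisymm hcardS (hSS' ▸ hS'8)
  have hfour : ∀ u ∈ S, u * u = 1 ∨ u * u = a₁ := by
    intro u hu
    refine huniqS _ (mul_mem hu hu) ?_
    have h1 : orderOf u ∣ 2 ^ 3 := by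
      have h := orderOf_dvd_natCard (⟨u, hu⟩ : S)
      rw [hS8, Subgroup.orderOf_mk] at h
      exact h
    obtain ⟨j, hj, hju⟩ := (Nat.dvd_prime_pow Nat.prime_two).mp h1
    by_cases hj3 : j = 3
    · exfalso
      have h2 : Subgroup.zpowers u = S := Subgroup.eq_of_le_of_card_ge (Subgroup.zpowers_le.mpr hu)
        (by rw [Nat.card_zpowers, hju, hj3, hS8]; norm_num)
      apply hnc
      rw [hSS', ← h2]
      intro v hv w hw
      obtain ⟨m, rfl⟩ := Subgroup.mem_zpowers_iff.mp hv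
      obtain ⟨n, rfl⟩ := Subgroup.mem_zpowers_iff.mp hw
      rw [← zpow_add, ← zpow_add, add_comm]
    · rw [show u * u * (u * u) = u ^ (2 ^ 2) by
        rw [show (2 : ℕ) ^ 2 = 2 + 2 by norm_num, pow_add, pow_two], ← orderOf_dvd_iff_pow_eq_one, hju]
      exact pow_dvd_pow 2 (by omega)
  -- the quotient by the centre
  let A₁ : S := ⟨a₁, ha₁S⟩
  have : (Subgroup.zpowers A₁).Normal := ⟨fun t ht g => by
    rcases eq_or_eq_of_mem_zpowers (show A₁ * A₁ = 1 from Subtype.ext ha₁sq) ht with rfl | rfl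
    · simp
    · rw [show g * A₁ = A₁ * g from Subtype.ext (hcen₁ g g.2), mul_inv_cancel_right]
      exact Subgroup.mem_zpowers _⟩
  let Q := S ⧸ Subgroup.zpowers A₁
  have hQ2 : ∀ u : Q, u * u = 1 := fun u => QuotientGroup.induction_on u fun u => by
    rw [← QuotientGroup.mk_mul, QuotientGroup.eq_one_iff]
    rcases hfour u u.2 with h | h
    · rw [show u * u = 1 from Subtype.ext h]; exact one_mem _
    · rw [show u * u = A₁ from Subtype.ext h]; exact Subgroup.mem_zpowers _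
  have hQinv : ∀ u : Q, u⁻¹ = u := fun u => inv_eq_of_mul_eq_one_right (hQ2 u)
  have hQc : ∀ u v : Q, u * v = v * u := fun u v => by
    rw [← hQinv (u * v), mul_inv_rev, hQinv, hQinv]
  let φ : CK →* S :=
    ((imgHom γ M).comp (Subgroup.inclusion hKM)).codRestrict S fun b => imgHom_mem γ M b.2 (hKM b.2)
  let ψ : CK →* Q := (QuotientGroup.mk' (Subgroup.zpowers A₁)).comp φ
  have hψ1 : ∀ b : CK, ψ b = 1 → (φ b : imgGroup γ M) = 1 ∨ (φ b : imgGroup γ M) = a₁ := fun b hb => by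
    rcases eq_or_eq_of_mem_zpowers (show A₁ * A₁ = 1 from Subtype.ext ha₁sq)
      ((QuotientGroup.eq_one_iff _).mp hb) with h | h
    · exact Or.inl (congrArg Subtype.val h)
    · exact Or.inr (congrArg Subtype.val h)
  have hψsq : ∀ {x : X}, x ∈ K → x ∉ CK → x * x ∈ CK := fun {x} hx hxC => by
    have h1 : x⁻¹ ∉ CK := fun h => hxC (by simpa using CK.inv_mem h)
    simpa using hsq (inv_mem hx) hx h1 hxC
  have hcx : ∀ {x : X}, x ∈ K → ∀ b : CK, x⁻¹ * (b : X) * x ∈ CK := fun {x} hx b => by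
    simpa using hconjCK x⁻¹ (inv_mem hx) b b.2
  let cx : ∀ {x : X}, x ∈ K → (CK →* CK) := fun {x} hx =>
    { toFun := fun b => ⟨x⁻¹ * (b : X) * x, hcx hx b⟩
      map_one' := Subtype.ext (by simp)
      map_mul' := fun u v => Subtype.ext (by simp [mul_assoc]) }
  -- faithfulness on the two parts
  have hpq : ∀ {x : X}, x ∈ K → x ∉ CK → ∀ c ∈ negSub D.cl z, x⁻¹ * c * x ∈ posSub C z := by
    intro x hx hxC c hc
    refine D.mem_posSub_of_mod hzz (by simpa using D.conj_mem (inv_mem hx) hc.1) ?_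
    have hxz : x * z * x⁻¹ = a * z := hswap hx hxC
    have hca := (hia hc.1).2
    have hcz := hc.2
    set t := a * c * a⁻¹ * c with ht
    set s := z * c * z⁻¹ * c with hs
    have e : (x⁻¹ * c * x)⁻¹ * (z * (x⁻¹ * c * x) * z⁻¹) = x⁻¹ * (s * t⁻¹) * x := by
      calc (x⁻¹ * c * x)⁻¹ * (z * (x⁻¹ * c * x) * z⁻¹)
          = x⁻¹ * (c⁻¹ * ((x * z * x⁻¹) * c * (x * z * x⁻¹)⁻¹)) * x := by group
        _ = x⁻¹ * (c⁻¹ * ((a * s) * c⁻¹ * a⁻¹)) * x := by rw [hxz, hs]; group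
        _ = x⁻¹ * ((c⁻¹ * s) * (a * c * a⁻¹)⁻¹) * x := by rw [D.central hcz a]; group
        _ = x⁻¹ * ((s * c⁻¹) * (a * c * a⁻¹)⁻¹) * x := by rw [D.central hcz c⁻¹]
        _ = _ := by rw [ht]; group
    rw [e, D.central (mul_mem hcz (inv_mem hca)) x⁻¹, inv_mul_cancel_right]
    exact mul_mem hcz (inv_mem hca)
  have hkill : ∀ {x : X} (hx : x ∈ K), x ∉ CK → ∀ b : CK, φ b = 1 → φ (cx hx b) = 1 → b = 1 := by
    intro x hx hxC b hb hb'
    have hcom : ∀ g : CK, φ g = 1 → ∀ c ∈ posSub C z, c * (g : X) = g * c := fun g hg c hc => by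
      refine D.commute_of_fixed (mem_normalizer_map_conj.mpr fun e he => ?_) hCM hf
        ((imgHom_eq_one_iff γ M ⟨g, hKM g.2⟩).mp (congrArg Subtype.val hg)) hc
      refine mem_posSub.mpr ⟨D.conj_mem (hmemCK.mp g.2).1 he.1, ?_⟩
      have hgz := (hmemCK.mp g.2).2
      have hez := (mem_posSub.mp he).2
      calc (g : X) * e * (g : X)⁻¹ * z = (g : X) * e * (g : X)⁻¹ * ((g : X) * z * (g : X)⁻¹) := by rw [hgz]
        _ = (g : X) * (e * z) * (g : X)⁻¹ := by group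
        _ = ((g : X) * z * (g : X)⁻¹) * ((g : X) * e * (g : X)⁻¹) := by rw [hez]; group
        _ = _ := by rw [hgz]
    refine Subtype.ext (D.eq_one_of_trivial (hmemCK.mp b.2).1 fun c hc => ?_)
    obtain ⟨c₁, hc₁, c₂, hc₂, rfl⟩ := D.exists_split hzK hzz hc
    have e₁ : Commute c₁ (b : X) := hcom b hb c₁ hc₁
    have e₂ : Commute c₂ (b : X) := by
      have h1 : x⁻¹ * c₂ * x * (x⁻¹ * (b : X) * x) = x⁻¹ * (b : X) * x * (x⁻¹ * c₂ * x) :=
        hcom (cx hx b) hb' _ (hpq hx hxC c₂ hc₂)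
      have h2 := congrArg (fun t => x * t * x⁻¹) h1
      rwa [show x * (x⁻¹ * c₂ * x * (x⁻¹ * (b : X) * x)) * x⁻¹ = c₂ * b by group,
        show x * (x⁻¹ * (b : X) * x * (x⁻¹ * c₂ * x)) * x⁻¹ = b * c₂ by group] at h2
    rw [← (e₁.mul_left e₂).eq, mul_inv_cancel_right, inv_mul_cancel]
    exact one_mem _
  have hφz : φ ⟨z, hzCK⟩ = 1 := Subtype.ext ((imgHom_eq_one_iff γ M _).mpr hzM)
  have hφzx : ∀ {x : X} (hx : x ∈ K), x ∉ CK → φ (cx hx ⟨z, hzCK⟩) = A₁ := by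
    intro x hx hxC
    have e : cx hx ⟨z, hzCK⟩ = ⟨a, haCK⟩ * ⟨z, hzCK⟩ := Subtype.ext (by
      show x⁻¹ * z * x = a * z
      have h := hswap (inv_mem hx) (fun h => hxC (by simpa using CK.inv_mem h))
      rwa [inv_inv] at h)
    rw [e, map_mul, hφz, mul_one]
    exact Subtype.ext rfl
  -- squares of swapping elements lie in the derived group
  have hrep : ∀ {x : X}, x ∈ K → x ∉ CK → ∀ g ∈ K, g ∈ CK ∨ x⁻¹ * g ∈ CK := fun {x} hx hxC g hg =>
    (em (g ∈ CK)).imp id fun h => hsq hx hg hxC h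
  have hsqmem : ∀ {x : X}, x ∈ K → x ∉ CK → x * x ∈ dSer K 1 := by
    intro x hx hxC
    set b₂ : CK := ⟨x * x, hψsq hx hxC⟩ with hb₂
    let Δ : CK →* Q :=
      { toFun := fun b => ψ b * ψ (cx hx b)
        map_one' := by rw [map_one (cx hx), map_one, mul_one]
        map_mul' := fun u v => by
          rw [map_mul (cx hx), map_mul, map_mul, mul_assoc (ψ u), ← mul_assoc (ψ v), hQc (ψ v) (ψ (cx hx u)),
            mul_assoc (ψ (cx hx u)), ← mul_assoc (ψ u)] }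
    have hΔ := dSer_one_le_ker (inf_le_left : CK ≤ K) hQc Δ hx (hconjCK x hx) (hrep hx hxC) (fun b hb => by
      show ψ ⟨x * b * x⁻¹, _⟩ * ψ (cx hx ⟨x * b * x⁻¹, _⟩) = ψ ⟨b, hb⟩ * ψ (cx hx ⟨b, hb⟩)
      have e1 : cx hx ⟨x * b * x⁻¹, hconjCK x hx b hb⟩ = ⟨b, hb⟩ := Subtype.ext (by
        show x⁻¹ * (x * b * x⁻¹) * x = b
        group)
      have e2 : (⟨x * b * x⁻¹, hconjCK x hx b hb⟩ : CK) = b₂ * cx hx ⟨b, hb⟩ * b₂⁻¹ := Subtype.ext (by
        show x * b * x⁻¹ = x * x * (x⁻¹ * b * x) * (x * x)⁻¹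
        group)
      rw [e1, e2, map_mul, map_mul, map_inv, hQc (ψ b₂), mul_inv_cancel_right, hQc])
    obtain ⟨k', hk', hkk⟩ := (mem_imgSub γ M).mp (hSS'.ge (φ b₂).2 : (φ b₂ : imgGroup γ M) ∈ S')
    set kk : CK := ⟨(k' : X), hK'CK hk'⟩ with hkk'
    have hφk : φ kk = φ b₂ := Subtype.ext hkk
    obtain ⟨c', hc', hce⟩ := hΔ hk'
    have hΔk : ψ kk * ψ (cx hx kk) = 1 := by
      have h : Δ kk = 1 := by
        rw [show kk = c' from Subtype.ext hce.symm]; exact MonoidHom.mem_ker.mp hc'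
      exact h
    have hcb : cx hx b₂ = b₂ := Subtype.ext (by show x⁻¹ * (x * x) * x = x * x; group)
    set w := kk⁻¹ * b₂ with hw
    have hw1 : φ w = 1 := by rw [hw, map_mul, map_inv, hφk, inv_mul_cancel]
    have hw2 : ψ (cx hx w) = 1 := by
      have e1 : ψ (cx hx kk) = ψ kk := by
        rw [← hQinv (ψ (cx hx kk)), inv_eq_of_mul_eq_one_left hΔk]
      have e2 : ψ kk = ψ b₂ := congrArg (QuotientGroup.mk' _) hφk
      rw [hw, map_mul (cx hx), map_inv (cx hx), hcb, map_mul, map_inv, e1, e2, inv_mul_cancel]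
    have hwK : (w : X) ∈ dSer K 1 := by
      rcases hψ1 _ hw2 with h | h
      · rw [hkill hx hxC w hw1 (Subtype.ext h), Subgroup.coe_one]
        exact one_mem _
      · have h2 := hkill hx hxC (w * ⟨z, hzCK⟩) (by rw [map_mul, hw1, hφz, one_mul]) (by
          rw [map_mul (cx hx), map_mul, hφzx hx hxC, show φ (cx hx w) = A₁ from Subtype.ext h]
          exact Subtype.ext ha₁sq)
        rw [eq_inv_of_mul_eq_one_left h2, Subgroup.coe_inv]
        exact inv_mem hz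
    have hfin := mul_mem hk' hwK
    rwa [hw, Subgroup.coe_mul, Subgroup.coe_inv, hkk', mul_inv_cancel_left] at hfin
  -- some swapping element has order eight
  have hx₀C : x₀ ∉ CK := fun h => hx₀z (hmemCK.mp h).2
  obtain ⟨x, hx, hxC, hxψ⟩ : ∃ (x : X) (hx : x ∈ K) (hxC : x ∉ CK), ψ ⟨x * x, hψsq hx hxC⟩ ≠ 1 := by
    by_contra hcon
    push Not at hcon
    have hinv : ∀ b : CK, ψ (cx hx₀ b) = ψ b := by
      intro b
      have hgK : x₀ * (b : X) ∈ K := mul_mem hx₀ (hmemCK.mp b.2).1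
      have hgC : x₀ * (b : X) ∉ CK := fun h => hx₀C (by
        have := mul_mem h (inv_mem b.2)
        rwa [mul_inv_cancel_right] at this)
      have h1 := hcon _ hgK hgC
      have e : (⟨x₀ * (b : X) * (x₀ * (b : X)), hψsq hgK hgC⟩ : CK) =
          ⟨x₀ * x₀, hψsq hx₀ hx₀C⟩ * cx hx₀ b * b := Subtype.ext (by
        show x₀ * (b : X) * (x₀ * (b : X)) = x₀ * x₀ * (x₀⁻¹ * (b : X) * x₀) * b
        group)
      rw [e, map_mul, map_mul, hcon x₀ hx₀ hx₀C, one_mul] at h1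
      rw [← hQinv (ψ b), inv_eq_of_mul_eq_one_left h1]
    have hker := dSer_one_le_ker (inf_le_left : CK ≤ K) hQc ψ hx₀ (hconjCK x₀ hx₀) (hrep hx₀ hx₀C)
      (fun b hb => by
        have h1 := hinv ⟨x₀ * b * x₀⁻¹, hconjCK x₀ hx₀ b hb⟩
        rw [show cx hx₀ ⟨x₀ * b * x₀⁻¹, hconjCK x₀ hx₀ b hb⟩ = ⟨b, hb⟩ from Subtype.ext (by
          show x₀⁻¹ * (x₀ * b * x₀⁻¹) * x₀ = b
          group)] at h1
        exact h1.symm)
    apply hnc
    intro u hu v hv
    have hone : ∀ u ∈ S', u = 1 ∨ u = a₁ := by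
      intro u hu
      obtain ⟨g, hg, rfl⟩ := (mem_imgSub γ M).mp hu
      obtain ⟨c', hc', hce⟩ := hker hg
      have h2 := hψ1 c' (MonoidHom.mem_ker.mp hc')
      rwa [show c' = (⟨(g : X), hK'CK hg⟩ : CK) from Subtype.ext hce] at h2
    rcases hone u hu with rfl | rfl
    · rw [one_mul, mul_one]
    · exact (hcen₁ v (hS'S hv)).symm
  have hx2 : x * x ∈ dSer K 1 := hsqmem hx hxC
  set b₂ : CK := ⟨x * x, hψsq hx hxC⟩ with hb₂
  have hφ4 : φ b₂ * φ b₂ = A₁ := by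
    rcases hfour _ (φ b₂).2 with h | h
    · exfalso
      apply hxψ
      rcases huniqS _ (φ b₂).2 h with h' | h'
      · exact (QuotientGroup.eq_one_iff _).mpr (by rw [show φ b₂ = 1 from Subtype.ext h']; exact one_mem _)
      · exact (QuotientGroup.eq_one_iff _).mpr
          (by rw [show φ b₂ = A₁ from Subtype.ext h']; exact Subgroup.mem_zpowers _)
    · exact Subtype.ext h
  have hx4 : x * x * (x * x) = a := by
    have hφa : φ ⟨a, haCK⟩ = A₁ := Subtype.ext rfl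
    have hcb : cx hx b₂ = b₂ := Subtype.ext (by show x⁻¹ * (x * x) * x = x * x; group)
    have hca : cx hx ⟨a, haCK⟩ = ⟨a, haCK⟩ := Subtype.ext (by
      show x⁻¹ * a * x = a
      rw [hac _ (inv_mem hx), inv_mul_cancel_right])
    have h := hkill hx hxC (b₂ * b₂ * ⟨a, haCK⟩⁻¹) (by rw [map_mul, map_mul, map_inv, hφ4, hφa, mul_inv_cancel])
      (by rw [map_mul (cx hx), map_mul (cx hx), map_inv (cx hx), hcb, hca, map_mul, map_mul, map_inv, hφ4, hφa,
        mul_inv_cancel])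
    exact mul_inv_eq_one.mp (congrArg Subtype.val h)
  -- the support is too large
  have hp2 : x ^ 2 ^ 2 = a := by
    rw [show (2 : ℕ) ^ 2 = 2 + 2 by norm_num, pow_add, pow_two, hx4]
  have hx8 : x ^ 2 ^ (2 + 1) = 1 := by rw [pow_succ, pow_mul, hp2, pow_two, haa]
  have hdeg7 : (γ x - 1) ^ (2 ^ (2 + 1) - 1) = 0 := by
    have hpow : ∀ g : X, (γ g - 1) ^ 2 = γ (g * g) - 1 := fun g => by rw [pow_two, sub_one_mul_self]
    rw [show (2 : ℕ) ^ (2 + 1) - 1 = 2 * 2 + (2 + 1) by norm_num, pow_add, pow_mul, pow_succ (γ x - 1) 2, hpow x,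
      hpow, hx4]
    exact hdeg x hx hx2
  obtain ⟨χ, hW, hTiff⟩ := D.exists_char
  have ha_ne : a ≠ 1 := fun h => ha1 ((imgHom_eq_one_iff γ M _).mpr fun w _ => by
    show γ a w = w
    rw [h, map_one, Module.End.one_apply])
  obtain ⟨n, τ, N, hn, -, -, -, -, hN, hidx2⟩ := exists_small_support γ D.inj D.q2 C (centreOf C) D.qC χ D.cl
    le_rfl inf_le_left hTiff hW x 2 hx8 hdeg7 (D.norm hx) (by
      rw [hp2]
      exact fun h => ha_ne (D.eq_one_of_trivial haK h))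
  have hidxC : (posSub C a).relIndex C = N ^ 2 := hidx2 _ fun r hr => by
    rw [hp2]
    exact ⟨fun h => ⟨hr, by
      rw [← (mem_posSub.mp h).2, mul_inv_cancel_right, inv_mul_cancel]; exact one_mem _⟩,
      fun h => D.mem_posSub_of_mod haa hr h.2⟩
  have hposa : posSub C a = centreOf C :=
    le_antisymm (fun c hc => D.mem_centre_of_pos_neg hc (hia hc.1)) (D.centre_le_posSub a)
  have hC1 : (centreOf C).relIndex (posSub C z) = 9 := by
    let f : posSub C z →* R :=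
      { toFun := fun c => ⟨imgHom γ M ⟨c, hCM c.2⟩, imgHom_mem γ M c.2 (hCM c.2)⟩
        map_one' := Subtype.ext (map_one (imgHom γ M))
        map_mul' := fun u v => Subtype.ext (map_mul (imgHom γ M) ⟨u, hCM u.2⟩ ⟨v, hCM v.2⟩) }
    have hfs : Function.Surjective f := fun ⟨y, hy⟩ => by
      obtain ⟨g, hg, rfl⟩ := (mem_imgSub γ M).mp hy
      exact ⟨⟨(g : X), hg⟩, rfl⟩
    rw [← hidxR, Subgroup.relIndex, Subgroup.relIndex, ← Subgroup.index_comap_of_surjective _ hfs]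
    congr 1
    ext c
    rw [Subgroup.mem_subgroupOf, Subgroup.mem_comap, Subgroup.mem_subgroupOf]
    constructor
    · intro hc
      refine ⟨imgHom_mem γ M c.2 (hCM c.2), fun d' hd' => ?_⟩
      obtain ⟨d, hd, rfl⟩ := (mem_imgSub γ M).mp hd'
      show _ * imgHom γ M ⟨c, hCM c.2⟩ = imgHom γ M ⟨c, hCM c.2⟩ * _
      rw [← map_mul, ← map_mul]
      exact congrArg _ (Subtype.ext (D.central hc d))
    · intro hc
      refine ⟨c.2.1, fun d hd => ?_⟩
      obtain ⟨d₁, hd₁, d₂, hd₂, rfl⟩ := D.exists_split hzK hzz hd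
      have e₂ : Commute d₂ (c : X) := (D.pos_neg_commute c.2 hd₂).symm
      have e₁ : Commute d₁ (c : X) := by
        refine commutatorElement_eq_one_iff_mul_comm.mp (hf _ ?_ ?_)
        · rw [commutatorElement_def]
          exact mul_mem (mul_mem (mul_mem hd₁ c.2) (inv_mem hd₁)) (inv_mem c.2)
        · refine (imgHom_eq_one_iff γ M (⁅(⟨d₁, hCM hd₁⟩ : stabSub γ M), ⟨c, hCM c.2⟩⁆)).mp ?_
          rw [map_commutatorElement, commutatorElement_eq_one_iff_mul_comm]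
          exact hc.2 _ (imgHom_mem γ M hd₁ (hCM hd₁))
      exact (e₁.mul_left e₂).eq
  have hC2 : Nat.card (negSub D.cl z) = Nat.card (posSub C z) := by
    have hx₀i : x₀⁻¹ ∉ CK := fun h => hx₀C (by simpa using CK.inv_mem h)
    have hback : ∀ c ∈ posSub C z, x₀ * c * x₀⁻¹ ∈ negSub D.cl z := by
      intro c hc
      refine ⟨D.conj_mem hx₀ hc.1, ?_⟩
      have hzx : x₀⁻¹ * z * x₀ = a * z := by
        have h := hswap (inv_mem hx₀) hx₀i
        rwa [inv_inv] at h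
      have ht := (hia hc.1).2
      have hzc : z * c * z⁻¹ = c := by rw [← (mem_posSub.mp hc).2, mul_inv_cancel_right]
      have e : z * (x₀ * c * x₀⁻¹) * z⁻¹ * (x₀ * c * x₀⁻¹) = x₀ * (a * c * a⁻¹ * c) * x₀⁻¹ := by
        calc z * (x₀ * c * x₀⁻¹) * z⁻¹ * (x₀ * c * x₀⁻¹)
            = x₀ * ((x₀⁻¹ * z * x₀) * c * (x₀⁻¹ * z * x₀)⁻¹ * c) * x₀⁻¹ := by group
          _ = x₀ * (a * (z * c * z⁻¹) * a⁻¹ * c) * x₀⁻¹ := by rw [hzx]; group
          _ = _ := by rw [hzc]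
      rw [e, D.central ht x₀, mul_inv_cancel_right]
      exact ht
    exact Nat.card_congr
      { toFun := fun c => ⟨x₀⁻¹ * c * x₀, hpq hx₀ hx₀C c c.2⟩
        invFun := fun c => ⟨x₀ * c * x₀⁻¹, hback c c.2⟩
        left_inv := fun c => Subtype.ext (by show x₀ * (x₀⁻¹ * (c : X) * x₀) * x₀⁻¹ = c; group)
        right_inv := fun c => Subtype.ext (by show x₀⁻¹ * (x₀ * (c : X) * x₀⁻¹) * x₀ = c; group) }
  have h81 : (centreOf C).relIndex C = 81 := by
    have hT0 := Nat.card_pos (α := (centreOf C : Subgroup X))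
    have h1 := Subgroup.relIndex_mul_relIndex ⊥ (centreOf C) (posSub C z) bot_le (D.centre_le_posSub z)
    have h2 := Subgroup.relIndex_mul_relIndex ⊥ (centreOf C) C bot_le inf_le_left
    simp only [Subgroup.relIndex_bot_left] at h1 h2
    have h3 := D.card_pos_mul_card_neg hzK hzz le_rfl (fun h hh => D.conj_mem hzK hh) inf_le_left
    rw [inf_eq_left.mpr inf_le_left, inf_eq_left.mpr (negSub_le _ _), hC2, ← h1, hC1, ← h2] at h3
    exact Nat.eq_of_mul_eq_mul_left (Nat.mul_pos hT0 hT0) (by linarith)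
  rw [hposa, h81] at hidxC
  interval_cases n
  · rw [show N = 1 by simpa using hN] at hidxC; norm_num at hidxC
  · rw [show N = 3 by simp at hN; omega] at hidxC; norm_num at hidxC
  · rw [show N = 7 by simp at hN; omega] at hidxC; norm_num at hidxC

end CfsgLib.HallHigman
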