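import Cfsg.Agent.Lib.HallHigman.SympWeight

/-!
# Two plane involutions with square roots in one coset

If `y = σ²` and `y' = (bσ)²` negate at most a plane, and `y` commutes up to sign with `b` and `u`, then
`y'y` does not anticommute with `u`.
-/

namespace CfsgLib.HallHigman.Symp

open Module (End finrank)

variable {q : ℕ} [hq : Fact q.Prime] {W : Type*} [AddCommGroup W] [Module (ZMod q) W]
  {M : Type*} [CommGroup M] {B : W → W → M}

/-- An involutive isometry of a nondegenerate plane is multiplication by a sign. -/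
theorem exists_sign_on_plane [FiniteDimensional (ZMod q) W] (hB : IsSymp B) (hq2 : q.Coprime 2)
    {P : Submodule (ZMod q) W} (h2 : finrank (ZMod q) P = 2)
    (hnd : ∀ p ∈ P, (∀ p' ∈ P, B p p' = 1) → p = 0) {g : (End (ZMod q) W)ˣ} (hgi : IsIso B g)
    (hgP : ∀ p ∈ P, g • p ∈ P) (hinv : ∀ p ∈ P, g • g • p = p) :
    ∃ c : ZMod q, c * c = 1 ∧ ∀ p ∈ P, g • p = c • p := by
  rcases plane_invol hB hq2 h2 hnd hgi hgP hinv with h | h
  · exact ⟨1, one_mul 1, fun p hp => by rw [one_smul, h p hp]⟩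
  · exact ⟨-1, by ring, fun p hp => by rw [neg_one_smul, h p hp]⟩

/-- The key configuration on a symplectic space. -/
theorem false_of_plane_squares [FiniteDimensional (ZMod q) W] (hB : IsSymp B) (hq2 : q.Coprime 2)
    {σ b u y y' : (End (ZMod q) W)ˣ} (hσi : IsIso B σ) (hbi : IsIso B b)
    (hy : σ * σ = y) (hy' : b * σ * (b * σ) = y') (hyy : y * y = 1) (hyy' : y' * y' = 1)
    (hP : finrank (ZMod q) (minus y) ≤ 2) (hP' : finrank (ZMod q) (minus y') ≤ 2) (hy1 : y ≠ 1)
    (hb : b * b = 1 ∨ b * b = -1) (hyb : y * b = b * y ∨ y * b = -(b * y))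
    (hyu : y * u = u * y ∨ y * u = -(u * y)) (he : y' * y * u = -(u * (y' * y))) : False := by
  have hyi : IsIso B y := hy ▸ hσi.mul hσi
  have hy'i : IsIso B y' := hy' ▸ (hbi.mul hσi).mul (hbi.mul hσi)
  have hyni : IsIso B (-y) := fun a c => by
    rw [Units.neg_smul, Units.neg_smul, neg_left hB, neg_right hB, inv_inv, hyi]
  have hynn : -y * -y = 1 := by rw [neg_mul_neg, hyy]
  set P := minus y with hPdef
  set F := minus (-y) with hFdef
  have hF : ∀ w : W, w ∈ F ↔ y • w = w := fun w => by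
    rw [hFdef, mem_minus, Units.neg_smul, neg_inj]
  have hPP : ∀ p : W, p ∈ P ↔ y • p = -p := fun p => mem_minus
  have hP0 : P ≠ ⊥ := fun h => hy1 (units_ext fun w => by
    obtain ⟨a, c, ha, hc, rfl⟩ := exists_split hq2 hyy w
    rw [(Submodule.eq_bot_iff _).mp h c ((hPP c).mpr hc), add_zero, ha, one_smul])
  have hPnd := minus_nondeg hB hq2 hyy hyi
  have hFnd := minus_nondeg hB hq2 hynn hyni
  have hP2 : finrank (ZMod q) P = 2 := le_antisymm hP (two_le_finrank hB hP0 hPnd)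
  obtain ⟨p₀, hp₀, hp₀0⟩ := Submodule.exists_mem_ne_zero_of_ne_bot hP0
  have hyσ : y * σ = σ * y := by rw [← hy, mul_assoc]
  have hσP : ∀ p ∈ P, σ • p ∈ P := fun p hp => by
    rw [hPP] at hp ⊢
    rw [← mul_smul, hyσ, mul_smul, hp, smul_neg]
  have hσF : ∀ w ∈ F, σ • w ∈ F := fun w hw => by
    rw [hF] at hw ⊢
    rw [← mul_smul, hyσ, mul_smul, hw]
  have hσσ : ∀ w : W, σ • σ • w = y • w := fun w => by rw [← mul_smul, hy]
  have hy'mul : ∀ w : W, y' • w = b • σ • b • σ • w := fun w => by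
    rw [← hy', mul_smul, mul_smul, mul_smul]
  obtain ⟨ε, hε, hbb⟩ : ∃ ε : ZMod q, ε * ε = 1 ∧ ∀ w : W, b • b • w = ε • w := by
    rcases hb with h | h
    · exact ⟨1, one_mul 1, fun w => by rw [← mul_smul, h, one_smul, one_smul]⟩
    · exact ⟨-1, by ring, fun w => by rw [← mul_smul, h, Units.neg_smul, one_smul, neg_one_smul]⟩
  -- an anticommuting map exchanges the two eigenspaces
  have hswap : ∀ g : (End (ZMod q) W)ˣ, y * g = -(g * y) →
      (∀ p ∈ P, g • p ∈ F) ∧ finrank (ZMod q) F = 2 := by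
    intro g hg
    have h1 : ∀ p ∈ P, g • p ∈ F := fun p hp => by
      rw [hPP] at hp
      rw [hF, ← mul_smul, hg, Units.neg_smul, mul_smul, hp, smul_neg, neg_neg]
    have h2 : ∀ w ∈ F, g • w ∈ P := fun w hw => by
      rw [hF] at hw
      rw [hPP, ← mul_smul, hg, Units.neg_smul, mul_smul, hw]
    refine ⟨h1, le_antisymm ?_ ?_⟩
    · rw [← finrank_map_units g F, ← hP2]
      exact Submodule.finrank_mono (by rintro _ ⟨w, hw, rfl⟩; exact h2 w hw)
    · rw [← hP2, ← finrank_map_units g P]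
      exact Submodule.finrank_mono (by rintro _ ⟨p, hp, rfl⟩; exact h1 p hp)
  rcases hyb with hyb | hyb
  swap
  · -- `b` exchanges the eigenspaces
    obtain ⟨hbP, hF2⟩ := hswap b hyb
    obtain ⟨δ, hδ, hδF⟩ := exists_sign_on_plane hB hq2 hF2 hFnd hσi hσF fun w hw => by
      rw [hσσ, (hF w).mp hw]
    have hy'P : ∀ p ∈ P, y' • p = (δ * ε) • σ • p := fun p hp => by
      rw [hy'mul, hδF _ (hbP _ (hσP p hp)), smul_comm b δ, hbb, smul_smul]
    have h1 : y' • y' • p₀ = p₀ := by rw [← mul_smul, hyy', one_smul]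
    rw [hy'P p₀ hp₀, smul_comm y', hy'P _ (hσP p₀ hp₀), smul_smul, hσσ, (hPP p₀).mp hp₀,
      show δ * ε * (δ * ε) = 1 by rw [mul_mul_mul_comm, hδ, hε, one_mul], one_smul] at h1
    exact hp₀0 (eq_zero_of_eq_neg hq2 h1.symm)
  have hy'y : y' * y = y * y' := by
    have c1 : Commute (b * σ) y := (show Commute b y from hyb.symm).mul_left hyσ.symm
    rw [← hy']
    exact (c1.mul_left c1).eq
  have hbP : ∀ p ∈ P, b • p ∈ P := fun p hp => by
    rw [hPP] at hp ⊢
    rw [← mul_smul, hyb, mul_smul, hp, smul_neg]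
  have hbF : ∀ w ∈ F, b • w ∈ F := fun w hw => by
    rw [hF] at hw ⊢
    rw [← mul_smul, hyb, mul_smul, hw]
  obtain ⟨c, hc, hcP⟩ := exists_sign_on_plane hB hq2 hP2 hPnd hy'i
    (fun p hp => by
      rw [hPP] at hp ⊢
      rw [← mul_smul, ← hy'y, mul_smul, hp, smul_neg])
    (fun p _ => by rw [← mul_smul, hyy', one_smul])
  have hc0 : c ≠ 0 := fun h => by rw [h, mul_zero] at hc; exact one_ne_zero hc.symm
  have heP : ∀ p ∈ P, y' • y • u • p = c • u • p := fun p hp => by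
    rw [← mul_smul, ← mul_smul, he, Units.neg_smul, mul_smul, mul_smul, (hPP p).mp hp, smul_neg, hcP p hp,
      smul_neg, neg_neg, smul_comm]
  rcases hyu with hyu | hyu
  · -- `u` preserves the plane
    have hup : u • p₀ ∈ P := by
      rw [hPP, ← mul_smul, hyu, mul_smul, (hPP p₀).mp hp₀, smul_neg]
    have h1 := heP p₀ hp₀
    rw [(hPP _).mp hup, smul_neg, hcP _ hup] at h1
    have h2 := eq_zero_of_eq_neg hq2 h1.symm
    rw [smul_eq_zero, smul_eq_zero_iff_eq] at h2
    exact hp₀0 (h2.resolve_left hc0)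
  · obtain ⟨huP, hF2⟩ := hswap u hyu
    obtain ⟨δ, hδ, hδF⟩ := exists_sign_on_plane hB hq2 hF2 hFnd hσi hσF fun w hw => by
      rw [hσσ, (hF w).mp hw]
    have hy'F : ∀ w ∈ F, y' • w = ε • w := fun w hw => by
      rw [hy'mul, hδF w hw, smul_comm b δ, smul_comm σ δ, hδF _ (hbF w hw), smul_smul, hδ, one_smul, hbb]
    have hεc : ε = c := by
      have hup := huP p₀ hp₀
      have h1 := heP p₀ hp₀
      rw [(hF _).mp hup, hy'F _ hup] at h1
      by_contra hne
      refine hp₀0 ((smul_eq_zero_iff_eq u).mp ((smul_eq_zero.mp ?_).resolve_left (sub_ne_zero.mpr hne)))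
      rw [sub_smul, h1, sub_self]
    rcases hb with hb | hb
    · obtain ⟨β, hβ, hβP⟩ := exists_sign_on_plane hB hq2 hP2 hPnd hbi hbP
        (fun p _ => by rw [← mul_smul, hb, one_smul])
      have h1 : y' • p₀ = -p₀ := by
        rw [hy'mul, hβP _ (hσP p₀ hp₀), smul_comm σ β, hσσ, (hPP p₀).mp hp₀, smul_neg, smul_neg,
          smul_comm b β, hβP p₀ hp₀, smul_smul, hβ, one_smul]
      have h2 : ε = 1 := by
        have h3 := hbb p₀
        rw [← mul_smul, hb, one_smul] at h3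
        by_contra hne
        refine hp₀0 ((smul_eq_zero.mp ?_).resolve_left (sub_ne_zero.mpr hne))
        rw [sub_smul, ← h3, one_smul, sub_self]
      rw [hcP p₀ hp₀, ← hεc, h2, one_smul] at h1
      exact hp₀0 (eq_zero_of_eq_neg hq2 h1)
    · have hεm : ∀ w : W, ε • w = -w := fun w => by rw [← hbb, ← mul_smul, hb, Units.neg_smul, one_smul]
      have htop : P ⊔ F ≤ minus y' := by
        refine sup_le (fun p hp => mem_minus.mpr ?_) (fun w hw => mem_minus.mpr ?_)
        · rw [hcP p hp, ← hεc, hεm]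
        · rw [hy'F w hw, hεm]
      have hdis : P ⊓ F = ⊥ := (Submodule.eq_bot_iff _).mpr fun w hw => by
        have h1 := (hPP w).mp hw.1
        rw [(hF w).mp hw.2] at h1
        exact eq_zero_of_eq_neg hq2 h1
      have h5 := Submodule.finrank_sup_add_finrank_inf_eq P F
      rw [hdis, finrank_bot, add_zero, hP2, hF2] at h5
      have h6 := Submodule.finrank_mono htop
      omega

/-- A square root of an involution negating a plane stabilizes the weight spaces moved by the involution. -/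
theorem smul_mem_weightSpace_of_sq [FiniteDimensional (ZMod q) W] [Finite W] (hB : IsSymp B)
    (hq2 : q.Coprime 2) {E : Subgroup (End (ZMod q) W)ˣ} (hexp : ∀ z ∈ E, z * z = 1)
    (hEi : ∀ z ∈ E, IsIso B z) (hab : ∀ a ∈ E, ∀ b ∈ E, a * b = b * a) {v : W} (hv0 : v ≠ 0)
    (hv : ∀ z ∈ E, z • v = v ∨ z • v = -v) {σ y : (End (ZMod q) W)ˣ} (hσy : σ * σ = y) (hyy : y * y = 1)
    (hyi : IsIso B y) (hσE : ∀ z ∈ E, σ⁻¹ * z * σ ∈ E) (hyE : ∀ z ∈ E, z * y = y * z)
    (hP : finrank (ZMod q) (minus y) ≤ 2) (hne : ∃ w ∈ weightSpace E v, y • w ≠ w) :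
    ∀ w ∈ weightSpace E v, σ • w ∈ weightSpace E v := by
  set W' := weightSpace E v with hW'
  set Mv := minus y ⊓ W' with hMv
  have hWnd := weightSpace_nondeg hB hq2 hexp hEi hab hv0 hv
  have hsplit : ∀ x ∈ W', ∀ a b : W, y • a = a → y • b = -b → a + b = x → a ∈ W' ∧ b ∈ W' := by
    intro x hx a b ha hb hab'
    have h1 : y • x ∈ W' := smul_mem_weightSpace hyE hx
    have h2 : (2 : ZMod q) • b ∈ W' := by
      have e : (2 : ZMod q) • b = x - y • x := by rw [← hab', smul_add, ha, hb, two_smul]; abel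
      rw [e]; exact sub_mem hx h1
    have hbW : b ∈ W' := by
      have h3 := W'.smul_mem (2 : ZMod q)⁻¹ h2
      rwa [smul_smul, mul_comm, two_mul_half hq2, one_smul] at h3
    exact ⟨by rw [eq_sub_of_add_eq hab']; exact sub_mem hx hbW, hbW⟩
  have hMvnd : ∀ p ∈ Mv, (∀ p' ∈ Mv, B p p' = 1) → p = 0 := fun p hp h =>
    hWnd p hp.2 fun x hx => by
      obtain ⟨a, b, ha, hb, hab'⟩ := exists_split hq2 hyy x
      obtain ⟨-, hbW⟩ := hsplit x hx a b ha hb hab'
      rw [← hab', hB.add_right, h b ⟨mem_minus.mpr hb, hbW⟩, mul_one]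
      exact perp_symm hB (orth_of_signs hB hq2 hyi ha (mem_minus.mp hp.1))
  have hMv0 : Mv ≠ ⊥ := fun hbot => by
    obtain ⟨x, hx, hxne⟩ := hne
    obtain ⟨a, b, ha, hb, hab'⟩ := exists_split hq2 hyy x
    have hb0 : b = 0 := (Submodule.eq_bot_iff _).mp hbot b ⟨mem_minus.mpr hb, (hsplit x hx a b ha hb hab').2⟩
    apply hxne
    rw [← hab', hb0, add_zero, ha]
  have hMv2 := two_le_finrank hB hMv0 hMvnd
  intro w hw z hz a ha
  set z' := σ⁻¹ * z * σ with hz'
  obtain ⟨a', ha'⟩ : ∃ a' : ZMod q, z' • v = a' • v := by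
    rcases hv z' (hσE z hz) with h | h
    · exact ⟨1, by rw [one_smul, h]⟩
    · exact ⟨-1, by rw [neg_one_smul, h]⟩
  have hzσ : ∀ x ∈ W', z • σ • x = a' • σ • x := fun x hx => by
    have h2 := hx _ (hσE z hz) a' ha'
    rw [mul_smul, mul_smul, inv_smul_eq_iff, smul_comm σ] at h2
    exact h2
  rw [hzσ w hw]
  by_contra hne2
  have hne3 : a' ≠ a := fun h => hne2 (by rw [h])
  set Mσ := Mv.map (σ : End (ZMod q) W) with hMσ
  have hle : Mv ⊔ Mσ ≤ minus y := by
    refine sup_le inf_le_left ?_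
    rintro _ ⟨p, hp, rfl⟩
    show σ • p ∈ minus y
    have hyσ : y * σ = σ * y := by rw [← hσy, mul_assoc]
    rw [mem_minus, ← mul_smul, hyσ, mul_smul, mem_minus.mp hp.1, smul_neg]
  have hdis : Mv ⊓ Mσ = ⊥ := by
    rw [Submodule.eq_bot_iff]
    rintro p₁ ⟨hp₁, p₂, hp₂, rfl⟩
    change σ • p₂ = 0
    have h3 : z • σ • p₂ = a • σ • p₂ := hp₁.2 z hz a ha
    rw [hzσ p₂ hp₂.2] at h3
    have h4 : (a' - a) • σ • p₂ = 0 := by rw [sub_smul, h3, sub_self]
    exact (smul_eq_zero.mp h4).resolve_left (sub_ne_zero.mpr hne3)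
  have h5 := Submodule.finrank_sup_add_finrank_inf_eq Mv Mσ
  rw [hdis, finrank_bot, add_zero, hMσ, finrank_map_units] at h5
  have h6 := Submodule.finrank_mono hle
  rw [hMσ] at h6
  omega

end CfsgLib.HallHigman.Symp
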