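import Cfsg.Agent.Lib.HallHigman.DerivedBlock
import Cfsg.Agent.Lib.HallHigman.SympPlane

/-!
# The last term of the derived series on a class-two section

An element of the last term of the derived series that moves a section acts on it as an involution negating
a plane, and the previous term stabilizes the section.
-/

namespace CfsgLib.HallHigman

open Module (End finrank)
open Cfsg CfsgLib.PCore
open scoped commutatorElement

universe u v

variable {X : Type u} [Group X] [Finite X] {K : Type*} [Field K] [IsAlgClosed K] [CharP K 2]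
  {V : Type v} [AddCommGroup V] [Module K V] [FiniteDimensional K V]

/-- A nontrivial `2`-element of the kernel moves the section of some central character. -/
theorem exists_moved_character (hX : Group.IsSolvable X) (h0 : pCore 2 X = ⊥) (γ : X →* End K V)
    (hγ : Function.Injective γ) {c : X} (hc : c ∈ centreKernel X) (hc2 : ∃ k : ℕ, c ^ 2 ^ k = 1) (hc1 : c ≠ 1) :
    ∃ (q : ℕ) (C : Subgroup X) (χ : X → K) (T : Subgroup X), (q.Prime ∧ q ≠ 2 ∧ IsClassTwoNormal q C) ∧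
      centreOf C ≤ T ∧ T ≤ C ∧ (∀ g ∈ C, (g ∈ T ↔ ∀ h ∈ C, χ ⁅g, h⁆ = 1)) ∧
      charSpace γ (centreOf C) χ ≠ ⊥ ∧ ∃ r ∈ C, r⁻¹ * (c * r * c⁻¹) ∉ T := by
  classical
  obtain ⟨k, hk⟩ := hc2
  have h2 := Fact.mk Nat.prime_two
  -- some class-two normal subgroup is moved
  obtain ⟨q, C, hqC, hmove⟩ : ∃ (q : ℕ) (C : Subgroup X), (q.Prime ∧ q ≠ 2 ∧ IsClassTwoNormal q C) ∧
      ¬ ∀ r ∈ C, c * r = r * c := by
    by_contra hcon
    push Not at hcon
    have hF : c ∈ Subgroup.centralizer (fittingSubgroup X : Set X) := by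
      rw [Subgroup.mem_centralizer_iff]
      intro f hf
      have hle : fittingSubgroup X ≤ Subgroup.centralizer ({c} : Set X) := by
        rw [CfsgLib.Fitting.fitting_eq_iSup_pCore]
        refine iSup_le fun q => ?_
        set P := pCore (q : ℕ) X with hP
        have hqp : (q : ℕ).Prime := Nat.prime_of_mem_primeFactors q.2
        have := Fact.mk hqp
        by_cases hq2 : (q : ℕ) = 2
        · rw [hP, hq2, h0]; exact bot_le
        obtain ⟨C₀, hC₀c, hC₀self, hC₀cl, hC₀pow⟩ :=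
          CfsgLib.PGroup.exists_critical (CfsgLib.Fitting.pCore_isPGroup (G := X) (q : ℕ))
        have : P.Normal := CfsgLib.Fitting.pCore_normal _
        set C := C₀.map P.subtype with hC
        have hcen : ∀ a : P, a ∈ C₀ ⊓ Subgroup.centralizer (C₀ : Set P) → (a : X) ∈ centreOf C := by
          rintro a ⟨ha, ha'⟩
          refine ⟨⟨a, ha, rfl⟩, ?_⟩
          rintro _ ⟨b, hb, rfl⟩
          exact congrArg Subtype.val (ha' b hb)
        have hCgood : IsClassTwoNormal (q : ℕ) C := by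
          refine ⟨inferInstanceAs (C₀.map P.subtype).Normal, ?_, ?_, ?_⟩
          · exact (((CfsgLib.Fitting.pCore_isPGroup (q : ℕ)).to_subgroup C₀).map P.subtype)
          · rintro _ ⟨a, ha, rfl⟩ _ ⟨b, hb, rfl⟩
            rw [← map_commutatorElement]
            exact hcen _ (hC₀cl a b hb)
          · rintro _ ⟨a, ha, rfl⟩
            rw [← map_pow]
            exact hcen _ (hC₀pow a ha)
        have hcC := hcon q C ⟨hqp, hq2, hCgood⟩
        -- coprime action trivial on a critical subgroup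
        set A := Subgroup.zpowers c with hA
        have hAC : ⁅A, C⁆ = ⊥ := by
          rw [Subgroup.commutator_eq_bot_iff_le_centralizer, hA, Subgroup.zpowers_le]
          exact fun r hr => (hcC r hr).symm
        have hPC : ⁅C, P⁆ ≤ C := by
          have : C.Normal := hCgood.1
          exact Subgroup.commutator_le_left C P
        have h1 : ⁅⁅P, A⁆, C⁆ = ⊥ := by
          refine Subgroup.commutator_commutator_eq_bot_of_rotate ?_ ?_
          · rw [hAC, Subgroup.commutator_bot_left]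
          · exact eq_bot_iff.mpr ((Subgroup.commutator_mono hPC le_rfl).trans
              (by rw [Subgroup.commutator_comm, hAC]))
        have hAP : A ≤ Subgroup.normalizer (P : Set X) := Subgroup.le_normalizer_of_normal
        have h3 : ⁅P, A⁆ ≤ C := by
          intro w hw
          have hwP : w ∈ P := CfsgLib.Coprime.commutator_le_of_normalizes hAP hw
          have hwC : (⟨w, hwP⟩ : P) ∈ Subgroup.centralizer (C₀ : Set P) := fun b hb => Subtype.ext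
            ((Subgroup.commutator_eq_bot_iff_le_centralizer.mp h1 hw) (b : X) ⟨b, hb, rfl⟩)
          exact ⟨⟨w, hwP⟩, hC₀self hwC, rfl⟩
        have h4 : ⁅⁅P, A⁆, A⁆ = ⊥ := eq_bot_iff.mpr ((Subgroup.commutator_mono h3 le_rfl).trans
          (by rw [Subgroup.commutator_comm, hAC]))
        have hcop : (Nat.card A).Coprime (Nat.card P) := by
          obtain ⟨j, hj⟩ := (CfsgLib.Fitting.pCore_isPGroup (G := X) (q : ℕ)).exists_card_eq
          rw [hA, Nat.card_zpowers, hj]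
          exact Nat.Coprime.coprime_dvd_left (orderOf_dvd_of_pow_eq_one hk)
            (Nat.Coprime.pow _ _ ((Nat.coprime_primes Nat.prime_two hqp).mpr (Ne.symm hq2)))
        have h5 := CfsgLib.Coprime.commutator_eq_bot_of_commutator_commutator_eq_bot A P hAP hcop
          (Or.inl inferInstance) h4
        intro r hr
        rw [Subgroup.mem_centralizer_singleton_iff]
        exact ((Subgroup.commutator_eq_bot_iff_le_centralizer.mp h5) hr c (Subgroup.mem_zpowers c)).symm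
      exact (Subgroup.mem_centralizer_singleton_iff.mp (hle hf))
    have hcF : c ∈ fittingSubgroup X := CfsgLib.Fitting.centralizer_fitting_le hF
    have hP : IsPGroup 2 (Subgroup.zpowers (⟨c, hcF⟩ : fittingSubgroup X)) := by
      obtain ⟨j, -, hj⟩ := (Nat.dvd_prime_pow Nat.prime_two).mp
        (orderOf_dvd_of_pow_eq_one (show (⟨c, hcF⟩ : fittingSubgroup X) ^ 2 ^ k = 1 from Subtype.ext hk))
      exact IsPGroup.of_card (n := j) (by rw [Nat.card_zpowers, hj])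
    obtain ⟨S, hS⟩ := hP.exists_le_sylow
    have h5 := CfsgLib.Fitting.sylow_fitting_eq_pCore S
    have h6 : c ∈ (S : Subgroup (fittingSubgroup X)).map (fittingSubgroup X).subtype :=
      ⟨⟨c, hcF⟩, hS (Subgroup.mem_zpowers _), rfl⟩
    rw [h5, h0, Subgroup.mem_bot] at h6
    exact hc1 h6
  obtain ⟨hq, hq2, hCgood⟩ := hqC
  have := Fact.mk hq
  have hq2' : q.Coprime 2 := (Nat.coprime_primes hq Nat.prime_two).mpr hq2
  obtain ⟨hCn, hCq, hcl, -⟩ := id hCgood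
  have hcZ : ∀ z ∈ centreOf C, z * c = c * z := mem_centreKernel.mp hc q C ⟨hq, hq2, hCgood⟩
  -- some element is moved modulo the centre
  obtain ⟨r, hr, hd⟩ : ∃ r ∈ C, r⁻¹ * (c * r * c⁻¹) ∉ centreOf C := by
    by_contra hcon
    push Not at hcon
    refine hmove fun r hr => ?_
    set z := r⁻¹ * (c * r * c⁻¹) with hzdef
    have hz := hcon r hr
    have hkk : ∀ i : ℕ, c ^ i * r * (c ^ i)⁻¹ = r * z ^ i := by
      intro i
      induction i with
      | zero => simp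
      | succ i ih =>
        rw [pow_succ' c, show c * c ^ i * r * (c * c ^ i)⁻¹ = c * (c ^ i * r * (c ^ i)⁻¹) * c⁻¹ by group, ih,
          show c * (r * z ^ i) * c⁻¹ = (c * r * c⁻¹) * (c * z ^ i * c⁻¹) by group,
          ((show Commute c z from (hcZ z hz).symm).pow_right i).eq, mul_inv_cancel_right,
          show c * r * c⁻¹ = r * z by rw [hzdef]; group, mul_assoc, ← pow_succ']
    have h1 := hkk (2 ^ k)
    rw [hk, one_mul, inv_one, mul_one, left_eq_mul] at h1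
    obtain ⟨j, hj⟩ := hCq ⟨z, hz.1⟩
    have hz1 : z = 1 := orderOf_eq_one_iff.mp (Nat.eq_one_of_dvd_coprimes
      ((hq2'.symm.pow_left k).pow_right j)
      (orderOf_dvd_of_pow_eq_one h1) (orderOf_dvd_of_pow_eq_one (congrArg Subtype.val hj)))
    calc c * r = r * (r⁻¹ * (c * r * c⁻¹)) * c := by group
      _ = r * c := by rw [← hzdef, hz1, mul_one]
  have hdC : r⁻¹ * (c * r * c⁻¹) ∈ C := C.mul_mem (C.inv_mem hr) (hCn.conj_mem r hr c)
  obtain ⟨h, hh, hdh⟩ : ∃ h ∈ C, r⁻¹ * (c * r * c⁻¹) * h ≠ h * (r⁻¹ * (c * r * c⁻¹)) := by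
    by_contra hcon
    push Not at hcon
    exact hd ⟨hdC, fun h hh => (hcon h hh).symm⟩
  obtain ⟨χ, T, hZT, hTC, hTiff, hWχ, hχd⟩ :=
    exists_central_character_of_ne γ hγ hq2 C hCq hcl hdC hh hdh
  exact ⟨q, C, χ, T, ⟨hq, hq2, hCgood⟩, hZT, hTC.le, hTiff, hWχ, r, hr,
    fun h => hχd ((hTiff _ hdC).mp h _ hh)⟩

omit [Finite X] in
/-- Whatever normalizes a subgroup normalizes its centre. -/
theorem le_normalizer_centreOf {P C : Subgroup X} (h : P ≤ Subgroup.normalizer (C : Set X)) :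
    P ≤ Subgroup.normalizer (centreOf C : Set X) := by
  intro g hg
  have key : ∀ a ∈ Subgroup.normalizer (C : Set X), ∀ z ∈ centreOf C, a * z * a⁻¹ ∈ centreOf C := by
    intro a ha z hz
    refine ⟨(Subgroup.mem_normalizer_iff.mp ha z).mp hz.1, fun b hb => ?_⟩
    have h1 := hz.2 _ ((Subgroup.mem_normalizer_iff''.mp ha b).mp hb)
    calc b * (a * z * a⁻¹) = a * (a⁻¹ * b * a * z) * a⁻¹ := by group
      _ = a * (z * (a⁻¹ * b * a)) * a⁻¹ := by rw [h1]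
      _ = a * z * a⁻¹ * b := by group
  refine Subgroup.mem_normalizer_iff.mpr fun z => ⟨key g (h hg) z, fun hz => ?_⟩
  have h1 := key g⁻¹ (inv_mem (h hg)) _ hz
  rwa [show g⁻¹ * (g * z * g⁻¹) * g⁻¹⁻¹ = z by group] at h1

/-- The last term of the derived series centralizes the centres of class-two normal subgroups. -/
theorem dSer_le_centreKernel (γ : X →* End K V) (hγ : Function.Injective γ) {P : Subgroup X} (hP : IsPGroup 2 P)
    {d : ℕ} (hk : KillsChains γ P (d + 1)) : dSer P d ≤ centreKernel X := by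
  intro a ha
  rw [mem_centreKernel]
  rintro q C ⟨hq, hq2, hCn, hCq, -, -⟩ z hz
  have := Fact.mk hq
  by_contra hne
  have he : a * z * a⁻¹ * z⁻¹ ∈ centreOf C := mul_mem (conj_mem_centreOf hCn a hz) (inv_mem hz)
  have he1 : a * z * a⁻¹ * z⁻¹ ≠ 1 := fun h =>
    hne (mul_inv_eq_iff_eq_mul.mp (mul_inv_eq_one.mp h)).symm
  obtain ⟨χ, hW, hχe⟩ := exists_char_ne γ hγ hq2 (Z := centreOf C) (hCq.to_le inf_le_left)
    (fun x hx y hy => hy.2 x hx.1) he he1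
  obtain ⟨j, hj, hfix, -, -⟩ := exists_block γ hP hk hq2 (hCq.to_le inf_le_left)
    (le_normalizer_centreOf fun g _ => mem_normalizer_map_conj.mpr fun r hr => hCn.conj_mem r hr g) χ hW
  obtain ⟨v, hv, hv0⟩ := Submodule.exists_mem_ne_zero_of_ne_bot hW
  apply hχe
  have hfa := hfix a (dSer_antitone P hj ha) z hz
  have h1 : γ (a * z * a⁻¹ * z⁻¹) v = v := by
    rw [map_mul, Module.End.mul_apply]
    have h2 : γ z⁻¹ v ∈ charSpace γ (centreOf C) χ := charSpace_map_mem γ (fun w hw => by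
      rw [show z⁻¹⁻¹ * w * z⁻¹ = w by rw [inv_inv, hw.2 z hz.1]; group, eq_self_iff_true, and_true]
      exact hw) v hv
    rw [h2 _ (conj_mem_centreOf hCn a hz), hfa, ← map_smul, ← hv z hz, ← Module.End.mul_apply, ← map_mul,
      inv_mul_cancel, map_one, Module.End.one_apply]
  rw [hv _ he] at h1
  exact sub_eq_zero.mp ((smul_eq_zero.mp (show (χ (a * z * a⁻¹ * z⁻¹) - 1) • v = 0 by
    rw [sub_smul, h1, one_smul, sub_self])).resolve_right hv0)

omit [IsAlgClosed K] [CharP K 2] [FiniteDimensional K V] in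
/-- Irreducibility passes to the operator group. -/
theorem irr_img (γ : X →* End K V) {M : Submodule K V} {C : Subgroup X} (hCM : C ≤ stabSub γ M)
    (hirr : ∀ S ≤ M, C ≤ stabSub γ S → S = ⊥ ∨ S = M) (W : Submodule K M)
    (hW : imgSub γ M C ≤ stabSub (imgRep γ M) W) : W = ⊥ ∨ W = ⊤ := by
  rcases hirr (W.map M.subtype) (Submodule.map_subtype_le M W) (fun c hc => by
    rintro _ ⟨w, hw, rfl⟩
    exact ⟨_, hW (imgHom_mem γ M hc (hCM hc)) w hw, imgRep_apply γ M ⟨c, hCM hc⟩ w⟩) with h | h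
  · exact Or.inl (Submodule.map_injective_of_injective M.injective_subtype (by rw [h, Submodule.map_bot]))
  · refine Or.inr (Submodule.map_injective_of_injective M.injective_subtype ?_)
    rw [h, Submodule.map_top, Submodule.range_subtype]

set_option maxHeartbeats 1600000 in
/-- A term of the derived series acting on an irreducible model of a section. -/
theorem exists_model (γ : X →* End K V) {P : Subgroup X} (hP : IsPGroup 2 P) {d : ℕ}
    (hk : KillsChains γ P (d + 1)) {q : ℕ} [Fact q.Prime] (hq2 : q ≠ 2) (C : Subgroup X) (hCn : C.Normal)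
    (hCq : IsPGroup q C) (hcl : ∀ g ∈ C, ∀ h ∈ C, ⁅g, h⁆ ∈ centreOf C) (χ : X → K) (T : Subgroup X)
    (hTiff : ∀ g ∈ C, (g ∈ T ↔ ∀ h ∈ C, χ ⁅g, h⁆ = 1)) (hW : charSpace γ (centreOf C) χ ≠ ⊥) :
    ∃ J ≤ d, (∀ g ∈ dSer P J, ∀ z ∈ centreOf C, χ (g * z * g⁻¹) = χ z) ∧
      ∃ (S : Subgroup X) (hCS : C ≤ S) (_ : dSer P J ≤ S) (Y : Type v) (_ : Group Y) (_ : Finite Y) (V' : Type v)
        (_ : AddCommGroup V') (_ : Module K V') (_ : FiniteDimensional K V') (δ : Y →* End K V') (f : S →* Y),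
        IrrData δ q ((C.subgroupOf S).map f) (((dSer P J).subgroupOf S).map f) ∧
        KillsChains δ (((dSer P J).subgroupOf S).map f) (d - J + 1) ∧
        ∀ (t : X) (ht : t ∈ C), f ⟨t, hCS ht⟩ ∈ centreOf ((C.subgroupOf S).map f) ↔ t ∈ T := by
  classical
  have hq : q.Prime := Fact.out
  have hnC : ∀ Q : Subgroup X, Q ≤ Subgroup.normalizer (C : Set X) := fun Q g _ =>
    mem_normalizer_map_conj.mpr fun w hw => hCn.conj_mem w hw g
  -- first eigenspace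
  obtain ⟨j₀, hj₀, hfix, hPW, hk₁⟩ :=
    exists_block γ hP hk hq2 (hCq.to_le inf_le_left) (le_normalizer_centreOf (hnC P)) χ hW
  set W₁ := charSpace γ (centreOf C) χ with hW₁
  have hCW : C ≤ stabSub γ W₁ := fun g hg => charSpace_map_mem γ fun z hz => by
    rw [mul_assoc, ← hz.2 g hg, inv_mul_cancel_left]
    exact ⟨hz, rfl⟩
  set C₁ := imgSub γ W₁ C with hC₁
  have hs₁ : ScalComm (imgRep γ W₁) C₁ :=
    scalComm_img γ fun a ha b hb => ⟨χ ⁅a, b⁆, fun w hw => hw _ (hcl a ha b hb)⟩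
  have hi₁ : Function.Injective (imgRep γ W₁) := imgRep_injective γ W₁
  have hT₁ : ∀ (t : X) (ht : t ∈ C), imgHom γ W₁ ⟨t, hCW ht⟩ ∈ centreOf C₁ ↔ t ∈ T := by
    intro t ht
    rw [hC₁, mem_centre_img_iff γ hCW ht, hTiff t ht]
    constructor
    · intro h b hb
      obtain ⟨v, hv, hv0⟩ := Submodule.exists_mem_ne_zero_of_ne_bot hW
      have h1 := h b hb v hv
      rw [hv _ (hcl t ht b hb)] at h1
      exact sub_eq_zero.mp ((smul_eq_zero.mp (show (χ ⁅t, b⁆ - 1) • v = 0 by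
        rw [sub_smul, h1, one_smul, sub_self])).resolve_right hv0)
    · intro h b hb w hw
      rw [hw _ (hcl t ht b hb), h b hb, one_smul]
  have hC₁q : IsPGroup q C₁ := isPGroup_imgSub γ W₁ hCq
  have : Nontrivial W₁ := Submodule.nontrivial_iff_ne_bot.mpr hW
  obtain ⟨ξ, hWξ⟩ := exists_char_ne_bot (imgRep γ W₁) (Z := centreOf C₁) (fun x hx y hy => hy.2 x hx.1)
  -- second eigenspace
  set P₁ := imgSub γ W₁ (dSer P j₀) with hP₁
  have hP₁2 : IsPGroup 2 P₁ := isPGroup_imgSub γ W₁ (hP.to_le (dSer_le P j₀))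
  have hP₁C : P₁ ≤ Subgroup.normalizer (C₁ : Set (imgGroup γ W₁)) := imgSub_le_normalizer γ W₁ (hnC _)
  obtain ⟨j₁, hj₁, -, hPW₂, hk₂⟩ := exists_block (imgRep γ W₁) hP₁2 (d := d - j₀)
    (by rwa [show d - j₀ + 1 = d + 1 - j₀ by omega]) hq2 (hC₁q.to_le inf_le_left)
    (le_normalizer_centreOf hP₁C) ξ hWξ
  set W₂ := charSpace (imgRep γ W₁) (centreOf C₁) ξ with hW₂
  set J := j₀ + j₁ with hJ
  have hJd : J ≤ d := by omega
  have hPJ : dSer P₁ j₁ = imgSub γ W₁ (dSer P J) := by rw [hP₁, dSer_imgSub γ W₁ hPW, dSer_dSer]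
  have hC₁W : C₁ ≤ stabSub (imgRep γ W₁) W₂ := fun g hg => charSpace_map_mem _ fun z hz => by
    rw [mul_assoc, ← hz.2 g hg, inv_mul_cancel_left]
    exact ⟨hz, rfl⟩
  set C₂ := imgSub (imgRep γ W₁) W₂ C₁ with hC₂
  set K₂ := imgSub (imgRep γ W₁) W₂ (dSer P₁ j₁) with hK₂
  have hi₂ : Function.Injective (imgRep (imgRep γ W₁) W₂) := imgRep_injective _ W₂
  have hs₂ : ScalComm (imgRep (imgRep γ W₁) W₂) C₂ := scalComm_img _ fun a ha b hb => by
    obtain ⟨l, hl⟩ := hs₁ a ha b hb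
    exact ⟨l, fun w _ => by rw [hl, LinearMap.smul_apply, Module.End.one_apply]⟩
  have hK₂C : K₂ ≤ Subgroup.normalizer (C₂ : Set (imgGroup (imgRep γ W₁) W₂)) :=
    imgSub_le_normalizer _ W₂ ((dSer_le P₁ j₁).trans hP₁C)
  have hC₂q : IsPGroup q C₂ := isPGroup_imgSub _ W₂ hC₁q
  have hK₂2 : IsPGroup 2 K₂ := isPGroup_imgSub _ W₂ (hP₁2.to_le (dSer_le P₁ j₁))
  have : Nontrivial W₂ := Submodule.nontrivial_iff_ne_bot.mpr hWξ
  obtain ⟨M, -, hM0, hCM, hKM, hirr⟩ := exists_irred_invariant (imgRep (imgRep γ W₁) W₂) hi₂ C₂ hC₂q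
    (cl_of_scalComm hi₂ hs₂) (fun z' hz' => by
      obtain ⟨⟨z, hzW⟩, hz, rfl⟩ := (mem_imgSub _ W₂).mp hz'.1
      have hz1 := (mem_centre_img_of_scal hi₁ hWξ hs₁ hC₁W hz).mp hz'
      refine ⟨ξ z, LinearMap.ext fun w => Subtype.ext ?_⟩
      rw [imgRep_apply]
      exact w.2 z hz1) _ K₂ rfl hK₂2 hK₂C ⊤ top_ne_bot (fun _ _ _ _ => Submodule.mem_top)
    (fun _ _ _ _ => Submodule.mem_top)
  set ρ₂ := imgRep (imgRep γ W₁) W₂ with hρ₂
  set C₃ := imgSub ρ₂ M C₂ with hC₃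
  set K₃ := imgSub ρ₂ M K₂ with hK₃
  have hs₃ := scalComm_img (W := M) (C := C₂) ρ₂ fun a ha b hb => by
    obtain ⟨l, hl⟩ := hs₂ a ha b hb
    exact ⟨l, fun w _ => by rw [hl, LinearMap.smul_apply, Module.End.one_apply]⟩
  have D : IrrData (imgRep ρ₂ M) q C₃ K₃ :=
    ⟨imgRep_injective ρ₂ M, hq, hq2, isPGroup_imgSub ρ₂ M hC₂q, cl_of_scalComm (imgRep_injective ρ₂ M) hs₃,
      Submodule.nontrivial_iff_ne_bot.mpr hM0, irr_img ρ₂ hCM hirr, isPGroup_imgSub ρ₂ M hK₂2,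
      imgSub_le_normalizer ρ₂ M hK₂C⟩
  have hk₃ := killsChains_img ρ₂ (n := d - j₀ + 1 - j₁) hKM fun l hl hll w _ => by rw [hk₂ l hl hll, LinearMap.zero_apply]
  -- the composite
  set S := C ⊔ dSer P J with hS
  have hPJW : dSer P J ≤ stabSub γ W₁ := (dSer_antitone P (Nat.le_add_right j₀ j₁)).trans hPW
  have hSW : S ≤ stabSub γ W₁ := sup_le hCW hPJW
  set f₁ := stepHom γ W₁ S.subtype (fun s => hSW s.2) with hf₁
  have hCS : C ≤ S := le_sup_left
  have hPS : dSer P J ≤ S := le_sup_right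
  have hmapC₁ : (C.subgroupOf S).map f₁ = C₁ := by
    rw [hf₁, map_stepHom, Subgroup.map_subgroupOf_eq_of_le hCS]
  have hmapK₁ : ((dSer P J).subgroupOf S).map f₁ = dSer P₁ j₁ := by
    rw [hf₁, map_stepHom, Subgroup.map_subgroupOf_eq_of_le hPS, hPJ]
  have hgen : C.subgroupOf S ⊔ (dSer P J).subgroupOf S = ⊤ := by
    refine Subgroup.map_injective S.subtype_injective ?_
    rw [Subgroup.map_sup, Subgroup.map_subgroupOf_eq_of_le hCS, Subgroup.map_subgroupOf_eq_of_le hPS,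
      ← MonoidHom.range_eq_map, Subgroup.range_subtype]
  have hrange : ∀ {G : Type u} [Group G] (f : S →* G) (U : Subgroup G),
      (C.subgroupOf S).map f ≤ U → ((dSer P J).subgroupOf S).map f ≤ U → ∀ s, f s ∈ U := by
    intro G _ f U h1 h2 s
    have h3 : (⊤ : Subgroup S) ≤ U.comap f :=
      hgen ▸ sup_le (Subgroup.map_le_iff_le_comap.mp h1) (Subgroup.map_le_iff_le_comap.mp h2)
    exact h3 (Subgroup.mem_top s)
  have hst₂ : ∀ s, f₁ s ∈ stabSub (imgRep γ W₁) W₂ := by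
    intro s
    have h3 : (⊤ : Subgroup S) ≤ (stabSub (imgRep γ W₁) W₂).comap f₁ := hgen ▸ sup_le
      (Subgroup.map_le_iff_le_comap.mp (hmapC₁.le.trans hC₁W))
      (Subgroup.map_le_iff_le_comap.mp (hmapK₁.le.trans hPW₂))
    exact h3 (Subgroup.mem_top s)
  set f₂ := stepHom (imgRep γ W₁) W₂ f₁ hst₂ with hf₂
  have hmapC₂ : (C.subgroupOf S).map f₂ = C₂ := by rw [hf₂, map_stepHom, hmapC₁]
  have hmapK₂ : ((dSer P J).subgroupOf S).map f₂ = K₂ := by rw [hf₂, map_stepHom, hmapK₁]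
  have hst₃ : ∀ s, f₂ s ∈ stabSub ρ₂ M := by
    intro s
    have h3 : (⊤ : Subgroup S) ≤ (stabSub ρ₂ M).comap f₂ := hgen ▸ sup_le
      (Subgroup.map_le_iff_le_comap.mp (hmapC₂.le.trans hCM))
      (Subgroup.map_le_iff_le_comap.mp (hmapK₂.le.trans hKM))
    exact h3 (Subgroup.mem_top s)
  set f₃ := stepHom ρ₂ M f₂ hst₃ with hf₃
  have hmapC₃ : (C.subgroupOf S).map f₃ = C₃ := by rw [hf₃, map_stepHom, hmapC₂]
  have hmapK₃ : ((dSer P J).subgroupOf S).map f₃ = K₃ := by rw [hf₃, map_stepHom, hmapK₂]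
  have hcen : ∀ (t : X) (ht : t ∈ C), f₃ ⟨t, hCS ht⟩ ∈ centreOf C₃ ↔ t ∈ T := by
    intro t ht
    have h2 : f₂ ⟨t, hCS ht⟩ ∈ C₂ := hmapC₂.le ⟨⟨t, hCS ht⟩, ht, rfl⟩
    have h1 : f₁ ⟨t, hCS ht⟩ ∈ C₁ := hmapC₁.le ⟨⟨t, hCS ht⟩, ht, rfl⟩
    exact ((mem_centre_img_of_scal hi₂ hM0 hs₂ hCM h2).trans
      (mem_centre_img_of_scal hi₁ hWξ hs₁ hC₁W h1)).trans (hT₁ t ht)
  refine ⟨J, hJd, fun g hg => hfix g (dSer_antitone P (Nat.le_add_right j₀ j₁) hg), S, hCS, hPS, _, inferInstance,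
    inferInstance, M, inferInstance, inferInstance, inferInstance, imgRep ρ₂ M, f₃, ?_, ?_, fun t ht => ?_⟩
  · rw [hmapC₃, hmapK₃]; exact D
  · rw [hmapK₃, show d - J + 1 = d - j₀ + 1 - j₁ by omega]; exact hk₃
  · rw [hmapC₃]; exact hcen t ht

set_option maxHeartbeats 1600000 in
/-- An element of the last term that moves a section negates a plane there, and the previous term acts. -/
theorem exists_derived_rep (hX : Group.IsSolvable X) (h0 : pCore 2 X = ⊥) (γ : X →* End K V)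
    (hγ : Function.Injective γ) {P : Subgroup X} (hP : IsPGroup 2 P) {d : ℕ} (hk : KillsChains γ P (d + 1))
    {c : X} (hc : c ∈ dSer P d) (hc1 : c ≠ 1) :
    ∃ (q : ℕ) (_ : Fact q.Prime) (_ : q.Coprime 2) (W : Type u) (_ : AddCommGroup W) (_ : Module (ZMod q) W)
      (_ : FiniteDimensional (ZMod q) W) (B : W → W → Kˣ) (H : Subgroup X) (ρ : H →* (End (ZMod q) W)ˣ),
      Symp.IsSymp B ∧ (∀ g, Symp.IsIso B (ρ g)) ∧ centreKernel X ≤ H ∧ dSer P (d - 1) ≤ H ∧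
      ∀ hcH : c ∈ H, ρ ⟨c, hcH⟩ ≠ 1 ∧ finrank (ZMod q) (Symp.minus (ρ ⟨c, hcH⟩)) = 2 ∧
        (∀ (a : X) (_ : a ∈ dSer P d) (haH : a ∈ H), ρ ⟨a, haH⟩ = 1 ∨ ρ ⟨a, haH⟩ = ρ ⟨c, hcH⟩) ∧
        ∀ (g : X) (_ : g ∈ dSer P (d - 1)) (hgH : g ∈ H),
          ρ ⟨g, hgH⟩ * ρ ⟨c, hcH⟩ = ρ ⟨c, hcH⟩ * ρ ⟨g, hgH⟩ := by
  classical
  obtain ⟨i, hi⟩ := hP ⟨c, dSer_le P d hc⟩
  obtain ⟨q, C, χ, T, ⟨hq, hq2, hCgood⟩, hZT, hTC, hTiff, hW, r, hr, hmoved⟩ :=
    exists_moved_character hX h0 γ hγ (dSer_le_centreKernel γ hγ hP hk hc) ⟨i, congrArg Subtype.val hi⟩ hc1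
  have := Fact.mk hq
  have hq2' : q.Coprime 2 := (Nat.coprime_primes hq Nat.prime_two).mpr hq2
  obtain ⟨hCn, hCq, hcl, -⟩ := id hCgood
  obtain ⟨J, hJd, hfix, S, hCS, hPS, Y, _, _, V', _, _, _, δ, f₃, D, hk₃, hcen⟩ :=
    exists_model γ hP hk hq2 C hCn hCq hcl χ T hTiff hW
  set C₃ := (C.subgroupOf S).map f₃ with hC₃
  set K₃ := ((dSer P J).subgroupOf S).map f₃ with hK₃
  have hmapC₃ : (C.subgroupOf S).map f₃ = C₃ := hC₃.symm
  have hmapK₃ : ((dSer P J).subgroupOf S).map f₃ = K₃ := hK₃.symm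
  have : C.Normal := hCn
  obtain ⟨Wq, _, _, _, B, ρ, hB, hiso, hker, hcard⟩ :=
    exists_symp_model γ hq2' C hCgood χ T hZT hTC hTiff hW
  have hNH : centreKernel X ≤ centreStab C χ := fun g hg z hz => by
    rw [← mem_centreKernel.mp hg q C ⟨hq, hq2, hCgood⟩ z hz, mul_inv_cancel_right]
  have hJH : dSer P J ≤ centreStab C χ := fun g hg => hfix g hg
  have hkerf : ∀ (g : X) (hg : g ∈ dSer P J), ρ ⟨g, hJH hg⟩ = 1 ↔ f₃ ⟨g, hPS hg⟩ = 1 := by
    intro g hg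
    rw [hker]
    constructor
    · intro h
      refine D.eq_one_of_trivial (hmapK₃.le ⟨⟨g, hPS hg⟩, hg, rfl⟩) fun y hy => ?_
      obtain ⟨⟨b, hbS⟩, hb, rfl⟩ := hmapC₃.ge hy
      have hcC : b⁻¹ * (g * b * g⁻¹) ∈ C := C.mul_mem (C.inv_mem hb) (hCn.conj_mem b hb g)
      have h1 := (hcen _ hcC).mpr (h b hb)
      rwa [show (⟨b⁻¹ * (g * b * g⁻¹), hCS hcC⟩ : S) = ⟨b, hbS⟩⁻¹ * (⟨g, hPS hg⟩ * ⟨b, hbS⟩ * ⟨g, hPS hg⟩⁻¹)
        from rfl, map_mul, map_mul, map_mul, map_inv, map_inv] at h1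
    · intro h b hb
      have hcC : b⁻¹ * (g * b * g⁻¹) ∈ C := C.mul_mem (C.inv_mem hb) (hCn.conj_mem b hb g)
      refine (hcen _ hcC).mp ?_
      rw [show (⟨b⁻¹ * (g * b * g⁻¹), hCS hcC⟩ : S) = ⟨b, hCS hb⟩⁻¹ * (⟨g, hPS hg⟩ * ⟨b, hCS hb⟩ * ⟨g, hPS hg⟩⁻¹)
        from rfl, map_mul, map_mul, map_mul, map_inv, map_inv, h, inv_one, one_mul, mul_one, inv_mul_cancel]
      exact one_mem _
  have hcJ : c ∈ dSer P J := dSer_antitone P hJd hc
  have hcmove : f₃ ⟨c, hPS hcJ⟩ ≠ 1 := fun h => hmoved ((hker ⟨c, hJH hcJ⟩).mp ((hkerf c hcJ).mpr h) r hr)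
  have hAK : ∀ (a : X) (ha : a ∈ dSer P d),
      f₃ ⟨a, hPS (dSer_antitone P hJd ha)⟩ ∈ dSer K₃ (d - J) := by
    intro a ha
    rw [← hmapK₃, ← map_dSer]
    refine ⟨⟨a, hPS (dSer_antitone P hJd ha)⟩, ?_, rfl⟩
    have h1 : (dSer ((dSer P J).subgroupOf S) (d - J)).map S.subtype = dSer P d := by
      rw [map_dSer, Subgroup.map_subgroupOf_eq_of_le hPS, dSer_dSer, Nat.add_sub_cancel' hJd]
    obtain ⟨b, hb, hba⟩ := h1.ge ha
    rwa [← show b = ⟨a, hPS (dSer_antitone P hJd ha)⟩ from Subtype.ext hba]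
  obtain hd0 | hd1 | hd2 : d - J = 0 ∨ d - J = 1 ∨ 2 ≤ d - J := by omega
  · exfalso
    rw [hd0] at hk₃
    have h1 := hAK c hc
    rw [hd0, dSer_zero, D.eq_bot_of_kills hk₃, Subgroup.mem_bot] at h1
    exact hcmove h1
  swap
  · exfalso
    have h1 := hAK c hc
    have h2 := D.dSer_eq_bot_of_kills (show 3 ≤ d - J + 1 by omega) hk₃
    rw [Nat.add_sub_cancel] at h2
    rw [h2, Subgroup.mem_bot] at h1
    exact hcmove h1
  rw [hd1] at hk₃
  rcases D.dSer_one_of_kills hk₃ with h | ⟨z, hz, hzz, -, hzc, hzonly, hidx⟩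
  · exfalso
    have h1 := hAK c hc
    rw [hd1, h, Subgroup.mem_bot] at h1
    exact hcmove h1
  have hA : ∀ (a : X) (ha : a ∈ dSer P d), f₃ ⟨a, hPS (dSer_antitone P hJd ha)⟩ = 1 ∨
      f₃ ⟨a, hPS (dSer_antitone P hJd ha)⟩ = z := fun a ha => hzonly _ (hd1 ▸ hAK a ha)
  have hcz : f₃ ⟨c, hPS hcJ⟩ = z := (hA c hc).resolve_left hcmove
  have hd1' : d - 1 = J := by omega
  refine ⟨q, inferInstance, hq2', Wq, inferInstance, inferInstance, inferInstance, B, centreStab C χ, ρ, hB, hiso,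
    hNH, hd1'.symm ▸ hJH, fun hcH => ⟨fun h => hmoved ((hker ⟨c, hcH⟩).mp h r hr), ?_,
      fun a ha haH => ?_, fun g hg hgH => ?_⟩⟩
  · have hρ2 : ρ ⟨c, hcH⟩ * ρ ⟨c, hcH⟩ = 1 := by
      have hccJ : c * c ∈ dSer P J := mul_mem hcJ hcJ
      rw [← map_mul]
      exact (hkerf _ hccJ).mpr (by
        rw [show (⟨c * c, hPS hccJ⟩ : S) = ⟨c, hPS hcJ⟩ * ⟨c, hPS hcJ⟩ from rfl, map_mul, hcz, hzz])
    let fC : C →* C₃ :=
      { toFun := fun b => ⟨f₃ ⟨b, hCS b.2⟩, hmapC₃.le ⟨⟨b, hCS b.2⟩, b.2, rfl⟩⟩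
        map_one' := Subtype.ext (map_one f₃)
        map_mul' := fun u v => Subtype.ext (map_mul f₃ ⟨u, hCS u.2⟩ ⟨v, hCS v.2⟩) }
    have hfC : Function.Surjective fC := by
      rintro ⟨y, hy⟩
      obtain ⟨⟨b, hbS⟩, hb, rfl⟩ := hmapC₃.ge hy
      exact ⟨⟨b, hb⟩, rfl⟩
    have h1 := hcard ⟨c, hcH⟩ hρ2 ((((posSub C₃ z).subgroupOf C₃).comap fC).map C.subtype) fun b hb => by
      have hcC : b⁻¹ * (c * b * c⁻¹) ∈ C := C.mul_mem (C.inv_mem hb) (hCn.conj_mem b hb c)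
      have e : f₃ ⟨b⁻¹ * (c * b * c⁻¹), hCS hcC⟩ =
          (f₃ ⟨b, hCS hb⟩)⁻¹ * (z * f₃ ⟨b, hCS hb⟩ * z⁻¹) := by
        rw [show (⟨b⁻¹ * (c * b * c⁻¹), hCS hcC⟩ : S) = ⟨b, hCS hb⟩⁻¹ * (⟨c, hPS hcJ⟩ * ⟨b, hCS hb⟩ * ⟨c, hPS hcJ⟩⁻¹)
          from rfl, map_mul, map_mul, map_mul, map_inv, map_inv, hcz]
      constructor
      · rintro ⟨⟨b', hb'C⟩, hb', rfl⟩
        refine ⟨hb, (hcen _ hcC).mp ?_⟩
        rw [e]
        have h2 : f₃ ⟨b', hCS hb'C⟩ * z = z * f₃ ⟨b', hCS hb'C⟩ := (mem_posSub.mp hb').2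
        rw [show f₃ ⟨(C.subtype ⟨b', hb'C⟩), hCS hb⟩ = f₃ ⟨b', hCS hb'C⟩ from rfl, ← h2, mul_inv_cancel_right,
          inv_mul_cancel]
        exact one_mem _
      · rintro ⟨-, hbT⟩
        refine ⟨⟨b, hb⟩, ?_, rfl⟩
        have h3 := (hcen _ hcC).mpr hbT
        rw [e] at h3
        exact D.mem_posSub_of_mod hzz (hmapC₃.le ⟨⟨b, hCS hb⟩, hb, rfl⟩) h3
    rw [Subgroup.relIndex, ← Subgroup.comap_subtype,
      Subgroup.comap_map_eq_self_of_injective C.subtype_injective,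
      Subgroup.index_comap_of_surjective _ hfC, ← Subgroup.relIndex, hidx] at h1
    exact (Nat.pow_right_injective hq.two_le h1).symm
  · rcases hA a ha with h | h
    · exact Or.inl ((hkerf a (dSer_antitone P hJd ha)).mpr h)
    · refine Or.inr ?_
      have hac : a * c⁻¹ ∈ dSer P J := mul_mem (dSer_antitone P hJd ha) (inv_mem hcJ)
      have h1 := (hkerf _ hac).mpr (by
        rw [show (⟨a * c⁻¹, hPS hac⟩ : S) = ⟨a, hPS (dSer_antitone P hJd ha)⟩ * ⟨c, hPS hcJ⟩⁻¹ from rfl,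
          map_mul, map_inv, h, hcz, mul_inv_cancel])
      rwa [show (⟨a * c⁻¹, hJH hac⟩ : centreStab C χ) = ⟨a, haH⟩ * ⟨c, hcH⟩⁻¹ from rfl, map_mul, map_inv,
        mul_inv_eq_one] at h1
  · have hgJ : g ∈ dSer P J := hd1' ▸ hg
    have hcomm : ⁅g, c⁆ ∈ dSer P J := by
      rw [commutatorElement_def]
      exact mul_mem (mul_mem (mul_mem hgJ hcJ) (inv_mem hgJ)) (inv_mem hcJ)
    have h1 := (hkerf _ hcomm).mpr (by
      rw [show (⟨⁅g, c⁆, hPS hcomm⟩ : S) = ⁅(⟨g, hPS hgJ⟩ : S), ⟨c, hPS hcJ⟩⁆ from rfl, map_commutatorElement,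
        commutatorElement_eq_one_iff_mul_comm, hcz]
      exact hzc _ (hmapK₃.le ⟨⟨g, hPS hgJ⟩, hgJ, rfl⟩))
    rwa [show (⟨⁅g, c⁆, hJH hcomm⟩ : centreStab C χ) = ⁅(⟨g, hgH⟩ : centreStab C χ), ⟨c, hcH⟩⁆ from rfl,
      map_commutatorElement, commutatorElement_eq_one_iff_mul_comm] at h1

/-- The last term commutes with the kernel part of the `2`-group. -/
theorem dSer_commute_centreKernel (hX : Group.IsSolvable X) (h0 : pCore 2 X = ⊥) (γ : X →* End K V)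
    (hγ : Function.Injective γ) {P : Subgroup X} (hP : IsPGroup 2 P) {d : ℕ} (hk : KillsChains γ P (d + 1))
    {a u : X} (ha : a ∈ dSer P d) (hu : u ∈ P) (huN : u ∈ centreKernel X) : a * u = u * a := by
  by_contra hne
  have hua : u * a * u⁻¹ ∈ dSer P d := conj_mem_dSer P d hu ha
  obtain ⟨q, _, hq2, W, _, _, _, B, H, ρ, -, -, hNH, -, h⟩ :=
    exists_derived_rep hX h0 γ hγ hP hk (c := a * (u * a * u⁻¹)⁻¹) (mul_mem ha (inv_mem hua)) fun h1 => hne (by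
      have h2 := mul_inv_eq_one.mp h1
      calc a * u = (u * a * u⁻¹) * u := by rw [← h2]
        _ = u * a := by group)
  have haN := dSer_le_centreKernel γ hγ hP hk
  have haH : a ∈ H := hNH (haN ha)
  have huaH : u * a * u⁻¹ ∈ H := hNH (haN hua)
  obtain ⟨hρc, -, hdich, -⟩ := h (mul_mem haH (inv_mem huaH))
  set e := ρ ⟨a * (u * a * u⁻¹)⁻¹, mul_mem haH (inv_mem huaH)⟩ with he
  have hee : e = ρ ⟨a, haH⟩ * (ρ ⟨u * a * u⁻¹, huaH⟩)⁻¹ := by rw [he, ← map_inv, ← map_mul]; rfl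
  have huu : ρ ⟨u * a * u⁻¹, huaH⟩ = ρ ⟨u, hNH huN⟩ * ρ ⟨a, haH⟩ * (ρ ⟨u, hNH huN⟩)⁻¹ := by
    rw [← map_inv, ← map_mul, ← map_mul]; rfl
  rcases hdich a ha haH with h1 | h1
  · apply hρc
    rw [hee, huu, h1, mul_one, mul_inv_cancel, inv_one, one_mul]
  · rcases hdich _ hua huaH with h2 | h2
    · apply hρc
      rw [h2] at huu
      have h3 : ρ ⟨a, haH⟩ = 1 := by
        calc ρ ⟨a, haH⟩ = (ρ ⟨u, hNH huN⟩)⁻¹ * (ρ ⟨u, hNH huN⟩ * ρ ⟨a, haH⟩ * (ρ ⟨u, hNH huN⟩)⁻¹) *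
              ρ ⟨u, hNH huN⟩ := by group
          _ = 1 := by rw [← huu, mul_one, inv_mul_cancel]
      rw [hee, h3, h2, inv_one, one_mul]
    · apply hρc
      rw [hee, h1, h2, mul_inv_cancel]

/-- A commutator with a kernel involution does not reach the last term. -/
theorem commutator_involution_eq_one (hX : Group.IsSolvable X) (h0 : pCore 2 X = ⊥) (γ : X →* End K V)
    (hγ : Function.Injective γ) {P : Subgroup X} (hP : IsPGroup 2 P) {d : ℕ} (hk : KillsChains γ P (d + 1))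
    {g u : X} (hg : g ∈ dSer P (d - 1)) (hu : u ∈ P) (huN : u ∈ centreKernel X) (huu : u * u = 1)
    (he : ⁅g, u⁆ ∈ dSer P d) : ⁅g, u⁆ = 1 := by
  by_contra hne
  obtain ⟨q, _, hq2, W, _, _, _, B, H, ρ, hB, hiso, hNH, hdH, h⟩ := exists_derived_rep hX h0 γ hγ hP hk he hne
  have hgH : g ∈ H := hdH hg
  have huH : u ∈ H := hNH huN
  have hceH : ⁅g, u⁆ ∈ H := hNH (dSer_le_centreKernel γ hγ hP hk he)
  obtain ⟨hρc, hrk, -, hcomm⟩ := h hceH
  set y := ρ ⟨⁅g, u⁆, hceH⟩ with hy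
  have hgy : ρ ⟨g, hgH⟩ * y = y * ρ ⟨g, hgH⟩ := hcomm g hg hgH
  have huy : ρ ⟨u, huH⟩ * y = y * ρ ⟨u, huH⟩ := by
    rw [hy, ← map_mul, ← map_mul]
    exact congrArg ρ (Subtype.ext (dSer_commute_centreKernel hX h0 γ hγ hP hk he hu huN).symm)
  have hyρ : y = ρ ⟨g, hgH⟩ * ρ ⟨u, huH⟩ * (ρ ⟨g, hgH⟩)⁻¹ * (ρ ⟨u, huH⟩)⁻¹ := by
    rw [hy, ← map_inv, ← map_inv, ← map_mul, ← map_mul, ← map_mul]; rfl
  have hρuu : ρ ⟨u, huH⟩ * ρ ⟨u, huH⟩ = 1 := by
    rw [← map_mul, ← map_one ρ]; exact congrArg ρ (Subtype.ext huu)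
  set P' := Symp.minus y with hP'
  have hpres : ∀ g' : (End (ZMod q) W)ˣ, g' * y = y * g' → ∀ p ∈ P', g' • p ∈ P' := by
    intro g' hg' p hp
    rw [hP', Symp.mem_minus] at hp ⊢
    rw [← mul_smul, ← hg', mul_smul, hp, smul_neg]
  have hPnd : ∀ p ∈ P', (∀ p' ∈ P', B p p' = 1) → p = 0 := by
    refine Symp.minus_nondeg hB hq2 ?_ (hiso _)
    have hccP : ⁅g, u⁆ * ⁅g, u⁆ ∈ dSer P d := mul_mem he he
    rcases (h hceH).2.2.1 _ hccP (mul_mem hceH hceH) with h1 | h1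
    · rw [← map_mul]; exact h1
    · exfalso
      rw [show (⟨⁅g, u⁆ * ⁅g, u⁆, mul_mem hceH hceH⟩ : H) = ⟨⁅g, u⁆, hceH⟩ * ⟨⁅g, u⁆, hceH⟩ from rfl, map_mul,
        ← hy, mul_eq_left] at h1
      exact hρc h1
  obtain ⟨s, hs, hsP⟩ := Symp.exists_sign_on_plane hB hq2 hrk hPnd (hiso _) (hpres _ huy)
    (fun p _ => by rw [← mul_smul, hρuu, one_smul])
  obtain ⟨p, hp, hp0⟩ := Submodule.exists_mem_ne_zero_of_ne_bot (show P' ≠ ⊥ from fun h0' => by
    rw [h0', finrank_bot] at hrk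
    exact two_ne_zero hrk.symm)
  have hgi : ρ ⟨g, hgH⟩⁻¹ * y = y * ρ ⟨g, hgH⟩⁻¹ := by
    rw [map_inv]
    exact (show Commute (ρ ⟨g, hgH⟩) y from hgy).inv_left.eq
  have huinv : (ρ ⟨u, huH⟩)⁻¹ = ρ ⟨u, huH⟩ := inv_eq_of_mul_eq_one_right hρuu
  have h1 : y • p = p := by
    rw [hyρ, huinv, mul_smul, mul_smul, mul_smul, hsP p hp, ← map_inv, smul_comm (ρ (⟨g, hgH⟩ : H)⁻¹) s,
      smul_comm (ρ ⟨u, huH⟩) s, hsP _ (hpres _ hgi p hp), smul_smul, hs, one_smul, map_inv, smul_inv_smul]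
  have h2 := Symp.mem_minus.mp hp
  rw [h1] at h2
  exact hp0 (Symp.eq_zero_of_eq_neg hq2 h2)

end CfsgLib.HallHigman
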