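import Cfsg.Agent.Lib.HallHigman.DerivedBurnside

/-!
# Passing to an irreducible subspace of one part
-/

namespace CfsgLib.HallHigman

open Module (End finrank)
open scoped commutatorElement

variable {X : Type*} [Group X] [Finite X] {k V : Type*} [Field k] [AddCommGroup V] [Module k V]

theorem imgHom_eq_one_iff (γ : X →* End k V) (M : Submodule k V) (g : stabSub γ M) :
    imgHom γ M g = 1 ↔ ∀ w ∈ M, γ g w = w := by
  constructor
  · intro h w hw
    rw [← imgRep_apply γ M g ⟨w, hw⟩, h, map_one]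
    rfl
  · intro h
    refine imgRep_injective γ M (LinearMap.ext fun w => Subtype.ext ?_)
    rw [imgRep_apply, map_one]
    exact h w w.2

/-- Chains of the operator group lift. -/
theorem exists_chain_lift (γ : X →* End k V) {M : Submodule k V} {K : Subgroup X} (hKM : K ≤ stabSub γ M)
    {l : List (imgGroup γ M)} (hl : IsDerChain (imgSub γ M K) l) :
    ∃ l' : List X, IsDerChain K l' ∧ l'.length = l.length ∧
      ∀ w : M, ((opsProd (imgRep γ M) l w : M) : V) = opsProd γ l' (w : V) := by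
  obtain ⟨l₀, hl₀, rfl⟩ := IsDerChain.exists_lift (imgHom γ M) hl
  refine ⟨l₀.map Subtype.val, ?_, by simp, fun w => imgRep_opsProd γ M l₀ w⟩
  have h := IsDerChain.map (stabSub γ M).subtype hl₀
  rwa [Subgroup.map_subgroupOf_eq_of_le hKM] at h

/-- Products of stabilizing elements stabilize. -/
theorem opsProd_mem (γ : X →* End k V) {M : Submodule k V} {l : List X} (h : ∀ g ∈ l, g ∈ stabSub γ M) {w : V}
    (hw : w ∈ M) : opsProd γ l w ∈ M := by
  induction l with
  | nil => exact hw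
  | cons g l ih =>
    have h1 := ih fun x hx => h x (List.mem_cons_of_mem _ hx)
    rw [opsProd_cons, Module.End.mul_apply, LinearMap.sub_apply, Module.End.one_apply]
    exact sub_mem (h g List.mem_cons_self _ h1) h1

section char

variable [CharP k 2]

omit [Finite X] in
theorem end_neg (f : End k V) : -f = f := by
  refine LinearMap.ext fun v => ?_
  rw [LinearMap.neg_apply, ← neg_one_smul k (f v), show (-1 : k) = 1 from CharTwo.neg_eq 1, one_smul]

omit [Finite X] in
theorem end_add_self (f : End k V) : f + f = 0 := by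
  nth_rw 1 [← end_neg f]
  exact neg_add_cancel f

omit [Finite X] in
theorem sub_one_mul_self (γ : X →* End k V) (g : X) : (γ g - 1) * (γ g - 1) = γ (g * g) - 1 := by
  rw [map_mul, mul_sub, sub_mul, mul_one, one_mul, sub_sub, add_sub, end_add_self, zero_sub, sub_neg_eq_add,
    sub_eq_add_neg, end_neg]

omit [Finite X] in
/-- In characteristic two `(az - 1)(z - 1) = (a - 1)(z - 1) = (a - 1)(az - 1)`. -/
theorem involution_identities (γ : X →* End k V) {a z : X} (haa : a * a = 1) (hzz : z * z = 1) :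
    (γ (a * z) - 1) * (γ z - 1) = (γ a - 1) * (γ z - 1) ∧
      (γ a - 1) * (γ (a * z) - 1) = (γ a - 1) * (γ z - 1) := by
  simp only [sub_eq_add_neg, end_neg, mul_add, add_mul, mul_one, one_mul, ← map_mul, mul_assoc, hzz,
    ← mul_assoc a a, haa]
  constructor <;> abel

end char

namespace IrrData

variable {γ : X →* End k V} {q : ℕ} {C K : Subgroup X}

/-- The data on an irreducible invariant subspace of a part. -/
theorem res (D : IrrData γ q C K) {M : Submodule k V} (hM0 : M ≠ ⊥) {C₁ K₁ : Subgroup X} (hC : C₁ ≤ C)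
    (hK : K₁ ≤ K) (hC₁M : C₁ ≤ stabSub γ M) (hn : K₁ ≤ Subgroup.normalizer (C₁ : Set X))
    (hirr : ∀ S ≤ M, C₁ ≤ stabSub γ S → S = ⊥ ∨ S = M) :
    IrrData (imgRep γ M) q (imgSub γ M C₁) (imgSub γ M K₁) where
  inj := imgRep_injective γ M
  prime := D.prime
  q2 := D.q2
  qC := isPGroup_imgSub γ M (D.qC.to_le hC)
  cl := by
    intro c' hc' d' hd'
    obtain ⟨c, hc, rfl⟩ := (mem_imgSub γ M).mp hc'
    obtain ⟨d, hd, rfl⟩ := (mem_imgSub γ M).mp hd'
    rw [← map_commutatorElement]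
    have h1 : ((⁅c, d⁆ : stabSub γ M) : X) = ⁅(c : X), (d : X)⁆ := rfl
    refine ⟨(mem_imgSub γ M).mpr ⟨_, ?_, rfl⟩, fun b' hb' => ?_⟩
    · rw [h1, commutatorElement_def]
      exact C₁.mul_mem (C₁.mul_mem (C₁.mul_mem hc hd) (C₁.inv_mem hc)) (C₁.inv_mem hd)
    · obtain ⟨b, hb, rfl⟩ := (mem_imgSub γ M).mp hb'
      rw [← map_mul, ← map_mul]
      exact congrArg _ (Subtype.ext ((D.cl _ (hC hc) _ (hC hd)).2 (b : X) (hC hb)))
  nt := Submodule.nontrivial_iff_ne_bot.mpr hM0
  irr := fun W hW => by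
    rcases hirr (W.map M.subtype) (Submodule.map_subtype_le M W) (fun c hc => by
      rintro _ ⟨w, hw, rfl⟩
      exact ⟨_, hW (imgHom_mem γ M hc (hC₁M hc)) w hw, imgRep_apply γ M ⟨c, hC₁M hc⟩ w⟩) with h | h
    · exact Or.inl (Submodule.map_injective_of_injective M.injective_subtype (by rw [h, Submodule.map_bot]))
    · refine Or.inr (Submodule.map_injective_of_injective M.injective_subtype ?_)
      rw [h, Submodule.map_top, Submodule.range_subtype]
  pK := isPGroup_imgSub γ M (D.pK.to_le hK)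
  norm := imgSub_le_normalizer γ M hn

variable [IsAlgClosed k] [CharP k 2] [FiniteDimensional k V]

omit [CharP k 2] in
/-- A part with central centre acts faithfully. -/
theorem faithful (D : IrrData γ q C K) {M : Submodule k V} (hM0 : M ≠ ⊥) {C₁ : Subgroup X} (hC : C₁ ≤ C)
    (hC₁M : C₁ ≤ stabSub γ M) (hcen : ∀ c ∈ C₁, (∀ d ∈ C₁, d * c = c * d) → c ∈ centreOf C) {c : X} (hc : c ∈ C₁)
    (h : ∀ w ∈ M, γ c w = w) : c = 1 := by
  obtain ⟨v, hv, hv0⟩ := Submodule.exists_mem_ne_zero_of_ne_bot hM0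
  refine D.centre_eq_one (hcen c hc fun d hd => ?_) hv0 (h v hv)
  refine (commutatorElement_eq_one_iff_mul_comm.mp (D.centre_eq_one (D.cl c (hC hc) d (hC hd)) hv0 ?_)).symm
  have h1 : ∀ w ∈ M, γ c⁻¹ w = w := fun w hw => by
    conv_lhs => rw [← h w hw]
    rw [← Module.End.mul_apply, ← map_mul, inv_mul_cancel, map_one, Module.End.one_apply]
  rw [commutatorElement_def]
  simp only [map_mul, Module.End.mul_apply]
  rw [h1 _ (hC₁M (inv_mem hd) v hv), ← Module.End.mul_apply (γ d), ← map_mul, mul_inv_cancel, map_one,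
    Module.End.one_apply, h v hv]

/-- An irreducible invariant subspace for one of two commuting parts. -/
theorem exists_reduction (D : IrrData γ q C K) {C₁ C₂ : Subgroup X} (h₁ : C₁ ≤ C) (h₂ : C₂ ≤ C)
    (hcomm : ∀ a ∈ C₁, ∀ b ∈ C₂, a * b = b * a) (hsplit : ∀ c ∈ C, ∃ a ∈ C₁, ∃ b ∈ C₂, a * b = c)
    (hC₂ : ¬ C₂ ≤ centreOf C) {K₁ : Subgroup X} (hK₁ : K₁ ≤ K)
    (hn : K₁ ≤ Subgroup.normalizer (C₁ : Set X)) {I : Submodule k V} (hI0 : I ≠ ⊥) (hIC : C₁ ≤ stabSub γ I)
    (hIK : K₁ ≤ stabSub γ I) :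
    ∃ M ≤ I, M ≠ ⊥ ∧ C₁ ≤ stabSub γ M ∧ K₁ ≤ stabSub γ M ∧ finrank k M < finrank k V ∧
      (∀ S ≤ M, C₁ ≤ stabSub γ S → S = ⊥ ∨ S = M) ∧ IrrData (imgRep γ M) q (imgSub γ M C₁) (imgSub γ M K₁) ∧
      ∀ c ∈ C₁, (∀ w ∈ M, γ c w = w) → c = 1 := by
  have := Fact.mk D.prime
  have hcen : ∀ c ∈ C₁, (∀ d ∈ C₁, d * c = c * d) → c ∈ centreOf C := fun c hc h => ⟨h₁ hc, fun d hd => by
    obtain ⟨a, ha, b, hb, rfl⟩ := hsplit d hd
    exact ((show Commute a c from h a ha).mul_left (show Commute b c from (hcomm c hc b hb).symm)).eq⟩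
  obtain ⟨M, hMI, hM0, hMC, hMK, hirr⟩ := exists_irred_invariant γ D.inj C₁ (D.qC.to_le h₁)
    (fun c hc d hd => ⟨by
      rw [commutatorElement_def]
      exact C₁.mul_mem (C₁.mul_mem (C₁.mul_mem hc hd) (C₁.inv_mem hc)) (C₁.inv_mem hd),
      fun b hb => (D.cl c (h₁ hc) d (h₁ hd)).2 b (h₁ hb)⟩)
    (fun z hz => D.centre_scalar (hcen z hz.1 hz.2)) _ K₁ rfl (D.pK.to_le hK₁) hn I hI0 hIC hIK
  have hMtop : M ≠ ⊤ := by
    rintro rfl
    refine hC₂ fun b hb => ?_
    have := D.nt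
    obtain ⟨l, hl⟩ := exists_eq_smul_one (ρ := γ.comp C₁.subtype)
      (fun W hW => hirr W le_top fun c hc w hw => hW ⟨c, hc⟩ w hw) (γ b) fun c => by
        show γ b * γ c = γ c * γ b
        rw [← map_mul, ← map_mul, hcomm c c.2 b hb]
    refine ⟨h₂ hb, fun d _ => D.inj ?_⟩
    rw [map_mul, map_mul, hl, mul_smul_comm, smul_mul_assoc, mul_one, one_mul]
  exact ⟨M, hMI, hM0, hMC, hMK, Submodule.finrank_lt hMtop, hirr, D.res hM0 h₁ hK₁ hMC hn hirr,
    fun c hc h => D.faithful hM0 h₁ hMC hcen hc h⟩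

omit [CharP k 2] in
/-- An element fixing a faithful subspace centralizes the part. -/
theorem commute_of_fixed (_ : IrrData γ q C K) {M : Submodule k V} {C₁ : Subgroup X} {a : X}
    (haC : a ∈ Subgroup.normalizer (C₁ : Set X)) (hC₁M : C₁ ≤ stabSub γ M)
    (hf : ∀ c ∈ C₁, (∀ w ∈ M, γ c w = w) → c = 1) (ha : ∀ w ∈ M, γ a w = w) {c : X} (hc : c ∈ C₁) :
    c * a = a * c := by
  have hac : a * c * a⁻¹ ∈ C₁ := (Subgroup.mem_normalizer_iff.mp haC c).mp hc
  have hai : ∀ w ∈ M, γ a⁻¹ w = w := fun w hw => by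
    conv_lhs => rw [← ha w hw]
    rw [← Module.End.mul_apply, ← map_mul, inv_mul_cancel, map_one, Module.End.one_apply]
  have h1 := hf _ (mul_mem (inv_mem hc) hac) fun w hw => by
    simp only [map_mul, Module.End.mul_apply]
    rw [hai w hw, ha _ (hC₁M hc w hw), ← Module.End.mul_apply, ← map_mul, inv_mul_cancel, map_one,
      Module.End.one_apply]
  calc c * a = c * 1 * a := by rw [mul_one]
    _ = a * c := by rw [← h1]; group

omit [CharP k 2] in
/-- If an involution fixes nothing outside the centre, it inverts everything modulo the centre. -/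
theorem le_negSub (D : IrrData γ q C K) {y : X} (hy : y ∈ K) (hyy : y * y = 1) (h : posSub C y ≤ centreOf C) :
    C ≤ negSub D.cl y := fun c hc => by
  obtain ⟨a, ha, b, hb, rfl⟩ := D.exists_split hy hyy hc
  exact mul_mem (D.centre_le_negSub y (h ha)) hb

/-- Two involutions inverting everything modulo the centre are equal. -/
theorem eq_of_inverts (D : IrrData γ q C K) {a y : X} (ha : a ∈ K) (hy : y ∈ K) (haa : a * a = 1)
    (hia : C ≤ negSub D.cl a) (hiy : C ≤ negSub D.cl y) : y = a := by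
  have h1 : a * y = 1 := by
    refine D.eq_one_of_trivial (mul_mem ha hy) fun c hc => ?_
    have ht := (hia hc).2
    have hs := (hiy hc).2
    set t := a * c * a⁻¹ * c with ht'
    set s := y * c * y⁻¹ * c with hs'
    have hca : Commute c⁻¹ s := D.central hs c⁻¹
    have e : c⁻¹ * (a * y * c * (a * y)⁻¹) = s * t⁻¹ := by
      calc c⁻¹ * (a * y * c * (a * y)⁻¹) = c⁻¹ * ((a * s) * c⁻¹ * a⁻¹) := by rw [hs']; group
        _ = c⁻¹ * ((s * a) * c⁻¹ * a⁻¹) := by rw [D.central hs a]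
        _ = (c⁻¹ * s) * (a * c * a⁻¹)⁻¹ := by group
        _ = (s * c⁻¹) * (a * c * a⁻¹)⁻¹ := by rw [hca.eq]
        _ = s * t⁻¹ := by rw [ht']; group
    rw [e]
    exact mul_mem hs (inv_mem ht)
  rw [← inv_eq_of_mul_eq_one_right h1, inv_eq_of_mul_eq_one_right haa]

end IrrData

end CfsgLib.HallHigman
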