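import Cfsg.Agent.Lib.HallHigman.Exponent
import Cfsg.Agent.Lib.HallHigman.Commutator

/-!
# The exponent bound on the `p`-length for every odd `p`
-/

namespace CfsgLib.HallHigman

open Cfsg CfsgLib.PCore CfsgLib.ModuleTrick
open scoped IsMulCommutative

universe u

variable {p : ℕ} [hp : Fact p.Prime]

/-- Expansion of `(v x)^k` along the powers of the action of `x`. -/
theorem mul_pow_eq_conjEnd {G : Type*} [Group G] (V : Subgroup G) [V.Normal] [IsMulCommutative V]
    (x : G) (v : Additive V) (k : ℕ) :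
    (((Additive.toMul v : V) : G) * x) ^ k =
      ((Additive.toMul ((∑ i ∈ Finset.range k, conjEnd V x ^ i) v) : V) : G) * x ^ k := by
  induction k with
  | zero => simp
  | succ k ih =>
    have e : (∑ i ∈ Finset.range (k + 1), conjEnd V x ^ i) =
        1 + conjEnd V x * ∑ i ∈ Finset.range k, conjEnd V x ^ i := by
      rw [Finset.sum_range_succ', pow_zero, Finset.mul_sum, add_comm]
      simp [pow_succ']
    rw [pow_succ', ih, e]
    set w := (∑ i ∈ Finset.range k, conjEnd V x ^ i) v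
    show _ = ((Additive.toMul (v + conjEnd V x w) : V) : G) * x ^ (k + 1)
    rw [toMul_add, Subgroup.coe_mul, conjEnd_apply, pow_succ']
    simp [mul_assoc]

omit hp in
theorem natCast_end_eq_zero {G : Type*} [Group G] (V : Subgroup G) [IsMulCommutative V]
    (hV : ∀ a ∈ V, a ^ p = 1) : (p : AddMonoid.End (Additive V)) = 0 :=
  AddMonoidHom.ext fun v => (AddMonoid.End.natCast_apply p v).trans
    (Additive.toMul.injective (Subtype.ext (by
      rw [toMul_nsmul, Subgroup.coe_pow]; exact hV _ (Additive.toMul v).2)))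

/-- If `x^(p^m)` commutes with all `(v x)^(p^m)`, the degree of `x` is below `2 p^m`. -/
theorem degree_of_commute {G : Type*} [Group G] (V : Subgroup G) [V.Normal] [IsMulCommutative V]
    (hV : ∀ a ∈ V, a ^ p = 1) (x : G) (m : ℕ) (h : ∀ a ∈ V, Commute (x ^ p ^ m) ((a * x) ^ p ^ m)) :
    (conjEnd V x - 1) ^ (p ^ m - 1 + p ^ m) = 0 := by
  set s := conjEnd V x with hs
  set D := ∑ i ∈ Finset.range (p ^ m), s ^ i with hD
  have h1 : (s ^ p ^ m - 1) * D = 0 := by
    refine AddMonoidHom.ext fun v => ?_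
    show (s ^ p ^ m) (D v) - D v = 0
    rw [sub_eq_zero]
    apply Additive.toMul.injective
    apply Subtype.ext
    rw [hs, ← map_pow, conjEnd_apply, mul_inv_eq_iff_eq_mul]
    have h2 := h _ (Additive.toMul v).2
    rw [mul_pow_eq_conjEnd] at h2
    have h3 := h2.eq
    rw [← mul_assoc] at h3
    exact mul_right_cancel h3
  rw [← geom_sum_mul, hD, geom_sum_eq_sub_one_pow p m (natCast_end_eq_zero V hV), mul_assoc,
    ← pow_succ', ← pow_add, Nat.sub_add_cancel (Nat.one_le_pow m p hp.out.pos)] at h1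
  exact h1

theorem lt_exceptional_degree (hp2 : p ≠ 2) {m n₀ : ℕ} (h1 : 1 ≤ n₀) (h2 : n₀ ≤ m + 1) :
    p ^ m - 1 + p ^ m < p ^ (m + 1 - n₀) * (p ^ n₀ - 1) := by
  obtain ⟨a, rfl⟩ := Nat.exists_eq_add_of_le h1
  obtain ⟨b, rfl⟩ := Nat.exists_eq_add_of_le (show a ≤ m by omega)
  rw [show a + b + 1 - (1 + a) = b by omega]
  have hp3 : 3 ≤ p := by have := hp.out.two_le; omega
  have ha : 1 ≤ p ^ a := Nat.one_le_pow _ _ hp.out.pos
  have h3 : 2 * p ^ a ≤ p ^ (1 + a) - 1 := by
    have h4 : 3 * p ^ a ≤ p ^ (1 + a) := by rw [pow_add, pow_one]; exact Nat.mul_le_mul_right _ hp3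
    omega
  have h5 := Nat.mul_le_mul_left (p ^ b) h3
  have h6 : 1 ≤ p ^ (a + b) := Nat.one_le_pow _ _ hp.out.pos
  rw [show p ^ b * (2 * p ^ a) = 2 * p ^ (a + b) by rw [pow_add]; ring] at h5
  omega

variable {H : Type*} [Group H] [Finite H]

/-- The last powers of elements of a Sylow subgroup commute modulo `O_p`. -/
theorem commute_pow_mod_pCore (hp2 : p ≠ 2) (hH : IsPSolvable p H) (h0 : pPrimeCore p H = ⊥) (m : ℕ)
    (P : Sylow p H) (hexp : ∀ (Q : Sylow p H), ∀ x ∈ (Q : Subgroup H), x ^ p ^ (m + 1) = 1)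
    (x x' : H) (hx : x ∈ (P : Subgroup H)) (hx' : x' ∈ (P : Subgroup H)) :
    Commute (((x : H) : H ⧸ pCore p H) ^ p ^ m) (((x' : H) : H ⧸ pCore p H) ^ p ^ m) := by
  obtain ⟨hcomm, hpow, hcen⟩ := frattini_quotient_props hH h0
  set f1 := QuotientGroup.mk' (frattiniCore p H) with hf1
  set W := (pCore p H).map f1 with hW
  have : (pCore p H).Normal := CfsgLib.Fitting.pCore_normal p
  have : W.Normal := Subgroup.Normal.map inferInstance f1 (QuotientGroup.mk'_surjective _)
  have : IsMulCommutative W := ⟨⟨fun a b => Subtype.ext (hcomm a a.2 b b.2)⟩⟩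
  let c := (conjEnd W).comp f1
  have hker : c.ker = pCore p H := by
    rw [← MonoidHom.comap_ker, conjEnd_ker, hcen, hW, Subgroup.comap_map_eq, hf1, QuotientGroup.ker_mk',
      sup_eq_left]
    exact frattiniCore_le p H
  let ρ : H ⧸ pCore p H →* AddMonoid.End (Additive W) := QuotientGroup.lift (pCore p H) c hker.ge
  have hρ : Function.Injective ρ := by
    rw [injective_iff_map_eq_one]
    intro a
    induction a using QuotientGroup.induction_on with
    | H a => exact fun h => (QuotientGroup.eq_one_iff a).mpr (hker.le h)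
  have hA : ∀ a : Additive W, p • a = 0 := fun a => by
    apply Additive.toMul.injective
    apply Subtype.ext
    rw [toMul_nsmul, Subgroup.coe_pow]
    exact hpow _ (Additive.toMul a).2
  have hdeg : ∀ a ∈ (P : Subgroup H), (ρ (a : H ⧸ pCore p H) - 1) ^ (p ^ (m + 1) - 1) = 0 := by
    intro a ha
    show (conjEnd W (f1 a) - 1) ^ (p ^ (m + 1) - 1) = 0
    rw [← geom_sum_eq_sub_one_pow p (m + 1) (natCast_end_eq_zero W hpow)]
    refine sum_pow_conjEnd_eq_zero W (f1 a) _ ?_
    rintro _ ⟨v, hv, rfl⟩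
    rw [← map_mul, ← map_pow]
    have hap : IsPGroup p (Subgroup.zpowers a) := P.2.to_le (Subgroup.zpowers_le.mpr ha)
    obtain ⟨P', hP'⟩ := (hap.to_sup_of_normal_right (pCore_isPGroup (p := p) (G := H))).exists_le_sylow
    rw [hexp P' (v * a) (hP' (Subgroup.mul_mem _ (Subgroup.mem_sup_right hv)
      (Subgroup.mem_sup_left (Subgroup.mem_zpowers a)))), map_one]
  have hord : ∀ a ∈ (P : Subgroup H), (a : H ⧸ pCore p H) ^ p ^ (m + 1) = 1 := fun a ha => by
    rw [← QuotientGroup.mk_pow, hexp P a ha, QuotientGroup.mk_one]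
  exact commute_pow_of_degree hp2 (isPSolvable_quotient hH _) pCore_quotient_pCore hA ρ hρ
    ((P : Subgroup H).map (QuotientGroup.mk' _)) (P.2.map _) m _ _ ⟨x, hx, rfl⟩ ⟨x', hx', rfl⟩
    (hord x hx) (hord x' hx') (hdeg x hx) (hdeg x' hx')

/-- Two steps of the upper `p`-series lower the exponent of a Sylow subgroup. -/
theorem pow_mem_pCore_of_commute (hp2 : p ≠ 2) {H : Type*} [Group H] [Finite H] (hH : IsPSolvable p H)
    (h0 : pPrimeCore p H = ⊥) (m : ℕ) (P : Sylow p H)
    (hcom : ∀ x ∈ (P : Subgroup H), ∀ x' ∈ (P : Subgroup H), Commute (x ^ p ^ m) (x' ^ p ^ m))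
    (hord : ∀ x ∈ (P : Subgroup H), x ^ p ^ (m + 1) = 1) :
    ∀ x ∈ (P : Subgroup H), x ^ p ^ m ∈ pCore p H := by
  intro x hx
  by_contra hy
  obtain ⟨hcomm, hpow, -⟩ := frattini_quotient_props hH h0
  set f1 := QuotientGroup.mk' (frattiniCore p H) with hf1
  set W := (pCore p H).map f1 with hW
  have : (pCore p H).Normal := CfsgLib.Fitting.pCore_normal p
  have : W.Normal := Subgroup.Normal.map inferInstance f1 (QuotientGroup.mk'_surjective _)
  have : IsMulCommutative W := ⟨⟨fun a b => Subtype.ext (hcomm a a.2 b b.2)⟩⟩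
  have hVP : pCore p H ≤ (P : Subgroup H) := pCore_le_sylow P
  have hd : (conjEnd W (f1 x) - 1) ^ (p ^ m - 1 + p ^ m) = 0 := by
    refine degree_of_commute W hpow (f1 x) m ?_
    rintro _ ⟨v, hv, rfl⟩
    rw [← map_mul, ← map_pow, ← map_pow]
    exact (hcom x hx (v * x) (Subgroup.mul_mem _ (hVP hv) hx)).map f1
  obtain ⟨q, hq, -, hB⟩ := exists_degreeBound_pCore hH h0 x m (by rw [hord x hx]; exact one_mem _)
    (by
      obtain ⟨i, -, hi⟩ := (Nat.dvd_prime_pow hp.out).1 (orderOf_dvd_of_pow_eq_one (hord x hx))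
      exact ⟨i, hi⟩) hy
  rcases hB with hB | ⟨n₀, d, h1, h2, -, -, -, h6⟩
  · refine hB _ ?_ hd
    have h3 : 3 ≤ p := by have := hp.out.two_le; omega
    have h4 : 3 * p ^ m ≤ p ^ (m + 1) := by rw [pow_succ']; exact Nat.mul_le_mul_right _ h3
    have := Nat.one_le_pow m p hp.out.pos
    omega
  · exact h6 _ (lt_exceptional_degree hp2 h1 h2) hd

/-- A `p`-soluble group of exponent `p^n` at `p` has `p`-length at most `2 n`. -/
theorem pLengthLE_two_mul_of_exponent (hp2 : p ≠ 2) (n : ℕ) : ∀ (G : Type u) [Group G] [Finite G],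
    IsPSolvable p G → (∀ (P : Sylow p G), ∀ x ∈ (P : Subgroup G), x ^ p ^ n = 1) → PLengthLE p (2 * n) G := by
  induction n with
  | zero =>
    intro G _ _ hG hexp
    refine pLengthLE_of_exponent 0 G hG (fun ⟨q, n₀, d, _, h1, h2, _⟩ => by omega) hexp
  | succ n ih =>
    intro G _ _ hG hexp
    refine pLengthLE_of_coprime_kernel (pPrimeCore p G) pPrimeCore_coprime ?_
    have hH : IsPSolvable p (G ⧸ pPrimeCore p G) := isPSolvable_quotient hG _
    have hexpH := pow_eq_one_of_surjective _ (QuotientGroup.mk'_surjective (pPrimeCore p G)) hexp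
    have h0 : pPrimeCore p (G ⧸ pPrimeCore p G) = ⊥ := pPrimeCore_quotient_eq_bot
    set H := G ⧸ pPrimeCore p G
    have : (pCore p H).Normal := CfsgLib.Fitting.pCore_normal p
    rw [show 2 * (n + 1) = 2 * n + 1 + 1 by ring]
    refine pLengthLE_succ_of_pGroup_kernel (pCore p H) pCore_isPGroup ?_
    refine pLengthLE_of_coprime_kernel (pPrimeCore p (H ⧸ pCore p H)) pPrimeCore_coprime ?_
    let g := (QuotientGroup.mk' (pPrimeCore p (H ⧸ pCore p H))).comp (QuotientGroup.mk' (pCore p H))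
    have hg : Function.Surjective g :=
      (QuotientGroup.mk'_surjective _).comp (QuotientGroup.mk'_surjective _)
    have hS : IsPSolvable p ((H ⧸ pCore p H) ⧸ pPrimeCore p (H ⧸ pCore p H)) :=
      isPSolvable_quotient (isPSolvable_quotient hH _) _
    have h02 : pPrimeCore p ((H ⧸ pCore p H) ⧸ pPrimeCore p (H ⧸ pCore p H)) = ⊥ := pPrimeCore_quotient_eq_bot
    set H₂ := (H ⧸ pCore p H) ⧸ pPrimeCore p (H ⧸ pCore p H)
    have : (pCore p H₂).Normal := CfsgLib.Fitting.pCore_normal p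
    refine pLengthLE_succ_of_pGroup_kernel (pCore p H₂) pCore_isPGroup
      (ih (H₂ ⧸ pCore p H₂) (isPSolvable_quotient hS _) ?_)
    intro Q
    obtain ⟨R, hR⟩ := exists_sylow_eq_map _ (QuotientGroup.mk'_surjective (pCore p H₂)) Q
    rw [hR]
    rintro _ ⟨y, hy, rfl⟩
    rw [← map_pow]
    refine (QuotientGroup.eq_one_iff _).mpr ?_
    obtain ⟨P, hP⟩ := exists_sylow_eq_map g hg R
    refine pow_mem_pCore_of_commute hp2 hS h02 n R ?_ ?_ y hy
    · rw [hP]
      rintro _ ⟨a, ha, rfl⟩ _ ⟨b, hb, rfl⟩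
      have h1 := (commute_pow_mod_pCore hp2 hH h0 n P hexpH a b ha hb).map
        (QuotientGroup.mk' (pPrimeCore p (H ⧸ pCore p H)))
      rwa [map_pow, map_pow] at h1
    · exact pow_eq_one_of_surjective g hg hexpH R

end CfsgLib.HallHigman
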