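import Cfsg.Agent.Lib.HallHigman.LieFixed
import Cfsg.Agent.S3779
import Cfsg.Agent.S3780
import Cfsg.Agent.S3781

/-!
# Derived length of a `p`-group with an automorphism of order `p` having few fixed points
-/

set_option autoImplicit false

namespace CfsgLib.HallHigman

open Subgroup CfsgLib.LowerCentralLie76 CfsgLib.Kreknin76
open scoped commutatorElement

variable {p : ℕ} [hp : Fact p.Prime]

/-- The automorphism of an invariant subgroup. -/
def restrictAut {G : Type*} [Group G] (α : MulAut G) (H : Subgroup G) (hH : H.map α.toMonoidHom = H) : MulAut H :=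
  (α.subgroupMap H).trans (MulEquiv.subgroupCongr hH)

theorem restrictAut_apply {G : Type*} [Group G] (α : MulAut G) (H : Subgroup G) (hH : H.map α.toMonoidHom = H) (x : H) :
    ((restrictAut α H hH x : H) : G) = α x := rfl

theorem restrictAut_pow {G : Type*} [Group G] (α : MulAut G) (H : Subgroup G) (hH : H.map α.toMonoidHom = H) :
    ∀ (m : ℕ) (x : H), (((restrictAut α H hH ^ m) x : H) : G) = (α ^ m) x := by
  intro m
  induction m with
  | zero => intro x; rfl
  | succ m ih =>
    intro x
    rw [pow_succ, pow_succ, MulAut.mul_apply, MulAut.mul_apply, ih, restrictAut_apply]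

theorem restrictAut_pow_eq_one {G : Type*} [Group G] (α : MulAut G) (H : Subgroup G) (hH : H.map α.toMonoidHom = H)
    {m : ℕ} (h : α ^ m = 1) : restrictAut α H hH ^ m = 1 :=
  MulEquiv.ext fun x => Subtype.ext (by rw [restrictAut_pow, h]; rfl)

theorem card_fixed_restrict {G : Type*} [Group G] [Finite G] (α : MulAut G) (H : Subgroup G)
    (hH : H.map α.toMonoidHom = H) :
    Nat.card {x : H // restrictAut α H hH x = x} ≤ Nat.card {g : G // α g = g} :=
  Nat.card_le_card_of_injective (fun x => ⟨x.1.1, congrArg Subtype.val x.2⟩)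
    fun x y h => Subtype.ext (Subtype.ext (congrArg (fun z : {g : G // α g = g} => z.1) h))

/-- Passing to a quotient does not increase the number of fixed points. -/
theorem card_map_le_fixed {G : Type*} [Group G] [Finite G] (α : MulAut G) (N : Subgroup G) [N.Normal]
    (hN : ∀ x ∈ N, α x ∈ N) (K : Subgroup G) (hK : ∀ x ∈ K, x⁻¹ * α x ∈ N) :
    Nat.card (K.map (QuotientGroup.mk' N)) ≤ Nat.card {g : G // α g = g} := by
  classical
  set f := QuotientGroup.mk' N
  set K' := K ⊔ N with hK'
  have hmap : K'.map f = K.map f := by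
    rw [hK', Subgroup.map_sup, (Subgroup.map_eq_bot_iff _).mpr (QuotientGroup.ker_mk' N).ge, sup_bot_eq]
  have hK'' : ∀ x ∈ K', x⁻¹ * α x ∈ N := by
    intro x hx
    rw [← QuotientGroup.eq]
    let S : Subgroup G :=
      { carrier := {x | f x = f (α x)}
        one_mem' := by simp
        mul_mem' := fun {x y} (hx : f x = _) (hy : f y = _) => show f (x * y) = f (α (x * y)) by
          rw [map_mul, map_mul, map_mul, hx, hy]
        inv_mem' := fun {x} (hx : f x = _) => show f x⁻¹ = f (α x⁻¹) by
          rw [map_inv, map_inv, map_inv, hx] }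
    have hle : K' ≤ S := sup_le (fun y hy => QuotientGroup.eq.mpr (hK y hy))
      (fun y hy => QuotientGroup.eq.mpr (N.mul_mem (N.inv_mem hy) (hN y hy)))
    exact hle hx
  rw [← hmap]
  have h1 : Nat.card (K'.map f) * Nat.card N = Nat.card K' := by
    let g : K' →* G ⧸ N := f.comp K'.subtype
    have h2 := Subgroup.card_eq_card_quotient_mul_card_subgroup g.ker
    rw [Nat.card_congr (QuotientGroup.quotientKerEquivRange g).toEquiv,
      show g.range = K'.map f by rw [MonoidHom.range_comp, Subgroup.range_subtype],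
      show g.ker = N.subgroupOf K' by rw [← MonoidHom.comap_ker, QuotientGroup.ker_mk']; rfl,
      Nat.card_congr (Subgroup.subgroupOfEquivOfLe (le_sup_right : N ≤ K')).toEquiv] at h2
    exact h2.symm
  have h3 : Nat.card K' ≤ Nat.card ({g : G // α g = g} × N) := by
    have key : ∀ x y : K', (x : G)⁻¹ * α x = (y : G)⁻¹ * α y → α ((x : G) * (y : G)⁻¹) = (x : G) * (y : G)⁻¹ := by
      intro x y h
      rw [map_mul, map_inv, show α (y : G) = (y : G) * ((x : G)⁻¹ * α x) by rw [h, mul_inv_cancel_left]]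
      group
    let φ : K' → N := fun x => ⟨(x : G)⁻¹ * α x, hK'' x x.2⟩
    refine Nat.card_le_card_of_injective (fun x => (⟨(x : G) * ((Function.invFun φ (φ x) : K') : G)⁻¹,
      key x _ (congrArg Subtype.val (Function.invFun_eq (f := φ) ⟨x, rfl⟩)).symm⟩, φ x)) ?_
    intro x y h
    simp only [Prod.mk.injEq, Subtype.mk.injEq] at h
    obtain ⟨h1', h2'⟩ := h
    rw [h2'] at h1'
    exact Subtype.ext (mul_right_cancel h1')
  rw [Nat.card_prod, ← h1] at h3
  exact Nat.le_of_mul_le_mul_right h3 Nat.card_pos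

theorem card_fixed_quotient {G : Type*} [Group G] [Finite G] (α : MulAut G) (N : Subgroup G) [N.Normal]
    (hN : N.map α.toMonoidHom = N) :
    Nat.card {q : G ⧸ N // QuotientGroup.congr N N α hN q = q} ≤ Nat.card {g : G // α g = g} := by
  set β := QuotientGroup.congr N N α hN
  set f := QuotientGroup.mk' N
  let K : Subgroup G :=
    { carrier := {x | β (f x) = f x}
      one_mem' := by simp
      mul_mem' := fun {x y} (hx : β _ = _) (hy : β _ = _) => show β (f (x * y)) = f (x * y) by
        rw [map_mul f, map_mul β, hx, hy]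
      inv_mem' := fun {x} (hx : β _ = _) => show β (f x⁻¹) = f x⁻¹ by rw [map_inv f, map_inv β, hx] }
  refine le_trans ?_ (card_map_le_fixed α N (fun x hx => hN ▸ Subgroup.mem_map_of_mem α.toMonoidHom hx) K
    fun x hx => QuotientGroup.eq.mp (Eq.symm hx))
  refine Nat.card_le_card_of_injective (fun q => ⟨q.1, ?_⟩) fun x y h => Subtype.ext (congrArg (fun z : K.map f => z.1) h)
  obtain ⟨x, hx⟩ := QuotientGroup.mk'_surjective N q.1
  exact ⟨x, by show β (f x) = f x; rw [hx]; exact q.2, hx⟩

/-- An abelian group of exponent dividing `p^c` with an automorphism of order dividing `p`. -/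
theorem card_le_of_fixed {W : Type*} [CommGroup W] [Finite W] (a : MulAut W) (ha : a ^ p = 1) {b : ℕ}
    (hb : Nat.card {w : W // a w = w} ≤ b) : ∀ c : ℕ, (∀ w : W, w ^ p ^ c = 1) → Nat.card W ≤ b ^ (p * c) := by
  suffices ∀ (c : ℕ) (K : Subgroup W), K.map a.toMonoidHom = K → (∀ w ∈ K, w ^ p ^ c = 1) →
      Nat.card K ≤ b ^ (p * c) by
    intro c hc
    have := this c ⊤ (Subgroup.map_top_of_surjective _ a.surjective) fun w _ => hc w
    rwa [card_top] at this
  intro c
  induction c with
  | zero =>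
    intro K _ hc
    rw [show K = ⊥ from (eq_bot_iff_forall _).mpr fun w hw => by simpa using hc w hw, card_bot, mul_zero, pow_zero]
  | succ c ih =>
    intro K hK hc
    let g : K →* W := (powMonoidHom p).comp K.subtype
    have h1 := Subgroup.card_eq_card_quotient_mul_card_subgroup g.ker
    rw [Nat.card_congr (QuotientGroup.quotientKerEquivRange g).toEquiv] at h1
    rw [h1, Nat.mul_succ, pow_add]
    refine Nat.mul_le_mul (ih g.range ?_ ?_) ?_
    · rw [MonoidHom.range_eq_map, Subgroup.map_map]
      refine le_antisymm ?_ ?_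
      · rintro _ ⟨k, -, rfl⟩
        exact ⟨restrictAut a K hK k, mem_top _, (map_pow a (k : W) p).symm⟩
      · rintro _ ⟨k, -, rfl⟩
        obtain ⟨j, rfl⟩ := (restrictAut a K hK).surjective k
        exact ⟨j, mem_top _, map_pow a (j : W) p⟩
    · rintro _ ⟨k, rfl⟩
      show (((k : W)) ^ p) ^ p ^ c = 1
      rw [← pow_mul, ← pow_succ']
      exact hc k k.2
    · set T := g.ker.map K.subtype
      have hT : ∀ w, w ∈ T ↔ w ∈ K ∧ w ^ p = 1 :=
        fun w => ⟨fun ⟨k, hk, e⟩ => e ▸ ⟨k.2, hk⟩, fun ⟨h, h'⟩ => ⟨⟨w, h⟩, h', rfl⟩⟩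
      have hTa : T.map a.toMonoidHom = T := by
        refine Subgroup.eq_of_le_of_card_ge ?_ (Subgroup.card_map_of_injective a.injective).ge
        rintro _ ⟨w, hw, rfl⟩
        obtain ⟨h, h'⟩ := (hT w).mp hw
        refine (hT _).mpr ⟨hK ▸ Subgroup.mem_map_of_mem a.toMonoidHom h, ?_⟩
        rw [← map_pow, h', map_one]
      have h2 := Cfsg.Agent.S3780.card_bound hp.out (W := T) (fun w => Subtype.ext ((hT w).mp w.2).2)
        (restrictAut a T hTa) (restrictAut_pow_eq_one a T hTa ha) ((card_fixed_restrict a T hTa).trans hb)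
      rwa [Subgroup.card_map_of_injective K.subtype_injective] at h2

/-- The exponent attached to `p` and `n`. -/
def lieExp (p n : ℕ) : ℕ := (n + 1) * (xi (p - 1) (2 ^ (p - 1) - 1) + 1)

/-- A layer of the lower central series of a `p`-group has bounded exponent. -/
theorem pow_mem_lcs_succ {P : Type*} [Group P] [Finite P] (hP : IsPGroup p P) (α : MulAut P) (hα : α ^ p = 1)
    (n : ℕ) (hfix : Nat.card {g : P // α g = g} ≤ p ^ n) :
    ∀ x ∈ lcs P (xi (p - 1) (2 ^ (p - 1) - 1)),
      x ^ p ^ lieExp p n ∈ lcs P (xi (p - 1) (2 ^ (p - 1) - 1) + 1) := by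
  set a : LCL P →ₗ[ℤ] LCL P := (lclMap α.toMonoidHom).toIntLinearMap with ha
  have hlie : ∀ x y : LCL P, a ⁅x, y⁆ = ⁅a x, a y⁆ := lclMap_lie α.toMonoidHom
  have hpow : a ^ p = 1 := by
    refine LinearMap.ext fun u => ?_
    induction u using gr_induction with
    | h0 => simp
    | hadd u v hu hv => rw [map_add, map_add, hu, hv]
    | hgen i x hx =>
      rw [ha, Cfsg.Agent.S3779.pow_lclMap α p hx, hα]
      rfl
  have htoLpow : ∀ (i : ℕ) (x : P), x ∈ lcs P i → ∀ m : ℕ, toL i (x ^ m) = m • toL i x := by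
    intro i x hx m
    induction m with
    | zero => rw [pow_zero, toL_one, zero_smul]
    | succ m ih => rw [pow_succ, toL_mul (pow_mem hx m) hx, ih, succ_nsmul]
  have hlayer : ∀ i, ∀ x ∈ lcs P i, x⁻¹ * α x ∈ lcs P (i + 1) → x ^ p ^ n ∈ lcs P (i + 1) := by
    intro i x _ hx
    have hN : ∀ y ∈ lcs P (i + 1), α y ∈ lcs P (i + 1) := fun y hy => map_mem_lcs α.toMonoidHom hy
    let f := QuotientGroup.mk' (lcs P (i + 1))
    let K : Subgroup P :=
      { carrier := {y | f (α y) = f y}
        one_mem' := by simp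
        mul_mem' := fun {y z} (hy : f _ = _) (hz : f _ = _) => show f (α (y * z)) = f (y * z) by
          rw [map_mul α, map_mul f, map_mul f, hy, hz]
        inv_mem' := fun {y} (hy : f _ = _) => show f (α y⁻¹) = f y⁻¹ by rw [map_inv α, map_inv f, map_inv f, hy] }
    have h1 := (card_map_le_fixed α (lcs P (i + 1)) hN K fun y hy => QuotientGroup.eq.mp (Eq.symm hy)).trans hfix
    obtain ⟨e, he⟩ := ((hP.to_subgroup K).map f).exists_card_eq
    rw [he, Nat.pow_le_pow_iff_right hp.out.one_lt] at h1
    refine (QuotientGroup.eq_one_iff _).mp ?_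
    show f (x ^ p ^ n) = 1
    rw [map_pow, ← orderOf_dvd_iff_pow_eq_one]
    exact (Subgroup.orderOf_dvd_natCard (K.map f)
      ⟨x, (QuotientGroup.eq.mpr hx).symm, rfl⟩).trans (he ▸ Nat.pow_dvd_pow p h1)
  have hfixa : ∀ u, a u = u → p ^ n • u = 0 := by
    intro u hu
    refine DFinsupp.ext fun i => DirectSum.of_injective i ?_
    rw [DFinsupp.smul_apply, DFinsupp.zero_apply, map_nsmul, map_zero, ← toL_rep (u i),
      ← htoLpow i _ (rep_mem (u i))]
    refine toL_eq_zero (hlayer i _ (rep_mem (u i)) ?_)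
    have h1 : lclMap α.toMonoidHom (toL i (rep (u i))) = toL i (rep (u i)) := by
      rw [toL_rep, lclMap, DirectSum.map_of, ← DirectSum.map_apply]
      exact congrArg (DirectSum.of (Gr P) i) (DFunLike.congr_fun hu i)
    rw [lclMap_toL _ (rep_mem (u i))] at h1
    refine mem_of_toL_eq_zero (mul_mem (inv_mem (rep_mem _)) (map_mem_lcs α.toMonoidHom (rep_mem _))) ?_
    show toL i ((rep (u i))⁻¹ * α.toMonoidHom (rep (u i))) = 0
    rw [toL_mul (inv_mem (rep_mem _)) (map_mem_lcs α.toMonoidHom (rep_mem _)), toL_inv (rep_mem _), h1,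
      neg_add_cancel]
  intro x hx
  refine mem_of_toL_eq_zero (pow_mem hx _) ?_
  have h := lcsAdd_smul_eq_zero a hlie (p ^ n) hfixa hpow (Cfsg.Agent.S3779.toL_mem_lcsAdd _ x hx)
  rw [htoLpow _ x hx]
  convert h using 2
  rw [lieExp, pow_mul, pow_succ' p n]

theorem derivedSeries_add_le {G : Type*} [Group G] (N : Subgroup G) {a : ℕ} (h : derivedSeries G a ≤ N) :
    ∀ j, derivedSeries G (a + j) ≤ (derivedSeries N j).map N.subtype := by
  intro j
  induction j with
  | zero => rw [derivedSeries_zero, ← MonoidHom.range_eq_map, Subgroup.range_subtype]; exact h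
  | succ j ih =>
    rw [← Nat.add_assoc, derivedSeries_succ, derivedSeries_succ, Subgroup.map_commutator]
    exact Subgroup.commutator_mono ih ih

theorem derivedSeries_eq_bot_of_le {G : Type*} [Group G] (N : Subgroup G) {a b : ℕ} (h : derivedSeries G a ≤ N)
    (hb : derivedSeries N b = ⊥) : derivedSeries G (a + b) = ⊥ := by
  have := derivedSeries_add_le N h b
  rwa [hb, Subgroup.map_bot, le_bot_iff] at this

theorem derivedSeries_le_of_quotient {G : Type*} [Group G] (N : Subgroup G) [N.Normal] {l : ℕ}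
    (h : derivedSeries (G ⧸ N) l = ⊥) : derivedSeries G l ≤ N := by
  have h1 := map_derivedSeries_le_derivedSeries (QuotientGroup.mk' N) l
  rw [h, le_bot_iff, Subgroup.map_eq_bot_iff, QuotientGroup.ker_mk'] at h1
  exact h1

theorem xi_pos : 1 ≤ xi (p - 1) (2 ^ (p - 1) - 1) := by
  have h1 : 2 ^ 1 ≤ 2 ^ (p - 1) := Nat.pow_le_pow_right two_pos (by have := hp.out.two_le; omega)
  rw [xi, show 2 ^ (p - 1) - 1 = 2 ^ (p - 1) - 2 + 1 by omega, geom_sum_succ]
  exact Nat.le_add_left 1 _

/-- The bound on the derived length of a `p`-group. -/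
def pDerivedBound (p n : ℕ) : ℕ := p * lieExp p n * n + (xi (p - 1) (2 ^ (p - 1) - 1) + 1)

/-- Alperin: a `p`-group with an automorphism of order `p` with few fixed points has bounded derived length. -/
theorem derivedSeries_pGroup {P : Type*} [Group P] [Finite P] (hP : IsPGroup p P) (α : MulAut P) (hα : α ^ p = 1)
    (n : ℕ) (hfix : Nat.card {g : P // α g = g} ≤ p ^ n) : derivedSeries P (pDerivedBound p n) = ⊥ := by
  set h := xi (p - 1) (2 ^ (p - 1) - 1) with hh
  set M := p * lieExp p n * n with hM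
  set N := (⊤ : Subgroup P).lowerCentralSeries M with hNdef
  refine derivedSeries_eq_bot_of_le N (a := M) (b := h + 1) (Subgroup.derived_le_lower_central M) ?_
  have hN : N.map α.toMonoidHom = N :=
    Subgroup.eq_of_le_of_card_ge (by rintro _ ⟨x, hx, rfl⟩; exact map_mem_lcs α.toMonoidHom hx)
      (Subgroup.card_map_of_injective α.injective).ge
  set β := restrictAut α N hN
  have hβ := restrictAut_pow_eq_one α N hN hα
  have hβfix := (card_fixed_restrict α N hN).trans hfix
  have hNp : IsPGroup p N := hP.to_subgroup N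
  have hmap : ∀ i, (lcs N i).map N.subtype = N.lowerCentralSeries i := by
    intro i
    rw [lcs, Subgroup.map_lowerCentralSeries, ← MonoidHom.range_eq_map, Subgroup.range_subtype]
  suffices hb : lcs N (h + 1) = ⊥ from le_bot_iff.mp ((Subgroup.derived_le_lower_central (h + 1)).trans hb.le)
  by_contra hne
  have hne' : N.lowerCentralSeries (h + 1) ≠ ⊥ := by
    rw [← hmap, Ne, Subgroup.map_eq_bot_iff_of_injective _ N.subtype_injective]; exact hne
  have h1 := Cfsg.Agent.S3781.result hP (M + 1) (Nat.le_add_left 1 M) N (by rw [Nat.add_sub_cancel]) (h + 1)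
    (Nat.lt_succ_of_le (xi_pos (p := p))) hne'
  rw [Nat.add_sub_cancel, ← hmap, ← hmap, Subgroup.relIndex_map_map_of_injective _ _ N.subtype_injective] at h1
  let W := ↥(lcs N h) ⧸ (lcs N (h + 1)).subgroupOf (lcs N h)
  have hW : (lcs N (h + 1)).relIndex (lcs N h) = Nat.card W := rfl
  have hinv : (lcs N h).map β.toMonoidHom = lcs N h :=
    Subgroup.eq_of_le_of_card_ge (by rintro _ ⟨x, hx, rfl⟩; exact map_mem_lcs β.toMonoidHom hx)
      (Subgroup.card_map_of_injective β.injective).ge
  set γ := restrictAut β (lcs N h) hinv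
  have hinv' : ((lcs N (h + 1)).subgroupOf (lcs N h)).map γ.toMonoidHom = (lcs N (h + 1)).subgroupOf (lcs N h) :=
    Subgroup.eq_of_le_of_card_ge
      (by rintro _ ⟨x, hx, rfl⟩; exact Subgroup.mem_subgroupOf.mpr (map_mem_lcs β.toMonoidHom (Subgroup.mem_subgroupOf.mp hx)))
      (Subgroup.card_map_of_injective γ.injective).ge
  let δ : MulAut W := QuotientGroup.congr _ _ γ hinv'
  have hδ : δ ^ p = 1 := by
    have hkey : ∀ (m : ℕ) (x : ↥(lcs N h)), (δ ^ m) (x : W) = (((γ ^ m) x : ↥(lcs N h)) : W) := by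
      intro m
      induction m with
      | zero => intro x; rfl
      | succ m ih => intro x; rw [pow_succ, pow_succ, MulAut.mul_apply, MulAut.mul_apply, ← ih (γ x)]; rfl
    refine MulEquiv.ext fun w => ?_
    induction w using QuotientGroup.induction_on with
    | H x => rw [hkey, restrictAut_pow_eq_one β (lcs N h) hinv hβ]; rfl
  have hexp : ∀ w : W, w ^ p ^ lieExp p n = 1 := by
    intro w
    induction w using QuotientGroup.induction_on with
    | H x =>
      rw [← QuotientGroup.mk_pow, QuotientGroup.eq_one_iff, Subgroup.mem_subgroupOf, Subgroup.coe_pow]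
      exact pow_mem_lcs_succ hNp β hβ n hβfix _ x.2
  have hWfix : Nat.card {w : W // δ w = w} ≤ p ^ n :=
    (card_fixed_quotient γ _ hinv').trans ((card_fixed_restrict β (lcs N h) hinv).trans hβfix)
  have h2 := card_le_of_fixed δ hδ hWfix (lieExp p n) hexp
  rw [hW, ← pow_mul, mul_comm n (p * lieExp p n), ← hM] at *
  exact absurd (h1.trans h2) (not_le.mpr (Nat.pow_lt_pow_right hp.out.one_lt (Nat.lt_succ_self M)))

end CfsgLib.HallHigman
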