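import Cfsg.Agent.Lib.HallHigman.Twisted
import Cfsg.Agent.Lib.HallHigman.Critical

/-!
# The critical case of the theorem of Hall and Higman
-/

namespace CfsgLib.HallHigman

open Module (End)
open scoped commutatorElement

variable {K U Q : Type*} [Field K] [IsAlgClosed K] [AddCommGroup U] [Module K U] [FiniteDimensional K U]
  [Nontrivial U] [Group Q] [Finite Q]

theorem twist_pow {ρ : Q →* End K U} {σ : MulAut Q} {T : End K U} (hTρ : ∀ g, T * ρ g = ρ (σ g) * T)
    (i : ℕ) (g : Q) : T ^ i * ρ g = ρ ((σ ^ i) g) * T ^ i := by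
  induction i generalizing g with
  | zero => simp
  | succ i ih =>
    rw [pow_succ, mul_assoc, hTρ, ← mul_assoc, ih, mul_assoc, pow_succ σ, MulAut.mul_apply]

/-- An automorphism fixing the central character is induced by an operator of the same order. -/
theorem exists_twist {ρ : Q →* End K U} (hirr : IsIrred ρ)
    (hcl : ∀ g h : Q, ⁅g, h⁆ ∈ Subgroup.center Q) (hram : IsFullyRamified ρ) (σ : MulAut Q) {n : ℕ}
    (hn : 0 < n) (hσn : σ ^ n = 1) (hσz : ∀ z ∈ Subgroup.center Q, ρ (σ z) = ρ z) :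
    ∃ T : End K U, T ^ n = 1 ∧ ∀ g, T * ρ g = ρ (σ g) * T := by
  obtain ⟨f, hf0, hf⟩ := exists_intertwiner hirr hcl hram (ρ.comp σ.toMonoidHom)
    (fun z hz c hc => (hσz z hz).trans hc)
  have hf' : ∀ g, f * ρ g = ρ (σ g) * f := fun g => (hf g).symm
  have hinj : Function.Injective f := by
    rw [← LinearMap.ker_eq_bot]
    refine (hirr _ fun g w hw => ?_).resolve_right fun h => hf0 (LinearMap.ker_eq_top.mp h)
    rw [LinearMap.mem_ker] at hw ⊢
    rw [← Module.End.mul_apply, hf' g, Module.End.mul_apply, hw, map_zero]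
  obtain ⟨c, hc⟩ := exists_eq_smul_one hirr (f ^ n) fun g => by
    rw [twist_pow hf' n g, hσn]; rfl
  have hc0 : c ≠ 0 := by
    rintro rfl
    obtain ⟨u, hu⟩ := exists_ne (0 : U)
    have h1 : Function.Injective ⇑(f ^ n) := by
      rw [Module.End.coe_pow]; exact hinj.iterate n
    exact hu (h1 (by rw [hc]; simp))
  obtain ⟨d, hd⟩ := IsAlgClosed.exists_pow_nat_eq c hn
  have hd0 : d ≠ 0 := fun h => hc0 (by rw [← hd, h, zero_pow hn.ne'])
  refine ⟨d⁻¹ • f, ?_, fun g => ?_⟩
  · rw [smul_pow, hc, smul_smul, inv_pow, hd, inv_mul_cancel₀ hc0, one_smul]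
  · rw [smul_mul_assoc, hf' g, mul_smul_comm]

/-- The critical case: irreducible, fully ramified, and fixed-point-free on `Q ⧸ Z(Q)`. -/
theorem fully_ramified_single_block {ρ : Q →* End K U} (hirr : IsIrred ρ)
    (hcl : ∀ g h : Q, ⁅g, h⁆ ∈ Subgroup.center Q) (hram : IsFullyRamified ρ) (σ : MulAut Q) {P : ℕ}
    (hP : 2 ≤ P) (hσP : σ ^ P = 1)
    (hσfix : ∀ i g, 0 < i → i < P → g⁻¹ * (σ ^ i) g ∈ Subgroup.center Q → g ∈ Subgroup.center Q)
    (T : End K U) (hT : T ^ P = 1) (hTρ : ∀ g, T * ρ g = ρ (σ g) * T) (hQ : ∃ g, g ∉ Subgroup.center Q)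
    (hrel : ∑ i ∈ Finset.range P, T ^ i = 0) (hnil : (T - 1) ^ (P - 1) = 0) :
    Module.finrank K U + 1 = P ∧ ∀ j < P - 1, (T - 1) ^ j ≠ 0 := by
  classical
  have := Fintype.ofFinite (Q ⧸ Subgroup.center Q)
  have hmap : (Subgroup.center Q).map σ.toMonoidHom = Subgroup.center Q :=
    Subgroup.characteristic_iff_map_eq.mp inferInstance σ
  let σq : MulAut (Q ⧸ Subgroup.center Q) := QuotientGroup.congr _ _ σ hmap
  have hσq : ∀ g : Q, σq (g : Q ⧸ Subgroup.center Q) = ((σ g : Q) : Q ⧸ Subgroup.center Q) := fun _ => rfl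
  let π : Equiv.Perm (Q ⧸ Subgroup.center Q) := σq.toEquiv
  have hπ : ∀ (i : ℕ) (g : Q), (π ^ i) (g : Q ⧸ Subgroup.center Q) = (((σ ^ i) g : Q) : Q ⧸ Subgroup.center Q) := by
    intro i
    induction i with
    | zero => intro g; rfl
    | succ i ih =>
      intro g
      rw [pow_succ, Equiv.Perm.mul_apply, pow_succ σ, MulAut.mul_apply, ← ih (σ g)]
      rfl
  let b := Module.Basis.mk (linearIndependent_cosetOp hirr hcl hram) (span_cosetOp_eq_top hirr).ge
  obtain ⟨c, hc0, hc⟩ := exists_smul_cosetOp hirr (1 : Q)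
  rw [map_one, QuotientGroup.mk_one] at hc
  let w : Q ⧸ Subgroup.center Q → Kˣ := fun a => if a = 1 then Units.mk0 c hc0 else 1
  let e := b.unitsSMul w
  have he : ∀ a, e a = (w a : K) • cosetOp ρ a := fun a => by
    rw [Module.Basis.unitsSMul_apply, Module.Basis.mk_apply]; rfl
  refine single_block_of_free_conj T P hP hT hrel hnil 1 e ?_ π ?_ ?_ ?_ ?_ ?_
  · rw [he]; simp [w, hc]
  · exact map_one σq
  · refine Equiv.ext fun a => ?_
    induction a using QuotientGroup.induction_on with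
    | H g => rw [hπ, hσP]; rfl
  · intro a
    induction a using QuotientGroup.induction_on with
    | H g =>
      intro hg i hi0 hiP h
      rw [hπ] at h
      exact hg ((QuotientGroup.eq_one_iff g).mpr (hσfix i g hi0 hiP (QuotientGroup.eq.mp h.symm)))
  · intro a
    obtain ⟨d, hd0, hd⟩ := exists_smul_cosetOp hirr (σ a.out)
    have hidx : ((σ a.out : Q) : Q ⧸ Subgroup.center Q) = π a := by
      rw [← hσq, QuotientGroup.out_eq']; rfl
    rw [hidx] at hd
    refine ⟨(w a : K) * d * ((w (π a))⁻¹ : Kˣ), by simp [hd0], ?_⟩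
    rw [he, he, mul_smul_comm]
    show (w a : K) • (T * ρ a.out) = _
    rw [hTρ, hd, smul_mul_assoc, smul_mul_assoc, smul_smul, smul_smul, Units.val_inv_eq_inv_val,
      inv_mul_cancel_right₀ (Units.ne_zero _)]
  · obtain ⟨g, hg⟩ := hQ
    exact ⟨g, fun h => hg ((QuotientGroup.eq_one_iff g).mp h)⟩

end CfsgLib.HallHigman
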