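import Cfsg.Agent.Lib.Struct76.FpfLieRing
import Cfsg.Agent.Lib.Struct76.LowerCentralLie

/-!
# Lie rings with an automorphism of prime order whose fixed points have bounded exponent

The multiples `q • A i` of a graded family again form a graded family; if `q` kills the component of
degree zero, Kreknin's theorem applies to them.
-/

set_option autoImplicit false

open scoped TensorProduct
open AddMonoidAlgebra (single)

noncomputable section

namespace CfsgLib.Kreknin76

variable {p : ℕ} [hp : Fact p.Prime] {L : Type*} [LieRing L] (a : L →ₗ[ℤ] L)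

/-- The `q`-multiples of the weight spaces. -/
def weightMul (q : ℕ) (i : ZMod p) : AddSubgroup (Co p ⊗[ℤ] L) :=
  (weight (p := p) (LinearMap.lTensor (Co p) a) i).map (nsmulAddMonoidHom q)

theorem weightMul_graded (ha : ∀ x y : L, a ⁅x, y⁆ = ⁅a x, a y⁆) (q : ℕ) :
    IsGraded (weightMul (p := p) a q) := by
  rintro i j _ ⟨f, hf, rfl⟩ _ ⟨g, hg, rfl⟩
  refine ⟨q • ⁅f, g⁆, AddSubgroup.nsmul_mem _ (weight_graded (p := p) a ha i j f hf g hg) q, ?_⟩
  show q • q • ⁅f, g⁆ = ⁅q • f, q • g⁆
  rw [← Nat.cast_smul_eq_nsmul (Co p) q f, ← Nat.cast_smul_eq_nsmul (Co p) q g, tsmul_lie,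
    ← Nat.cast_mul, Nat.cast_smul_eq_nsmul, smul_smul]

theorem weightMul_zero (q : ℕ) (hfix : ∀ x, a x = x → q • x = 0) : weightMul (p := p) a q 0 = ⊥ := by
  refine (AddSubgroup.eq_bot_iff_forall _).2 ?_
  rintro _ ⟨f, (hf : _ = _), rfl⟩
  rw [← AddMonoidAlgebra.one_def, one_smul] at hf
  have hc : ∀ t (g : Co p ⊗[ℤ] L), coord t (LinearMap.lTensor (Co p) a g) = a (coord t g) := by
    intro t g
    induction g using TensorProduct.induction_on with
    | zero => simp
    | add g g' hg hg' => simp only [map_add, hg, hg']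
    | tmul r x => rw [LinearMap.lTensor_tmul, coord_tmul, coord_tmul, map_smul]
  show q • f = 0
  rw [eq_sum_coord f, Finset.smul_sum]
  refine Finset.sum_eq_zero fun t _ => ?_
  rw [← TensorProduct.tmul_smul, hfix (coord t f) ((hc t f).symm.trans (congrArg (coord t) hf)),
    TensorProduct.tmul_zero]

theorem trace_fixed (hpow : a ^ p = 1) (x : L) :
    a (∑ m : ZMod p, (a ^ m.val) x) = ∑ m : ZMod p, (a ^ m.val) x := by
  rw [map_sum]
  exact Fintype.sum_equiv (Equiv.addRight (1 : ZMod p)) _ _ fun m => by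
    rw [Equiv.coe_addRight, pow_val_succ a hpow, Module.End.mul_apply]

theorem smul_sum_vec (q : ℕ) (hfix : ∀ x, a x = x → q • x = 0) (hpow : a ^ p = 1) (x : L) :
    ∑ i ∈ Finset.univ.erase (0 : ZMod p), q • vec a i x = ((q : Co p) * cst p) ⊗ₜ[ℤ] x := by
  classical
  have htr : q • ∑ m : ZMod p, (a ^ m.val) x = 0 := hfix _ (trace_fixed a hpow x)
  have h0 : q • vec a (0 : ZMod p) x = 0 := by
    simp only [vec, zero_mul, neg_zero, ← TensorProduct.tmul_sum]
    rw [← TensorProduct.tmul_smul, htr, TensorProduct.tmul_zero]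
  rw [Finset.sum_erase (f := fun i => q • vec a i x) Finset.univ h0, ← Finset.smul_sum]
  set N : Co p := ∑ t : ZMod p, single t (1 : ℤ) with hN
  have hm : ∀ m : ZMod p, (∑ i : ZMod p, single (-(i * m)) (1 : ℤ)) =
      if m = 0 then (p : Co p) else N := by
    intro m
    split_ifs with h
    · subst h
      simp [AddMonoidAlgebra.natCast_def]
    · exact Fintype.sum_equiv ((Equiv.mulRight₀ m h).trans (Equiv.neg _)) _ _ fun i => rfl
  simp only [vec]
  rw [Finset.sum_comm]
  simp only [← TensorProduct.sum_tmul, hm]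
  rw [← Finset.add_sum_erase _ _ (Finset.mem_univ (0 : ZMod p)),
    Finset.sum_congr rfl (g := fun m => N ⊗ₜ[ℤ] (a ^ m.val) x)
      (fun m hm' => by rw [if_neg (Finset.ne_of_mem_erase hm')]),
    ← TensorProduct.tmul_sum, if_pos rfl, ZMod.val_zero, pow_zero, Module.End.one_apply]
  have h1 : ∑ m ∈ Finset.univ.erase (0 : ZMod p), (a ^ m.val) x = (∑ m : ZMod p, (a ^ m.val) x) - x := by
    have := Finset.add_sum_erase Finset.univ (fun m : ZMod p => (a ^ m.val) x) (Finset.mem_univ 0)
    rw [ZMod.val_zero, pow_zero, Module.End.one_apply] at this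
    exact eq_sub_iff_add_eq'.mpr this
  rw [h1, smul_add, ← TensorProduct.tmul_smul, ← TensorProduct.tmul_smul, smul_sub, htr, zero_sub,
    TensorProduct.tmul_neg, ← sub_eq_add_neg, ← TensorProduct.sub_tmul, cst, ← hN,
    TensorProduct.tmul_smul, TensorProduct.smul_tmul', nsmul_eq_mul]

theorem cast_mul_lcsAdd_mem (q : ℕ) (hfix : ∀ x, a x = x → q • x = 0) (hpow : a ^ p = 1) :
    ∀ (n : ℕ), ∀ x ∈ lcsAdd L n, (((q : Co p) * cst p) ^ (n + 1)) ⊗ₜ[ℤ] x ∈
      ⨆ t, lowerSer (weightMul (p := p) a q) n t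
  | 0, x, _ => by
    rw [zero_add, pow_one, ← smul_sum_vec a q hfix hpow x]
    exact sum_mem fun i _ => AddSubgroup.mem_iSup_of_mem i ⟨_, vec_mem a hpow i x, rfl⟩
  | n + 1, x, hx => by
    induction hx using AddSubgroup.closure_induction with
    | mem z hz =>
      obtain ⟨u, hu, v, rfl⟩ := hz
      have hv := cast_mul_lcsAdd_mem q hfix hpow 0 v (AddSubgroup.mem_top v)
      rw [zero_add, pow_one] at hv
      rw [pow_succ, ← LieAlgebra.ExtendScalars.bracket_tmul]
      have hmul : ∀ f ∈ ⨆ t, lowerSer (weightMul (p := p) a q) n t,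
          ∀ g ∈ ⨆ t, lowerSer (weightMul (p := p) a q) 0 t,
          ⁅f, g⁆ ∈ ⨆ t, lowerSer (weightMul (p := p) a q) (n + 1) t := by
        intro f hf
        induction hf using AddSubgroup.iSup_induction' with
        | hp i f hf =>
          intro g hg
          induction hg using AddSubgroup.iSup_induction' with
          | hp j g hg => exact AddSubgroup.mem_iSup_of_mem (i + j) (mem_brk hf hg)
          | h1 => rw [tlie_zero]; exact zero_mem _
          | hadd g g' _ _ h h' => rw [tlie_add]; exact add_mem h h'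
        | h1 => intro g _; rw [tzero_lie]; exact zero_mem _
        | hadd f f' _ _ h h' => intro g hg; rw [tadd_lie]; exact add_mem (h g hg) (h' g hg)
      exact hmul _ (cast_mul_lcsAdd_mem q hfix hpow n u hu) _ hv
    | zero => rw [TensorProduct.tmul_zero]; exact zero_mem _
    | add u v _ _ hu hv => rw [TensorProduct.tmul_add]; exact add_mem hu hv
    | neg u _ hu => rw [TensorProduct.tmul_neg]; exact neg_mem hu

/-- An automorphism of prime order `p` whose fixed points are killed by `q`: a term of the lower central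
series is killed by a power of `p * q`. -/
theorem lcsAdd_smul_eq_zero (ha : ∀ x y : L, a ⁅x, y⁆ = ⁅a x, a y⁆) (q : ℕ)
    (hfix : ∀ x, a x = x → q • x = 0) (hpow : a ^ p = 1) {x : L}
    (hx : x ∈ lcsAdd L (xi (p - 1) (2 ^ (p - 1) - 1))) :
    (p * q) ^ (xi (p - 1) (2 ^ (p - 1) - 1) + 1) • x = 0 := by
  set n := xi (p - 1) (2 ^ (p - 1) - 1)
  have hA := weightMul_graded (p := p) a ha q
  have h0 := weightMul_zero (p := p) a q hfix
  have h := cast_mul_lcsAdd_mem a q hfix hpow n x hx
  rw [iSup_congr (lowerSer_eq_bot _ _ hA h0 (derivedSer_eq_bot _ hA h0)), iSup_bot,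
    AddSubgroup.mem_bot, mul_pow, cst_pow] at h
  rw [show (q : Co p) ^ (n + 1) * ((p : Co p) ^ n * cst p) = (q ^ (n + 1) * p ^ n) • cst p by
    rw [nsmul_eq_mul]; push_cast; ring] at h
  have hd : (cst p).coeff 0 - (cst p).coeff 1 = (p : ℤ) := by
    simp [cst, AddMonoidAlgebra.natCast_def, AddMonoidAlgebra.coeff_sum, Finsupp.single_apply,
      Finsupp.finset_sum_apply]
  have h2 := congrArg (fun z => coord 0 z - coord 1 z) h
  simp only [coord_tmul, map_zero, sub_zero, ← sub_smul, AddMonoidAlgebra.coeff_smul,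
    Finsupp.smul_apply] at h2
  rw [← smul_sub, hd, smul_assoc, natCast_zsmul, smul_smul] at h2
  rw [show (p * q) ^ (n + 1) = q ^ (n + 1) * p ^ n * p by rw [mul_pow, pow_succ p]; ring]
  exact h2

end CfsgLib.Kreknin76

end
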