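import Cfsg.Agent.Lib.Coprime.Commutator

/-!
# Minimal `q`-subgroups not centralized by an element of prime order
-/

namespace CfsgLib.HallHigman

open scoped commutatorElement

variable {X : Type*} [Group X] [Finite X]

theorem mem_normalizer_map_conj {H : Subgroup X} {x : X} :
    x ∈ Subgroup.normalizer (H : Set X) ↔ ∀ h ∈ H, x * h * x⁻¹ ∈ H := by
  refine ⟨fun hx h hh => (Subgroup.mem_normalizer_iff.mp hx h).mp hh, fun hx => ?_⟩
  exact CfsgLib.Coprime.mem_normalizer_of_forall_conj hx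

/-- The structure of a minimal invariant nonabelian `q`-subgroup on which `y` acts nontrivially. -/
theorem minimal_structure {p q : ℕ} [Fact p.Prime] [Fact q.Prime] (hqp : q ≠ p) (x y : X)
    (hyx : y ∈ Subgroup.zpowers x) (hy : y ^ p = 1) (Q : Subgroup X) (hQ : IsPGroup q Q)
    (hxQ : x ∈ Subgroup.normalizer (Q : Set X)) (hyQ : y ∉ Subgroup.centralizer (Q : Set X))
    (hmin : ∀ R : Subgroup X, R < Q → x ∈ Subgroup.normalizer (R : Set X) →
      y ∈ Subgroup.centralizer (R : Set X))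
    (hna : ¬ ∀ a ∈ Q, ∀ b ∈ Q, a * b = b * a) :
    (∀ g ∈ Q, ∀ h ∈ Q, ⁅g, h⁆ ∈ Q ⊓ Subgroup.centralizer (Q : Set X)) ∧
    (∀ g ∈ Q, y * g = g * y ↔ g ∈ Q ⊓ Subgroup.centralizer (Q : Set X)) ∧
    (∀ g ∈ Q, g⁻¹ * (y * g * y⁻¹) ∈ Q ⊓ Subgroup.centralizer (Q : Set X) →
      g ∈ Q ⊓ Subgroup.centralizer (Q : Set X)) ∧ ⁅Q, Subgroup.zpowers y⁆ = Q := by
  set Y := Subgroup.zpowers y with hY
  have hYQ : Y ≤ Subgroup.normalizer (Q : Set X) :=
    Subgroup.zpowers_le.mpr ((Subgroup.zpowers_le.mpr hxQ) hyx)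
  have hxy : Commute x y := by
    obtain ⟨k, rfl⟩ := hyx
    exact (Commute.refl x).zpow_right k
  have hxY : x ∈ Subgroup.normalizer (Y : Set X) :=
    mem_normalizer_map_conj.mpr fun h hh => by
      obtain ⟨k, rfl⟩ := hh
      simp only [(hxy.zpow_right k).eq, mul_inv_cancel_right]
      exact Subgroup.zpow_mem _ (Subgroup.mem_zpowers y) k
  have hxcomm : ∀ A B : Subgroup X, x ∈ Subgroup.normalizer (A : Set X) →
      x ∈ Subgroup.normalizer (B : Set X) → x ∈ Subgroup.normalizer ((⁅A, B⁆ : Subgroup X) : Set X) := by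
    intro A B hA hB
    refine mem_normalizer_map_conj.mpr fun h hh => ?_
    have hle : ⁅A, B⁆.map (MulAut.conj x).toMonoidHom ≤ ⁅A, B⁆ := by
      rw [Subgroup.map_commutator]
      refine Subgroup.commutator_mono ?_ ?_ <;> rintro _ ⟨a, ha, rfl⟩
      · exact mem_normalizer_map_conj.mp hA a ha
      · exact mem_normalizer_map_conj.mp hB a ha
    exact hle ⟨h, hh, rfl⟩
  have hcop : (Nat.card Y).Coprime (Nat.card Q) := by
    obtain ⟨k, hk⟩ := hQ.exists_card_eq
    rw [Nat.card_zpowers, hk]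
    exact Nat.Coprime.coprime_dvd_left (orderOf_dvd_of_pow_eq_one hy)
      (Nat.Coprime.pow_right _ ((Nat.coprime_primes Fact.out Fact.out).mpr (Ne.symm hqp)))
  have hsolv : Group.IsSolvable Y ∨ Group.IsSolvable Q := Or.inl inferInstance
  -- `[Q, y] = Q`
  have hQY : ⁅Q, Y⁆ = Q := by
    rcases (CfsgLib.Coprime.commutator_le_of_normalizes hYQ).eq_or_lt with h | h
    · exact h
    exfalso
    have h1 := hmin _ h (hxcomm Q Y hxQ hxY)
    have h2 : ⁅⁅Q, Y⁆, Y⁆ = ⊥ :=
      Subgroup.commutator_eq_bot_iff_le_centralizer.mpr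
        (Subgroup.le_centralizer_iff.mp (Subgroup.zpowers_le.mpr h1))
    have h3 := CfsgLib.Coprime.commutator_eq_bot_of_commutator_commutator_eq_bot Y Q hYQ hcop hsolv h2
    exact hyQ (Subgroup.le_centralizer_iff.mp (Subgroup.commutator_eq_bot_iff_le_centralizer.mp h3)
      (Subgroup.mem_zpowers y))
  -- `[Q, Q]` is centralized by `y`
  have hQne : Q ≠ ⊥ := fun h => hna fun a ha b hb => by
    rw [h, Subgroup.mem_bot] at ha hb; rw [ha, hb]
  have hder : y ∈ Subgroup.centralizer ((⁅Q, Q⁆ : Subgroup X) : Set X) := by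
    refine hmin _ ?_ (hxcomm Q Q hxQ hxQ)
    have : Group.IsSolvable Q := by
      have := hQ.isNilpotent
      infer_instance
    have : Nontrivial Q := (Subgroup.nontrivial_iff_ne_bot Q).mpr hQne
    refine lt_of_le_of_ne (Subgroup.commutator_le.mpr fun a ha b hb => ?_) fun h => ?_
    · exact Q.mul_mem (Q.mul_mem (Q.mul_mem ha hb) (Q.inv_mem ha)) (Q.inv_mem hb)
    · refine (Group.IsSolvable.commutator_lt_top_of_nontrivial Q).ne ?_
      refine Subgroup.map_injective Q.subtype_injective ?_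
      rw [commutator_def, Subgroup.map_commutator, ← MonoidHom.range_eq_map, Subgroup.range_subtype, h]
  set Z := Q ⊓ Subgroup.centralizer (Q : Set X) with hZ
  set C := Q ⊓ Subgroup.centralizer ({y} : Set X) with hC
  -- `C_Q(y) ≤ Z(Q)` by the three subgroups lemma
  have hCY : ⁅C, Y⁆ = ⊥ :=
    Subgroup.commutator_eq_bot_iff_le_centralizer.mpr
      (Subgroup.le_centralizer_iff.mp (Subgroup.zpowers_le.mpr fun c hc =>
        (Subgroup.mem_centralizer_singleton_iff.mp hc.2)))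
  have hQC : ⁅⁅Q, C⁆, Y⁆ = ⊥ := by
    refine Subgroup.commutator_eq_bot_iff_le_centralizer.mpr (Subgroup.le_centralizer_iff.mp ?_)
    exact Subgroup.zpowers_le.mpr fun c hc => hder c (Subgroup.commutator_mono le_rfl inf_le_left hc)
  have hCZ : C ≤ Z := by
    refine le_inf inf_le_left ?_
    have h1 : ⁅⁅Y, Q⁆, C⁆ = ⊥ :=
      Subgroup.commutator_commutator_eq_bot_of_rotate hQC (by rw [hCY, Subgroup.commutator_bot_left])
    rw [Subgroup.commutator_comm Y Q, hQY] at h1
    exact Subgroup.le_centralizer_iff.mp (Subgroup.commutator_eq_bot_iff_le_centralizer.mp h1)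
  have hZC : Z ≤ C := by
    refine le_inf inf_le_left fun z hz => Subgroup.mem_centralizer_singleton_iff.mpr ?_
    have hlt : Z < Q := lt_of_le_of_ne inf_le_left fun h => hna fun a ha b hb =>
      ((h.ge ha).2 b hb).symm
    refine (hmin Z hlt (mem_normalizer_map_conj.mpr fun w hw => ⟨?_, fun b hb => ?_⟩) z hz)
    · exact mem_normalizer_map_conj.mp hxQ w hw.1
    · have hxinv : x⁻¹ ∈ Subgroup.normalizer (Q : Set X) := Subgroup.inv_mem _ hxQ
      have h1 := hw.2 _ (mem_normalizer_map_conj.mp hxinv b hb)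
      calc b * (x * w * x⁻¹) = x * (x⁻¹ * b * x⁻¹⁻¹ * w) * x⁻¹ := by group
        _ = x * (w * (x⁻¹ * b * x⁻¹⁻¹)) * x⁻¹ := by rw [h1]
        _ = x * w * x⁻¹ * b := by group
  have hiff : ∀ g ∈ Q, y * g = g * y ↔ g ∈ Z := fun g hg =>
    ⟨fun h => hCZ ⟨hg, Subgroup.mem_centralizer_singleton_iff.mpr h.symm⟩,
      fun h => (Subgroup.mem_centralizer_singleton_iff.mp (hZC h).2).symm⟩
  refine ⟨fun g hg h hh => hCZ ⟨?_, ?_⟩, hiff, fun g hg hgz => ?_, hQY⟩
  · exact Q.mul_mem (Q.mul_mem (Q.mul_mem hg hh) (Q.inv_mem hg)) (Q.inv_mem hh)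
  · exact Subgroup.mem_centralizer_singleton_iff.mpr (hder _ (Subgroup.commutator_mem_commutator hg hh))
  set z := g⁻¹ * (y * g * y⁻¹) with hzdef
  have hzy : y * z = z * y := (hiff z hgz.1).mpr hgz
  have hk : ∀ k : ℕ, y ^ k * g * (y ^ k)⁻¹ = g * z ^ k := by
    intro k
    induction k with
    | zero => simp
    | succ k ih =>
      rw [pow_succ' y, show y * y ^ k * g * (y * y ^ k)⁻¹ = y * (y ^ k * g * (y ^ k)⁻¹) * y⁻¹ by group, ih,
        show y * (g * z ^ k) * y⁻¹ = (y * g * y⁻¹) * (y * z ^ k * y⁻¹) by group,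
        ((show Commute y z from hzy).pow_right k).eq, mul_inv_cancel_right,
        show y * g * y⁻¹ = g * z by rw [hzdef]; group, mul_assoc, ← pow_succ']
  have h1 := hk p
  rw [hy, one_mul, inv_one, mul_one, left_eq_mul] at h1
  obtain ⟨j, hj⟩ := hQ ⟨z, hgz.1⟩
  have hz1 : z = 1 := orderOf_eq_one_iff.mp (Nat.eq_one_of_dvd_coprimes
    (Nat.Coprime.pow_right j ((Nat.coprime_primes Fact.out Fact.out).mpr (Ne.symm hqp)))
    (orderOf_dvd_of_pow_eq_one h1) (orderOf_dvd_of_pow_eq_one (congrArg Subtype.val hj)))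
  refine (hiff g hg).mp ?_
  calc y * g = g * (g⁻¹ * (y * g * y⁻¹)) * y := by group
    _ = g * y := by rw [← hzdef, hz1, mul_one]

end CfsgLib.HallHigman
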