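import Cfsg.Agent.Lib.HallHigman.Minimal

/-!
# Minimal invariant `q`-subgroups not centralized by a normal subgroup of the acting `p`-group
-/

namespace CfsgLib.HallHigman

open scoped commutatorElement

variable {X : Type*} [Group X] [Finite X]

/-- The structure of a minimal `P`-invariant nonabelian `q`-subgroup not centralized by `Y ⊴ P`. -/
theorem minimal_structure_normal {p q : ℕ} [Fact p.Prime] [Fact q.Prime] (hqp : q ≠ p) (P Y : Subgroup X)
    (hYP : Y ≤ P) (hPY : P ≤ Subgroup.normalizer (Y : Set X)) (hY : IsPGroup p Y) (R : Subgroup X)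
    (hR : IsPGroup q R) (hPR : P ≤ Subgroup.normalizer (R : Set X))
    (hYR : ¬ Y ≤ Subgroup.centralizer (R : Set X))
    (hmin : ∀ S : Subgroup X, S < R → P ≤ Subgroup.normalizer (S : Set X) → Y ≤ Subgroup.centralizer (S : Set X))
    (hna : ¬ ∀ a ∈ R, ∀ b ∈ R, a * b = b * a) :
    (∀ g ∈ R, ∀ h ∈ R, ⁅g, h⁆ ∈ R ⊓ Subgroup.centralizer (R : Set X)) ∧
    Y ≤ Subgroup.centralizer ((R ⊓ Subgroup.centralizer (R : Set X) : Subgroup X) : Set X) ∧
    P ≤ Subgroup.normalizer ((R ⊓ Subgroup.centralizer (R : Set X) : Subgroup X) : Set X) ∧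
    ⁅R, Y⁆ = R := by
  have hYRn : Y ≤ Subgroup.normalizer (R : Set X) := hYP.trans hPR
  have hcomm : ∀ A B : Subgroup X, P ≤ Subgroup.normalizer (A : Set X) → P ≤ Subgroup.normalizer (B : Set X) →
      P ≤ Subgroup.normalizer ((⁅A, B⁆ : Subgroup X) : Set X) := by
    intro A B hA hB x hx
    refine mem_normalizer_map_conj.mpr fun h hh => ?_
    have hle : ⁅A, B⁆.map (MulAut.conj x).toMonoidHom ≤ ⁅A, B⁆ := by
      rw [Subgroup.map_commutator]
      refine Subgroup.commutator_mono ?_ ?_ <;> rintro _ ⟨a, ha, rfl⟩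
      · exact mem_normalizer_map_conj.mp (hA hx) a ha
      · exact mem_normalizer_map_conj.mp (hB hx) a ha
    exact hle ⟨h, hh, rfl⟩
  have hcop : (Nat.card Y).Coprime (Nat.card R) :=
    IsPGroup.coprime_card_of_ne p q (Ne.symm hqp) Y R hY hR
  have hnilY := hY.isNilpotent
  have hsolv : Group.IsSolvable Y ∨ Group.IsSolvable R := Or.inl inferInstance
  have hRY : ⁅R, Y⁆ = R := by
    rcases (CfsgLib.Coprime.commutator_le_of_normalizes hYRn).eq_or_lt with h | h
    · exact h
    exfalso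
    have h1 := hmin _ h (hcomm R Y hPR hPY)
    have h2 : ⁅⁅R, Y⁆, Y⁆ = ⊥ :=
      Subgroup.commutator_eq_bot_iff_le_centralizer.mpr (Subgroup.le_centralizer_iff.mp h1)
    exact hYR (Subgroup.le_centralizer_iff.mp (Subgroup.commutator_eq_bot_iff_le_centralizer.mp
      (CfsgLib.Coprime.commutator_eq_bot_of_commutator_commutator_eq_bot Y R hYRn hcop hsolv h2)))
  set Z := R ⊓ Subgroup.centralizer (R : Set X) with hZ
  have hPZ : P ≤ Subgroup.normalizer (Z : Set X) := by
    intro x hx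
    refine mem_normalizer_map_conj.mpr fun z hz => ⟨mem_normalizer_map_conj.mp (hPR hx) z hz.1, fun b hb => ?_⟩
    have h1 := hz.2 _ (mem_normalizer_map_conj.mp (Subgroup.inv_mem _ (hPR hx)) b hb)
    calc b * (x * z * x⁻¹) = x * (x⁻¹ * b * x⁻¹⁻¹ * z) * x⁻¹ := by group
      _ = x * (z * (x⁻¹ * b * x⁻¹⁻¹)) * x⁻¹ := by rw [h1]
      _ = x * z * x⁻¹ * b := by group
  have hZlt : Z < R := lt_of_le_of_ne inf_le_left fun h => hna fun a ha b hb => ((h.ge ha).2 b hb).symm
  have hYZ : Y ≤ Subgroup.centralizer (Z : Set X) := hmin Z hZlt hPZ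
  have hRne : R ≠ ⊥ := fun h => hna fun a ha b hb => by
    rw [h, Subgroup.mem_bot] at ha hb; rw [ha, hb]
  have hder : Y ≤ Subgroup.centralizer ((⁅R, R⁆ : Subgroup X) : Set X) := by
    refine hmin _ ?_ (hcomm R R hPR hPR)
    have : Group.IsSolvable R := by
      have := hR.isNilpotent
      infer_instance
    have : Nontrivial R := (Subgroup.nontrivial_iff_ne_bot R).mpr hRne
    refine lt_of_le_of_ne (Subgroup.commutator_le.mpr fun a ha b hb => ?_) fun h => ?_
    · exact R.mul_mem (R.mul_mem (R.mul_mem ha hb) (R.inv_mem ha)) (R.inv_mem hb)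
    · refine (Group.IsSolvable.commutator_lt_top_of_nontrivial R).ne ?_
      refine Subgroup.map_injective R.subtype_injective ?_
      rw [commutator_def, Subgroup.map_commutator, ← MonoidHom.range_eq_map, Subgroup.range_subtype, h]
  set C := R ⊓ Subgroup.centralizer (Y : Set X) with hC
  have hCY : ⁅C, Y⁆ = ⊥ := Subgroup.commutator_eq_bot_iff_le_centralizer.mpr inf_le_right
  have hRC : ⁅⁅R, C⁆, Y⁆ = ⊥ := Subgroup.commutator_eq_bot_iff_le_centralizer.mpr
    ((Subgroup.commutator_mono le_rfl inf_le_left).trans (Subgroup.le_centralizer_iff.mp hder))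
  have hCZ : C ≤ Z := by
    refine le_inf inf_le_left ?_
    have h1 : ⁅⁅Y, R⁆, C⁆ = ⊥ :=
      Subgroup.commutator_commutator_eq_bot_of_rotate hRC (by rw [hCY, Subgroup.commutator_bot_left])
    rw [Subgroup.commutator_comm Y R, hRY] at h1
    exact Subgroup.le_centralizer_iff.mp (Subgroup.commutator_eq_bot_iff_le_centralizer.mp h1)
  refine ⟨fun g hg h hh => hCZ ⟨R.mul_mem (R.mul_mem (R.mul_mem hg hh) (R.inv_mem hg)) (R.inv_mem hh),
    Subgroup.le_centralizer_iff.mp hder (Subgroup.commutator_mem_commutator hg hh)⟩, hYZ, hPZ, hRY⟩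

end CfsgLib.HallHigman
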