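import Cfsg.Agent.Lib.HallHigman.Stable

/-!
# The support of an element in the fully ramified case
-/

namespace CfsgLib.HallHigman

open Module (End)
open scoped commutatorElement

variable {K V : Type*} [Field K] [IsAlgClosed K] [AddCommGroup V] [Module K V] [FiniteDimensional K V]
  {p : ℕ} [hp : Fact p.Prime] [CharP K p]

/-- A nonzero map commuting with the group and intertwining `T` with `x`. -/
theorem exists_equivariant_map {U : Type*} [AddCommGroup U] [Module K U] [FiniteDimensional K U]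
    {Q : Type*} [Group Q] (ρ : Q →* End K U) (π : Q →* End K V) (σ : MulAut Q) (T : End K U) (S : End K V)
    (n : ℕ) (hT : T ^ p ^ n = 1) (hS : S ^ p ^ n = 1) (hTρ : ∀ g, T * ρ g = ρ (σ g) * T)
    (hSπ : ∀ g, S * π g = π (σ g) * S) (f₀ : U →ₗ[K] V) (hf₀ : f₀ ≠ 0)
    (hf₀g : ∀ g, π g ∘ₗ f₀ = f₀ ∘ₗ ρ g) :
    ∃ f : U →ₗ[K] V, f ≠ 0 ∧ (∀ g, π g ∘ₗ f = f ∘ₗ ρ g) ∧ ∀ w, S (f w) = f (T w) := by
  have hP1 : 1 ≤ p ^ n := Nat.one_le_pow _ _ hp.out.pos
  set T' := T ^ (p ^ n - 1) with hT'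
  have hTT' : T * T' = 1 := by rw [hT', ← pow_succ', Nat.sub_add_cancel hP1, hT]
  have hT'T : T' * T = 1 := by rw [hT', ← pow_succ, Nat.sub_add_cancel hP1, hT]
  let L : (U →ₗ[K] V) →ₗ[K] (U →ₗ[K] V) :=
    { toFun := fun f => S ∘ₗ f ∘ₗ T'
      map_add' := fun a b => by ext; simp
      map_smul' := fun a f => by ext; simp }
  let M : Submodule K (U →ₗ[K] V) :=
    { carrier := {f | ∀ g, π g ∘ₗ f = f ∘ₗ ρ g}
      add_mem' := fun {a b} ha hb g => by simp [LinearMap.comp_add, LinearMap.add_comp, ha g, hb g]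
      zero_mem' := fun g => by simp
      smul_mem' := fun a f hf g => by simp [LinearMap.comp_smul, LinearMap.smul_comp, hf g] }
  have hLM : ∀ f ∈ M, L f ∈ M := by
    intro f hfg g
    refine LinearMap.ext fun w => ?_
    show π g (S (f (T' w))) = S (f (T' (ρ g w)))
    have hg' : T' (ρ g w) = ρ (σ.symm g) (T' w) := by
      have h1 := LinearMap.congr_fun (hTρ (σ.symm g)) (T' w)
      rw [MulEquiv.apply_symm_apply] at h1
      simp only [Module.End.mul_apply] at h1
      rw [← Module.End.mul_apply T T', hTT', Module.End.one_apply] at h1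
      rw [← h1, ← Module.End.mul_apply T' T, hT'T, Module.End.one_apply]
    rw [hg', ← show π (σ.symm g) (f (T' w)) = f (ρ (σ.symm g) (T' w)) from LinearMap.congr_fun (hfg _) _,
      ← Module.End.mul_apply S, hSπ, MulEquiv.apply_symm_apply, Module.End.mul_apply]
  have hLpow : ∀ (i : ℕ) f, (L ^ i) f = (S ^ i) ∘ₗ f ∘ₗ (T' ^ i) := by
    intro i
    induction i with
    | zero => intro f; ext; rfl
    | succ i ihi =>
      intro f
      rw [pow_succ', Module.End.mul_apply, ihi]
      ext w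
      simp only [L, LinearMap.coe_mk, AddHom.coe_mk, LinearMap.comp_apply]
      rw [pow_succ' S, pow_succ T', Module.End.mul_apply, Module.End.mul_apply]
  have hLP : L ^ p ^ n = 1 := LinearMap.ext fun f => by
    rw [hLpow, hS, hT', ← pow_mul, mul_comm, pow_mul, hT, one_pow]; rfl
  obtain ⟨f, hfM, hf0, hfL⟩ : ∃ f ∈ M, f ≠ 0 ∧ L f = f := by
    by_contra hcon
    push Not at hcon
    have hnil : (L - 1) ^ p ^ n = 0 := by
      rcases subsingleton_or_nontrivial (End K (U →ₗ[K] V)) with h | h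
      · exact Subsingleton.elim _ _
      have : CharP (End K (U →ₗ[K] V)) p := (CharP.charP_iff_prime_eq_zero hp.out).mpr
        (LinearMap.ext fun v => by
          rw [Module.End.natCast_apply, ← Nat.cast_smul_eq_nsmul K, CharP.cast_eq_zero, zero_smul]; rfl)
      rw [sub_pow_char_pow_of_commute p n (Commute.one_right L), hLP, one_pow, sub_self]
    have hMinv : ∀ i, (((L - 1) ^ i : End K (U →ₗ[K] V))) f₀ ∈ M := by
      intro i
      induction i with
      | zero => exact hf₀g
      | succ i ihi =>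
        rw [pow_succ', Module.End.mul_apply, LinearMap.sub_apply, Module.End.one_apply]
        exact sub_mem (hLM _ ihi) ihi
    have hne : ∀ i, (((L - 1) ^ i : End K (U →ₗ[K] V))) f₀ ≠ 0 := by
      intro i
      induction i with
      | zero => exact hf₀
      | succ i ihi =>
        rw [pow_succ', Module.End.mul_apply, LinearMap.sub_apply, Module.End.one_apply, sub_ne_zero]
        exact hcon _ (hMinv i) ihi
    exact hne _ (by rw [hnil]; rfl)
  refine ⟨f, hf0, hfM, fun w => ?_⟩
  conv_rhs => rw [← hfL]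
  show _ = S (f (T' (T w)))
  rw [← Module.End.mul_apply, hT'T, Module.End.one_apply]

/-- The support of `τ ^ p ^ n` on `R ⧸ Z(R)` when `Z(R)` is scalar and the degree of `τ` is bounded. -/
theorem ramified_relIndex {X : Type*} [Group X] [Finite X] (γ : X →* End K V) (hγ : Function.Injective γ)
    (τ : X) (n : ℕ) (hτ : τ ^ p ^ (n + 1) = 1) (hdeg : (γ τ - 1) ^ (p ^ (n + 1) - 1) = 0) {q : ℕ}
    [Fact q.Prime] (hqp : q ≠ p) (R : Subgroup X) (hR : IsPGroup q R)
    (hτR : τ ∈ Subgroup.normalizer (R : Set X))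
    (hscal : ∀ z ∈ R ⊓ Subgroup.centralizer (R : Set X), ∃ c : K, γ z = c • 1)
    (hcl : ∀ g ∈ R, ∀ h ∈ R, ⁅g, h⁆ ∈ R ⊓ Subgroup.centralizer (R : Set X))
    (hy : τ ^ p ^ n ∉ Subgroup.centralizer (R : Set X)) :
    ∃ N : ℕ, N + 1 = p ^ (n + 1) ∧ (R ⊓ Subgroup.centralizer ({τ ^ p ^ n} : Set X)).relIndex R = N ^ 2 := by
  classical
  set y := τ ^ p ^ n with hydef
  set Z := R ⊓ Subgroup.centralizer (R : Set X) with hZdef
  set C := R ⊓ Subgroup.centralizer ({y} : Set X) with hCdef
  rcases subsingleton_or_nontrivial V with hV | hV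
  · exact absurd (fun g _ => hγ (LinearMap.ext fun v => Subsingleton.elim _ _)) hy
  have hyZ : ∀ z ∈ Z, ∀ g : X, g * z = z * g := by
    intro z hz g
    obtain ⟨c, hc⟩ := hscal z hz
    apply hγ
    rw [map_mul, map_mul, hc, mul_smul_comm, smul_mul_assoc, mul_one, one_mul]
  have hYR : Subgroup.zpowers y ≤ Subgroup.normalizer (R : Set X) :=
    Subgroup.zpowers_le.mpr (Subgroup.pow_mem _ hτR _)
  have hyord : y ^ p = 1 := by rw [hydef, ← pow_mul, ← pow_succ, hτ]
  have hcop : (Nat.card (Subgroup.zpowers y)).Coprime (Nat.card R) := by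
    obtain ⟨j, hj⟩ := hR.exists_card_eq
    rw [Nat.card_zpowers, hj]
    exact Nat.Coprime.coprime_dvd_left (orderOf_dvd_of_pow_eq_one hyord)
      (Nat.Coprime.pow_right _ ((Nat.coprime_primes Fact.out Fact.out).mpr (Ne.symm hqp)))
  set Q := ⁅R, Subgroup.zpowers y⁆ with hQdef
  have hQR : Q ≤ R := CfsgLib.Coprime.commutator_le_of_normalizes hYR
  have hsup : Q ⊔ (R ⊓ Subgroup.centralizer (Subgroup.zpowers y : Set X)) = R :=
    CfsgLib.Coprime.commutator_sup_centralizer _ R hYR hcop (Or.inl inferInstance)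
  have hCeq : R ⊓ Subgroup.centralizer (Subgroup.zpowers y : Set X) = C := by
    rw [hCdef, Subgroup.zpowers_eq_closure, Subgroup.centralizer_closure]
  rw [hCeq] at hsup
  have hCcomm : ∀ c ∈ C, c * y = y * c := fun c hc => Subgroup.mem_centralizer_singleton_iff.mp hc.2
  -- `[R, y]` commutes with `C_R(y)`
  have hQC : Q ≤ Subgroup.centralizer (C : Set X) := by
    refine Subgroup.commutator_eq_bot_iff_le_centralizer.mp (Subgroup.commutator_commutator_eq_bot_of_rotate ?_ ?_)
    · have h1 : ⁅Subgroup.zpowers y, C⁆ = ⊥ := by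
        refine Subgroup.commutator_eq_bot_iff_le_centralizer.mpr (Subgroup.zpowers_le.mpr fun c hc => hCcomm c hc)
      rw [h1, Subgroup.commutator_bot_left]
    · refine Subgroup.commutator_eq_bot_iff_le_centralizer.mpr ?_
      rw [Subgroup.commutator_le]
      intro c hc r hr b hb
      exact hyZ _ (hcl c hc.1 r hr) b
  have hQCZ : ∀ g ∈ Q, g ∈ C → g ∈ Z := fun g hgQ hgC => by
    refine ⟨hQR hgQ, ?_⟩
    suffices h : R ≤ Subgroup.centralizer ({g} : Set X) from
      fun b hb => Subgroup.mem_centralizer_singleton_iff.mp (h hb)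
    rw [← hsup]
    refine sup_le (fun b hb => Subgroup.mem_centralizer_singleton_iff.mpr ?_)
      fun b hb => Subgroup.mem_centralizer_singleton_iff.mpr ?_
    · exact (hQC hb g hgC).symm
    · exact hQC hgQ b hb
  have hZQ : ∀ g ∈ Q, (∀ h ∈ Q, g * h = h * g) → g ∈ Z := fun g hg hcomm => by
    refine ⟨hQR hg, ?_⟩
    suffices h : R ≤ Subgroup.centralizer ({g} : Set X) from
      fun b hb => Subgroup.mem_centralizer_singleton_iff.mp (h hb)
    rw [← hsup]
    refine sup_le (fun b hb => Subgroup.mem_centralizer_singleton_iff.mpr (hcomm b hb).symm)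
      fun b hb => Subgroup.mem_centralizer_singleton_iff.mpr ?_
    exact hQC hg b hb
  -- an irreducible constituent
  obtain ⟨U, hUmem, hUmin⟩ := exists_minimal_of_wellFoundedLT
    (fun W : Submodule K V => W ≠ ⊥ ∧ ∀ g ∈ Q, ∀ w ∈ W, γ g w ∈ W) ⟨⊤, top_ne_bot, fun _ _ _ _ => trivial⟩
  obtain ⟨hU0, hUinv⟩ := hUmem
  have : Nontrivial U := Submodule.nontrivial_iff_ne_bot.mpr hU0
  obtain ⟨u₀, hu₀⟩ := exists_ne (0 : U)
  let ρU : Q →* End K U :=
    { toFun := fun g => (γ g).restrict (hUinv g g.2)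
      map_one' := LinearMap.ext fun w => Subtype.ext (by show γ (1 : X) w = w; rw [map_one]; rfl)
      map_mul' := fun a b => LinearMap.ext fun w => Subtype.ext (by
        show γ ((a : X) * b) w = γ a (γ b w)
        rw [map_mul]; rfl) }
  have hirr : IsIrred ρU := by
    intro W hW
    by_cases h : W = ⊥
    · exact Or.inl h
    refine Or.inr ?_
    have hle : W.map U.subtype ≤ U := Submodule.map_subtype_le U W
    have h1 := hUmin (y := W.map U.subtype) ⟨?_, ?_⟩ hle
    · refine Submodule.map_injective_of_injective U.injective_subtype ?_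
      rw [Submodule.map_top, Submodule.range_subtype]
      exact le_antisymm hle h1
    · intro e
      exact h (Submodule.map_injective_of_injective U.injective_subtype (by rw [e, Submodule.map_bot]))
    · rintro g hg _ ⟨w, hw, rfl⟩
      exact ⟨ρU ⟨g, hg⟩ w, hW ⟨g, hg⟩ w hw, rfl⟩
  have hcen : ∀ g : Q, g ∈ Subgroup.center Q ↔ (g : X) ∈ Z := fun g => by
    rw [Subgroup.mem_center_iff]
    exact ⟨fun h => hZQ g g.2 fun b hb => (congrArg Subtype.val (h ⟨b, hb⟩)).symm,
      fun h b => Subtype.ext (h.2 b (hQR b.2))⟩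
  have hcl' : ∀ g h : Q, ⁅g, h⁆ ∈ Subgroup.center Q := fun g h =>
    (hcen _).mpr (hcl g (hQR g.2) h (hQR h.2))
  have hram : IsFullyRamified ρU := fun g hg => by
    rw [Subgroup.mem_center_iff]
    intro h
    have h1 : ρU ⁅g, h⁆ = 1 := by
      rw [commutatorElement_def, map_mul, map_mul, map_mul, hg h, mul_assoc (ρU h), map_mul_map_inv, mul_one,
        map_mul_map_inv]
    obtain ⟨c, hc⟩ := hscal _ (hcl g (hQR g.2) h (hQR h.2))
    have h2 : c = 1 := by
      have h3 := congrArg Subtype.val (LinearMap.congr_fun h1 u₀)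
      have h4 : γ ⁅(g : X), (h : X)⁆ (u₀ : V) = (u₀ : V) := h3
      rw [hc] at h4
      have h5 : (c - 1) • (u₀ : V) = 0 := by
        rw [sub_smul, one_smul, sub_eq_zero]; exact h4
      exact sub_eq_zero.mp ((smul_eq_zero.mp h5).resolve_right fun e => hu₀ (Subtype.ext e))
    rw [h2, one_smul] at hc
    exact (Subtype.ext (commutatorElement_eq_one_iff_mul_comm.mp (hγ (hc.trans (map_one γ).symm)))).symm
  have hτQ : ∀ g ∈ Q, τ * g * τ⁻¹ ∈ Q := by
    intro g hg
    have h1 : Q.map (MulAut.conj τ).toMonoidHom ≤ Q := by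
      rw [hQdef, Subgroup.map_commutator]
      refine Subgroup.commutator_mono ?_ ?_
      · rintro _ ⟨r, hr, rfl⟩
        exact mem_normalizer_map_conj.mp hτR r hr
      · rw [MonoidHom.map_zpowers]
        refine Subgroup.zpowers_le.mpr ?_
        show τ * y * τ⁻¹ ∈ _
        rw [show τ * y * τ⁻¹ = y by rw [hydef, (Commute.self_pow τ _).eq, mul_inv_cancel_right]]
        exact Subgroup.mem_zpowers y
    exact h1 ⟨g, hg, rfl⟩
  have hτQ' : τ ∈ Subgroup.normalizer (Q : Set X) := mem_normalizer_map_conj.mpr hτQ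
  let σ : MulAut Q :=
    { toFun := fun g => ⟨τ * g * τ⁻¹, hτQ g g.2⟩
      invFun := fun g => ⟨τ⁻¹ * g * τ⁻¹⁻¹, mem_normalizer_map_conj.mp (Subgroup.inv_mem _ hτQ') g g.2⟩
      left_inv := fun g => Subtype.ext (by simp [mul_assoc])
      right_inv := fun g => Subtype.ext (by simp [mul_assoc])
      map_mul' := fun a b => Subtype.ext (by simp [mul_assoc]) }
  have hσpow : ∀ (i : ℕ) (g : Q), (((σ ^ i) g : Q) : X) = τ ^ i * g * (τ ^ i)⁻¹ := by
    intro i
    induction i with
    | zero => simp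
    | succ i ihi =>
      intro g
      rw [pow_succ, MulAut.mul_apply, ihi, pow_succ]
      show τ ^ i * (τ * g * τ⁻¹) * (τ ^ i)⁻¹ = _
      group
  have hσP : σ ^ p ^ (n + 1) = 1 := MulEquiv.ext fun g => Subtype.ext (by rw [hσpow, hτ]; simp)
  have hP2 : 2 ≤ p ^ (n + 1) := hp.out.two_le.trans (Nat.le_self_pow (by omega) p)
  have hσz : ∀ z ∈ Subgroup.center Q, ρU (σ z) = ρU z := fun z hz => by
    have h1 : σ z = z := Subtype.ext (by
      show τ * (z : X) * τ⁻¹ = z
      rw [hyZ _ ((hcen z).mp hz) τ, mul_inv_cancel_right])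
    rw [h1]
  obtain ⟨T, hT, hTρ⟩ := exists_twist hirr hcl' hram σ (by omega) hσP hσz
  obtain ⟨f, hf0, hfg, hfT⟩ := exists_equivariant_map (p := p) ρU (γ.comp Q.subtype) σ T (γ τ) (n + 1) hT
    (by rw [← map_pow, hτ, map_one]) hTρ (fun g => by
      show γ τ * γ (g : X) = γ (τ * (g : X) * τ⁻¹) * γ τ
      rw [← map_mul, ← map_mul, inv_mul_cancel_right]) U.subtype
    (fun e => hu₀ (Subtype.ext (LinearMap.congr_fun e u₀))) (fun g => rfl)
  have hfinj : Function.Injective f := by
    rw [← LinearMap.ker_eq_bot]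
    refine (hirr _ fun g w hw => ?_).resolve_right fun h => hf0 (LinearMap.ker_eq_top.mp h)
    rw [LinearMap.mem_ker] at hw ⊢
    have := LinearMap.congr_fun (hfg g) w
    simp only [LinearMap.comp_apply] at this
    rw [← this, hw, map_zero]
  have hnil : (T - 1) ^ (p ^ (n + 1) - 1) = 0 := by
    refine LinearMap.ext fun w => hfinj ?_
    have h1 : ∀ (i : ℕ) (w : U), (((γ τ - 1) ^ i : End K V)) (f w) = f ((((T - 1) ^ i : End K U)) w) := by
      intro i
      induction i with
      | zero => intro w; rfl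
      | succ i ihi =>
        intro w
        rw [pow_succ, pow_succ, Module.End.mul_apply, Module.End.mul_apply, ← ihi]
        simp [hfT]
    rw [← h1, hdeg]
    simp
  have hcharU : (p : End K U) = 0 := LinearMap.ext fun v => by
    rw [Module.End.natCast_apply, ← Nat.cast_smul_eq_nsmul K, CharP.cast_eq_zero, zero_smul]; rfl
  have hQ' : ∃ g, g ∉ Subgroup.center Q := by
    by_contra hall
    push Not at hall
    apply hy
    have hQZ : Q ≤ C := fun g hg => ⟨hQR hg, Subgroup.mem_centralizer_singleton_iff.mpr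
      (hyZ g ((hcen ⟨g, hg⟩).mp (hall _)) y).symm⟩
    have hRC : R = C := by rw [← hsup, sup_eq_right.mpr hQZ]
    intro r hr
    exact hCcomm r (hRC.le hr)
  have hσfix : ∀ i g, 0 < i → i < p ^ (n + 1) → g⁻¹ * (σ ^ i) g ∈ Subgroup.center Q →
      g ∈ Subgroup.center Q := by
    intro i g hi0 hiP hg
    rw [hcen] at hg ⊢
    rw [Subgroup.coe_mul, Subgroup.coe_inv, hσpow] at hg
    obtain ⟨e, u, he, -, heq⟩ := exists_pow_eq_prime_pow hp.out hτ hi0 hiP
    have hpow : ∀ j, (g : X)⁻¹ * ((τ ^ i) ^ j * g * ((τ ^ i) ^ j)⁻¹) ∈ Z := by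
      intro j
      induction j with
      | zero => simp
      | succ j ihj =>
        have h1 : (τ ^ i) ^ j * ((g : X)⁻¹ * (τ ^ i * g * (τ ^ i)⁻¹)) * ((τ ^ i) ^ j)⁻¹ ∈ Z := by
          rw [hyZ _ hg, mul_inv_cancel_right]; exact hg
        have h2 := Z.mul_mem ihj h1
        convert h2 using 1
        rw [pow_succ]
        group
    have h3 := hpow (u * p ^ (n - e))
    rw [pow_mul, heq, ← pow_mul, ← pow_add, show e + (n - e) = n by omega, ← hydef] at h3
    set z := (g : X)⁻¹ * (y * g * y⁻¹) with hz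
    have hk : ∀ k : ℕ, y ^ k * g * (y ^ k)⁻¹ = g * z ^ k := by
      intro k
      induction k with
      | zero => simp
      | succ k ih =>
        rw [pow_succ' y, show y * y ^ k * (g : X) * (y * y ^ k)⁻¹ = y * (y ^ k * g * (y ^ k)⁻¹) * y⁻¹ by group, ih,
          show y * ((g : X) * z ^ k) * y⁻¹ = (y * g * y⁻¹) * (y * z ^ k * y⁻¹) by group,
          ((show Commute y z from hyZ z h3 y).pow_right k).eq, mul_inv_cancel_right,
          show y * (g : X) * y⁻¹ = g * z by rw [hz]; group, mul_assoc, ← pow_succ']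
    have h1 := hk p
    rw [hyord, one_mul, inv_one, mul_one, left_eq_mul] at h1
    obtain ⟨j, hj⟩ := hR ⟨z, h3.1⟩
    have hz1 : z = 1 := orderOf_eq_one_iff.mp (Nat.eq_one_of_dvd_coprimes
      (Nat.Coprime.pow_right j ((Nat.coprime_primes Fact.out Fact.out).mpr (Ne.symm hqp)))
      (orderOf_dvd_of_pow_eq_one h1) (orderOf_dvd_of_pow_eq_one (congrArg Subtype.val hj)))
    refine hQCZ g g.2 ⟨hQR g.2, Subgroup.mem_centralizer_singleton_iff.mpr ?_⟩
    calc (g : X) * y = g * z * y := by rw [hz1, mul_one]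
      _ = y * g := by rw [hz]; group
  obtain ⟨hdim, -⟩ := fully_ramified_single_block hirr hcl' hram σ hP2 hσP hσfix T hT hTρ hQ'
    (by rw [geom_sum_eq_sub_one_pow p (n + 1) hcharU, hnil]) hnil
  refine ⟨Module.finrank K U, hdim, ?_⟩
  -- `|R : C_R(y)| = |Q : Z(Q)|`
  rw [finrank_sq hirr hcl' hram, ← Subgroup.index_eq_card]
  have h1 : C.subgroupOf Q = Subgroup.center Q := by
    ext g
    rw [Subgroup.mem_subgroupOf, hcen]
    exact ⟨fun h => hQCZ g g.2 h, fun h => ⟨h.1, Subgroup.mem_centralizer_singleton_iff.mpr (hyZ _ h y).symm⟩⟩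
  rw [← h1]
  show C.relIndex R = C.relIndex Q
  have : (C.subgroupOf R).Normal := by
    refine ⟨fun c hc g => ?_⟩
    rw [Subgroup.mem_subgroupOf] at hc ⊢
    have hcomm : ⁅(g : X), (c : X)⁆ ∈ C := by
      have h2 := hcl g g.2 c c.2
      exact ⟨h2.1, Subgroup.mem_centralizer_singleton_iff.mpr (hyZ _ h2 y).symm⟩
    have h3 : (g : X) * c * (g : X)⁻¹ = ⁅(g : X), (c : X)⁆ * c := by simp [commutatorElement_def, mul_assoc]
    show (g : X) * c * (g : X)⁻¹ ∈ C
    rw [h3]
    exact C.mul_mem hcomm hc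
  have htop : C.subgroupOf R ⊔ Q.subgroupOf R = ⊤ := by
    rw [← Subgroup.subgroupOf_sup inf_le_left hQR, sup_comm, hsup, Subgroup.subgroupOf_self]
  rw [← Subgroup.relIndex_subgroupOf (H := C) hQR, ← Subgroup.relIndex_sup_left (K := C.subgroupOf R), htop,
    Subgroup.relIndex_top_right]
  rfl

end CfsgLib.HallHigman
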