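import Cfsg.Agent.Lib.HallHigman.TheoremB

/-!
# Restriction to character eigenspaces; consequences of a bounded degree
-/

namespace CfsgLib.HallHigman

open Module (End)

variable {K V X : Type*} [Field K] [AddCommGroup V] [Module K V] [Group X] [Finite X]

/-- The stabilizer of a subspace. -/
def stabSub (γ : X →* End K V) (W : Submodule K V) : Subgroup X where
  carrier := {g | ∀ w ∈ W, γ g w ∈ W}
  one_mem' := fun w hw => by rw [map_one]; exact hw
  mul_mem' := fun {a b} ha hb w hw => by rw [map_mul]; exact ha _ (hb w hw)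
  inv_mem' := fun {a} ha => by
    obtain ⟨n, hn⟩ := mem_powers_iff_mem_zpowers.mpr (Subgroup.inv_mem _ (Subgroup.mem_zpowers a))
    intro w hw
    rw [← hn]
    clear hn
    induction n with
    | zero => simpa using hw
    | succ n ihn =>
      simp only [pow_succ', map_mul]
      exact ha _ ihn

/-- The action on an invariant subspace. -/
noncomputable def restrictUnits (γ : X →* End K V) (W : Submodule K V) : stabSub γ W →* (End K W)ˣ :=
  MonoidHom.toHomUnits
    { toFun := fun g => (γ g).restrict g.2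
      map_one' := LinearMap.ext fun w => Subtype.ext (by
        show γ (1 : X) w = w
        rw [map_one]; rfl)
      map_mul' := fun a b => LinearMap.ext fun w => Subtype.ext (by
        show γ ((a : X) * b) w = γ a (γ b w)
        rw [map_mul]; rfl) }

theorem restrictUnits_apply (γ : X →* End K V) (W : Submodule K V) (g : stabSub γ W) (w : W) :
    ((((restrictUnits γ W g : (End K W)ˣ) : End K W) w : W) : V) = γ g w := rfl

theorem restrictUnits_sub_one_pow (γ : X →* End K V) (W : Submodule K V) (g : stabSub γ W) (a : ℕ) (w : W) :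
    ((((((restrictUnits γ W g : (End K W)ˣ) : End K W) - 1) ^ a) w : W) : V) = ((γ g - 1) ^ a) w := by
  induction a generalizing w with
  | zero => rfl
  | succ a ih =>
    rw [pow_succ, pow_succ, Module.End.mul_apply, Module.End.mul_apply, ih]
    rfl

/-- The eigenspace of `χ` for `Z`. -/
def charSpace (γ : X →* End K V) (Z : Subgroup X) (χ : X → K) : Submodule K V where
  carrier := {w | ∀ z ∈ Z, γ z w = χ z • w}
  add_mem' := fun {a b} ha hb z hz => by rw [map_add, ha z hz, hb z hz, smul_add]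
  zero_mem' := fun z _ => by rw [map_zero, smul_zero]
  smul_mem' := fun a w hw z hz => by rw [map_smul, hw z hz, smul_comm]

omit [Finite X] in
theorem charSpace_map_mem (γ : X →* End K V) {Z : Subgroup X} {χ : X → K} {g : X}
    (hg : ∀ z ∈ Z, g⁻¹ * z * g ∈ Z ∧ χ (g⁻¹ * z * g) = χ z) :
    ∀ w ∈ charSpace γ Z χ, γ g w ∈ charSpace γ Z χ := by
  intro w hw z hz
  obtain ⟨h1, h2⟩ := hg z hz
  rw [← Module.End.mul_apply, ← map_mul, show z * g = g * (g⁻¹ * z * g) by group, map_mul,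
    Module.End.mul_apply, hw _ h1, map_smul, h2]

variable {p : ℕ} [hp : Fact p.Prime] [CharP K p]

/-- A character fixed by `x ^ p ^ m` is fixed by `x ^ p ^ k`, and on its eigenspace the degree drops. -/
theorem exists_stable_degree [FiniteDimensional K V] (γ : X →* End K V) (x : X) (m : ℕ)
    (hx : x ^ p ^ (m + 1) = 1) (hdeg : (γ x - 1) ^ (p ^ (m + 1) - 1) = 0) (Z : Subgroup X)
    (hxZ : x ∈ Subgroup.normalizer (Z : Set X)) (χ : X → K)
    (hχy : ∀ z ∈ Z, χ (x ^ p ^ m * z * (x ^ p ^ m)⁻¹) = χ z) :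
    ∃ k ≤ m, (∀ z ∈ Z, χ (x ^ p ^ k * z * (x ^ p ^ k)⁻¹) = χ z) ∧
      (∀ z ∈ Z, (x ^ p ^ k)⁻¹ * z * x ^ p ^ k ∈ Z ∧ χ ((x ^ p ^ k)⁻¹ * z * x ^ p ^ k) = χ z) ∧
      ∀ w ∈ charSpace γ Z χ, ((γ (x ^ p ^ k) - 1) ^ (p ^ (m - k + 1) - 1)) w = 0 := by
  classical
  have hconjZ : ∀ g ∈ Subgroup.normalizer (Z : Set X), ∀ z ∈ Z, g * z * g⁻¹ ∈ Z := fun g hg z hz =>
    (Subgroup.mem_normalizer_iff.mp hg z).mp hz
  have hxn : ∀ i : ℕ, x ^ i ∈ Subgroup.normalizer (Z : Set X) := fun i => Subgroup.pow_mem _ hxZ i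
  let F : ℕ → Prop := fun i => ∀ z ∈ Z, χ (x ^ i * z * (x ^ i)⁻¹) = χ z
  have hFmul : ∀ i, F i → ∀ n, F (i * n) := by
    intro i hi n
    induction n with
    | zero => intro z _; simp
    | succ n ihn =>
      intro z hz
      rw [Nat.mul_succ, pow_add, mul_inv_rev, show x ^ (i * n) * x ^ i * z * ((x ^ i)⁻¹ * (x ^ (i * n))⁻¹) =
        x ^ (i * n) * (x ^ i * z * (x ^ i)⁻¹) * (x ^ (i * n))⁻¹ by group,
        ihn _ (hconjZ _ (hxn i) z hz), hi z hz]
  have hkex : ∃ k, F (p ^ k) := ⟨m, hχy⟩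
  set k := Nat.find hkex with hkdef
  have hFk : F (p ^ k) := Nat.find_spec hkex
  have hkm : k ≤ m := Nat.find_min' hkex hχy
  have hFmin : ∀ j, 0 < j → j < p ^ k → ¬ F j := by
    intro j hj0 hjk hFj
    obtain ⟨e, u, -, hle, heq⟩ := exists_pow_eq_prime_pow hp.out hx hj0
      (hjk.trans_le (Nat.pow_le_pow_right hp.out.pos (by omega)))
    have hek : e < k := (Nat.pow_lt_pow_iff_right hp.out.one_lt).mp (lt_of_le_of_lt hle hjk)
    refine Nat.find_min hkex hek fun z hz => ?_
    have h1 := hFmul j hFj u z hz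
    rwa [pow_mul, heq] at h1
  set τ := x ^ p ^ k with hτ
  have hτinv : ∀ z ∈ Z, τ⁻¹ * z * τ ∈ Z ∧ χ (τ⁻¹ * z * τ) = χ z := by
    intro z hz
    have h1 : τ⁻¹ * z * τ ∈ Z := by simpa using hconjZ τ⁻¹ (Subgroup.inv_mem _ (hxn _)) z hz
    refine ⟨h1, ?_⟩
    have h2 := hFk _ h1
    rw [← hτ, show τ * (τ⁻¹ * z * τ) * τ⁻¹ = z by group] at h2
    exact h2.symm
  refine ⟨k, hkm, hFk, hτinv, fun w hw => ?_⟩
  by_contra hne
  set a := p ^ (m - k + 1) - 1 with ha
  set w' := ((γ τ - 1) ^ a) w with hw'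
  have hw'W : w' ∈ charSpace γ Z χ := by
    rw [hw']
    clear hw' hne w' ha
    induction a with
    | zero => simpa using hw
    | succ a iha =>
      rw [pow_succ', Module.End.mul_apply, LinearMap.sub_apply, Module.End.one_apply]
      exact sub_mem (charSpace_map_mem γ hτinv _ iha) iha
  have hpk : 0 < p ^ k := pow_pos hp.out.pos k
  set l := p ^ k - 1 with hl
  have hsplit : (γ x - 1) ^ (p ^ k) = γ τ - 1 := by
    rcases subsingleton_or_nontrivial (End K V) with h | h
    · exact Subsingleton.elim _ _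
    have : CharP (End K V) p := (CharP.charP_iff_prime_eq_zero hp.out).mpr (LinearMap.ext fun v => by
      rw [Module.End.natCast_apply, ← Nat.cast_smul_eq_nsmul K, CharP.cast_eq_zero, zero_smul]; rfl)
    rw [sub_pow_char_pow_of_commute p k (Commute.one_right (γ x)), one_pow, hτ, map_pow]
  have h0 : (γ x - 1) ^ (l + p ^ k * a) = 0 := by
    refine pow_eq_zero_of_le (le_of_eq ?_) hdeg
    have h2 : p ^ k * p ^ (m - k + 1) = p ^ (m + 1) := by rw [← pow_add]; congr 1; omega
    have h3 : p ^ k ≤ p ^ (m + 1) := Nat.pow_le_pow_right hp.out.pos (by omega)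
    rw [ha, hl, Nat.mul_sub, mul_one, h2]
    omega
  rw [pow_add, pow_mul, hsplit] at h0
  have h1 : ((γ x - 1) ^ l) w' = 0 := by rw [hw', ← Module.End.mul_apply, h0]; rfl
  obtain ⟨f, hfW, hfl, -, hf⟩ := sub_one_pow_apply_eq_sum (γ x) (charSpace γ Z χ) w' hw'W l
  rw [h1] at hf
  have h2 := eq_zero_of_sum_eigen_eq_zero (fun z : {z // z ∈ Z} => γ z)
    (fun i z => χ ((x ^ i)⁻¹ * z * x ^ i)) (fun i => (γ x ^ i) (f i)) ?_ (Finset.range (l + 1)) ?_
    hf.symm l (Finset.self_mem_range_succ l)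
  · simp only [hfl, ← map_pow] at h2
    have h3 := congrArg (γ (x ^ l)⁻¹) h2
    rw [← Module.End.mul_apply, ← map_mul, inv_mul_cancel, map_one, Module.End.one_apply, map_zero] at h3
    exact hne h3
  · rintro i ⟨z, hz⟩
    have hz' : (x ^ i)⁻¹ * z * x ^ i ∈ Z := by
      simpa using hconjZ (x ^ i)⁻¹ (Subgroup.inv_mem _ (hxn i)) z hz
    simp only [← map_pow]
    rw [← Module.End.mul_apply, ← map_mul, show z * x ^ i = x ^ i * ((x ^ i)⁻¹ * z * x ^ i) by group, map_mul,
      Module.End.mul_apply, hfW i _ hz', map_smul]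
  · intro i hi j hj hij
    by_contra hcon
    push Not at hcon
    have key : ∀ i j, i < j → j < p ^ k →
        ¬ ∀ z ∈ Z, χ ((x ^ i)⁻¹ * z * x ^ i) = χ ((x ^ j)⁻¹ * z * x ^ j) := by
      intro i j hij hjk hall
      refine hFmin (j - i) (by omega) (by omega) fun z hz => ?_
      have h3 := hall _ (hconjZ _ (hxn j) z hz)
      rw [show (x ^ j)⁻¹ * (x ^ j * z * (x ^ j)⁻¹) * x ^ j = z by group] at h3
      rw [pow_sub x hij.le, ← h3]
      congr 1
      rw [(Commute.pow_pow_self x j i).inv_right.eq]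
      group
    rw [Finset.mem_range] at hi hj
    rcases lt_or_gt_of_ne hij with h | h
    · exact key i j h (by omega) fun z hz => hcon ⟨z, hz⟩
    · exact key j i h (by omega) fun z hz => (hcon ⟨z, hz⟩).symm

variable [IsAlgClosed K]

/-- An element of degree less than its order centralizes an invariant `q`-subgroup with abelian image. -/
theorem commute_of_degree_lt [FiniteDimensional K V] (γ : X →* End K V) (x : X) (m : ℕ)
    (hx : x ^ p ^ (m + 1) = 1) (hdeg : (γ x - 1) ^ (p ^ (m + 1) - 1) = 0) {q : ℕ} [Fact q.Prime] (hqp : q ≠ p)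
    (Q : Subgroup X) (hQ : IsPGroup q Q) (hxQ : x ∈ Subgroup.normalizer (Q : Set X))
    (hab : ∀ a ∈ Q, ∀ b ∈ Q, γ a * γ b = γ b * γ a) :
    ∀ g ∈ Q, γ g * γ (x ^ p ^ m) = γ (x ^ p ^ m) * γ g := by
  by_contra hcon
  push Not at hcon
  obtain ⟨g, hg, hne⟩ := hcon
  let φ := γ.toHomUnits
  have : Finite φ.range := Finite.of_surjective _ φ.rangeRestrict_surjective
  have h := degree_bound (K := K) (p := p) ((Units.coeHom _).comp φ.range.subtype) (φ.rangeRestrict x) m
    (by rw [← map_pow, hx, map_one]) hqp (Q.map φ.rangeRestrict) (hQ.map _)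
    (Subgroup.le_normalizer_map _ ⟨x, hxQ, rfl⟩)
    ⟨φ.rangeRestrict g, ⟨g, hg, rfl⟩, fun e => hne (by rw [← map_pow φ.rangeRestrict] at e; exact e)⟩
  rcases h with h | ⟨n₀, d, -, -, -, -, h5, -⟩
  · exact h (p ^ (m + 1) - 1) (Nat.sub_lt (pow_pos hp.out.pos _) one_pos) hdeg
  · apply h5
    rintro _ ⟨a, ha, rfl⟩ _ ⟨b, hb, rfl⟩
    rw [← map_mul, ← map_mul]
    exact Subtype.ext (Units.ext (by
      show γ (a * b) = γ (b * a)
      rw [map_mul, map_mul, hab a ha b hb]))

end CfsgLib.HallHigman
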