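import Cfsg.Agent.Lib.HallHigman.Symplectic
import Cfsg.Agent.Lib.HallHigman.CharSpace

/-!
# No square root of a plane involution normalizes a large group of sign-commuting isometries

The symplectic heart of Gross's bound on the `2`-length.
-/

namespace CfsgLib.HallHigman.Symp

open Module (End finrank)

variable {q : ℕ} [hq : Fact q.Prime] {W : Type*} [AddCommGroup W] [Module (ZMod q) W]

theorem smul_ne_neg [Nontrivial W] (hq2 : q.Coprime 2) (x : (End (ZMod q) W)ˣ) : x ≠ -x := by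
  intro h
  obtain ⟨w, hw⟩ := exists_ne (0 : W)
  have h1 : x • w = -(x • w) := by conv_lhs => rw [h, Units.neg_smul]
  have h2 := eq_zero_of_eq_neg hq2 h1
  exact hw (MulAction.injective x (h2.trans (smul_zero x).symm))

/-- Commuting with a fixed element is multiplicative as a sign. -/
theorem com_mul_iff [Nontrivial W] (hq2 : q.Coprime 2) {a b f : (End (ZMod q) W)ˣ}
    (ha : a * f = f * a ∨ a * f = -(f * a)) (hb : b * f = f * b ∨ b * f = -(f * b)) :
    a * b * f = f * (a * b) ↔ (a * f = f * a ↔ b * f = f * b) := by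
  rcases ha with ha | ha <;> rcases hb with hb | hb
  · refine iff_of_true ?_ (iff_of_true ha hb)
    rw [mul_assoc a b, hb, ← mul_assoc, ha, mul_assoc]
  · have hne : b * f ≠ f * b := fun h => smul_ne_neg hq2 _ (h.symm.trans hb)
    refine iff_of_false (fun h => ?_) fun h => hne (h.mp ha)
    rw [mul_assoc a b, hb, mul_neg, ← mul_assoc, ha, mul_assoc] at h
    exact smul_ne_neg hq2 _ h.symm
  · have hne : a * f ≠ f * a := fun h => smul_ne_neg hq2 _ (h.symm.trans ha)
    refine iff_of_false (fun h => ?_) fun h => hne (h.mpr hb)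
    rw [mul_assoc a b, hb, ← mul_assoc, ha, neg_mul, mul_assoc] at h
    exact smul_ne_neg hq2 _ h.symm
  · have hne : b * f ≠ f * b := fun h => smul_ne_neg hq2 _ (h.symm.trans hb)
    have hne' : a * f ≠ f * a := fun h => smul_ne_neg hq2 _ (h.symm.trans ha)
    refine iff_of_true ?_ (iff_of_false hne' hne)
    rw [mul_assoc a b, hb, mul_neg, ← mul_assoc, ha, neg_mul, neg_neg, mul_assoc]

/-- The hypotheses on a group `E` of isometries. -/
structure IsSignGroup {M : Type*} [CommGroup M] (B : W → W → M) (E : Subgroup (End (ZMod q) W)ˣ) : Prop where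
  iso : ∀ e ∈ E, IsIso B e
  sq : ∀ e ∈ E, e * e = 1 ∨ e * e = -1
  comm : ∀ a ∈ E, ∀ b ∈ E, a * b = b * a ∨ a * b = -(b * a)
  big : ∃ s : Finset (End (ZMod q) W)ˣ, (∀ a ∈ s, a ∈ E) ∧ 17 ≤ s.card ∧
    ∀ a ∈ s, ∀ b ∈ s, a ≠ b → ∃ f ∈ E, a⁻¹ * b * f ≠ f * (a⁻¹ * b)

variable [FiniteDimensional (ZMod q) W] [Nontrivial W] {M : Type*} [CommGroup M] {B : W → W → M}
  {E : Subgroup (End (ZMod q) W)ˣ} (hq2 : q.Coprime 2) (hE : IsSignGroup B E)

include hE hq2

/-- The operators of pairwise inequivalent elements are independent, so `W` has dimension at least five. -/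
theorem five_le_finrank : 5 ≤ finrank (ZMod q) W := by
  classical
  obtain ⟨s, hsE, hcard, hsep⟩ := hE.big
  let op : E → End (ZMod q) (End (ZMod q) W) := fun f =>
    (LinearMap.mulLeft (ZMod q) ((f : (End (ZMod q) W)ˣ) : End (ZMod q) W)).comp
      (LinearMap.mulRight (ZMod q) (((f : (End (ZMod q) W)ˣ)⁻¹ : (End (ZMod q) W)ˣ) : End (ZMod q) W))
  let χ : s → E → ZMod q := fun a f => if (a : (End (ZMod q) W)ˣ) * f = f * a then 1 else -1
  have hop : ∀ (a : s) (f : E), op f ((a : (End (ZMod q) W)ˣ) : End (ZMod q) W) =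
      χ a f • ((a : (End (ZMod q) W)ˣ) : End (ZMod q) W) := by
    intro a f
    show ((f : (End (ZMod q) W)ˣ) : End (ZMod q) W) * (((a : (End (ZMod q) W)ˣ) : End (ZMod q) W) *
      (((f : (End (ZMod q) W)ˣ)⁻¹ : (End (ZMod q) W)ˣ) : End (ZMod q) W)) = _
    rw [← Units.val_mul, ← Units.val_mul, ← mul_assoc]
    simp only [χ]
    split_ifs with h
    · rw [one_smul, ← h, mul_inv_cancel_right]
    · rw [neg_one_smul, ← Units.val_neg]
      refine congrArg Units.val ?_
      rw [mul_inv_eq_iff_eq_mul, neg_mul, (hE.comm _ (hsE _ a.2) _ f.2).resolve_left h, neg_neg]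
  have hli : LinearIndependent (ZMod q) fun a : s => ((a : (End (ZMod q) W)ˣ) : End (ZMod q) W) := by
    rw [Fintype.linearIndependent_iff]
    intro c hc a
    have h0 := eq_zero_of_sum_eigen_eq_zero op χ
      (fun a : s => c a • ((a : (End (ZMod q) W)ˣ) : End (ZMod q) W))
      (fun a f => by rw [map_smul, hop, smul_comm]) Finset.univ
      (fun a _ b _ hab => by
        obtain ⟨f, hf, hne⟩ := hsep a a.2 b b.2 fun e => hab (Subtype.ext e)
        refine ⟨⟨f, hf⟩, fun e => hne ?_⟩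
        have haE := hsE a a.2
        have hbE := hsE b b.2
        rw [com_mul_iff hq2 (hE.comm _ (E.inv_mem haE) _ hf) (hE.comm _ hbE _ hf)]
        have e2 : ((a : (End (ZMod q) W)ˣ))⁻¹ * f = f * (a : (End (ZMod q) W)ˣ)⁻¹ ↔
            (a : (End (ZMod q) W)ˣ) * f = f * a := ⟨fun h => by
          simpa using (show Commute (a : (End (ZMod q) W)ˣ)⁻¹ f from h).inv_left.eq,
          fun h => (show Commute (a : (End (ZMod q) W)ˣ) f from h).inv_left.eq⟩
        rw [e2]
        have h21 : (1 : ZMod q) ≠ -1 := fun h => smul_ne_neg hq2 (1 : (End (ZMod q) W)ˣ)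
          (Units.ext (LinearMap.ext fun w => by
            show w = -w
            conv_lhs => rw [← one_smul (ZMod q) w, h, neg_one_smul]))
        simp only [χ] at e
        split_ifs at e with h1 h2 h3
        · exact iff_of_true h1 h2
        · exact absurd e h21
        · exact absurd e.symm h21
        · exact iff_of_false h1 h3) hc a (Finset.mem_univ a)
    by_contra hca
    obtain ⟨w, hw⟩ := exists_ne (0 : W)
    have h2 := LinearMap.congr_fun ((smul_eq_zero.mp h0).resolve_left hca) w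
    exact hw (MulAction.injective (a : (End (ZMod q) W)ˣ) (h2.trans (smul_zero _).symm))
  have h1 := hli.fintype_card_le_finrank
  rw [Fintype.card_coe, Module.finrank_linearMap] at h1
  by_contra hlt
  have h4 : finrank (ZMod q) W ≤ 4 := by omega
  have := Nat.mul_le_mul h4 h4
  omega

omit [FiniteDimensional (ZMod q) W] in
theorem com_inv_mul {a b f : (End (ZMod q) W)ˣ} (ha : a ∈ E) (hb : b ∈ E) (hf : f ∈ E)
    (h : a * f = f * a ↔ b * f = f * b) : a⁻¹ * b * f = f * (a⁻¹ * b) := by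
  rw [com_mul_iff hq2 (hE.comm _ (E.inv_mem ha) _ hf) (hE.comm _ hb _ hf), ← h]
  exact ⟨fun h => by simpa using (show Commute a⁻¹ f from h).inv_left.eq,
    fun h => (show Commute a f from h).inv_left.eq⟩

variable (hB : IsSymp B) {y σ : (End (ZMod q) W)ˣ} (hy : y * y = 1) (hyi : IsIso B y)
  (hP : finrank (ZMod q) (minus y) = 2) (hσy : σ * σ = y) (hσi : IsIso B σ)
  (hσE : ∀ e ∈ E, σ * e * σ⁻¹ ∈ E)

include hB hy hyi hP hσy hσi hσE

/-- The configuration of four planes is impossible. -/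
theorem core_blocks (v1 v2 e1 e2 : (End (ZMod q) W)ˣ) (hv1 : v1 ∈ E) (hv2 : v2 ∈ E) (he1 : e1 ∈ E)
    (he2 : e2 ∈ E) (h12 : v1 * v2 = v2 * v1)
    (hA : ∀ w : W, w ∈ minus y ↔ v1 • w = -w ∧ v2 • w = -w)
    (he11 : e1 * v1 = -(v1 * e1)) (he12 : e1 * v2 = v2 * e1)
    (he21 : e2 * v1 = v1 * e2) (he22 : e2 * v2 = -(v2 * e2))
    (hσ1 : σ * v1 * σ⁻¹ = v1) (hσ2 : σ * v2 * σ⁻¹ = v2 ∨ σ * v2 * σ⁻¹ = -(v1 * v2)) : False := by
  classical
  have hyσ : σ * y = y * σ := by rw [← hσy, mul_assoc]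
  have hyinv : y⁻¹ = y := inv_eq_of_mul_eq_one_right hy
  -- elements commuting with `v1` and `v2` stabilize the plane and commute with `y`
  have hgP : ∀ g : (End (ZMod q) W)ˣ, g * v1 = v1 * g → g * v2 = v2 * g → ∀ p ∈ minus y, g • p ∈ minus y :=
    fun g h1 h2 p hp => (hA _).mpr ⟨by rw [← mul_smul, ← h1, mul_smul, ((hA p).mp hp).1, smul_neg],
      by rw [← mul_smul, ← h2, mul_smul, ((hA p).mp hp).2, smul_neg]⟩
  have hgy : ∀ g ∈ E, g * v1 = v1 * g → g * v2 = v2 * g → g * y = y * g := fun g hg h1 h2 =>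
    commute_of_preserves hB hq2 hy hyi (hE.iso g hg) (hgP g h1 h2)
      (hgP g⁻¹ (show Commute g v1 from h1).inv_left.eq (show Commute g v2 from h2).inv_left.eq)
  have hv1y := hgy v1 hv1 rfl h12
  have hv2y := hgy v2 hv2 h12.symm rfl
  have hσP : ∀ p ∈ minus y, σ • p ∈ minus y := fun p hp => by
    rw [mem_minus, ← mul_smul, ← hyσ, mul_smul, mem_minus.mp hp, smul_neg]
  have hσσP : ∀ p ∈ minus y, σ • σ • p = -p := fun p hp => by
    rw [← mul_smul, hσy, mem_minus.mp hp]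
  -- the plane translated by `e`
  have hplane : ∀ e ∈ E, finrank (ZMod q) ((minus y).map (e : End (ZMod q) W)) = 2 ∧
      ∀ w ∈ (minus y).map (e : End (ZMod q) W),
        (∀ w' ∈ (minus y).map (e : End (ZMod q) W), B w w' = 1) → w = 0 := by
    refine fun e he => ⟨by rw [finrank_map_units, hP], fun w hw h => ?_⟩
    have h0 : e⁻¹ • w = 0 := minus_nondeg hB hq2 hy hyi _ (mem_map_units.mp hw) fun p hp => by
      rw [← hE.iso e he, smul_inv_smul]
      exact h _ ⟨p, hp, rfl⟩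
    rw [← smul_inv_smul e w, h0, smul_zero]
  -- outside the plane `y` is trivial
  have hy1 : ∀ w : W, v1 • w = w ∨ v2 • w = w → y • w = w := fun w hw =>
    (smul_eq_self_iff hB hq2 hy hyi w).mpr fun p hp => by
      rcases hw with hw | hw
      · exact orth_of_signs hB hq2 (hE.iso v1 hv1) hw ((hA p).mp hp).1
      · exact orth_of_signs hB hq2 (hE.iso v2 hv2) hw ((hA p).mp hp).2
  have he1v1 : ∀ w : W, v1 • e1 • w = -(e1 • v1 • w) := fun w => by
    rw [← mul_smul, ← mul_smul, he11, Units.neg_smul, neg_neg]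
  have he1v2 : ∀ w : W, v2 • e1 • w = e1 • v2 • w := fun w => by rw [← mul_smul, ← mul_smul, he12]
  have he2v1 : ∀ w : W, v1 • e2 • w = e2 • v1 • w := fun w => by rw [← mul_smul, ← mul_smul, he21]
  have he2v2 : ∀ w : W, v2 • e2 • w = -(e2 • v2 • w) := fun w => by
    rw [← mul_smul, ← mul_smul, he22, Units.neg_smul, neg_neg]
  -- the three other planes
  have hb : ∀ w, w ∈ (minus y).map (e2 : End (ZMod q) W) ↔ v1 • w = -w ∧ v2 • w = w := by
    intro w
    obtain ⟨x, rfl⟩ : ∃ x, e2 • x = w := ⟨_, smul_inv_smul e2 w⟩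
    rw [mem_map_units, inv_smul_smul, hA, he2v1, he2v2, neg_eq_iff_eq_neg, ← smul_neg, smul_left_cancel_iff,
      smul_left_cancel_iff]
  have hc : ∀ w, w ∈ (minus y).map (e1 : End (ZMod q) W) ↔ v1 • w = w ∧ v2 • w = -w := by
    intro w
    obtain ⟨x, rfl⟩ : ∃ x, e1 • x = w := ⟨_, smul_inv_smul e1 w⟩
    rw [mem_map_units, inv_smul_smul, hA, he1v1, he1v2, neg_eq_iff_eq_neg, ← smul_neg, smul_left_cancel_iff,
      smul_left_cancel_iff]
  have hd : ∀ w, w ∈ (minus y).map ((e1 * e2 : (End (ZMod q) W)ˣ) : End (ZMod q) W) ↔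
      v1 • w = w ∧ v2 • w = w := by
    intro w
    obtain ⟨x, rfl⟩ : ∃ x, (e1 * e2) • x = w := ⟨_, smul_inv_smul _ w⟩
    rw [mem_map_units, inv_smul_smul, hA, mul_smul, he1v1, he1v2, he2v1, he2v2, neg_eq_iff_eq_neg, smul_neg,
      neg_eq_iff_eq_neg, ← smul_neg, ← smul_neg, smul_left_cancel_iff, smul_left_cancel_iff,
      smul_left_cancel_iff, smul_left_cancel_iff]
  -- `σ` is a scalar on the plane of `e2`
  have hσv1 : ∀ w : W, v1 • σ • w = σ • v1 • w := fun w => by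
    rw [← mul_smul, ← mul_smul]
    exact congrArg (· • w) (by conv_lhs => rw [← hσ1, inv_mul_cancel_right])
  have hσinv : σ⁻¹ * v2 * σ = σ * v2 * σ⁻¹ := by
    calc σ⁻¹ * v2 * σ = σ * ((σ * σ)⁻¹ * v2 * (σ * σ)) * σ⁻¹ := by group
      _ = σ * v2 * σ⁻¹ := by rw [hσy, hyinv, ← hv2y, mul_assoc v2 y y, hy, mul_one]
  have hσv2 : ∀ w : W, v2 • σ • w = σ • (σ * v2 * σ⁻¹) • w := fun w => by
    rw [← hσinv, ← mul_smul, ← mul_smul]
    exact congrArg (· • w) (by group)
  have hscal : ∀ e ∈ E, (∀ w ∈ (minus y).map (e : End (ZMod q) W), v1 • w = w ∨ v2 • w = w) →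
      (∀ w ∈ (minus y).map (e : End (ZMod q) W), σ • w ∈ (minus y).map (e : End (ZMod q) W)) →
      ∃ ε : ZMod q, ε * ε = 1 ∧ ∀ w ∈ (minus y).map (e : End (ZMod q) W), σ • w = ε • w := by
    intro e he hfix hinv
    rcases plane_invol hB hq2 (hplane e he).1 (hplane e he).2 hσi hinv
      (fun w hw => by rw [← mul_smul, hσy, hy1 w (hfix w hw)]) with h | h
    · exact ⟨1, one_mul 1, fun w hw => by rw [one_smul, h w hw]⟩
    · exact ⟨-1, by ring, fun w hw => by rw [neg_one_smul, h w hw]⟩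
  -- commutators with `σ` fix each plane on which `σ` is a scalar
  have hfix : ∀ g ∈ E, g * v1 = v1 * g → g * v2 = v2 * g →
      ∀ S : Submodule (ZMod q) W, (∀ w ∈ S, g⁻¹ • w ∈ S) →
        (∃ ε : ZMod q, ε * ε = 1 ∧ ∀ w ∈ S, σ • w = ε • w) →
        ∀ w ∈ S, (σ * g * σ⁻¹ * g⁻¹) • w = w := by
    rintro g - - - S hgS ⟨ε, hε, hσε⟩ w hw
    have h1 : σ⁻¹ • g⁻¹ • w = ε • g⁻¹ • w := by
      rw [inv_smul_eq_iff, smul_comm σ, hσε _ (hgS w hw), smul_smul, hε, one_smul]
    rw [mul_smul, mul_smul, mul_smul, h1, smul_comm g, smul_inv_smul, smul_comm σ, hσε w hw, smul_smul, hε,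
      one_smul]
  have hkey : ∀ g ∈ E, g * v1 = v1 * g → g * v2 = v2 * g → ∀ p ∈ minus y, σ • g • p = g • σ • p := by
    intro g hg hg1 hg2
    have hg1' : g⁻¹ * v1 = v1 * g⁻¹ := (show Commute g v1 from hg1).inv_left.eq
    have hg2' : g⁻¹ * v2 = v2 * g⁻¹ := (show Commute g v2 from hg2).inv_left.eq
    have hgi1 : ∀ w : W, v1 • g⁻¹ • w = g⁻¹ • v1 • w := fun w => by rw [← mul_smul, ← mul_smul, hg1']
    have hgi2 : ∀ w : W, v2 • g⁻¹ • w = g⁻¹ • v2 • w := fun w => by rw [← mul_smul, ← mul_smul, hg2']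
    set f := σ * g * σ⁻¹ * g⁻¹ with hf
    have hfE : f ∈ E := E.mul_mem (hσE g hg) (E.inv_mem hg)
    have hsign : ∀ e ∈ E, ∃ δ : ZMod q, δ * δ = 1 ∧ ∀ x : W, f • e • x = δ • e • f • x := by
      intro e he
      rcases hE.comm f hfE e he with h | h
      · exact ⟨1, one_mul 1, fun x => by rw [one_smul, ← mul_smul, ← mul_smul, h]⟩
      · exact ⟨-1, by ring, fun x => by rw [neg_one_smul, ← mul_smul, ← mul_smul, h, Units.neg_smul]⟩
    obtain ⟨δ1, hδ1, hδ1'⟩ := hsign e1 he1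
    obtain ⟨δ2, hδ2, hδ2'⟩ := hsign e2 he2
    have hfb : ∀ w ∈ (minus y).map (e2 : End (ZMod q) W), f • w = w := by
      refine hfix g hg hg1 hg2 _ (fun w hw => ?_) (hscal e2 he2 (fun w hw => Or.inr ((hb w).mp hw).2)
        fun w hw => ?_)
      · rw [hb] at hw ⊢
        rw [hgi1, hgi2, hw.1, hw.2, smul_neg]
        exact ⟨rfl, rfl⟩
      · rw [hb] at hw ⊢
        refine ⟨by rw [hσv1, hw.1, smul_neg], ?_⟩
        rw [hσv2]
        rcases hσ2 with h | h <;> rw [h]
        · rw [hw.2]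
        · rw [Units.neg_smul, mul_smul, hw.2, hw.1, neg_neg]
    have hfa : ∀ p ∈ minus y, f • p = δ2 • p := by
      intro p hp
      have hx : e2⁻¹ • p ∈ (minus y).map (e2 : End (ZMod q) W) := by
        have hp' := (hA p).mp hp
        rw [hb]
        constructor
        · rw [← smul_left_cancel_iff e2]
          rw [← he2v1, smul_inv_smul, hp'.1, smul_neg, smul_inv_smul]
        · rw [← smul_left_cancel_iff e2]
          rw [smul_inv_smul, ← neg_neg (e2 • v2 • e2⁻¹ • p), ← he2v2, smul_inv_smul, hp'.2, neg_neg]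
      conv_lhs => rw [← smul_inv_smul e2 p, hδ2', hfb _ hx, smul_inv_smul]
    have hfd : ∀ w ∈ (minus y).map ((e1 * e2 : (End (ZMod q) W)ˣ) : End (ZMod q) W), f • w = δ1 • w := by
      rintro _ ⟨p, hp, rfl⟩
      show f • (e1 * e2) • p = δ1 • (e1 * e2) • p
      rw [mul_smul e1 e2, hδ1', hfb (e2 • p) ⟨p, hp, rfl⟩]
    have hfc : ∀ w ∈ (minus y).map (e1 : End (ZMod q) W), f • w = (δ1 * δ2) • w := by
      rintro _ ⟨p, hp, rfl⟩
      show f • e1 • p = (δ1 * δ2) • e1 • p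
      rw [hδ1', hfa p hp, smul_comm e1 δ2, smul_smul]
    obtain ⟨p₀, hp₀, hp₀0⟩ := (minus y).exists_mem_ne_zero_of_ne_bot fun h => by
      rw [h, finrank_bot] at hP
      exact absurd hP (by norm_num)
    have hone : ∀ (a : ZMod q) (w : W), w ≠ 0 → a • w = w → a = 1 := fun a w hw h => by
      have h1 : (a - 1) • w = 0 := by rw [sub_smul, h, one_smul, sub_self]
      exact sub_eq_zero.mp ((smul_eq_zero.mp h1).resolve_right hw)
    have hne : ∀ e : (End (ZMod q) W)ˣ, e • p₀ ≠ 0 := fun e h =>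
      hp₀0 (MulAction.injective e (h.trans (smul_zero e).symm))
    have hδ : δ2 = 1 := by
      rcases hσ2 with h | h
      · have hfc1 : ∀ w ∈ (minus y).map (e1 : End (ZMod q) W), f • w = w := by
          refine hfix g hg hg1 hg2 _ (fun w hw => ?_) (hscal e1 he1 (fun w hw => Or.inl ((hc w).mp hw).1)
            fun w hw => ?_)
          · rw [hc] at hw ⊢
            rw [hgi1, hgi2, hw.1, hw.2, smul_neg]
            exact ⟨rfl, rfl⟩
          · rw [hc] at hw ⊢
            exact ⟨by rw [hσv1, hw.1], by rw [hσv2, h, hw.2, smul_neg]⟩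
        have hfd1 : ∀ w ∈ (minus y).map ((e1 * e2 : (End (ZMod q) W)ˣ) : End (ZMod q) W), f • w = w := by
          refine hfix g hg hg1 hg2 _ (fun w hw => ?_) (hscal _ (E.mul_mem he1 he2)
            (fun w hw => Or.inl ((hd w).mp hw).1) fun w hw => ?_)
          · rw [hd] at hw ⊢
            rw [hgi1, hgi2, hw.1, hw.2]
            exact ⟨rfl, rfl⟩
          · rw [hd] at hw ⊢
            exact ⟨by rw [hσv1, hw.1], by rw [hσv2, h, hw.2]⟩
        have h1 : δ1 * δ2 = 1 := hone _ _ (hne e1)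
          (((hfc _ ⟨p₀, hp₀, rfl⟩).symm).trans (hfc1 _ ⟨p₀, hp₀, rfl⟩))
        have h2 : δ1 = 1 := hone _ _ (hne (e1 * e2))
          (((hfd _ ⟨p₀, hp₀, rfl⟩).symm).trans (hfd1 _ ⟨p₀, hp₀, rfl⟩))
        rwa [h2, one_mul] at h1
      · have hff : σ * f * σ⁻¹ * f = 1 := by
          calc σ * f * σ⁻¹ * f = (σ * σ) * g * (σ * σ)⁻¹ * g⁻¹ := by rw [hf]; group
            _ = 1 := by rw [hσy, ← hgy g hg hg1 hg2, mul_inv_cancel_right, mul_inv_cancel]
        obtain ⟨w, hwdef⟩ : ∃ w, w = e1 • p₀ := ⟨_, rfl⟩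
        have hwc : w ∈ (minus y).map (e1 : End (ZMod q) W) := ⟨p₀, hp₀, hwdef.symm⟩
        have hwd : σ⁻¹ • w ∈ (minus y).map ((e1 * e2 : (End (ZMod q) W)ˣ) : End (ZMod q) W) := by
          obtain ⟨hw1, hw2⟩ := (hc w).mp hwc
          rw [hd]
          constructor
          · rw [← smul_left_cancel_iff σ]
            rw [← hσv1, smul_inv_smul, hw1]
          · rw [← smul_left_cancel_iff σ]
            rw [← mul_smul, ← mul_smul, h,
              smul_inv_smul, Units.neg_smul, mul_smul, hw2, smul_neg, hw1, neg_neg]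
        have h1 : (σ * f * σ⁻¹ * f) • w = w := by rw [hff, one_smul]
        rw [mul_smul, mul_smul, mul_smul, hfc w hwc, smul_comm σ⁻¹, smul_comm f, hfd _ hwd, smul_smul,
          smul_comm σ, smul_inv_smul] at h1
        have h2 : δ1 * δ2 * δ1 = 1 := hone _ w (hwdef ▸ hne e1) h1
        rwa [mul_right_comm, hδ1, one_mul] at h2
    intro p hp
    have h1 := hfa (g • σ • p) (hgP g hg1 hg2 _ (hσP p hp))
    rw [hδ, one_smul, hf, mul_smul, mul_smul, mul_smul, inv_smul_smul, inv_smul_smul] at h1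
    exact h1
  -- two anticommuting elements commute with `v1` and `v2`
  obtain ⟨g, hg, h, hh, hg1, hg2, hh1, hh2, hgh⟩ : ∃ g ∈ E, ∃ h ∈ E, g * v1 = v1 * g ∧ g * v2 = v2 * g ∧
      h * v1 = v1 * h ∧ h * v2 = v2 * h ∧ g * h ≠ h * g := by
    by_contra hcon
    push Not at hcon
    obtain ⟨s, hsE, hcard, hsep⟩ := hE.big
    let Ψ : (End (ZMod q) W)ˣ → Bool × Bool × Bool × Bool := fun a =>
      (decide (a * v1 = v1 * a), decide (a * v2 = v2 * a), decide (a * e1 = e1 * a), decide (a * e2 = e2 * a))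
    obtain ⟨a, ha, b, hb', hab, hΨ⟩ := Finset.exists_ne_map_eq_of_card_lt_of_maps_to
      (t := Finset.univ) (f := Ψ) (show (Finset.univ : Finset (Bool × Bool × Bool × Bool)).card < s.card by
        simp only [Finset.card_univ, Fintype.card_prod, Fintype.card_bool]; omega)
      (fun a _ => Finset.mem_coe.mpr (Finset.mem_univ _))
    simp only [Ψ, Prod.mk.injEq, decide_eq_decide] at hΨ
    obtain ⟨hΨ1, hΨ2, hΨ3, hΨ4⟩ := hΨ
    obtain ⟨f, hf, hne⟩ := hsep a ha b hb' hab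
    have hdE : a⁻¹ * b ∈ E := E.mul_mem (E.inv_mem (hsE a ha)) (hsE b hb')
    have hcm := fun (c : (End (ZMod q) W)ˣ) (hc : c ∈ E)
        (h : a * c = c * a ↔ b * c = c * b) => com_inv_mul hq2 hE (hsE a ha) (hsE b hb') hc h
    set d := a⁻¹ * b
    have hd1 : Commute d v1 := hcm v1 hv1 hΨ1
    have hd2 : Commute d v2 := hcm v2 hv2 hΨ2
    have hd3 : Commute d e1 := hcm e1 he1 hΨ3
    have hd4 : Commute d e2 := hcm e2 he2 hΨ4
    have hne1 : ¬ e1 * v1 = v1 * e1 := fun h => smul_ne_neg hq2 _ (h.symm.trans he11)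
    have hne2 : ¬ e2 * v2 = v2 * e2 := fun h => smul_ne_neg hq2 _ (h.symm.trans he22)
    have hcom : ∀ c ∈ E, c * v1 = v1 * c → c * v2 = v2 * c → Commute d c := fun c hc h1 h2 =>
      hcon d hdE c hc hd1 hd2 h1 h2
    refine hne ?_
    by_cases h1 : f * v1 = v1 * f <;> by_cases h2 : f * v2 = v2 * f
    · exact hcom f hf h1 h2
    · have hc1 : f * e2 * v1 = v1 * (f * e2) := (com_mul_iff hq2 (Or.inl h1) (Or.inl he21)).mpr
        (iff_of_true h1 he21)
      have hc2 : f * e2 * v2 = v2 * (f * e2) := (com_mul_iff hq2 (hE.comm f hf v2 hv2) (Or.inr he22)).mpr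
        (iff_of_false h2 hne2)
      have h3 := (hcom _ (E.mul_mem hf he2) hc1 hc2).mul_right hd4.inv_right
      rwa [mul_inv_cancel_right] at h3
    · have hc1 : f * e1 * v1 = v1 * (f * e1) := (com_mul_iff hq2 (hE.comm f hf v1 hv1) (Or.inr he11)).mpr
        (iff_of_false h1 hne1)
      have hc2 : f * e1 * v2 = v2 * (f * e1) := (com_mul_iff hq2 (Or.inl h2) (Or.inl he12)).mpr
        (iff_of_true h2 he12)
      have h3 := (hcom _ (E.mul_mem hf he1) hc1 hc2).mul_right hd3.inv_right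
      rwa [mul_inv_cancel_right] at h3
    · have hfe : f * e1 ∈ E := E.mul_mem hf he1
      have ha1 : f * e1 * v1 = v1 * (f * e1) := (com_mul_iff hq2 (hE.comm f hf v1 hv1) (Or.inr he11)).mpr
        (iff_of_false h1 hne1)
      have ha2 : ¬ f * e1 * v2 = v2 * (f * e1) := fun h =>
        h2 (((com_mul_iff hq2 (hE.comm f hf v2 hv2) (Or.inl he12)).mp h).mpr he12)
      have hc1 : f * e1 * e2 * v1 = v1 * (f * e1 * e2) :=
        (com_mul_iff hq2 (hE.comm _ hfe v1 hv1) (Or.inl he21)).mpr (iff_of_true ha1 he21)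
      have hc2 : f * e1 * e2 * v2 = v2 * (f * e1 * e2) :=
        (com_mul_iff hq2 (hE.comm _ hfe v2 hv2) (Or.inr he22)).mpr (iff_of_false ha2 hne2)
      have h3 := ((hcom _ (E.mul_mem hfe he2) hc1 hc2).mul_right hd4.inv_right).mul_right hd3.inv_right
      rwa [mul_inv_cancel_right, mul_inv_cancel_right] at h3
  have hanti : g * h = -(h * g) := (hE.comm g hg h hh).resolve_left hgh
  obtain ⟨p₀, hp₀, hp₀0⟩ := (minus y).exists_mem_ne_zero_of_ne_bot fun h => by
    rw [h, finrank_bot] at hP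
    exact absurd hP (by norm_num)
  -- squares are `-1` on the plane
  have hsq : ∀ a ∈ E, ∀ b ∈ E, a * v1 = v1 * a → a * v2 = v2 * a → b * v1 = v1 * b → b * v2 = v2 * b →
      a * b = -(b * a) → ∀ p ∈ minus y, a • a • p = -p := by
    intro a ha b hb' ha1 ha2 hb1 hb2 hab
    rcases hE.sq a ha with haa | haa
    · exfalso
      have hap : ∃ ε : ZMod q, ∀ p ∈ minus y, a • p = ε • p := by
        rcases plane_invol hB hq2 hP (minus_nondeg hB hq2 hy hyi) (hE.iso a ha) (hgP a ha1 ha2)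
          (fun p _ => by rw [← mul_smul, haa, one_smul]) with h | h
        · exact ⟨1, fun p hp => by rw [one_smul, h p hp]⟩
        · exact ⟨-1, fun p hp => by rw [neg_one_smul, h p hp]⟩
      obtain ⟨ε, hε⟩ := hap
      have h1 : a • b • p₀ = -(b • a • p₀) := by rw [← mul_smul, ← mul_smul, hab, Units.neg_smul]
      rw [hε _ (hgP b hb1 hb2 p₀ hp₀), hε p₀ hp₀, smul_comm b ε] at h1
      have h2 := eq_zero_of_eq_neg hq2 h1
      have h3 : b • ε • p₀ = 0 := by rw [smul_comm]; exact h2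
      rw [← hε p₀ hp₀] at h3
      exact hp₀0 (MulAction.injective a ((MulAction.injective b (h3.trans (smul_zero b).symm)).trans
        (smul_zero a).symm))
    · exact fun p _ => by rw [← mul_smul, haa, Units.neg_smul, one_smul]
  have hsg : ∀ a ∈ E, a * v1 = v1 * a → a * v2 = v2 * a → (∀ p ∈ minus y, a • a • p = -p) →
      ∃ ε : ZMod q, ε * ε = 1 ∧ ∀ p ∈ minus y, σ • a • p = ε • p := by
    intro a ha ha1 ha2 haa
    rcases plane_invol hB hq2 hP (minus_nondeg hB hq2 hy hyi) (hσi.mul (hE.iso a ha))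
      (fun p hp => by rw [mul_smul]; exact hσP _ (hgP a ha1 ha2 p hp))
      (fun p hp => by
        rw [mul_smul, mul_smul, ← hkey a ha ha1 ha2 _ (hgP a ha1 ha2 p hp), haa p hp, smul_neg, smul_neg,
          hσσP p hp, neg_neg]) with h | h
    · exact ⟨1, one_mul 1, fun p hp => by rw [one_smul, ← mul_smul, h p hp]⟩
    · exact ⟨-1, by ring, fun p hp => by rw [neg_one_smul, ← mul_smul, h p hp]⟩
  have hgg := hsq g hg h hh hg1 hg2 hh1 hh2 hanti
  obtain ⟨ε, hε, hσg⟩ := hsg g hg hg1 hg2 hgg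
  have hσp : ∀ p ∈ minus y, σ • p = -(ε • g • p) := fun p hp => by
    have h1 := hσg (g • p) (hgP g hg1 hg2 p hp)
    rw [hgg p hp, smul_neg] at h1
    rw [← h1, neg_neg]
  have h1 := hkey h hh hh1 hh2 p₀ hp₀
  rw [hσp p₀ hp₀, hσp _ (hgP h hh1 hh2 p₀ hp₀), smul_neg, neg_inj, smul_comm h ε] at h1
  have h2 : ε • ε • g • h • p₀ = ε • ε • h • g • p₀ := by rw [h1]
  rw [smul_smul ε ε, smul_smul ε ε, hε, one_smul, one_smul] at h2
  have h3 : g • h • p₀ = -(h • g • p₀) := by rw [← mul_smul, ← mul_smul, hanti, Units.neg_smul]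
  rw [h2] at h3
  exact hp₀0 (MulAction.injective g ((MulAction.injective h ((eq_zero_of_eq_neg hq2 h3).trans
    (smul_zero h).symm)).trans (smul_zero g).symm))

/-- No square root of the involution `y` normalizes `E` if `[E, y]` contains two independent noncentral
elements. -/
theorem core_false (u1 u2 : (End (ZMod q) W)ˣ) (hu1 : u1 ∈ E) (hu2 : u2 ∈ E)
    (hn1 : ∃ f ∈ E, u1 * y * u1⁻¹ * y * f ≠ f * (u1 * y * u1⁻¹ * y))
    (hn2 : ∃ f ∈ E, u2 * y * u2⁻¹ * y * f ≠ f * (u2 * y * u2⁻¹ * y))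
    (hn3 : ∃ f ∈ E, u1 * y * u1⁻¹ * y * (u2 * y * u2⁻¹ * y) * f ≠
      f * (u1 * y * u1⁻¹ * y * (u2 * y * u2⁻¹ * y))) : False := by
  classical
  have hyσ : σ * y = y * σ := by rw [← hσy, mul_assoc]
  have hyinv : y⁻¹ = y := inv_eq_of_mul_eq_one_right hy
  let v : (End (ZMod q) W)ˣ → (End (ZMod q) W)ˣ := fun u => u * y * u⁻¹ * y
  have hvE : ∀ u ∈ E, v u ∈ E := fun u hu => by
    have h2 : σ * (σ * u⁻¹ * σ⁻¹) * σ⁻¹ = y * u⁻¹ * y :=
      calc σ * (σ * u⁻¹ * σ⁻¹) * σ⁻¹ = (σ * σ) * u⁻¹ * (σ * σ)⁻¹ := by group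
        _ = y * u⁻¹ * y := by rw [hσy, hyinv]
    show u * y * u⁻¹ * y ∈ E
    rw [mul_assoc u, mul_assoc u, ← h2]
    exact E.mul_mem hu (hσE _ (hσE _ (E.inv_mem hu)))
  have hdim := five_le_finrank hq2 hE
  have htt : ∀ u : (End (ZMod q) W)ˣ, u * y * u⁻¹ * (u * y * u⁻¹) = 1 := fun u =>
    calc u * y * u⁻¹ * (u * y * u⁻¹) = u * (y * y) * u⁻¹ := by group
      _ = 1 := by rw [hy, mul_one, mul_inv_cancel]
  have hvv : ∀ u ∈ E, v u * v u = 1 := by
    intro u hu
    refine (hE.sq _ (hvE u hu)).resolve_right fun hneg => ?_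
    set t := u * y * u⁻¹ with ht
    have hle : (⊤ : Submodule (ZMod q) W) ≤ minus y ⊔ minus t := by
      intro w _
      have hsub : ∀ x : W, v u • x - x ∈ minus y ⊔ minus t := fun x => by
        have h1 : v u • x - x = (t • y • x - y • x) + (y • x - x) := by
          rw [show v u = t * y from rfl, mul_smul]
          abel
        rw [h1]
        exact add_mem (Submodule.mem_sup_right (mem_minus_sub (htt u) _))
          (Submodule.mem_sup_left (mem_minus_sub hy x))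
      have hvw : v u • v u • w = -w := by rw [← mul_smul, hneg, Units.neg_smul, one_smul]
      have h2 : v u • (v u • w + w) - (v u • w + w) = -((2 : ZMod q) • w) := by
        rw [smul_add, hvw, two_smul]
        abel
      have h3 : w = -((2 : ZMod q)⁻¹ • (v u • (v u • w + w) - (v u • w + w))) := by
        rw [h2, smul_neg, neg_neg, smul_smul, mul_comm, two_mul_half hq2, one_smul]
      rw [h3]
      exact neg_mem (Submodule.smul_mem _ _ (hsub _))
    have h4 := Submodule.finrank_mono hle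
    have h5 := Submodule.finrank_add_le_finrank_add_finrank (minus y) (minus t)
    rw [finrank_top, ht] at h4
    rw [ht, finrank_minus_conj, hP] at h5
    omega
  have hcase : ∀ u ∈ E, v u = 1 ∨ (∀ p ∈ minus y, v u • p = -p ∧ y • u • p = u • p) := fun u hu =>
    conj_cases hB hq2 hy hyi hP (hE.iso u hu) (hvv u hu)
  obtain ⟨p₀, hp₀, hp₀0⟩ := (minus y).exists_mem_ne_zero_of_ne_bot fun h => by
    rw [h, finrank_bot] at hP
    exact absurd hP (by norm_num)
  have hneq : v u1 ≠ 1 ∧ v u2 ≠ 1 ∧ v u1 ≠ v u2 := by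
    refine ⟨fun h => ?_, fun h => ?_, fun h => ?_⟩
    · obtain ⟨f, -, hf⟩ := hn1
      exact hf (show v u1 * f = f * v u1 by rw [h, one_mul, mul_one])
    · obtain ⟨f, -, hf⟩ := hn2
      exact hf (show v u2 * f = f * v u2 by rw [h, one_mul, mul_one])
    · obtain ⟨f, -, hf⟩ := hn3
      exact hf (show v u1 * v u2 * f = f * (v u1 * v u2) by rw [← h, hvv u1 hu1, one_mul, mul_one])
  have hm : ∀ u ∈ E, v u ≠ 1 → ∀ p ∈ minus y, v u • p = -p := fun u hu h p hp =>
    (((hcase u hu).resolve_left h) p hp).1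
  have hcomm : ∀ u ∈ E, ∀ u' ∈ E, v u * v u' = v u' * v u := by
    intro u hu u' hu'
    by_cases h : v u = 1
    · rw [h, one_mul, mul_one]
    by_cases h' : v u' = 1
    · rw [h', one_mul, mul_one]
    refine (hE.comm _ (hvE u hu) _ (hvE u' hu')).resolve_right fun hneg => hp₀0 ?_
    have h1 : v u • v u' • p₀ = -(v u' • v u • p₀) := by rw [← mul_smul, ← mul_smul, hneg, Units.neg_smul]
    rw [hm u' hu' h' p₀ hp₀, hm u hu h p₀ hp₀, smul_neg, hm u hu h p₀ hp₀, smul_neg,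
      hm u' hu' h' p₀ hp₀, neg_neg] at h1
    exact eq_zero_of_eq_neg hq2 h1
  set v1 := v u1 with hv1def
  set v2 := v u2 with hv2def
  have h1E : v1 ∈ E := hvE u1 hu1
  have h2E : v2 ∈ E := hvE u2 hu2
  -- `v`, `y` and `v y` commute
  have hvy : ∀ u ∈ E, v u * y = y * v u := fun u hu => by
    rcases hcase u hu with h | h
    · rw [h, one_mul, mul_one]
    · refine commute_of_preserves hB hq2 hy hyi (hE.iso _ (hvE u hu)) (fun p hp => ?_) fun p hp => ?_
      · rw [(h p hp).1]; exact neg_mem hp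
      · rw [inv_eq_of_mul_eq_one_right (hvv u hu), (h p hp).1]; exact neg_mem hp
  have htv : ∀ u, u * y * u⁻¹ = v u * y := fun u => by
    show u * y * u⁻¹ = u * y * u⁻¹ * y * y
    rw [mul_assoc _ y y, hy, mul_one]
  -- the translated plane of `u` lies in an eigenspace of `v'`
  have hplane : ∀ u ∈ E, ∀ u' ∈ E, (∀ w ∈ (minus y).map (u : End (ZMod q) W), v u' • w = w) ∨
      (∀ w ∈ (minus y).map (u : End (ZMod q) W), v u' • w = -w) := by
    intro u hu u' hu'
    rw [← minus_conj_eq_map]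
    refine plane_invol hB hq2 (by rw [finrank_minus_conj, hP])
      (minus_nondeg hB hq2 (htt u) (hyi.conj (hE.iso u hu))) (hE.iso _ (hvE u' hu')) (fun w hw => ?_)
      (fun w _ => by rw [← mul_smul, hvv u' hu', one_smul])
    rw [mem_minus] at hw ⊢
    have hc : u * y * u⁻¹ * v u' = v u' * (u * y * u⁻¹) := by
      rw [htv u, mul_assoc, ← hvy u' hu', ← mul_assoc, hcomm u hu u' hu', mul_assoc]
    rw [← mul_smul, hc, mul_smul, hw, smul_neg]
  have hA : ∀ w : W, w ∈ minus y ↔ v1 • w = -w ∧ v2 • w = -w := by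
    intro w
    refine ⟨fun hw => ⟨hm u1 hu1 hneq.1 w hw, hm u2 hu2 hneq.2.1 w hw⟩, fun ⟨h1, h2⟩ => ?_⟩
    obtain ⟨a, b, ha, hb, rfl⟩ := exists_split hq2 hy w
    have hbm : b ∈ minus y := mem_minus.mpr hb
    rw [smul_add, hm u1 hu1 hneq.1 b hbm, neg_add, add_left_inj] at h1
    rw [smul_add, hm u2 hu2 hneq.2.1 b hbm, neg_add, add_left_inj] at h2
    have hat : ∀ u, v u • a = -a → a ∈ (minus y).map (u : End (ZMod q) W) := fun u h => by
      rw [← minus_conj_eq_map, mem_minus, htv u, mul_smul, ha, h]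
    have hb1 := hat u1 h1
    rcases hplane u1 hu1 u2 hu2 with hp | hp
    · have ha0 : a = 0 := eq_zero_of_eq_neg hq2 ((hp a hb1).symm.trans h2)
      rw [ha0, zero_add]
      exact hbm
    · exfalso
      refine hneq.2.2 ?_
      have hsub : (minus y).map (u1 : End (ZMod q) W) ≤ (minus y).map (u2 : End (ZMod q) W) := by
        rintro _ ⟨p, hp', rfl⟩
        rw [← minus_conj_eq_map, mem_minus, htv u2, mul_smul]
        show v u2 • y • u1 • p = -(u1 • p)
        rw [(((hcase u1 hu1).resolve_left hneq.1) p hp').2]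
        exact hp _ ⟨p, hp', rfl⟩
      have heq := Submodule.eq_of_le_of_finrank_eq hsub (by rw [finrank_map_units, finrank_map_units])
      rw [← minus_conj_eq_map, ← minus_conj_eq_map] at heq
      have e := eq_of_minus_eq hB hq2 (htt u1) (hyi.conj (hE.iso u1 hu1)) (htt u2) (hyi.conj (hE.iso u2 hu2)) heq
      show u1 * y * u1⁻¹ * y = u2 * y * u2⁻¹ * y
      rw [e]
  have h12 : v1 * v2 = v2 * v1 := hcomm u1 hu1 u2 hu2
  have h11 : v1 * v1 = 1 := hvv u1 hu1
  have h22 : v2 * v2 = 1 := hvv u2 hu2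
  -- elements anticommuting with one of `v1`, `v2` only
  obtain ⟨e1, he1, he11, he12⟩ : ∃ e ∈ E, e * v1 = -(v1 * e) ∧ e * v2 = v2 * e := by
    obtain ⟨a, ha, ha1⟩ := hn1
    change v1 * a ≠ a * v1 at ha1
    obtain ⟨c, hc, hc12⟩ := hn3
    change v1 * v2 * c ≠ c * (v1 * v2) at hc12
    by_cases ha2 : a * v2 = v2 * a
    · exact ⟨a, ha, (hE.comm a ha v1 h1E).resolve_left (Ne.symm ha1), ha2⟩
    rw [Ne, com_mul_iff hq2 (hE.comm v1 h1E c hc) (hE.comm v2 h2E c hc)] at hc12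
    by_cases hc1 : c * v1 = v1 * c
    · have hc2 : ¬ c * v2 = v2 * c := fun h => hc12 (iff_of_true hc1.symm h.symm)
      refine ⟨a * c, E.mul_mem ha hc, (hE.comm _ (E.mul_mem ha hc) v1 h1E).resolve_left fun h => ?_, ?_⟩
      · exact ha1 ((((com_mul_iff hq2 (hE.comm a ha v1 h1E) (hE.comm c hc v1 h1E)).mp h).mpr hc1)).symm
      · exact (com_mul_iff hq2 (hE.comm a ha v2 h2E) (hE.comm c hc v2 h2E)).mpr (iff_of_false ha2 hc2)
    · refine ⟨c, hc, (hE.comm c hc v1 h1E).resolve_left hc1, ?_⟩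
      by_contra hc2
      exact hc12 (iff_of_false (fun h => hc1 h.symm) fun h => hc2 h.symm)
  obtain ⟨e2, he2, he21, he22⟩ : ∃ e ∈ E, e * v1 = v1 * e ∧ e * v2 = -(v2 * e) := by
    obtain ⟨a, ha, ha2⟩ := hn2
    change v2 * a ≠ a * v2 at ha2
    by_cases ha1 : a * v1 = v1 * a
    · exact ⟨a, ha, ha1, (hE.comm a ha v2 h2E).resolve_left (Ne.symm ha2)⟩
    have hne1 : ¬ e1 * v1 = v1 * e1 := fun h => smul_ne_neg hq2 _ (h.symm.trans he11)
    refine ⟨a * e1, E.mul_mem ha he1,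
      (com_mul_iff hq2 (hE.comm a ha v1 h1E) (Or.inr he11)).mpr (iff_of_false ha1 hne1),
      (hE.comm _ (E.mul_mem ha he1) v2 h2E).resolve_left fun h => ?_⟩
    exact ha2 (((com_mul_iff hq2 (hE.comm a ha v2 h2E) (Or.inl he12)).mp h).mpr he12).symm
  set v3 := -(v1 * v2) with hv3
  have h3E : v3 ∈ E := by
    have hm1 : (-1 : (End (ZMod q) W)ˣ) ∈ E := by
      have h : e1 * v1 * e1⁻¹ * v1⁻¹ = -1 := by
        rw [he11, neg_mul, neg_mul, mul_inv_cancel_right, mul_inv_cancel]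
      exact h ▸ E.mul_mem (E.mul_mem (E.mul_mem he1 h1E) (E.inv_mem he1)) (E.inv_mem h1E)
    rw [hv3, ← neg_one_mul]
    exact E.mul_mem hm1 (E.mul_mem h1E h2E)
  have h3s : ∀ w : W, v3 • w = -(v1 • v2 • w) := fun w => by rw [hv3, Units.neg_smul, mul_smul]
  -- the nontrivial commutators are `v1`, `v2`, `v3`
  have hperm : ∀ u ∈ E, v u ≠ 1 → v u = v1 ∨ v u = v2 ∨ v u = v3 := by
    intro u hu hne
    have hcu := (hcase u hu).resolve_left hne
    set b := (minus y).map (u : End (ZMod q) W) with hb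
    have hb2 : finrank (ZMod q) b = 2 := by rw [hb, finrank_map_units, hP]
    have hbt : ∀ w, w ∈ b ↔ (u * y * u⁻¹) • w = -w := fun w => by
      rw [hb, ← minus_conj_eq_map, mem_minus]
    have hvb : ∀ w ∈ b, v u • w = -w := by
      rintro _ ⟨p, hp, rfl⟩
      show v u • u • p = -(u • p)
      show (u * y * u⁻¹ * y) • u • p = -(u • p)
      rw [mul_smul, (hcu p hp).2, mul_smul, mul_smul, inv_smul_smul, mem_minus.mp hp, smul_neg]
    have hsgn : ∀ u' ∈ E, ∃ ε : ZMod q, ε * ε = 1 ∧ ∀ w ∈ b, v u' • w = ε • w := fun u' hu' => by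
      rcases hplane u hu u' hu' with h | h
      · exact ⟨1, one_mul 1, fun w hw => by rw [one_smul]; exact h w hw⟩
      · exact ⟨-1, by ring, fun w hw => by rw [neg_one_smul]; exact h w hw⟩
    -- a vector fixed by `v_i` and orthogonal to `b` is fixed by `v u`
    have hfix : ∀ w : W, v1 • w = w ∨ v2 • w = w → (∀ x ∈ b, B w x = 1) → v u • w = w := by
      intro w hw horth
      have hyw : y • w = w := (smul_eq_self_iff hB hq2 hy hyi w).mpr fun p hp => by
        rcases hw with hw | hw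
        · exact orth_of_signs hB hq2 (hE.iso v1 h1E) hw ((hA p).mp hp).1
        · exact orth_of_signs hB hq2 (hE.iso v2 h2E) hw ((hA p).mp hp).2
      show (u * y * u⁻¹ * y) • w = w
      rw [mul_smul, hyw]
      exact (smul_eq_self_iff hB hq2 (htt u) (hyi.conj (hE.iso u hu)) w).mpr fun x hx =>
        horth x ((hbt x).mpr (mem_minus.mp hx))
    -- comparing `v u` with `v'` on the four planes
    have hcomp : ∀ v' : (End (ZMod q) W)ˣ, v' ∈ E →
        (∀ w : W, v1 • w = -w → v2 • w = -w → v' • w = -w) →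
        (∀ x ∈ b, v' • x = -x) →
        (∀ w : W, v1 • w = -w → v2 • w = w → (v' • w = w ∨ w ∈ b)) →
        (∀ w : W, v1 • w = w → v2 • w = -w → (v' • w = w ∨ w ∈ b)) →
        (∀ w : W, v1 • w = w → v2 • w = w → (v' • w = w ∨ w ∈ b)) → v u = v' := by
      intro v' hv'E ha hbv hpb hpc hpd
      refine units_ext fun w => ?_
      obtain ⟨w₀, w₁, hw0, hw1, rfl⟩ := exists_split hq2 h11 w
      obtain ⟨w₀₀, w₀₁, hw00, hw01, rfl⟩ := exists_split hq2 h22 w₀
      obtain ⟨w₁₀, w₁₁, hw10, hw11, rfl⟩ := exists_split hq2 h22 w₁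
      -- the `v2`-parts stay in the `v1`-eigenspace
      have key : ∀ (c : ZMod q) (a b : W), v2 • a = a → v2 • b = -b → v1 • (a + b) = c • (a + b) →
          v1 • a = c • a ∧ v1 • b = c • b := by
        intro c a b ha hb hab
        have h1 := congrArg (fun w => v2 • w) hab
        rw [← mul_smul, ← h12, mul_smul, smul_comm v2 c, smul_add v2 a b, ha, hb, smul_add v1,
          smul_neg, smul_add c a, smul_neg] at h1
        rw [smul_add, smul_add] at hab
        have h2 : (v1 • a - c • a) + (v1 • b - c • b) = 0 := by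
          rw [sub_add_sub_comm, hab, sub_self]
        have h3 : (v1 • a - c • a) - (v1 • b - c • b) = 0 := by
          rw [sub_sub_sub_comm, sub_eq_zero, sub_eq_add_neg, sub_eq_add_neg]
          exact h1
        have hsub : v1 • a - c • a = 0 := eq_zero_of_eq_neg hq2 ((eq_neg_of_add_eq_zero_left h2).trans
          (by rw [sub_eq_zero.mp h3]))
        rw [hsub, zero_add] at h2
        exact ⟨sub_eq_zero.mp hsub, sub_eq_zero.mp h2⟩
      obtain ⟨k00, k01⟩ := key 1 _ _ hw00 hw01 (by rw [one_smul]; exact hw0)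
      obtain ⟨k10, k11⟩ := key (-1) _ _ hw10 hw11 (by rw [neg_one_smul]; exact hw1)
      rw [one_smul] at k00 k01
      rw [neg_one_smul] at k10 k11
      have hpiece : ∀ x, (v1 • x = x ∨ v2 • x = x) → (v' • x = x ∨ x ∈ b) → v u • x = v' • x := by
        intro x hx hx'
        rcases hx' with hx' | hx'
        · rw [hx']
          exact hfix x hx fun z hz => orth_of_signs hB hq2 (hE.iso v' hv'E) hx' (hbv z hz)
        · rw [hvb x hx', hbv x hx']
      have hpa : v u • w₁₁ = v' • w₁₁ := by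
        rw [(hcu _ ((hA _).mpr ⟨k11, hw11⟩)).1, ha _ k11 hw11]
      simp only [smul_add]
      rw [hpiece w₀₀ (Or.inl k00) (hpd _ k00 hw00), hpiece w₀₁ (Or.inl k01) (hpc _ k01 hw01),
        hpiece w₁₀ (Or.inr hw10) (hpb _ k10 hw10), hpa]
    obtain ⟨ε1, hε1, hb1⟩ := hsgn u1 hu1
    obtain ⟨ε2, hε2, hb2'⟩ := hsgn u2 hu2
    change ∀ w ∈ b, v1 • w = ε1 • w at hb1
    change ∀ w ∈ b, v2 • w = ε2 • w at hb2'
    -- the eigenspaces are planes, so `b` is one of them
    have hpl : ∀ e ∈ E, ∀ P : W → Prop, (∀ w, w ∈ (minus y).map (e : End (ZMod q) W) ↔ P w) →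
        (∀ w ∈ b, P w) → ∀ w, P w → w ∈ b := fun e _ P hiff hle w hw => by
      have heq := Submodule.eq_of_le_of_finrank_eq (S₂ := (minus y).map (e : End (ZMod q) W))
        (fun x hx => (hiff x).mpr (hle x hx)) (by rw [hb2, finrank_map_units, hP])
      rw [heq]
      exact (hiff w).mpr hw
    have he1v1 : ∀ w : W, v1 • e1 • w = -(e1 • v1 • w) := fun w => by
      rw [← mul_smul, ← mul_smul, he11, Units.neg_smul, neg_neg]
    have he1v2 : ∀ w : W, v2 • e1 • w = e1 • v2 • w := fun w => by rw [← mul_smul, ← mul_smul, he12]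
    have he2v1 : ∀ w : W, v1 • e2 • w = e2 • v1 • w := fun w => by rw [← mul_smul, ← mul_smul, he21]
    have he2v2 : ∀ w : W, v2 • e2 • w = -(e2 • v2 • w) := fun w => by
      rw [← mul_smul, ← mul_smul, he22, Units.neg_smul, neg_neg]
    have hεc : ∀ ε : ZMod q, ε * ε = 1 → ε = 1 ∨ ε = -1 := fun ε h => mul_self_eq_one_iff.mp h
    rcases hεc ε1 hε1 with rfl | rfl <;> rcases hεc ε2 hε2 with rfl | rfl
    · refine Or.inr (Or.inr (hcomp v3 h3E (fun w h1 h2 => ?_) (fun w hw => ?_) (fun w h1 h2 => ?_)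
        (fun w h1 h2 => ?_) fun w h1 h2 => ?_))
      · rw [h3s, h2, smul_neg, h1, neg_neg]
      · rw [h3s, hb2' w hw, one_smul, hb1 w hw, one_smul]
      · exact Or.inl (by rw [h3s, h2, h1, neg_neg])
      · exact Or.inl (by rw [h3s, h2, smul_neg, h1, neg_neg])
      · refine Or.inr (hpl (e1 * e2) (E.mul_mem he1 he2) (fun w => v1 • w = w ∧ v2 • w = w) (fun w => ?_)
          (fun w hw => ⟨by rw [hb1 w hw, one_smul], by rw [hb2' w hw, one_smul]⟩) w ⟨h1, h2⟩)
        obtain ⟨x, rfl⟩ : ∃ x, (e1 * e2) • x = w := ⟨_, smul_inv_smul _ w⟩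
        rw [mem_map_units, inv_smul_smul, hA, mul_smul e1 e2, he1v1, he1v2, he2v1, he2v2, neg_eq_iff_eq_neg,
          smul_neg, neg_eq_iff_eq_neg, ← smul_neg, ← smul_neg, smul_left_cancel_iff, smul_left_cancel_iff,
          smul_left_cancel_iff, smul_left_cancel_iff]
    · refine Or.inr (Or.inl (hcomp v2 h2E (fun w _ h2 => h2) (fun w hw => ?_) (fun w _ h2 => Or.inl h2)
        (fun w h1 h2 => ?_) fun w _ h2 => Or.inl h2))
      · rw [hb2' w hw, neg_one_smul]
      · refine Or.inr (hpl e1 he1 (fun w => v1 • w = w ∧ v2 • w = -w) (fun w => ?_)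
          (fun w hw => ⟨by rw [hb1 w hw, one_smul], by rw [hb2' w hw, neg_one_smul]⟩) w ⟨h1, h2⟩)
        obtain ⟨x, rfl⟩ : ∃ x, e1 • x = w := ⟨_, smul_inv_smul e1 w⟩
        rw [mem_map_units, inv_smul_smul, hA, he1v1, he1v2, neg_eq_iff_eq_neg, ← smul_neg,
          smul_left_cancel_iff, smul_left_cancel_iff]
    · refine Or.inl (hcomp v1 h1E (fun w h1 _ => h1) (fun w hw => ?_) (fun w h1 h2 => ?_)
        (fun w h1 _ => Or.inl h1) fun w h1 _ => Or.inl h1)
      · rw [hb1 w hw, neg_one_smul]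
      · refine Or.inr (hpl e2 he2 (fun w => v1 • w = -w ∧ v2 • w = w) (fun w => ?_)
          (fun w hw => ⟨by rw [hb1 w hw, neg_one_smul], by rw [hb2' w hw, one_smul]⟩) w ⟨h1, h2⟩)
        obtain ⟨x, rfl⟩ : ∃ x, e2 • x = w := ⟨_, smul_inv_smul e2 w⟩
        rw [mem_map_units, inv_smul_smul, hA, he2v1, he2v2, neg_eq_iff_eq_neg, ← smul_neg,
          smul_left_cancel_iff, smul_left_cancel_iff]
    · exfalso
      have hxb : u • p₀ ∈ b := ⟨p₀, hp₀, rfl⟩
      have hx : u • p₀ ∈ minus y := (hA _).mpr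
        ⟨by rw [hb1 _ hxb, neg_one_smul], by rw [hb2' _ hxb, neg_one_smul]⟩
      have h0 := eq_zero_of_eq_neg hq2 (((hcu p₀ hp₀).2).symm.trans (mem_minus.mp hx))
      exact hp₀0 (MulAction.injective u (h0.trans (smul_zero u).symm))
  -- `σ` permutes them
  have hσv : ∀ u ∈ E, σ * v u * σ⁻¹ = v (σ * u * σ⁻¹) := fun u _ => by
    have e1 : σ⁻¹ * y * σ = y := by rw [mul_assoc, ← hyσ, inv_mul_cancel_left]
    show σ * (u * y * u⁻¹ * y) * σ⁻¹ = σ * u * σ⁻¹ * y * (σ * u * σ⁻¹)⁻¹ * y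
    calc σ * (u * y * u⁻¹ * y) * σ⁻¹ = σ * u * y * u⁻¹ * y * σ⁻¹ := by group
      _ = σ * u * (σ⁻¹ * y * σ) * u⁻¹ * (σ⁻¹ * y * σ) * σ⁻¹ := by rw [e1]
      _ = σ * u * σ⁻¹ * y * (σ * u * σ⁻¹)⁻¹ * y := by group
  have himg : ∀ u ∈ E, v u ≠ 1 → σ * v u * σ⁻¹ = v1 ∨ σ * v u * σ⁻¹ = v2 ∨ σ * v u * σ⁻¹ = v3 := by
    intro u hu hne
    rw [hσv u hu]
    refine hperm _ (hσE u hu) ?_
    rw [← hσv u hu]
    exact fun h => hne (conj_eq_one_iff.mp h)
  have hi1 := himg u1 hu1 hneq.1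
  have hi2 := himg u2 hu2 hneq.2.1
  change σ * v1 * σ⁻¹ = v1 ∨ σ * v1 * σ⁻¹ = v2 ∨ σ * v1 * σ⁻¹ = v3 at hi1
  change σ * v2 * σ⁻¹ = v1 ∨ σ * v2 * σ⁻¹ = v2 ∨ σ * v2 * σ⁻¹ = v3 at hi2
  have hne12 : σ * v1 * σ⁻¹ ≠ σ * v2 * σ⁻¹ := fun h =>
    hneq.2.2 (mul_left_cancel (mul_right_cancel h))
  have hσσ : ∀ u ∈ E, σ * (σ * v u * σ⁻¹) * σ⁻¹ = v u := fun u hu => by
    calc σ * (σ * v u * σ⁻¹) * σ⁻¹ = (σ * σ) * v u * (σ * σ)⁻¹ := by group
      _ = v u := by rw [hσy, ← hvy u hu, mul_inv_cancel_right]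
  have hσ3 : σ * v3 * σ⁻¹ = -((σ * v1 * σ⁻¹) * (σ * v2 * σ⁻¹)) := by
    rw [hv3, mul_neg, neg_mul]
    congr 1
    group
  have hv21 : v2 * v1 = v1 * v2 := h12.symm
  rcases hi1 with h | h | h
  · refine core_blocks hq2 hE hB hy hyi hP hσy hσi hσE v1 v2 e1 e2 h1E h2E he1 he2 h12 hA he11
      he12 he21 he22 h ?_
    rcases hi2 with h' | h' | h'
    · exact absurd (h.trans h'.symm) hne12
    · exact Or.inl h'
    · exact Or.inr h'
  · -- `σ` swaps `v1` and `v2`, so fixes `v3`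
    have h' : σ * v2 * σ⁻¹ = v1 := by rw [← h]; exact hσσ u1 hu1
    refine core_blocks hq2 hE hB hy hyi hP hσy hσi hσE v3 v1 e2 (e1 * e2) h3E h1E he2 (E.mul_mem he1 he2)
      ?_ ?_ ?_ he21 ?_ ?_ ?_ (Or.inr ?_)
    · rw [hv3, neg_mul, mul_neg, neg_inj, mul_assoc, hv21]
    · intro w
      rw [hA w, h3s]
      constructor
      · exact fun ⟨a, b⟩ => ⟨by rw [b, smul_neg, a, neg_neg], a⟩
      · rintro ⟨a, b⟩
        refine ⟨b, ?_⟩
        rw [neg_inj] at a
        rw [← one_smul (End (ZMod q) W)ˣ (v2 • w), ← h11, mul_smul, a, b]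
    · rw [hv3, mul_neg, neg_mul, ← mul_assoc e2 v1 v2, he21, mul_assoc v1 e2 v2, he22, mul_neg,
        mul_assoc v1 v2 e2]
    · rw [hv3, mul_neg, neg_mul, neg_inj]
      calc e1 * e2 * (v1 * v2) = e1 * (e2 * v1) * v2 := by group
        _ = e1 * v1 * (e2 * v2) := by rw [he21]; group
        _ = v1 * e1 * (v2 * e2) := by rw [he11, he22, neg_mul_neg]
        _ = v1 * (e1 * v2) * e2 := by group
        _ = v1 * v2 * (e1 * e2) := by rw [he12]; group
    · calc e1 * e2 * v1 = e1 * v1 * e2 := by rw [mul_assoc, he21, ← mul_assoc]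
        _ = -(v1 * (e1 * e2)) := by rw [he11, neg_mul, mul_assoc]
    · rw [hσ3, h, h', hv21]
    · rw [h, hv3, neg_mul, neg_neg, mul_assoc, hv21, ← mul_assoc, h11, one_mul]
  · have h' : σ * v2 * σ⁻¹ = v2 := by
      rcases hi2 with h' | h' | h'
      · exfalso
        -- `v3 ↦ -(v3 * v1) = v2`, but `v3 ↦ v1`
        have h3 : σ * v3 * σ⁻¹ = v1 := by rw [← h]; exact hσσ u1 hu1
        rw [hσ3, h, h', hv3, neg_mul, neg_neg, mul_assoc, hv21, ← mul_assoc, h11, one_mul] at h3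
        exact hneq.2.2 h3.symm
      · exact h'
      · exact absurd (h.trans h'.symm) hne12
    exact core_blocks hq2 hE hB hy hyi hP hσy hσi hσE v2 v1 e2 e1 h2E h1E he2 he1 hv21
      (fun w => (hA w).trans and_comm) he22 he21 he12 he11 h' (Or.inr (by rw [h, hv3, hv21]))

end CfsgLib.HallHigman.Symp
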