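import Cfsg.Agent.Lib.HallHigman.Symplectic

/-!
# Weight spaces of commuting involutive isometries
-/

namespace CfsgLib.HallHigman.Symp

open Module (End finrank)

variable {q : ℕ} [hq : Fact q.Prime] {W : Type*} [AddCommGroup W] [Module (ZMod q) W]

/-- The vectors on which every member of `E` acts through the same scalars as on `v`. -/
def weightSpace (E : Subgroup (End (ZMod q) W)ˣ) (v : W) : Submodule (ZMod q) W where
  carrier := {w | ∀ z ∈ E, ∀ a : ZMod q, z • v = a • v → z • w = a • w}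
  zero_mem' := fun z _ a _ => by rw [smul_zero, smul_zero]
  add_mem' := fun {w w'} hw hw' z hz a ha => by rw [smul_add, smul_add, hw z hz a ha, hw' z hz a ha]
  smul_mem' := fun c w hw z hz a ha => by rw [smul_comm z, hw z hz a ha, smul_comm]

theorem smul_mem_weightSpace {E : Subgroup (End (ZMod q) W)ˣ} {v w : W} {g : (End (ZMod q) W)ˣ}
    (hg : ∀ z ∈ E, z * g = g * z) (hw : w ∈ weightSpace E v) : g • w ∈ weightSpace E v := fun z hz a ha => by
  rw [← mul_smul, hg z hz, mul_smul, hw z hz a ha, smul_comm]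

theorem self_mem_weightSpace {E : Subgroup (End (ZMod q) W)ˣ} {v : W} : v ∈ weightSpace E v :=
  fun _ _ _ ha => ha

/-- Commuting involutions have a common eigenvector in every nonzero invariant subspace. -/
theorem exists_joint_eigen [FiniteDimensional (ZMod q) W]
    {E : Subgroup (End (ZMod q) W)ˣ} (hexp : ∀ z ∈ E, z * z = 1) (hab : ∀ a ∈ E, ∀ b ∈ E, a * b = b * a)
    {P : Submodule (ZMod q) W} (hP : P ≠ ⊥) (hinv : ∀ z ∈ E, ∀ p ∈ P, z • p ∈ P) :
    ∃ v ∈ P, v ≠ 0 ∧ ∀ z ∈ E, z • v = v ∨ z • v = -v := by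
  obtain ⟨Q, ⟨hQ0, hQP, hQinv⟩, hQmin⟩ := exists_minimal_of_wellFoundedLT
    (fun Q : Submodule (ZMod q) W => Q ≠ ⊥ ∧ Q ≤ P ∧ ∀ z ∈ E, ∀ p ∈ Q, z • p ∈ Q) ⟨P, hP, le_rfl, hinv⟩
  obtain ⟨v, hvQ, hv0⟩ := Submodule.exists_mem_ne_zero_of_ne_bot hQ0
  refine ⟨v, hQP hvQ, hv0, fun z hz => ?_⟩
  by_cases hbot : Q ⊓ minus z = ⊥
  · refine Or.inl ?_
    have h1 : z • v - v ∈ Q ⊓ minus z := ⟨sub_mem (hQinv z hz v hvQ) hvQ, mem_minus_sub (hexp z hz) v⟩
    rw [hbot, Submodule.mem_bot, sub_eq_zero] at h1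
    exact h1
  · refine Or.inr ?_
    have hle : Q ≤ Q ⊓ minus z := hQmin (y := Q ⊓ minus z) ⟨hbot, inf_le_left.trans hQP, ?_⟩ inf_le_left
    · exact mem_minus.mp (hle hvQ).2
    · rintro g hg p ⟨hp, hpz⟩
      refine ⟨hQinv g hg p hp, mem_minus.mpr ?_⟩
      rw [← mul_smul, hab z hz g hg, mul_smul, mem_minus.mp hpz, smul_neg]

variable {M : Type*} [CommGroup M] {B : W → W → M}

/-- A weight space of commuting involutive isometries is nondegenerate. -/
theorem weightSpace_nondeg [Finite W] (hB : IsSymp B) (hq2 : q.Coprime 2)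
    {E : Subgroup (End (ZMod q) W)ˣ} (hexp : ∀ z ∈ E, z * z = 1) (hiso : ∀ z ∈ E, IsIso B z)
    (hab : ∀ a ∈ E, ∀ b ∈ E, a * b = b * a) {v : W} (hv0 : v ≠ 0)
    (hv : ∀ z ∈ E, z • v = v ∨ z • v = -v) :
    ∀ w ∈ weightSpace E v, (∀ x ∈ weightSpace E v, B w x = 1) → w = 0 := by
  classical
  intro w hw h
  refine hB.nondeg w fun x => ?_
  suffices key : ∀ s : Finset (End (ZMod q) W)ˣ, (∀ z ∈ s, z ∈ E) →
      (∀ x : W, (∀ z ∈ s, ∀ a : ZMod q, z • v = a • v → z • x = a • x) → B w x = 1) → ∀ x, B w x = 1 by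
    have : Finite (End (ZMod q) W) := Finite.of_injective (fun f => (f : W → W)) DFunLike.coe_injective
    have : Fintype (End (ZMod q) W)ˣ := Fintype.ofFinite _
    refine key (Finset.univ.filter (· ∈ E)) (fun z hz => (Finset.mem_filter.mp hz).2) (fun x hx => ?_) x
    exact h x fun z hz => hx z (Finset.mem_filter.mpr ⟨Finset.mem_univ _, hz⟩)
  intro s hsE
  induction s using Finset.induction with
  | empty => exact fun hx x => hx x (by simp)
  | @insert z s hzs ih =>
    intro hx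
    refine ih (fun z' hz' => hsE z' (Finset.mem_insert_of_mem hz')) fun x hxs => ?_
    have hzE : z ∈ E := hsE z (Finset.mem_insert_self z s)
    obtain ⟨ε, hε, hεv⟩ : ∃ ε : ZMod q, (ε = 1 ∨ ε = -1) ∧ z • v = ε • v := by
      rcases hv z hzE with h | h
      · exact ⟨1, Or.inl rfl, by rw [one_smul, h]⟩
      · exact ⟨-1, Or.inr rfl, by rw [neg_one_smul, h]⟩
    have hεw : z • w = ε • w := hw z hzE ε hεv
    -- the components of `x`
    set a := (2 : ZMod q)⁻¹ • (x + ε • z • x) with ha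
    set b := (2 : ZMod q)⁻¹ • (x - ε • z • x) with hb
    have hεε : ε * ε = 1 := by rcases hε with rfl | rfl <;> ring
    have hzz : z • z • x = x := by rw [← mul_smul, hexp z hzE, one_smul]
    have hza : z • a = ε • a := by
      rw [ha, smul_comm z, smul_add z, smul_comm z ε, hzz, smul_comm ε (2 : ZMod q)⁻¹, smul_add ε,
        smul_smul ε ε, hεε, one_smul, add_comm]
    have hzb : z • b = -(ε • b) := by
      rw [hb, smul_comm z, smul_sub z, smul_comm z ε, hzz, smul_comm ε (2 : ZMod q)⁻¹, smul_sub ε,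
        smul_smul ε ε, hεε, one_smul, ← smul_neg, neg_sub]
    have hab' : a + b = x := by
      rw [ha, hb, ← smul_add, add_add_sub_cancel, ← two_smul (ZMod q) x, smul_smul, mul_comm,
        two_mul_half hq2, one_smul]
    have hs : ∀ y : W, (∀ z' ∈ s, ∀ c : ZMod q, z' • v = c • v → z' • y = c • y) →
        ∀ z' ∈ s, ∀ c : ZMod q, z' • v = c • v → z' • z • y = c • z • y := fun y hy z' hz' c hc => by
      rw [← mul_smul, hab z' (hsE z' (Finset.mem_insert_of_mem hz')) z hzE, mul_smul, hy z' hz' c hc,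
        smul_comm]
    have hxa : B w a = 1 := by
      refine hx a fun z' hz' c hc => ?_
      rcases Finset.mem_insert.mp hz' with rfl | hz''
      · rw [hza]
        have h1 : (ε - c) • v = 0 := by rw [sub_smul, ← hεv, hc, sub_self]
        rw [sub_eq_zero.mp ((smul_eq_zero.mp h1).resolve_right hv0)]
      · rw [ha, smul_comm z', smul_add z', hxs z' hz'' c hc, smul_comm z' ε, hs x hxs z' hz'' c hc,
          smul_comm ε c, ← smul_add c, smul_comm c]
    have hxb : B w b = 1 := by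
      rcases hε with rfl | rfl
      · refine orth_of_signs hB hq2 (hiso z hzE) ?_ ?_
        · rw [hεw, one_smul]
        · rw [hzb, one_smul]
      · refine perp_symm hB (orth_of_signs hB hq2 (hiso z hzE) ?_ ?_)
        · rw [hzb, neg_one_smul, neg_neg]
        · rw [hεw, neg_one_smul]
    rw [← hab', hB.add_right, hxa, hxb, one_mul]

end CfsgLib.HallHigman.Symp
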