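import Mathlib

/-!
# Involutive isometries of an alternating bicharacter

The bicharacter takes values in an arbitrary commutative group, so no discrete logarithm is needed.
-/

namespace CfsgLib.HallHigman.Symp

open Module (End finrank)

variable {q : ℕ} {W : Type*} [AddCommGroup W] [Module (ZMod q) W] {M : Type*} [CommGroup M]

/-- A nondegenerate alternating bicharacter. -/
structure IsSymp (B : W → W → M) : Prop where
  add_left : ∀ a b c, B (a + b) c = B a c * B b c
  add_right : ∀ a b c, B a (b + c) = B a b * B a c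
  alt : ∀ a, B a a = 1
  nondeg : ∀ a, (∀ b, B a b = 1) → a = 0

/-- Units preserving the bicharacter. -/
def IsIso (B : W → W → M) (g : (End (ZMod q) W)ˣ) : Prop := ∀ a b, B (g • a) (g • b) = B a b

/-- The negated vectors of `g`. -/
def minus (g : (End (ZMod q) W)ˣ) : Submodule (ZMod q) W :=
  LinearMap.ker ((g : End (ZMod q) W) + 1)

theorem mem_minus {g : (End (ZMod q) W)ˣ} {w : W} : w ∈ minus g ↔ g • w = -w := by
  rw [minus, LinearMap.mem_ker, LinearMap.add_apply, Module.End.one_apply, add_eq_zero_iff_eq_neg]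
  rfl

theorem units_ext {g h : (End (ZMod q) W)ˣ} (hgh : ∀ w : W, g • w = h • w) : g = h :=
  Units.ext (LinearMap.ext hgh)

section

variable {B : W → W → M} (hB : IsSymp B)

include hB

theorem zero_left (b : W) : B 0 b = 1 := by
  have h := hB.add_left 0 0 b
  rw [add_zero] at h
  exact left_eq_mul.mp h

theorem zero_right (a : W) : B a 0 = 1 := by
  have h := hB.add_right a 0 0
  rw [add_zero] at h
  exact left_eq_mul.mp h

theorem neg_left (a b : W) : B (-a) b = (B a b)⁻¹ := by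
  have h := hB.add_left (-a) a b
  rw [neg_add_cancel, zero_left hB] at h
  exact eq_inv_of_mul_eq_one_left h.symm

theorem neg_right (a b : W) : B a (-b) = (B a b)⁻¹ := by
  have h := hB.add_right a (-b) b
  rw [neg_add_cancel, zero_right hB] at h
  exact eq_inv_of_mul_eq_one_left h.symm

theorem swap (a b : W) : B b a = (B a b)⁻¹ := by
  have h := hB.alt (a + b)
  rw [hB.add_left, hB.add_right, hB.add_right, hB.alt, hB.alt, one_mul, mul_one] at h
  exact eq_inv_of_mul_eq_one_right h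

theorem perp_symm {a b : W} (h : B a b = 1) : B b a = 1 := by rw [swap hB a b, h, inv_one]

theorem nsmul_left (n : ℕ) (a b : W) : B (n • a) b = B a b ^ n := by
  induction n with
  | zero => rw [zero_smul, pow_zero, zero_left hB]
  | succ n ih => rw [succ_nsmul, hB.add_left, ih, pow_succ]

theorem nsmul_right (n : ℕ) (a b : W) : B a (n • b) = B a b ^ n := by
  induction n with
  | zero => rw [zero_smul, pow_zero, zero_right hB]
  | succ n ih => rw [succ_nsmul, hB.add_right, ih, pow_succ]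

variable [NeZero q]

theorem smul_left (c : ZMod q) (a b : W) : B (c • a) b = B a b ^ c.val := by
  rw [← nsmul_left hB c.val a b, ← Nat.cast_smul_eq_nsmul (ZMod q), ZMod.natCast_zmod_val]

theorem smul_right (c : ZMod q) (a b : W) : B a (c • b) = B a b ^ c.val := by
  rw [← nsmul_right hB c.val a b, ← Nat.cast_smul_eq_nsmul (ZMod q), ZMod.natCast_zmod_val]

omit [NeZero q] in
theorem pow_char (a b : W) : B a b ^ q = 1 := by
  rw [← nsmul_left hB, ← Nat.cast_smul_eq_nsmul (ZMod q), ZMod.natCast_self, zero_smul, zero_left hB]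

omit [NeZero q] in
theorem eq_one_of_eq_inv (hq : q.Coprime 2) {a b : W} (h : B a b = (B a b)⁻¹) : B a b = 1 := by
  have h2 : B a b ^ 2 = 1 := by rw [pow_two]; exact mul_eq_one_iff_eq_inv.mpr h
  exact orderOf_eq_one_iff.mp (Nat.eq_one_of_dvd_coprimes hq
    (orderOf_dvd_of_pow_eq_one (pow_char hB a b)) (orderOf_dvd_of_pow_eq_one h2))

omit [NeZero q] in
/-- An isometry fixing `a` and negating `b` makes them orthogonal. -/
theorem orth_of_signs (hq : q.Coprime 2) {g : (End (ZMod q) W)ˣ} (hg : IsIso B g) {a b : W}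
    (ha : g • a = a) (hb : g • b = -b) : B a b = 1 := by
  refine eq_one_of_eq_inv hB hq ?_
  conv_lhs => rw [← hg a b, ha, hb, neg_right hB]

end

omit [CommGroup M] in
theorem IsIso.mul {B : W → W → M} {g h : (End (ZMod q) W)ˣ} (hg : IsIso B g) (hh : IsIso B h) :
    IsIso B (g * h) := fun a b => by rw [mul_smul, mul_smul, hg, hh]

omit [CommGroup M] in
theorem IsIso.inv {B : W → W → M} {g : (End (ZMod q) W)ˣ} (hg : IsIso B g) : IsIso B g⁻¹ := fun a b => by
  conv_rhs => rw [← smul_inv_smul g a, ← smul_inv_smul g b, hg]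

omit [CommGroup M] in
theorem IsIso.conj {B : W → W → M} {g u : (End (ZMod q) W)ˣ} (hg : IsIso B g) (hu : IsIso B u) :
    IsIso B (u * g * u⁻¹) := (hu.mul hg).mul hu.inv

theorem mem_minus_conj {g u : (End (ZMod q) W)ˣ} {w : W} :
    w ∈ minus (u * g * u⁻¹) ↔ u⁻¹ • w ∈ minus g := by
  rw [mem_minus, mem_minus, mul_smul, mul_smul, smul_eq_iff_eq_inv_smul, smul_neg]

theorem mem_map_units {u : (End (ZMod q) W)ˣ} {P : Submodule (ZMod q) W} {w : W} :
    w ∈ P.map (u : End (ZMod q) W) ↔ u⁻¹ • w ∈ P := by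
  constructor
  · rintro ⟨p, hp, rfl⟩
    show u⁻¹ • u • p ∈ P
    rwa [inv_smul_smul]
  · exact fun h => ⟨_, h, smul_inv_smul u w⟩

theorem finrank_map_units (u : (End (ZMod q) W)ˣ) (P : Submodule (ZMod q) W) :
    finrank (ZMod q) (P.map (u : End (ZMod q) W)) = finrank (ZMod q) P :=
  ((Submodule.equivMapOfInjective (u : End (ZMod q) W)
    (fun a b h => MulAction.injective u h) P).finrank_eq).symm

theorem minus_conj_eq_map (g u : (End (ZMod q) W)ˣ) :
    minus (u * g * u⁻¹) = (minus g).map (u : End (ZMod q) W) := by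
  ext w
  rw [mem_minus_conj, mem_map_units]

theorem finrank_minus_conj (g u : (End (ZMod q) W)ˣ) :
    finrank (ZMod q) (minus (u * g * u⁻¹)) = finrank (ZMod q) (minus g) := by
  rw [minus_conj_eq_map, finrank_map_units]

variable [hq : Fact q.Prime]

theorem two_mul_half (hq2 : q.Coprime 2) : (2 : ZMod q) * (2 : ZMod q)⁻¹ = 1 := by
  refine mul_inv_cancel₀ fun h => ?_
  rw [show (2 : ZMod q) = ((2 : ℕ) : ZMod q) by norm_num, ZMod.natCast_eq_zero_iff] at h
  exact hq.out.ne_one (Nat.Coprime.eq_one_of_dvd hq2 h)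

theorem eq_zero_of_eq_neg (hq2 : q.Coprime 2) {a : W} (h : a = -a) : a = 0 := by
  have h2 : (2 : ZMod q) • a = 0 := by rw [two_smul]; exact add_eq_zero_iff_eq_neg.mpr h
  rw [← one_smul (ZMod q) a, ← two_mul_half hq2, mul_comm, mul_smul, h2, smul_zero]

/-- A vector splits into a fixed and a negated part. -/
theorem exists_split (hq2 : q.Coprime 2) {g : (End (ZMod q) W)ˣ} (hg : g * g = 1) (w : W) :
    ∃ a b, g • a = a ∧ g • b = -b ∧ a + b = w := by
  have hgg : g • g • w = w := by rw [← mul_smul, hg, one_smul]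
  refine ⟨(2 : ZMod q)⁻¹ • (w + g • w), (2 : ZMod q)⁻¹ • (w - g • w), ?_, ?_, ?_⟩
  · rw [smul_comm g, smul_add g, hgg, add_comm]
  · rw [smul_comm g, smul_sub g, hgg, ← smul_neg, neg_sub]
  · rw [← smul_add, add_add_sub_cancel, ← two_smul (ZMod q) w, smul_smul, mul_comm, two_mul_half hq2,
      one_smul]

theorem mem_minus_sub {g : (End (ZMod q) W)ˣ} (hg : g * g = 1) (w : W) : g • w - w ∈ minus g := by
  rw [mem_minus, smul_sub, ← mul_smul, hg, one_smul, neg_sub]

variable {B : W → W → M} (hB : IsSymp B) (hq2 : q.Coprime 2)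

include hB hq2

theorem minus_nondeg {g : (End (ZMod q) W)ˣ} (hg : g * g = 1) (hgi : IsIso B g) :
    ∀ p ∈ minus g, (∀ p' ∈ minus g, B p p' = 1) → p = 0 := by
  intro p hp h
  refine hB.nondeg p fun w => ?_
  obtain ⟨a, b, ha, hb, rfl⟩ := exists_split hq2 hg w
  rw [hB.add_right, h b (mem_minus.mpr hb), mul_one]
  exact perp_symm hB (orth_of_signs hB hq2 hgi ha (mem_minus.mp hp))

/-- The fixed vectors are those orthogonal to the negated ones. -/
theorem smul_eq_self_iff {g : (End (ZMod q) W)ˣ} (hg : g * g = 1) (hgi : IsIso B g) (w : W) :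
    g • w = w ↔ ∀ p ∈ minus g, B w p = 1 := by
  refine ⟨fun h p hp => orth_of_signs hB hq2 hgi h (mem_minus.mp hp), fun h => ?_⟩
  obtain ⟨a, b, ha, hb, rfl⟩ := exists_split hq2 hg w
  have hb0 : b = 0 := minus_nondeg hB hq2 hg hgi b (mem_minus.mpr hb) fun p hp => by
    have h1 := h p hp
    rwa [hB.add_left, orth_of_signs hB hq2 hgi ha (mem_minus.mp hp), one_mul] at h1
  rw [hb0, add_zero, ha]

theorem eq_of_minus_eq {g h : (End (ZMod q) W)ˣ} (hg : g * g = 1) (hgi : IsIso B g) (hh : h * h = 1)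
    (hhi : IsIso B h) (e : minus g = minus h) : g = h := by
  refine units_ext fun w => ?_
  obtain ⟨a, b, ha, hb, rfl⟩ := exists_split hq2 hg w
  have ha' : h • a = a := (smul_eq_self_iff hB hq2 hh hhi a).mpr
    (e ▸ (smul_eq_self_iff hB hq2 hg hgi a).mp ha)
  have hb' : h • b = -b := mem_minus.mp (e ▸ mem_minus.mpr hb)
  rw [smul_add, smul_add, ha, hb, ha', hb']

/-- An isometry stabilizing the negated vectors of an involutive isometry commutes with it. -/
theorem commute_of_preserves {g y : (End (ZMod q) W)ˣ} (hy : y * y = 1) (hyi : IsIso B y) (hgi : IsIso B g)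
    (h1 : ∀ p ∈ minus y, g • p ∈ minus y) (h2 : ∀ p ∈ minus y, g⁻¹ • p ∈ minus y) : g * y = y * g := by
  refine units_ext fun w => ?_
  obtain ⟨a, b, ha, hb, rfl⟩ := exists_split hq2 hy w
  have ha' : y • g • a = g • a := (smul_eq_self_iff hB hq2 hy hyi _).mpr fun p hp => by
    rw [← smul_inv_smul g p, hgi]
    exact (smul_eq_self_iff hB hq2 hy hyi a).mp ha _ (h2 p hp)
  rw [mul_smul, mul_smul, smul_add y a b, ha, hb, smul_add g a b, smul_add y, ha',
    mem_minus.mp (h1 b (mem_minus.mpr hb)), smul_add, smul_neg]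

/-- An involutive isometry of a nondegenerate plane is a scalar. -/
theorem plane_invol [FiniteDimensional (ZMod q) W] {P : Submodule (ZMod q) W}
    (h2 : finrank (ZMod q) P = 2) (hnd : ∀ p ∈ P, (∀ p' ∈ P, B p p' = 1) → p = 0)
    {g : (End (ZMod q) W)ˣ} (hgi : IsIso B g) (hgP : ∀ p ∈ P, g • p ∈ P)
    (hinv : ∀ p ∈ P, g • g • p = p) :
    (∀ p ∈ P, g • p = p) ∨ (∀ p ∈ P, g • p = -p) := by
  by_contra hcon
  push Not at hcon
  obtain ⟨⟨p₁, hp₁, hp₁'⟩, p₂, hp₂, hp₂'⟩ := hcon
  set n := p₁ - g • p₁ with hn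
  set a := p₂ + g • p₂ with ha
  have hnP : n ∈ P := sub_mem hp₁ (hgP _ hp₁)
  have haP : a ∈ P := add_mem hp₂ (hgP _ hp₂)
  have hn0 : n ≠ 0 := sub_ne_zero.mpr (Ne.symm hp₁')
  have ha0 : a ≠ 0 := fun h => hp₂' (eq_neg_of_add_eq_zero_right h)
  have hgn : g • n = -n := by rw [hn, smul_sub, hinv _ hp₁, neg_sub]
  have hga : g • a = a := by rw [ha, smul_add, hinv _ hp₂, add_comm]
  have hdis : (Submodule.span (ZMod q) {a}) ⊓ Submodule.span (ZMod q) {n} = ⊥ := by
    rw [Submodule.eq_bot_iff]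
    rintro w ⟨hw1, hw2⟩
    obtain ⟨c, rfl⟩ := Submodule.mem_span_singleton.mp hw1
    obtain ⟨d, hd⟩ := Submodule.mem_span_singleton.mp hw2
    have h1 : g • (c • a) = c • a := by rw [smul_comm g, hga]
    rw [← hd, smul_comm g, hgn, smul_neg] at h1
    rw [← hd]
    exact eq_zero_of_eq_neg hq2 h1.symm
  have hspan : Submodule.span (ZMod q) {a} ⊔ Submodule.span (ZMod q) {n} = P := by
    refine Submodule.eq_of_le_of_finrank_eq (sup_le ?_ ?_) ?_
    · exact (Submodule.span_singleton_le_iff_mem a P).mpr haP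
    · exact (Submodule.span_singleton_le_iff_mem n P).mpr hnP
    · have h := Submodule.finrank_sup_add_finrank_inf_eq (Submodule.span (ZMod q) {a})
        (Submodule.span (ZMod q) {n})
      rw [hdis, finrank_bot, add_zero, finrank_span_singleton ha0, finrank_span_singleton hn0] at h
      rw [h, h2]
  refine hn0 (hnd n hnP fun p hp => ?_)
  rw [← hspan, Submodule.mem_sup] at hp
  obtain ⟨u, hu, v, hv, rfl⟩ := hp
  obtain ⟨c, rfl⟩ := Submodule.mem_span_singleton.mp hu
  obtain ⟨d, rfl⟩ := Submodule.mem_span_singleton.mp hv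
  rw [hB.add_right, smul_right hB, smul_right hB, hB.alt,
    perp_symm hB (orth_of_signs hB hq2 hgi hga hgn), one_pow, one_pow, one_mul]

omit hq2 in
theorem two_le_finrank [FiniteDimensional (ZMod q) W] {P : Submodule (ZMod q) W} (h0 : P ≠ ⊥)
    (hnd : ∀ p ∈ P, (∀ p' ∈ P, B p p' = 1) → p = 0) : 2 ≤ finrank (ZMod q) P := by
  by_contra hlt
  obtain ⟨⟨v, hv⟩, hspan⟩ := finrank_le_one_iff.mp (show finrank (ZMod q) P ≤ 1 by omega)
  refine h0 ((Submodule.eq_bot_iff P).mpr fun p hp => hnd p hp fun p' hp' => ?_)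
  obtain ⟨c, hc⟩ := hspan ⟨p, hp⟩
  obtain ⟨d, hd⟩ := hspan ⟨p', hp'⟩
  rw [← show c • v = p from congrArg Subtype.val hc, ← show d • v = p' from congrArg Subtype.val hd,
    smul_left hB, smul_right hB, hB.alt, one_pow, one_pow]

/-- For a conjugate `t` of `y` with `(t y)² = 1`, either `t = y` or `t` fixes the vectors negated by `y`. -/
theorem conj_cases [FiniteDimensional (ZMod q) W] {y u : (End (ZMod q) W)ˣ} (hy : y * y = 1)
    (hyi : IsIso B y) (hP : finrank (ZMod q) (minus y) = 2) (hui : IsIso B u)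
    (hv : u * y * u⁻¹ * y * (u * y * u⁻¹ * y) = 1) :
    u * y * u⁻¹ * y = 1 ∨
      (∀ p ∈ minus y, (u * y * u⁻¹ * y) • p = -p ∧ y • u • p = u • p) := by
  set t := u * y * u⁻¹ with ht
  have hti : IsIso B t := hyi.conj hui
  have htt : t * t = 1 := by
    rw [ht]
    calc u * y * u⁻¹ * (u * y * u⁻¹) = u * (y * y) * u⁻¹ := by group
      _ = 1 := by rw [hy, mul_one, mul_inv_cancel]
  have hty : t * y = y * t := by
    have h1 := eq_inv_of_mul_eq_one_left hv
    rwa [mul_inv_rev, inv_eq_of_mul_eq_one_right hy, inv_eq_of_mul_eq_one_right htt] at h1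
  have htP : ∀ p ∈ minus y, t • p ∈ minus y := fun p hp => by
    rw [mem_minus, ← mul_smul, ← hty, mul_smul, mem_minus.mp hp, smul_neg]
  rcases plane_invol hB hq2 hP (minus_nondeg hB hq2 hy hyi) hti htP
    (fun p _ => by rw [← mul_smul, htt, one_smul]) with h | h
  · refine Or.inr fun p hp => ⟨?_, ?_⟩
    · rw [mul_smul, mem_minus.mp hp, smul_neg, h p hp]
    · refine (smul_eq_self_iff hB hq2 hy hyi _).mpr fun p' hp' => ?_
      refine perp_symm hB (orth_of_signs hB hq2 hti (h p' hp') ?_)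
      rw [ht, mul_smul, mul_smul, inv_smul_smul, mem_minus.mp hp, smul_neg]
  · refine Or.inl ?_
    have e : minus y = minus t := Submodule.eq_of_le_of_finrank_eq
      (fun p hp => mem_minus.mpr (h p hp)) (by rw [ht, finrank_minus_conj])
    rw [← eq_of_minus_eq hB hq2 hy hyi htt hti e, hy]

/-- An elementary abelian group of isometries, normalized by a square root `σ` of an involution `y` negating
a plane, commutes with `y`. -/
theorem commute_of_abelian [FiniteDimensional (ZMod q) W] {y σ : (End (ZMod q) W)ˣ} (hσy : σ * σ = y)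
    (hy : y * y = 1) (hP : finrank (ZMod q) (minus y) = 2) (hσi : IsIso B σ)
    (E : Subgroup (End (ZMod q) W)ˣ) (hEi : ∀ e ∈ E, IsIso B e) (hab : ∀ a ∈ E, ∀ b ∈ E, a * b = b * a)
    (hexp : ∀ a ∈ E, a * a = 1) (hσE : ∀ e ∈ E, σ * e * σ⁻¹ ∈ E) : ∀ u ∈ E, u * y = y * u := by
  intro u hu
  have hyi : IsIso B y := hσy ▸ hσi.mul hσi
  have hyinv : y⁻¹ = y := inv_eq_of_mul_eq_one_right hy
  have hyσ : σ * y = y * σ := by rw [← hσy, mul_assoc]
  have hvE : ∀ e ∈ E, e * y * e⁻¹ * y ∈ E := fun e he => by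
    have h2 : σ * (σ * e⁻¹ * σ⁻¹) * σ⁻¹ = y * e⁻¹ * y :=
      calc σ * (σ * e⁻¹ * σ⁻¹) * σ⁻¹ = (σ * σ) * e⁻¹ * (σ * σ)⁻¹ := by group
        _ = y * e⁻¹ * y := by rw [hσy, hyinv]
    rw [mul_assoc e, mul_assoc e, ← h2]
    exact E.mul_mem he (hσE _ (hσE _ (E.inv_mem he)))
  by_contra hne
  have hv1 : u * y * u⁻¹ * y ≠ 1 := fun h => hne (by
    rw [mul_eq_one_iff_eq_inv, hyinv, mul_inv_eq_iff_eq_mul] at h; exact h)
  have h₁ := (conj_cases hB hq2 hy hyi hP (hEi u hu) (hexp _ (hvE u hu))).resolve_left hv1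
  set u' := σ * u * σ⁻¹ with hu'
  have hu'E : u' ∈ E := hσE u hu
  have hv' : u' * y * u'⁻¹ * y = σ * (u * y * u⁻¹ * y) * σ⁻¹ := by
    have e1 : σ⁻¹ * y * σ = y := by rw [mul_assoc, ← hyσ, inv_mul_cancel_left]
    calc u' * y * u'⁻¹ * y = σ * u * (σ⁻¹ * y * σ) * u⁻¹ * σ⁻¹ * y := by rw [hu']; group
      _ = σ * u * y * u⁻¹ * σ⁻¹ * y := by rw [e1]
      _ = σ * u * y * u⁻¹ * (σ⁻¹ * y * σ) * σ⁻¹ := by group
      _ = σ * (u * y * u⁻¹ * y) * σ⁻¹ := by rw [e1]; group
  have hv1' : u' * y * u'⁻¹ * y ≠ 1 := by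
    rw [hv']
    exact fun h => hv1 (conj_eq_one_iff.mp h)
  have h₂ := (conj_cases hB hq2 hy hyi hP (hEi u' hu'E) (hexp _ (hvE u' hu'E))).resolve_left hv1'
  set b := (minus y).map (u : End (ZMod q) W) with hb
  have hσP : ∀ p ∈ minus y, σ • p ∈ minus y := fun p hp => by
    rw [mem_minus, ← mul_smul, ← hyσ, mul_smul, mem_minus.mp hp, smul_neg]
  -- `u'` maps the negated plane into `b`
  have hu'b : ∀ p ∈ minus y, u' • p ∈ b := fun p hp => by
    rw [hb, ← minus_conj_eq_map, mem_minus]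
    have h3 : (u * y * u⁻¹ * y) • u' • p = -(u' • p) := by
      rw [← mul_smul, hab _ (hvE u hu) _ hu'E, mul_smul, (h₁ p hp).1, smul_neg]
    rwa [mul_smul, (h₂ p hp).2] at h3
  have hσb : ∀ w ∈ b, σ • w ∈ b := fun w hw => by
    have h3 := hu'b _ (hσP _ (mem_map_units.mp hw))
    rwa [hu', mul_smul, mul_smul, inv_smul_smul, smul_inv_smul] at h3
  have hb2 : finrank (ZMod q) b = 2 := by rw [hb, finrank_map_units, hP]
  have hbnd : ∀ w ∈ b, (∀ w' ∈ b, B w w' = 1) → w = 0 := fun w hw h => by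
    have h0 : u⁻¹ • w = 0 := minus_nondeg hB hq2 hy hyi _ (mem_map_units.mp hw) fun p hp => by
      rw [← hEi u hu, smul_inv_smul]
      exact h _ ⟨p, hp, rfl⟩
    rw [← smul_inv_smul u w, h0, smul_zero]
  have hσσ : ∀ w ∈ b, σ • σ • w = w := fun w hw => by
    have h3 := (h₁ _ (mem_map_units.mp hw)).2
    rwa [smul_inv_smul, ← hσy, mul_smul] at h3
  obtain ⟨ε, hε, hσε⟩ : ∃ ε : ZMod q, ε * ε = 1 ∧ ∀ w ∈ b, σ • w = ε • w := by
    rcases plane_invol hB hq2 hb2 hbnd hσi hσb hσσ with h | h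
    · exact ⟨1, one_mul 1, fun w hw => by rw [one_smul, h w hw]⟩
    · exact ⟨-1, by ring, fun w hw => by rw [neg_one_smul, h w hw]⟩
  have hcontra : ∀ p ∈ minus y, p = 0 := by
    intro p hp
    set w := u * u' with hw
    have key : ∀ r ∈ minus y, w • σ • r = ε • r := fun r hr => by
      have h3 : u' • σ • r = ε • u • r := by
        rw [hu', mul_smul, mul_smul, inv_smul_smul]
        exact hσε _ ⟨r, hr, rfl⟩
      rw [hw, mul_smul, h3, smul_comm u, ← mul_smul, hexp u hu, one_smul]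
    have h4 := key (σ • p) (hσP p hp)
    rw [← mul_smul σ σ, hσy, mem_minus.mp hp, smul_neg] at h4
    have h5 : w • w • p = p := by rw [← mul_smul, hexp w (E.mul_mem hu hu'E), one_smul]
    rw [neg_eq_iff_eq_neg.mp h4, smul_neg, smul_comm w ε, key p hp, smul_smul, hε, one_smul] at h5
    exact eq_zero_of_eq_neg hq2 h5.symm
  rw [(Submodule.eq_bot_iff _).mpr hcontra, finrank_bot] at hP
  exact absurd hP (by norm_num)

end CfsgLib.HallHigman.Symp
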