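import Cfsg.Agent.Lib.HallHigman.Setup
import Cfsg.Agent.Lib.HallHigman.Minimal
import Cfsg.Agent.Lib.HallHigman.CharSpace
import Cfsg.Agent.Lib.HallHigman.FullyRamified

/-!
# Theorem B of Hall and Higman
-/

namespace CfsgLib.HallHigman

open Module (End)
open scoped commutatorElement

universe u v

/-- Either the degree of `s` is the full `p^(m+1)`, or the exceptional bound holds. -/
def DegreeBound (p q m : ℕ) {E : Type*} [Ring E] (s : E) (nonab : Prop) : Prop :=
  (∀ j < p ^ (m + 1), (s - 1) ^ j ≠ 0) ∨ ∃ n₀ d : ℕ, 1 ≤ n₀ ∧ n₀ ≤ m + 1 ∧ 1 ≤ d ∧ p ^ n₀ = q ^ d + 1 ∧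
    nonab ∧ ∀ j < p ^ (m + 1 - n₀) * (p ^ n₀ - 1), (s - 1) ^ j ≠ 0

variable {K : Type u} [Field K] [IsAlgClosed K] {p : ℕ} [hp : Fact p.Prime] [CharP K p]

omit [IsAlgClosed K] [CharP K p] hp in
/-- A linear map as an additive map. -/
def linToAdd {V : Type v} [AddCommGroup V] [Module K V] : End K V →+* AddMonoid.End V where
  toFun f := f.toAddMonoidHom
  map_one' := rfl
  map_mul' _ _ := rfl
  map_zero' := rfl
  map_add' _ _ := rfl

set_option maxHeartbeats 1600000 in
theorem degreeBound_units (m : ℕ) {q : ℕ} [Fact q.Prime] (hqp : q ≠ p) :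
    ∀ (V : Type v) [AddCommGroup V] [Module K V] [FiniteDimensional K V]
      (G : Subgroup (End K V)ˣ) [Finite G] (x : G), x ^ p ^ (m + 1) = 1 → ∀ Q : Subgroup G,
      IsPGroup q Q → x ∈ Subgroup.normalizer (Q : Set G) →
      x ^ p ^ m ∉ Subgroup.centralizer (Q : Set G) →
      DegreeBound p q m ((x : (End K V)ˣ) : End K V) (¬ ∀ a ∈ Q, ∀ b ∈ Q, a * b = b * a) := by
  induction m using Nat.strong_induction_on with
  | _ m ih =>
  intro V _ _ _ G _ x hx Q hQ hxQ hy
  set y := x ^ p ^ m with hydef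
  -- a minimal subgroup
  obtain ⟨Q₀, hQ₀Q, ⟨hxQ₀, hyQ₀⟩, hQmin⟩ := Finite.exists_le_minimal
    (p := fun R : Subgroup G => x ∈ Subgroup.normalizer (R : Set G) ∧
      y ∉ Subgroup.centralizer (R : Set G)) (a := Q) ⟨hxQ, hy⟩
  have hQ₀ : IsPGroup q Q₀ := hQ.to_le hQ₀Q
  let γ : G →* End K V := (Units.coeHom _).comp G.subtype
  have hγ : Function.Injective γ := Units.val_injective.comp G.subtype_injective
  have hγmul : ∀ a b v, γ (a * b) v = γ a (γ b v) := fun a b v => by rw [map_mul]; rfl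
  show DegreeBound p q m (γ x) _
  rcases subsingleton_or_nontrivial V with hV | hV
  · exact absurd (fun g _ => hγ (LinearMap.ext fun v => Subsingleton.elim _ _)) hy
  have hchar : (p : End K V) = 0 := LinearMap.ext fun v => by
    rw [Module.End.natCast_apply, ← Nat.cast_smul_eq_nsmul K, CharP.cast_eq_zero, zero_smul]; rfl
  by_cases hab : ∀ a ∈ Q₀, ∀ b ∈ Q₀, a * b = b * a
  · -- the abelian case
    refine Or.inl fun j hj h0 => ?_
    have hA : ∀ v : V, p • v = 0 := fun v => by
      rw [← Nat.cast_smul_eq_nsmul K, CharP.cast_eq_zero, zero_smul]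
    refine sum_pow_ne_zero_of_abelian hA ((linToAdd (K := K)).toMonoidHom.comp γ)
      (fun a b h => hγ (LinearMap.ext fun v => DFunLike.congr_fun h v)) x m hx hqp Q₀ hQ₀ hab hxQ₀ hyQ₀ ?_
    show ∑ i ∈ Finset.range (p ^ (m + 1)), (linToAdd (γ x)) ^ i = 0
    simp only [← map_pow (linToAdd (K := K) (V := V)), ← map_sum]
    rw [geom_sum_eq_sub_one_pow p (m + 1) hchar,
      pow_eq_zero_of_le (show j ≤ p ^ (m + 1) - 1 by omega) h0, map_zero]
  have hna : ¬ ∀ a ∈ Q, ∀ b ∈ Q, a * b = b * a := fun h =>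
    hab fun a ha b hb => h a (hQ₀Q ha) b (hQ₀Q hb)
  have hyord : y ^ p = 1 := by rw [hydef, ← pow_mul, ← pow_succ, hx]
  obtain ⟨hcl, hiff, hfix, hQY⟩ := minimal_structure hqp x y
    (Subgroup.pow_mem _ (Subgroup.mem_zpowers x) _) hyord Q₀ hQ₀ hxQ₀ hyQ₀
    (fun R hR hRx => by
      by_contra h
      exact hR.not_ge (hQmin ⟨hRx, h⟩ hR.le)) hab
  set Z := Q₀ ⊓ Subgroup.centralizer (Q₀ : Set G) with hZ
  push Not at hab
  obtain ⟨g₁, hg₁, g₂, hg₂, hg12⟩ := hab
  set c := ⁅g₁, g₂⁆ with hc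
  have hc1 : c ≠ 1 := fun h => hg12 (commutatorElement_eq_one_iff_mul_comm.mp h)
  have hcZ : c ∈ Z := hcl g₁ hg₁ g₂ hg₂
  -- `c - 1` is semisimple
  have hss : ∀ v, (γ c - 1) ((γ c - 1) v) = 0 → (γ c - 1) v = 0 := by
    intro v hv
    have h1 : ∀ n : ℕ, (γ c ^ n) v = v + n • (γ c - 1) v := by
      intro n
      induction n with
      | zero => simp
      | succ n ih =>
        rw [pow_succ', Module.End.mul_apply, ih, map_add, map_nsmul]
        have h2 : γ c ((γ c - 1) v) = (γ c - 1) v := by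
          rw [LinearMap.sub_apply (γ c) 1 ((γ c - 1) v), Module.End.one_apply, sub_eq_zero] at hv
          exact hv
        have h3 : γ c v = v + (γ c - 1) v := by simp
        rw [h2, h3, succ_nsmul]; abel
    obtain ⟨j, hj⟩ := hQ₀ ⟨c, hcZ.1⟩
    have h4 := h1 (q ^ j)
    rw [← map_pow, show c ^ q ^ j = 1 from congrArg Subtype.val hj, map_one, Module.End.one_apply,
      left_eq_add, ← Nat.cast_smul_eq_nsmul K, smul_eq_zero] at h4
    refine h4.resolve_left fun h5 => ?_
    rw [CharP.cast_eq_zero_iff K p] at h5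
    exact hqp ((Nat.prime_dvd_prime_iff_eq hp.out Fact.out).mp (hp.out.dvd_of_dvd_pow h5)).symm
  -- an irreducible piece on which `c` moves everything
  obtain ⟨U, hUmem, hUmin⟩ := exists_minimal_of_wellFoundedLT
    (fun W : Submodule K V => W ≠ ⊥ ∧ W ≤ LinearMap.range (γ c - 1) ∧ ∀ g ∈ Q₀, ∀ w ∈ W, γ g w ∈ W)
    ⟨_, fun h => hc1 (hγ (by rw [map_one]; exact sub_eq_zero.mp (LinearMap.range_eq_bot.mp h))), le_rfl,
      fun g hg w hw => by
        obtain ⟨v, rfl⟩ := hw
        refine ⟨γ g v, ?_⟩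
        simp only [LinearMap.sub_apply, Module.End.one_apply, map_sub, ← hγmul, hcZ.2 g hg]⟩
  obtain ⟨hU0, hUR, hUinv⟩ := hUmem
  have : Nontrivial U := Submodule.nontrivial_iff_ne_bot.mpr hU0
  let ρU : Q₀ →* End K U :=
    { toFun := fun g => (γ g).restrict (hUinv g g.2)
      map_one' := LinearMap.ext fun w => Subtype.ext (by show γ (1 : G) w = w; rw [map_one]; rfl)
      map_mul' := fun a b => LinearMap.ext fun w => Subtype.ext (hγmul a b w) }
  have hirr : IsIrred ρU := by
    intro W hW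
    by_cases h : W = ⊥
    · exact Or.inl h
    refine Or.inr ?_
    have hle : W.map U.subtype ≤ U := Submodule.map_subtype_le U W
    have h1 := hUmin (y := W.map U.subtype) ⟨?_, hle.trans hUR, ?_⟩ hle
    · refine Submodule.map_injective_of_injective U.injective_subtype ?_
      rw [Submodule.map_top, Submodule.range_subtype]
      exact le_antisymm hle h1
    · intro e
      exact h (Submodule.map_injective_of_injective U.injective_subtype (by rw [e, Submodule.map_bot]))
    · rintro g hg _ ⟨w, hw, rfl⟩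
      exact ⟨ρU ⟨g, hg⟩ w, hW ⟨g, hg⟩ w hw, rfl⟩
  obtain ⟨u₀, hu₀⟩ := exists_ne (0 : U)
  have hu₀' : (u₀ : V) ≠ 0 := fun h => hu₀ (Subtype.ext h)
  -- the central character
  have hscal : ∀ z ∈ Z, ∃ a : K, ∀ w ∈ U, γ z w = a • w := by
    intro z hz
    obtain ⟨a, ha⟩ := exists_eq_smul_one hirr (ρU ⟨z, hz.1⟩) fun g => by
      rw [← map_mul, ← map_mul]; exact congrArg ρU (Subtype.ext (hz.2 g g.2).symm)
    exact ⟨a, fun w hw => congrArg Subtype.val (LinearMap.congr_fun ha ⟨w, hw⟩)⟩
  choose! χ hχ using hscal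
  have hχc : χ c ≠ 1 := by
    intro h
    apply hu₀'
    obtain ⟨v, hv⟩ := hUR u₀.2
    rw [← hv]
    refine hss v ?_
    rw [hv, LinearMap.sub_apply, hχ c hcZ u₀ u₀.2, h, one_smul, Module.End.one_apply, sub_self]
  have hconjZ : ∀ g ∈ Subgroup.normalizer (Q₀ : Set G), ∀ z ∈ Z, g * z * g⁻¹ ∈ Z := by
    intro g hg z hz
    refine ⟨mem_normalizer_map_conj.mp hg z hz.1, fun b hb => ?_⟩
    have h1 := hz.2 _ (mem_normalizer_map_conj.mp (Subgroup.inv_mem _ hg) b hb)
    calc b * (g * z * g⁻¹) = g * (g⁻¹ * b * g⁻¹⁻¹ * z) * g⁻¹ := by group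
      _ = g * (z * (g⁻¹ * b * g⁻¹⁻¹)) * g⁻¹ := by rw [h1]
      _ = g * z * g⁻¹ * b := by group
  have hxn : ∀ i : ℕ, x ^ i ∈ Subgroup.normalizer (Q₀ : Set G) := fun i => Subgroup.pow_mem _ hxQ₀ i
  let F : ℕ → Prop := fun i => ∀ z ∈ Z, χ (x ^ i * z * (x ^ i)⁻¹) = χ z
  have hFm : F (p ^ m) := fun z hz => by
    rw [← hydef, (hiff z hz.1).mpr hz, mul_inv_cancel_right]
  have hFmul : ∀ i, F i → ∀ n, F (i * n) := by
    intro i hi n
    induction n with
    | zero => intro z _; simp
    | succ n ihn =>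
      intro z hz
      rw [Nat.mul_succ, pow_add, mul_inv_rev, show x ^ (i * n) * x ^ i * z * ((x ^ i)⁻¹ * (x ^ (i * n))⁻¹) =
        x ^ (i * n) * (x ^ i * z * (x ^ i)⁻¹) * (x ^ (i * n))⁻¹ by group,
        ihn _ (hconjZ _ (hxn i) z hz), hi z hz]
  classical
  have hkex : ∃ k, F (p ^ k) := ⟨m, hFm⟩
  set k := Nat.find hkex with hkdef
  have hFk : F (p ^ k) := Nat.find_spec hkex
  have hkm : k ≤ m := Nat.find_min' hkex hFm
  have hFmin : ∀ j, 0 < j → j < p ^ k → ¬ F j := by
    intro j hj0 hjk hFj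
    obtain ⟨e, u, -, hle, heq⟩ := exists_pow_eq_prime_pow hp.out hx hj0
      (hjk.trans_le (Nat.pow_le_pow_right hp.out.pos (by omega)))
    have hek : e < k := (Nat.pow_lt_pow_iff_right hp.out.one_lt).mp (lt_of_le_of_lt hle hjk)
    refine Nat.find_min hkex hek fun z hz => ?_
    have h1 := hFmul j hFj u z hz
    rwa [pow_mul, heq] at h1
  let W : Submodule K V :=
    { carrier := {w | ∀ z ∈ Z, γ z w = χ z • w}
      add_mem' := fun {a b} ha hb z hz => by rw [map_add, ha z hz, hb z hz, smul_add]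
      zero_mem' := fun z _ => by rw [map_zero, smul_zero]
      smul_mem' := fun a w hw z hz => by rw [map_smul, hw z hz, smul_comm] }
  have hUW : U ≤ W := fun w hw z hz => hχ z hz w hw
  have hWQ : ∀ g ∈ Q₀, ∀ w ∈ W, γ g w ∈ W := fun g hg w hw z hz => by
    rw [← hγmul, ← hz.2 g hg, hγmul, hw z hz, map_smul]
  set τ := x ^ p ^ k with hτ
  have hWτ : ∀ w ∈ W, γ τ w ∈ W := fun w hw z hz => by
    have hz' : τ⁻¹ * z * τ ∈ Z := by
      simpa using hconjZ τ⁻¹ (Subgroup.inv_mem _ (hxn _)) z hz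
    have h1 := hFk _ hz'
    rw [← hτ, show τ * (τ⁻¹ * z * τ) * τ⁻¹ = z by group] at h1
    rw [← hγmul, show z * τ = τ * (τ⁻¹ * z * τ) by group, hγmul, hw _ hz', map_smul, h1]
  -- translates of `W` are independent
  have hdeg : ∀ a, (∃ w ∈ W, ((γ τ - 1) ^ a) w ≠ 0) → ∀ l < p ^ k, (γ x - 1) ^ (p ^ k * a + l) ≠ 0 := by
    rintro a ⟨w, hw, hwne⟩ l hl h0
    apply hwne
    set w' := ((γ τ - 1) ^ a) w with hw'
    have hw'W : w' ∈ W := by
      rw [hw']
      clear hw' hwne h0 w'
      induction a with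
      | zero => simpa using hw
      | succ a iha =>
        rw [pow_succ', Module.End.mul_apply, LinearMap.sub_apply, Module.End.one_apply]
        exact sub_mem (hWτ _ iha) iha
    have hsplit : (γ x - 1) ^ (p ^ k) = γ τ - 1 := by
      have : CharP (End K V) p := (CharP.charP_iff_prime_eq_zero hp.out).mpr hchar
      rw [sub_pow_char_pow_of_commute p k (Commute.one_right (γ x)), one_pow, hτ, map_pow]
    rw [add_comm, pow_add, pow_mul, hsplit] at h0
    have h1 : ((γ x - 1) ^ l) w' = 0 := by rw [hw', ← Module.End.mul_apply, h0]; rfl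
    obtain ⟨f, hfW, hfl, -, hf⟩ := sub_one_pow_apply_eq_sum (γ x) W w' hw'W l
    rw [h1] at hf
    have h2 := eq_zero_of_sum_eigen_eq_zero (fun z : {z // z ∈ Z} => γ z)
      (fun i z => χ ((x ^ i)⁻¹ * z * x ^ i)) (fun i => (γ x ^ i) (f i)) ?_ (Finset.range (l + 1)) ?_
      hf.symm l (Finset.self_mem_range_succ l)
    · simp only [hfl, ← map_pow] at h2
      have h3 := congrArg (γ (x ^ l)⁻¹) h2
      rwa [← hγmul, inv_mul_cancel, map_one, Module.End.one_apply, map_zero] at h3
    · rintro i ⟨z, hz⟩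
      have hz' : (x ^ i)⁻¹ * z * x ^ i ∈ Z := by
        simpa using hconjZ (x ^ i)⁻¹ (Subgroup.inv_mem _ (hxn i)) z hz
      simp only [← map_pow]
      rw [← hγmul, show z * x ^ i = x ^ i * ((x ^ i)⁻¹ * z * x ^ i) by group, hγmul, hfW i _ hz',
        map_smul]
    · intro i hi j hj hij
      by_contra hcon
      push Not at hcon
      have key : ∀ i j, i < j → j < p ^ k →
          ¬ ∀ z ∈ Z, χ ((x ^ i)⁻¹ * z * x ^ i) = χ ((x ^ j)⁻¹ * z * x ^ j) := by
        intro i j hij hjk hall
        refine hFmin (j - i) (by omega) (by omega) fun z hz => ?_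
        have h3 := hall _ (hconjZ _ (hxn j) z hz)
        rw [show (x ^ j)⁻¹ * (x ^ j * z * (x ^ j)⁻¹) * x ^ j = z by group] at h3
        rw [pow_sub x hij.le, ← h3]
        congr 1
        rw [(Commute.pow_pow_self x j i).inv_right.eq]
        group
      rw [Finset.mem_range] at hi hj
      rcases lt_or_gt_of_ne hij with h | h
      · exact key i j h (by omega) fun z hz => hcon ⟨z, hz⟩
      · exact key j i h (by omega) fun z hz => (hcon ⟨z, hz⟩).symm
  rcases Nat.eq_zero_or_pos k with hk0 | hkpos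
  · -- `x` fixes the central character: the fully ramified case
    have hF1 : F 1 := by rw [← pow_zero p, ← hk0]; exact hFk
    have hτx : τ = x := by rw [hτ, hk0, pow_zero, pow_one]
    have hχne : ∀ g ∈ Q₀, ∀ h ∈ Q₀, (∀ w ∈ U, γ g (γ h w) = γ h (γ g w)) ↔ χ ⁅g, h⁆ = 1 := by
      intro g hg h hh
      have e : ∀ w ∈ U, γ g (γ h w) = χ ⁅g, h⁆ • γ h (γ g w) := fun w hw => by
        rw [← hχ _ (hcl g hg h hh) _ (hUinv h hh _ (hUinv g hg w hw)), ← hγmul, ← hγmul, ← hγmul]
        simp [commutatorElement_def, mul_assoc]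
      refine ⟨fun h1 => ?_, fun h1 w hw => by rw [e w hw, h1, one_smul]⟩
      by_contra hne
      have h2 := e _ u₀.2
      rw [h1 _ u₀.2] at h2
      have h3 : (χ ⁅g, h⁆ - 1) • γ h (γ g u₀) = 0 := by rw [sub_smul, ← h2, one_smul, sub_self]
      have h4 := (smul_eq_zero.mp h3).resolve_left (sub_ne_zero.mpr hne)
      apply hu₀'
      have h5 := congrArg (γ (h * g)⁻¹) h4
      rwa [← hγmul h g, ← hγmul, inv_mul_cancel, map_one, Module.End.one_apply, map_zero] at h5
    let R : Subgroup G :=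
      { carrier := {g | g ∈ Q₀ ∧ ∀ h ∈ Q₀, ∀ w ∈ U, γ g (γ h w) = γ h (γ g w)}
        one_mem' := ⟨Q₀.one_mem, fun h hh w hw => by rw [map_one]; rfl⟩
        mul_mem' := fun {a b} ha hb => ⟨Q₀.mul_mem ha.1 hb.1, fun h hh w hw => by
          rw [hγmul, hγmul, hb.2 h hh w hw, ha.2 h hh _ (hUinv b hb.1 w hw)]⟩
        inv_mem' := fun {a} ha => ⟨Q₀.inv_mem ha.1, fun h hh w hw => by
          have hu : γ a⁻¹ w ∈ U := hUinv _ (Q₀.inv_mem ha.1) w hw
          have h1 := congrArg (γ a⁻¹) (ha.2 h hh _ hu)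
          rw [← hγmul a⁻¹ a, inv_mul_cancel, map_one, Module.End.one_apply, ← hγmul a a⁻¹, mul_inv_cancel,
            map_one, Module.End.one_apply] at h1
          exact h1.symm⟩ }
    have hRZ : R ≤ Z := by
      have hRx : x ∈ Subgroup.normalizer (R : Set G) := mem_normalizer_map_conj.mpr fun g hg => by
        have hg' := mem_normalizer_map_conj.mp hxQ₀ g hg.1
        refine ⟨hg', fun h hh => (hχne _ hg' h hh).mpr ?_⟩
        have hh' := mem_normalizer_map_conj.mp (Subgroup.inv_mem _ hxQ₀) h hh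
        have h1 := hF1 _ (hcl g hg.1 _ hh')
        rw [pow_one, (hχne g hg.1 _ hh').mp (hg.2 _ hh')] at h1
        rw [← h1]
        congr 1
        rw [conjugate_commutatorElement]
        congr 1
        group
      have hlt : R < Q₀ := lt_of_le_of_ne (fun g hg => hg.1) fun h => hχc
        ((hχne g₁ hg₁ g₂ hg₂).mp ((h.ge hg₁).2 g₂ hg₂))
      intro g hg
      refine (hiff g hg.1).mp ?_
      by_contra hne
      exact hlt.not_ge (hQmin ⟨hRx, fun hc => hne ((hc g hg).symm)⟩ hlt.le)
    have hcen : ∀ g : Q₀, g ∈ Subgroup.center Q₀ ↔ (g : G) ∈ Z := fun g => by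
      rw [Subgroup.mem_center_iff]
      exact ⟨fun h => ⟨g.2, fun b hb => congrArg Subtype.val (h ⟨b, hb⟩)⟩,
        fun h b => Subtype.ext (h.2 b b.2)⟩
    have hcl' : ∀ g h : Q₀, ⁅g, h⁆ ∈ Subgroup.center Q₀ := fun g h =>
      (hcen _).mpr (hcl g g.2 h h.2)
    have hram : IsFullyRamified ρU := fun g hg => (hcen g).mpr (hRZ ⟨g.2, fun h hh w hw =>
      congrArg Subtype.val (LinearMap.congr_fun (hg ⟨h, hh⟩) ⟨w, hw⟩)⟩)
    let σ : MulAut Q₀ :=
      { toFun := fun g => ⟨x * g * x⁻¹, mem_normalizer_map_conj.mp hxQ₀ g g.2⟩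
        invFun := fun g => ⟨x⁻¹ * g * x⁻¹⁻¹, mem_normalizer_map_conj.mp (Subgroup.inv_mem _ hxQ₀) g g.2⟩
        left_inv := fun g => Subtype.ext (by simp [mul_assoc])
        right_inv := fun g => Subtype.ext (by simp [mul_assoc])
        map_mul' := fun a b => Subtype.ext (by simp [mul_assoc]) }
    have hσpow : ∀ (i : ℕ) (g : Q₀), (((σ ^ i) g : Q₀) : G) = x ^ i * g * (x ^ i)⁻¹ := by
      intro i
      induction i with
      | zero => simp
      | succ i ihi =>
        intro g
        rw [pow_succ, MulAut.mul_apply, ihi, pow_succ]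
        show x ^ i * (x * g * x⁻¹) * (x ^ i)⁻¹ = _
        group
    have hσP : σ ^ p ^ (m + 1) = 1 := MulEquiv.ext fun g => Subtype.ext (by rw [hσpow, hx]; simp)
    have hP2 : 2 ≤ p ^ (m + 1) := hp.out.two_le.trans (Nat.le_self_pow (by omega) p)
    have hσz : ∀ z ∈ Subgroup.center Q₀, ρU (σ z) = ρU z := fun z hz => by
      refine LinearMap.ext fun w => Subtype.ext ?_
      show γ (x * z * x⁻¹) w = γ z w
      rw [hχ _ (hconjZ x hxQ₀ z ((hcen z).mp hz)) w w.2, hχ _ ((hcen z).mp hz) w w.2]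
      have h1 := hF1 z ((hcen z).mp hz)
      rw [pow_one] at h1
      rw [h1]
    obtain ⟨T, hT, hTρ⟩ := exists_twist hirr hcl' hram σ (by omega) hσP hσz
    -- an embedding of `U` intertwining `T` and `x`
    let M : Submodule K (U →ₗ[K] V) :=
      { carrier := {f | (∀ w, f w ∈ W) ∧ ∀ (g : Q₀) w, γ g (f w) = f (ρU g w)}
        add_mem' := fun {a b} ha hb => ⟨fun w => add_mem (ha.1 w) (hb.1 w), fun g w => by
          simp [ha.2 g w, hb.2 g w]⟩
        zero_mem' := ⟨fun w => by simp, fun g w => by simp⟩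
        smul_mem' := fun a f hf => ⟨fun w => W.smul_mem a (hf.1 w), fun g w => by simp [hf.2 g w]⟩ }
    have hMne : U.subtype ∈ M ∧ U.subtype ≠ 0 := ⟨⟨fun w => hUW w.2, fun g w => rfl⟩,
      fun h => hu₀' (LinearMap.congr_fun h u₀)⟩
    set T' := T ^ (p ^ (m + 1) - 1) with hT'
    have hTT' : T * T' = 1 := by rw [hT', ← pow_succ', Nat.sub_add_cancel (by omega), hT]
    have hT'T : T' * T = 1 := by rw [hT', ← pow_succ, Nat.sub_add_cancel (by omega), hT]
    let L : (U →ₗ[K] V) →ₗ[K] (U →ₗ[K] V) :=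
      { toFun := fun f => γ x ∘ₗ f ∘ₗ T'
        map_add' := fun a b => by ext; simp
        map_smul' := fun a f => by ext; simp }
    have hLM : ∀ f ∈ M, L f ∈ M := by
      rintro f ⟨hfW, hfg⟩
      refine ⟨fun w => ?_, fun g w => ?_⟩
      · have := hWτ _ (hfW (T' w))
        rwa [hτx] at this
      · show γ g (γ x (f (T' w))) = γ x (f (T' (ρU g w)))
        have hg' : T' (ρU g w) = ρU (σ.symm g) (T' w) := by
          have h1 := LinearMap.congr_fun (hTρ (σ.symm g)) (T' w)
          rw [MulEquiv.apply_symm_apply] at h1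
          simp only [Module.End.mul_apply] at h1
          rw [← Module.End.mul_apply T T', hTT', Module.End.one_apply] at h1
          rw [← h1, ← Module.End.mul_apply T' T, hT'T, Module.End.one_apply]
        rw [hg', ← hfg, ← hγmul, ← hγmul]
        show γ (g * x) (f (T' w)) = γ (x * (x⁻¹ * g * x⁻¹⁻¹)) (f (T' w))
        simp [mul_assoc]
    have hLpow : ∀ (i : ℕ) f, (L ^ i) f = (γ x ^ i) ∘ₗ f ∘ₗ (T' ^ i) := by
      intro i
      induction i with
      | zero => intro f; ext; rfl
      | succ i ihi =>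
        intro f
        rw [pow_succ', Module.End.mul_apply, ihi]
        ext w
        simp only [L, LinearMap.coe_mk, AddHom.coe_mk, LinearMap.comp_apply]
        rw [pow_succ' (γ x), pow_succ T', Module.End.mul_apply, Module.End.mul_apply]
    have hLP : L ^ p ^ (m + 1) = 1 := LinearMap.ext fun f => by
      rw [hLpow, ← map_pow, hx, map_one, hT', ← pow_mul, mul_comm, pow_mul, hT, one_pow]; rfl
    obtain ⟨f, hfM, hf0, hfL⟩ : ∃ f ∈ M, f ≠ 0 ∧ L f = f := by
      by_contra hcon
      push Not at hcon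
      have hnil : (L - 1) ^ p ^ (m + 1) = 0 := by
        rcases subsingleton_or_nontrivial (End K (U →ₗ[K] V)) with h | h
        · exact Subsingleton.elim _ _
        have : CharP (End K (U →ₗ[K] V)) p := (CharP.charP_iff_prime_eq_zero hp.out).mpr
          (LinearMap.ext fun v => by
            rw [Module.End.natCast_apply, ← Nat.cast_smul_eq_nsmul K, CharP.cast_eq_zero, zero_smul]; rfl)
        rw [sub_pow_char_pow_of_commute p (m + 1) (Commute.one_right L), hLP, one_pow, sub_self]
      have hMinv : ∀ i, (((L - 1) ^ i : End K (U →ₗ[K] V))) U.subtype ∈ M := by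
        intro i
        induction i with
        | zero => exact hMne.1
        | succ i ihi =>
          rw [pow_succ', Module.End.mul_apply, LinearMap.sub_apply, Module.End.one_apply]
          exact sub_mem (hLM _ ihi) ihi
      have hne : ∀ i, (((L - 1) ^ i : End K (U →ₗ[K] V))) U.subtype ≠ 0 := by
        intro i
        induction i with
        | zero => exact hMne.2
        | succ i ihi =>
          rw [pow_succ', Module.End.mul_apply, LinearMap.sub_apply, Module.End.one_apply, sub_ne_zero]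
          exact hcon _ (hMinv i) ihi
      exact hne _ (by rw [hnil]; rfl)
    have hxf : ∀ w, γ x (f w) = f (T w) := fun w => by
      conv_rhs => rw [← hfL]
      show _ = γ x (f (T' (T w)))
      rw [← Module.End.mul_apply, hT'T, Module.End.one_apply]
    have hfinj : Function.Injective f := by
      rw [← LinearMap.ker_eq_bot]
      refine (hirr _ fun g w hw => ?_).resolve_right fun h => hf0 (LinearMap.ker_eq_top.mp h)
      rw [LinearMap.mem_ker] at hw ⊢
      rw [← hfM.2, hw, map_zero]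
    have htrans : ∀ j, (T - 1) ^ j ≠ 0 → (γ x - 1) ^ j ≠ 0 := by
      intro j hj h0
      apply hj
      refine LinearMap.ext fun w => hfinj ?_
      have h1 : ∀ (i : ℕ) (w : U), (((γ x - 1) ^ i : End K V)) (f w) = f ((((T - 1) ^ i : End K U)) w) := by
        intro i
        induction i with
        | zero => intro w; rfl
        | succ i ihi =>
          intro w
          rw [pow_succ, pow_succ, Module.End.mul_apply, Module.End.mul_apply, ← ihi]
          simp [hxf]
      rw [← h1, h0]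
      simp
    by_cases hnil : (T - 1) ^ (p ^ (m + 1) - 1) = 0
    · have hcharU : (p : End K U) = 0 := LinearMap.ext fun v => by
        rw [Module.End.natCast_apply, ← Nat.cast_smul_eq_nsmul K, CharP.cast_eq_zero, zero_smul]; rfl
      have hQ' : ∃ g, g ∉ Subgroup.center Q₀ :=
        ⟨⟨g₁, hg₁⟩, fun h => hg12 (((hcen _).mp h).2 g₂ hg₂).symm⟩
      have hσfix : ∀ i g, 0 < i → i < p ^ (m + 1) → g⁻¹ * (σ ^ i) g ∈ Subgroup.center Q₀ →
          g ∈ Subgroup.center Q₀ := by
        intro i g hi0 hiP hg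
        rw [hcen] at hg ⊢
        rw [Subgroup.coe_mul, Subgroup.coe_inv, hσpow] at hg
        obtain ⟨e, u, he, -, heq⟩ := exists_pow_eq_prime_pow hp.out hx hi0 hiP
        have hpow : ∀ n, (g : G)⁻¹ * ((x ^ i) ^ n * g * ((x ^ i) ^ n)⁻¹) ∈ Z := by
          intro n
          induction n with
          | zero => simp
          | succ n ihn =>
            have h1 := hconjZ _ (Subgroup.pow_mem _ (hxn i) n) _ hg
            have h2 := Z.mul_mem ihn h1
            convert h2 using 1
            rw [pow_succ]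
            group
        have h3 := hpow (u * p ^ (m - e))
        rw [pow_mul, heq, ← pow_mul, ← pow_add, show e + (m - e) = m by omega, ← hydef] at h3
        exact hfix g g.2 h3
      obtain ⟨hdim, hlow⟩ := fully_ramified_single_block hirr hcl' hram σ hP2 hσP hσfix T hT hTρ hQ'
        (by rw [geom_sum_eq_sub_one_pow p (m + 1) hcharU, hnil]) hnil
      · obtain ⟨e, he⟩ := (hQ₀.to_quotient (Subgroup.center Q₀)).exists_card_eq
        have hsq := finrank_sq hirr hcl' hram
        rw [he] at hsq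
        obtain ⟨d, -, hd⟩ := (Nat.dvd_prime_pow (Fact.out : q.Prime)).mp
          (hsq ▸ dvd_pow_self (Module.finrank K U) two_ne_zero)
        have hd1 : 1 ≤ d := by
          by_contra hlt
          have hd0 : d = 0 := by omega
          rw [hd0, pow_zero] at hd
          rw [hd] at hsq
          obtain ⟨g, hg⟩ := hQ'
          have : Subsingleton (Q₀ ⧸ Subgroup.center Q₀) :=
            (Nat.card_eq_one_iff_unique.mp (he.trans (by rw [← hsq, one_pow]))).1
          exact hg ((QuotientGroup.eq_one_iff g).mp (Subsingleton.elim _ _))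
        refine Or.inr ⟨m + 1, d, by omega, le_rfl, hd1, by rw [← hd, hdim], hna, fun j hj => ?_⟩
        rw [Nat.sub_self, pow_zero, one_mul] at hj
        exact htrans j (hlow j hj)
    · refine Or.inl fun j hj => htrans j fun h => hnil ?_
      exact pow_eq_zero_of_le (by omega) h
  · -- the stabilizer of the central character is smaller
    let N : Subgroup G :=
      { carrier := {g | ∀ w ∈ W, γ g w ∈ W}
        one_mem' := fun w hw => by rw [map_one]; exact hw
        mul_mem' := fun {a b} ha hb w hw => by rw [hγmul]; exact ha _ (hb w hw)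
        inv_mem' := fun {a} ha => by
          obtain ⟨n, hn⟩ := mem_powers_iff_mem_zpowers.mpr (Subgroup.inv_mem _ (Subgroup.mem_zpowers a))
          intro w hw
          rw [← hn]
          clear hn
          induction n with
          | zero => simpa using hw
          | succ n ihn => simp only [pow_succ', hγmul]; exact ha _ ihn }
    let π : N →* End K W :=
      { toFun := fun g => (γ g).restrict g.2
        map_one' := LinearMap.ext fun w => Subtype.ext (by show γ (1 : G) w = w; rw [map_one]; rfl)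
        map_mul' := fun a b => LinearMap.ext fun w => Subtype.ext (hγmul a b w) }
    let φ : N →* (End K W)ˣ := π.toHomUnits
    have hφ : ∀ (g : N) (w : W), ((((φ g) : (End K W)ˣ) : End K W) w : V) = γ g w := fun g w => rfl
    have hQN : Q₀ ≤ N := fun g hg => hWQ g hg
    have hτN : τ ∈ N := hWτ
    let Q' : Subgroup φ.range := (Q₀.subgroupOf N).map φ.rangeRestrict
    have : Finite φ.range := Finite.of_surjective _ φ.rangeRestrict_surjective
    have hm : p ^ k * p ^ (m - k) = p ^ m := by rw [← pow_add, Nat.add_sub_cancel' hkm]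
    have hres := ih (m - k) (by omega) W φ.range (φ.rangeRestrict ⟨τ, hτN⟩) ?_ Q' ?_ ?_ ?_
    rotate_left
    · rw [← map_pow, ← map_one φ.rangeRestrict]
      congr 1
      apply Subtype.ext
      rw [Subgroup.coe_pow, Subgroup.coe_one]
      show τ ^ _ = 1
      rw [hτ, ← pow_mul, pow_succ p (m - k), ← mul_assoc, hm, ← pow_succ, hx]
    · exact (hQ₀.of_equiv (Subgroup.subgroupOfEquivOfLe hQN).symm).map _
    · refine mem_normalizer_map_conj.mpr ?_
      rintro _ ⟨⟨g, hgN⟩, hg, rfl⟩
      refine ⟨⟨τ, hτN⟩ * ⟨g, hgN⟩ * ⟨τ, hτN⟩⁻¹, ?_, by rw [map_mul, map_mul, map_inv]⟩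
      exact Subgroup.mem_subgroupOf.mpr (mem_normalizer_map_conj.mp (hxn _) g (Subgroup.mem_subgroupOf.mp hg))
    · intro hcen
      apply hχc
      let Kw : Subgroup G :=
        { carrier := {g | ∀ w ∈ W, γ g w = w}
          one_mem' := fun w hw => by rw [map_one]; rfl
          mul_mem' := fun {a b} ha hb w hw => by rw [hγmul, hb w hw, ha w hw]
          inv_mem' := fun {a} ha w hw => by
            conv_lhs => rw [← ha w hw, ← hγmul, inv_mul_cancel, map_one, Module.End.one_apply] }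
      have hyN : y ∈ N := by
        have := N.pow_mem hτN (p ^ (m - k))
        rwa [hτ, ← pow_mul, hm] at this
      have hcomm : ∀ g ∈ Q₀, ∀ w ∈ W, γ g (γ y w) = γ y (γ g w) := by
        intro g hg w hw
        have h1 := hcen (φ.rangeRestrict ⟨g, hQN hg⟩) ⟨⟨g, hQN hg⟩, Subgroup.mem_subgroupOf.mpr hg, rfl⟩
        rw [← map_pow, ← map_mul, ← map_mul] at h1
        have h2 := congrArg (fun e : φ.range => (((e : (End K W)ˣ) : End K W) ⟨w, hw⟩ : V)) h1
        simp only [MonoidHom.coe_rangeRestrict, hφ, Subgroup.coe_mul, Subgroup.coe_pow] at h2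
        rw [hτ, ← pow_mul, hm, ← hydef, hγmul, hγmul] at h2
        exact h2
      have hKw : ⁅Q₀, Subgroup.zpowers y⁆ ≤ Kw := by
        refine Subgroup.commutator_le.mpr fun g hg b hb => ?_
        obtain ⟨n, rfl⟩ : b ∈ Submonoid.powers y := mem_powers_iff_mem_zpowers.mpr hb
        intro w hw
        have hc2 : ∀ n : ℕ, ∀ w ∈ W, γ g (γ (y ^ n) w) = γ (y ^ n) (γ g w) := by
          intro n
          induction n with
          | zero => intro w hw; rw [pow_zero, map_one]; rfl
          | succ n ihn =>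
            intro w hw
            rw [pow_succ', hγmul, hγmul, hcomm g hg _ (N.pow_mem hyN n w hw), ihn w hw]
        set w₁ := γ g⁻¹ (γ (y ^ n)⁻¹ w) with hw1
        have hw1W : w₁ ∈ W := N.inv_mem (hQN hg) _ (N.inv_mem (N.pow_mem hyN n) w hw)
        show γ ⁅g, y ^ n⁆ w = w
        rw [commutatorElement_def, hγmul, hγmul, hγmul, ← hw1, hc2 n w₁ hw1W, hw1, ← hγmul g,
          mul_inv_cancel, map_one, Module.End.one_apply, ← hγmul, mul_inv_cancel, map_one,
          Module.End.one_apply]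
      rw [hQY] at hKw
      have h1 : c ∈ Kw := hKw hcZ.1
      have h2 := h1 _ (hUW u₀.2)
      rw [hχ c hcZ _ u₀.2] at h2
      have h3 : (χ c - 1) • (u₀ : V) = 0 := by rw [sub_smul, h2, one_smul, sub_self]
      exact sub_eq_zero.mp ((smul_eq_zero.mp h3).resolve_right hu₀')
    have hπW : ∀ (a : ℕ) (w : W), ((((((φ.rangeRestrict ⟨τ, hτN⟩ : φ.range) : (End K W)ˣ) : End K W) - 1) ^ a) w : V) =
        ((γ τ - 1) ^ a) w := by
      intro a
      induction a with
      | zero => intro w; rfl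
      | succ a iha =>
        intro w
        rw [pow_succ, pow_succ, Module.End.mul_apply, Module.End.mul_apply, iha]
        rfl
    have hlift : ∀ r, (∀ i < r, ((((φ.rangeRestrict ⟨τ, hτN⟩ : φ.range) : (End K W)ˣ) : End K W) - 1) ^ i ≠ 0) →
        ∀ j < p ^ k * r, (γ x - 1) ^ j ≠ 0 := by
      intro r hr j hj
      have hpos : 0 < p ^ k := pow_pos hp.out.pos k
      rw [← Nat.div_add_mod j (p ^ k)]
      refine hdeg _ ?_ _ (Nat.mod_lt _ hpos)
      by_contra hcon
      push Not at hcon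
      refine hr (j / p ^ k) (Nat.div_lt_of_lt_mul hj) (LinearMap.ext fun w => Subtype.ext ?_)
      rw [hπW, hcon w w.2]
      rfl
    rcases hres with h | ⟨n₀, d, hn1, hn2, hd, heq, -, h⟩
    · refine Or.inl fun j hj => hlift _ h j ?_
      rwa [← pow_add, show k + (m - k + 1) = m + 1 by omega]
    · refine Or.inr ⟨n₀, d, hn1, by omega, hd, heq, hna, fun j hj => hlift _ h j ?_⟩
      rwa [← mul_assoc, ← pow_add, show k + (m - k + 1 - n₀) = m + 1 - n₀ by omega]

/-- Theorem B of Hall and Higman, for a `q`-subgroup not centralized by the element of order `p`. -/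
theorem degree_bound {V : Type v} [AddCommGroup V] [Module K V] [FiniteDimensional K V] {X : Type*}
    [Group X] [Finite X] (ρ : X →* End K V) (x : X) (m : ℕ) (hx : x ^ p ^ (m + 1) = 1) {q : ℕ}
    [Fact q.Prime] (hqp : q ≠ p) (Q : Subgroup X) (hQ : IsPGroup q Q)
    (hxQ : x ∈ Subgroup.normalizer (Q : Set X))
    (hy : ∃ g ∈ Q, ρ g * ρ (x ^ p ^ m) ≠ ρ (x ^ p ^ m) * ρ g) :
    DegreeBound p q m (ρ x) (¬ ∀ a ∈ Q, ∀ b ∈ Q, a * b = b * a) := by
  let φ := ρ.toHomUnits
  have : Finite φ.range := Finite.of_surjective _ φ.rangeRestrict_surjective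
  have h := degreeBound_units (K := K) (p := p) m hqp V φ.range (φ.rangeRestrict x)
    (by rw [← map_pow, hx, map_one]) (Q.map φ.rangeRestrict) (hQ.map _)
    (Subgroup.le_normalizer_map _ ⟨x, hxQ, rfl⟩) (by
      intro hc
      obtain ⟨g, hg, hne⟩ := hy
      apply hne
      have h1 := hc _ ⟨g, hg, rfl⟩
      rw [← map_pow, ← map_mul, ← map_mul] at h1
      have h2 := congrArg (fun e : φ.range => ((e : (End K V)ˣ) : End K V)) h1
      rw [← map_mul, ← map_mul]
      exact h2)
  rcases h with h | ⟨n₀, d, h1, h2, h3, h4, h5, h6⟩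
  · exact Or.inl h
  · refine Or.inr ⟨n₀, d, h1, h2, h3, h4, fun hab => h5 ?_, h6⟩
    rintro _ ⟨a, ha, rfl⟩ _ ⟨b, hb, rfl⟩
    rw [← map_mul, hab a ha b hb, map_mul]

end CfsgLib.HallHigman
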