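import Mathlib

/-!
# Irreducible representations of class two, fully ramified over the centre

The operators of a transversal of the centre form a basis of the endomorphism algebra.
-/

namespace CfsgLib.HallHigman

open Module (End)
open scoped commutatorElement

variable {K U Q : Type*} [Field K] [AddCommGroup U] [Module K U] [Group Q]

/-- Invariant subspaces are trivial. -/
def IsIrred (ρ : Q →* End K U) : Prop :=
  ∀ W : Submodule K U, (∀ g, ∀ w ∈ W, ρ g w ∈ W) → W = ⊥ ∨ W = ⊤

/-- The centralizer in `Q` of the image is the centre. -/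
def IsFullyRamified (ρ : Q →* End K U) : Prop :=
  ∀ g, (∀ h, ρ g * ρ h = ρ h * ρ g) → g ∈ Subgroup.center Q

theorem map_mul_map_inv (ρ : Q →* End K U) (g : Q) : ρ g * ρ g⁻¹ = 1 := by
  rw [← map_mul, mul_inv_cancel, map_one]

theorem map_inv_mul_map (ρ : Q →* End K U) (g : Q) : ρ g⁻¹ * ρ g = 1 := by
  rw [← map_mul, inv_mul_cancel, map_one]

theorem map_ne_zero' [Nontrivial U] (ρ : Q →* End K U) (g : Q) : ρ g ≠ 0 := fun h => by
  have h1 := map_mul_map_inv ρ g
  rw [h, zero_mul] at h1
  exact zero_ne_one h1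

theorem exists_dual_eq_one {x : U} (hx : x ≠ 0) : ∃ ψ : U →ₗ[K] K, ψ x = 1 := by
  obtain ⟨φ, hφ⟩ : ∃ φ : U →ₗ[K] K, φ x ≠ 0 := by
    by_contra h
    push Not at h
    exact hx ((Module.forall_dual_apply_eq_zero_iff K x).mp h)
  exact ⟨(φ x)⁻¹ • φ, by simp [hφ]⟩

variable [IsAlgClosed K] [FiniteDimensional K U] [Nontrivial U]

/-- Schur's lemma. -/
theorem exists_eq_smul_one {ρ : Q →* End K U} (hirr : IsIrred ρ) (f : End K U)
    (hf : ∀ g, f * ρ g = ρ g * f) : ∃ c : K, f = c • 1 := by
  obtain ⟨c, hc⟩ := Module.End.exists_eigenvalue f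
  refine ⟨c, ?_⟩
  have htop : f.eigenspace c = ⊤ := by
    refine (hirr _ fun g w hw => ?_).resolve_left hc
    rw [Module.End.mem_eigenspace_iff] at hw ⊢
    have := LinearMap.congr_fun (hf g) w
    simp only [Module.End.mul_apply] at this
    rw [this, hw, map_smul]
  refine LinearMap.ext fun w => ?_
  have hw : w ∈ f.eigenspace c := htop ▸ Submodule.mem_top
  simpa [Module.End.mem_eigenspace_iff] using hw

theorem exists_scalar_of_mem_center {ρ : Q →* End K U} (hirr : IsIrred ρ) {z : Q}
    (hz : z ∈ Subgroup.center Q) : ∃ c : K, c ≠ 0 ∧ ρ z = c • 1 := by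
  obtain ⟨c, hc⟩ := exists_eq_smul_one hirr (ρ z) fun g => by
    rw [← map_mul, ← map_mul, Subgroup.mem_center_iff.mp hz g]
  exact ⟨c, fun h => map_ne_zero' ρ z (by rw [hc, h, zero_smul]), hc⟩

/-- Burnside's theorem: the image of an irreducible representation spans the endomorphisms. -/
theorem span_range_eq_top {ρ : Q →* End K U} (hirr : IsIrred ρ) :
    Submodule.span K (Set.range ρ) = ⊤ := by
  let A : Subalgebra K (End K U) :=
    Submodule.toSubalgebra (Submodule.span K (Set.range ρ)) (Submodule.subset_span ⟨1, map_one ρ⟩)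
      (fun a b ha hb => by
        have h1 := Submodule.mul_mem_mul ha hb
        rw [Submodule.span_mul_span] at h1
        exact Submodule.span_mono (by
          rintro _ ⟨_, ⟨g, rfl⟩, _, ⟨h, rfl⟩, rfl⟩
          exact ⟨g * h, map_mul ρ g h⟩) h1)
  have hA : ∀ g, ρ g ∈ A := fun g => Submodule.subset_span ⟨g, rfl⟩
  have : IsSimpleModule A U := by
    rw [isSimpleModule_iff]
    refine { eq_bot_or_eq_top := fun W => ?_ }
    rcases hirr (W.restrictScalars K) (fun g w hw => W.smul_mem ⟨ρ g, hA g⟩ hw) with h | h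
    · exact Or.inl ((Submodule.restrictScalars_eq_bot_iff K A U).mp h)
    · exact Or.inr ((Submodule.restrictScalars_eq_top_iff K A U).mp h)
  refine eq_top_iff.mpr fun f _ => ?_
  let f' : End (End A U) U :=
    { toFun := f
      map_add' := map_add f
      map_smul' := fun φ u => by
        obtain ⟨c, hc⟩ := exists_eq_smul_one hirr (φ.restrictScalars K) fun g =>
          LinearMap.ext fun w => φ.map_smul ⟨ρ g, hA g⟩ w
        have h1 : ∀ w, φ w = c • w := fun w => LinearMap.congr_fun hc w
        simp [Module.End.smul_def, h1] }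
  let b := Module.finBasis K U
  classical
  obtain ⟨r, hr⟩ := jacobson_density f' (Finset.univ.image b)
  have : f = (r : End K U) := b.ext fun i => hr (b i) (Finset.mem_image_of_mem b (Finset.mem_univ i))
  rw [this]
  exact r.2

/-- The operator attached to a coset of the centre. -/
noncomputable def cosetOp (ρ : Q →* End K U) (a : Q ⧸ Subgroup.center Q) : End K U := ρ a.out

theorem exists_smul_cosetOp {ρ : Q →* End K U} (hirr : IsIrred ρ) (g : Q) :
    ∃ c : K, c ≠ 0 ∧ ρ g = c • cosetOp ρ (g : Q ⧸ Subgroup.center Q) := by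
  set a : Q := (g : Q ⧸ Subgroup.center Q).out with ha
  have hz : a⁻¹ * g ∈ Subgroup.center Q := by
    rw [← QuotientGroup.eq, ha, QuotientGroup.out_eq']
  obtain ⟨c, hc0, hc⟩ := exists_scalar_of_mem_center hirr hz
  refine ⟨c, hc0, ?_⟩
  show ρ g = c • ρ a
  rw [show ρ g = ρ a * ρ (a⁻¹ * g) by rw [← map_mul, mul_inv_cancel_left], hc, mul_smul_comm, mul_one]

theorem span_cosetOp_eq_top {ρ : Q →* End K U} (hirr : IsIrred ρ) :
    Submodule.span K (Set.range (cosetOp ρ)) = ⊤ := by
  rw [← top_le_iff, ← span_range_eq_top hirr, Submodule.span_le]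
  rintro _ ⟨g, rfl⟩
  obtain ⟨c, -, hc⟩ := exists_smul_cosetOp hirr g
  rw [hc]
  exact Submodule.smul_mem _ c (Submodule.subset_span ⟨_, rfl⟩)

theorem linearIndependent_cosetOp {ρ : Q →* End K U} (hirr : IsIrred ρ)
    (hcl : ∀ g h : Q, ⁅g, h⁆ ∈ Subgroup.center Q) (hram : IsFullyRamified ρ) :
    LinearIndependent K (cosetOp ρ) := by
  classical
  have hlam : ∀ (h : Q) (a : Q ⧸ Subgroup.center Q), ∃ l : K,
      ρ h * cosetOp ρ a = l • (cosetOp ρ a * ρ h) := fun h a => by
    obtain ⟨l, -, hl⟩ := exists_scalar_of_mem_center hirr (hcl h a.out)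
    refine ⟨l, ?_⟩
    show ρ h * ρ a.out = l • (ρ a.out * ρ h)
    rw [← map_mul, ← map_mul, show h * a.out = ⁅h, a.out⁆ * (a.out * h) by
      simp [commutatorElement_def, mul_assoc], map_mul, hl, smul_mul_assoc, one_mul]
  choose lam hlam using hlam
  have hsep : ∀ a b, a ≠ b → ∃ h, lam h a ≠ lam h b := by
    intro a b hab
    by_contra hcon
    push Not at hcon
    apply hab
    have h1 : a.out⁻¹ * b.out ∈ Subgroup.center Q := by
      refine hram _ fun h => ?_
      have e1 := hlam h a
      have e2 := hlam h b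
      rw [← hcon h] at e2
      -- both sides become equal after multiplying by `ρ a`
      have hl0 : lam h a ≠ 0 := fun e => by
        rw [e, zero_smul] at e1
        exact map_ne_zero' ρ (h * a.out) (by rw [map_mul]; exact e1)
      have e1' : ρ h * ρ a.out = lam h a • (ρ a.out * ρ h) := e1
      have e2' : ρ h * ρ b.out = lam h a • (ρ b.out * ρ h) := e2
      have hb : ρ a.out * ρ (a.out⁻¹ * b.out) = ρ b.out := by rw [← map_mul, mul_inv_cancel_left]
      have key : ρ a.out * (ρ h * ρ (a.out⁻¹ * b.out)) = ρ a.out * (ρ (a.out⁻¹ * b.out) * ρ h) := by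
        apply smul_right_injective _ hl0
        show lam h a • _ = lam h a • _
        rw [← mul_assoc, ← mul_assoc, hb, ← smul_mul_assoc, ← e1', mul_assoc, hb]
        exact e2'
      have := congrArg (ρ a.out⁻¹ * ·) key
      simpa [← mul_assoc, map_inv_mul_map] using this.symm
    rw [← QuotientGroup.out_eq' a, ← QuotientGroup.out_eq' b]
    exact QuotientGroup.eq.mpr h1
  rw [linearIndependent_iff']
  intro s
  induction s using Finset.induction with
  | empty => simp
  | @insert b s hb ih =>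
    intro c hc
    have hs : ∀ a ∈ s, c a = 0 := by
      intro a ha
      have hab : a ≠ b := fun e => hb (e ▸ ha)
      obtain ⟨h, hh⟩ := hsep a b hab
      have h1 : ∑ i ∈ insert b s, (c i * (lam h i - lam h b)) • (cosetOp ρ i * ρ h) = 0 := by
        calc _ = ρ h * (∑ i ∈ insert b s, c i • cosetOp ρ i)
              - lam h b • ((∑ i ∈ insert b s, c i • cosetOp ρ i) * ρ h) := by
              rw [Finset.mul_sum, Finset.sum_mul, Finset.smul_sum, ← Finset.sum_sub_distrib]
              refine Finset.sum_congr rfl fun i _ => ?_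
              rw [mul_smul_comm, hlam, smul_mul_assoc, smul_smul, smul_smul, ← sub_smul]
              congr 1; ring
          _ = 0 := by rw [hc]; simp
      rw [Finset.sum_insert hb, sub_self, mul_zero, zero_smul, zero_add] at h1
      have h2 : ∑ i ∈ s, (c i * (lam h i - lam h b)) • cosetOp ρ i = 0 := by
        have := congrArg (· * ρ h⁻¹) h1
        simpa [Finset.sum_mul, smul_mul_assoc, mul_assoc, map_mul_map_inv] using this
      exact (mul_eq_zero.mp (ih _ h2 a ha)).resolve_right (sub_ne_zero.mpr hh)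
    intro a ha
    rcases Finset.mem_insert.mp ha with rfl | ha
    · rw [Finset.sum_insert hb, Finset.sum_eq_zero (fun i hi => by rw [hs i hi, zero_smul]), add_zero,
        smul_eq_zero] at hc
      exact hc.resolve_right (map_ne_zero' ρ _)
    · exact hs a ha

/-- The degree squared is the index of the centre. -/
theorem finrank_sq {ρ : Q →* End K U} (hirr : IsIrred ρ) [Finite Q]
    (hcl : ∀ g h : Q, ⁅g, h⁆ ∈ Subgroup.center Q) (hram : IsFullyRamified ρ) :
    Module.finrank K U ^ 2 = Nat.card (Q ⧸ Subgroup.center Q) := by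
  have := Fintype.ofFinite (Q ⧸ Subgroup.center Q)
  have b := Module.Basis.mk (linearIndependent_cosetOp hirr hcl hram) (span_cosetOp_eq_top hirr).ge
  rw [Nat.card_eq_fintype_card, ← Module.finrank_eq_card_basis b, Module.finrank_linearMap, pow_two]

/-- A nonzero intertwiner out of a fully ramified representation into one with the same central character. -/
theorem exists_intertwiner {ρ : Q →* End K U} (hirr : IsIrred ρ) [Finite Q]
    (hcl : ∀ g h : Q, ⁅g, h⁆ ∈ Subgroup.center Q) (hram : IsFullyRamified ρ)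
    {W : Type*} [AddCommGroup W] [Module K W] [Nontrivial W] (π : Q →* End K W)
    (hchar : ∀ z ∈ Subgroup.center Q, ∀ c : K, ρ z = c • 1 → π z = c • 1) :
    ∃ f : U →ₗ[K] W, f ≠ 0 ∧ ∀ g, π g ∘ₗ f = f ∘ₗ ρ g := by
  have := Fintype.ofFinite (Q ⧸ Subgroup.center Q)
  let avg : (U →ₗ[K] W) → (U →ₗ[K] W) :=
    fun f => ∑ a : Q ⧸ Subgroup.center Q, π a.out ∘ₗ f ∘ₗ ρ a.out⁻¹
  -- the summand only depends on the coset
  have hwd : ∀ (f : U →ₗ[K] W) (g : Q),
      π (g : Q ⧸ Subgroup.center Q).out ∘ₗ f ∘ₗ ρ (g : Q ⧸ Subgroup.center Q).out⁻¹ = π g ∘ₗ f ∘ₗ ρ g⁻¹ := by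
    intro f g
    set a := (g : Q ⧸ Subgroup.center Q).out
    have hz : a⁻¹ * g ∈ Subgroup.center Q := by rw [← QuotientGroup.eq, QuotientGroup.out_eq']
    obtain ⟨c, hc0, hc⟩ := exists_scalar_of_mem_center hirr hz
    have hg : π g = c • π a := by
      rw [show π g = π a * π (a⁻¹ * g) by rw [← map_mul, mul_inv_cancel_left], hchar _ hz c hc,
        mul_smul_comm, mul_one]
    have hg' : ρ a⁻¹ = c • ρ g⁻¹ := by
      rw [show a⁻¹ = (a⁻¹ * g) * g⁻¹ by simp, map_mul, hc, smul_mul_assoc, one_mul]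
    rw [hg, hg', LinearMap.comp_smul, LinearMap.comp_smul, LinearMap.smul_comp]
  have hint : ∀ (f : U →ₗ[K] W) (g : Q), π g ∘ₗ avg f = avg f ∘ₗ ρ g := by
    intro f g
    refine LinearMap.ext fun u => ?_
    simp only [avg, LinearMap.comp_apply, LinearMap.sum_apply, map_sum]
    refine Fintype.sum_equiv (Equiv.mulLeft (g : Q ⧸ Subgroup.center Q)) _ _ fun a => ?_
    have h1 := LinearMap.congr_fun (hwd f (g * a.out)) (ρ g u)
    rw [QuotientGroup.mk_mul, QuotientGroup.out_eq'] at h1
    simp only [LinearMap.comp_apply] at h1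
    rw [Equiv.coe_mulLeft, h1, map_mul π, Module.End.mul_apply, ← Module.End.mul_apply (ρ _) (ρ g), ← map_mul,
      show (g * a.out)⁻¹ * g = a.out⁻¹ by group]
  by_contra hcon
  push Not at hcon
  obtain ⟨w, hw⟩ := exists_ne (0 : W)
  obtain ⟨ψ, hψ⟩ : ∃ ψ : W →ₗ[K] K, ψ (π (1 : Q ⧸ Subgroup.center Q).out w) = 1 :=
    exists_dual_eq_one (fun e => hw (by
      have := congrArg (π ((1 : Q ⧸ Subgroup.center Q).out)⁻¹) e
      rwa [← Module.End.mul_apply, map_inv_mul_map, map_zero] at this))
  have hzero : ∑ a : Q ⧸ Subgroup.center Q, ψ (π a.out w) • ρ a.out⁻¹ = 0 := by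
    refine LinearMap.ext fun u => (Module.forall_dual_apply_eq_zero_iff K _).mp fun φ => ?_
    have h0 : avg (φ.smulRight w) = 0 := by
      by_contra hne
      obtain ⟨g, hg⟩ := hcon _ hne
      exact hg (hint _ g)
    have h1 := congrArg ψ (LinearMap.congr_fun h0 u)
    simpa [avg, LinearMap.sum_apply, mul_comm] using h1
  -- rewrite in the basis
  have key : ∀ a : Q ⧸ Subgroup.center Q, ∃ c : K, c ≠ 0 ∧ ρ a.out⁻¹ = c • cosetOp ρ a⁻¹ := fun a => by
    obtain ⟨c, hc0, hc⟩ := exists_smul_cosetOp hirr a.out⁻¹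
    refine ⟨c, hc0, ?_⟩
    rwa [QuotientGroup.mk_inv, QuotientGroup.out_eq'] at hc
  choose c hc0 hc using key
  have hli := (linearIndependent_cosetOp hirr hcl hram).comp (fun a => a⁻¹) inv_injective
  have h2 := Fintype.linearIndependent_iff.mp hli (fun a => ψ (π a.out w) * c a) (by
    rw [← hzero]; exact Finset.sum_congr rfl fun a _ => by rw [hc, smul_smul]; rfl) 1
  rw [hψ, one_mul] at h2
  exact hc0 1 h2

end CfsgLib.HallHigman
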