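import Cfsg.Agent.Lib.HallHigman.TwoLengthStruct
import Cfsg.Agent.Lib.HallHigman.SympWeight

/-!
# The last powers lie in `O_{2',2}`

This is the inductive step of Gross's bound on the `2`-length.
-/

namespace CfsgLib.HallHigman

open Module (End finrank)
open Cfsg CfsgLib.PCore
open scoped commutatorElement

universe u

variable {X : Type u} [Group X] [Finite X] {K : Type*} [Field K] [IsAlgClosed K] [CharP K 2]
  {V : Type*} [AddCommGroup V] [Module K V] [FiniteDimensional K V]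

omit [Finite X] [IsAlgClosed K] [CharP K 2] [FiniteDimensional K V] in
theorem units_commute_of_eq {H M : Type*} [Group H] [Monoid M] (f : H →* M) {a b : H}
    (h : a * b = b * a) : f a * f b = f b * f a := by rw [← map_mul, ← map_mul, h]

omit [Finite X] in
/-- The final step: on a weight space the configuration is impossible. -/
theorem false_of_weight {q : ℕ} [Fact q.Prime] (hq2 : q.Coprime 2) {W : Type*} [AddCommGroup W]
    [Module (ZMod q) W] [FiniteDimensional (ZMod q) W] {M : Type*} [CommGroup M] {B : W → W → M}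
    (hB : Symp.IsSymp B) (φ : X →* (End (ZMod q) W)ˣ) (hiso : ∀ g, Symp.IsIso B (φ g))
    {r : ℕ} [Fact r.Prime] [Finite X] (hr2 : r ≠ 2) (U R : Subgroup X) (σ y c w u u' : X)
    (hR : IsPGroup r R) (hU2 : IsPGroup 2 U) (hRU : R ≤ Subgroup.normalizer (U : Set X))
    (hσU : σ ∈ Subgroup.normalizer (U : Set X)) (hσy : σ * σ = y) (hy : y * y = 1)
    (hP : finrank (ZMod q) (Symp.minus (φ y)) = 2)
    (hcom : ⁅U, ⁅R, R⁆⁆ = U) (hsq : ∀ a ∈ U, φ (a * a) = 1 ∨ φ (a * a) = -1)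
    (hcm : ∀ a ∈ U, ∀ b ∈ U, φ ⁅a, b⁆ = 1 ∨ φ ⁅a, b⁆ = -1)
    (hyz : ∀ z ∈ ⁅R, R⁆, ⁅y, z⁆ ∈ Subgroup.centralizer (U : Set X))
    (hu : u ∈ U) (hw : w = u * y * u⁻¹ * y) (hwU : w ∈ U) (hu' : u' ∈ U) (hc : c = ⁅w, u'⁆)
    (hφc : φ c = -1) [Nontrivial W] : False := by
  classical
  set Z₀ := ⁅R, R⁆ with hZ₀
  have hZR : Z₀ ≤ R := Subgroup.commutator_le.mpr fun a ha b hb =>
    R.mul_mem (R.mul_mem (R.mul_mem ha hb) (R.inv_mem ha)) (R.inv_mem hb)
  have hsign : ∀ a ∈ U, ∀ b ∈ U, φ a * φ b = φ b * φ a ∨ φ a * φ b = -(φ b * φ a) := by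
    intro a ha b hb
    have h1 : φ a * φ b = φ ⁅a, b⁆ * (φ b * φ a) := by
      rw [← map_mul, ← map_mul, ← map_mul, commutatorElement_def]
      congr 1
      group
    rcases hcm a ha b hb with h | h <;> rw [h] at h1
    · exact Or.inl (by rwa [one_mul] at h1)
    · exact Or.inr (by rwa [neg_one_mul] at h1)
  set E : Subgroup (End (ZMod q) W)ˣ := U.map φ with hE
  -- the radical
  let Rad : Subgroup X :=
    { carrier := {a | a ∈ U ∧ ∀ b ∈ U, φ a * φ b = φ b * φ a}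
      one_mem' := ⟨U.one_mem, fun b _ => by rw [map_one, one_mul, mul_one]⟩
      mul_mem' := fun {a b} ha hb => ⟨U.mul_mem ha.1 hb.1, fun e he => by
        rw [map_mul]
        exact ((show Commute (φ a) (φ e) from ha.2 e he).mul_left (show Commute (φ b) (φ e) from hb.2 e he))⟩
      inv_mem' := fun {a} ha => ⟨U.inv_mem ha.1, fun e he => by
        rw [map_inv]
        exact (show Commute (φ a) (φ e) from ha.2 e he).inv_left⟩ }
  have hRadU : Rad ≤ U := fun a ha => ha.1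
  have hRadn : (Rad.subgroupOf U).Normal := ⟨fun a ha g => by
    rw [Subgroup.mem_subgroupOf] at ha ⊢
    refine ⟨U.mul_mem (U.mul_mem g.2 ha.1) (U.inv_mem g.2), fun b hb => ?_⟩
    show φ ((g : X) * a * (g : X)⁻¹) * φ b = φ b * φ ((g : X) * a * (g : X)⁻¹)
    rw [map_mul, map_mul, ← ha.2 g g.2, mul_assoc (φ a), ← map_mul φ (g : X), mul_inv_cancel, map_one, mul_one]
    exact ha.2 b hb⟩
  have hconjU : ∀ g ∈ R, ∀ a ∈ U, g * a * g⁻¹ ∈ U := fun g hg a ha =>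
    (Subgroup.mem_normalizer_iff.mp (hRU hg) a).mp ha
  have hcomconj : ∀ (g a b : X), φ (g * a * g⁻¹) * φ (g * b * g⁻¹) = φ (g * b * g⁻¹) * φ (g * a * g⁻¹) ↔
      φ a * φ b = φ b * φ a := by
    intro g a b
    simp only [map_mul, map_inv]
    constructor
    · intro h
      have h1 := congrArg (fun t => (φ g)⁻¹ * t * φ g) h
      simpa [mul_assoc] using h1
    · intro h
      simp only [mul_assoc, inv_mul_cancel_left]
      rw [← mul_assoc (φ a), h, mul_assoc]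
  have hRadR : ∀ g ∈ R, ∀ a ∈ Rad, g * a * g⁻¹ ∈ Rad := fun g hg a ha => ⟨hconjU g hg a ha.1, fun b hb => by
    have h1 := (hcomconj g a (g⁻¹ * b * g⁻¹⁻¹)).mpr (ha.2 _ (hconjU _ (R.inv_mem hg) b hb))
    rwa [show g * (g⁻¹ * b * g⁻¹⁻¹) * g⁻¹ = b by group] at h1⟩
  -- the derived operator group has no fixed points on `U ⧸ Rad`
  have hfpf : ∀ a ∈ U, (∀ z ∈ Z₀, a⁻¹ * (z * a * z⁻¹) ∈ Rad) → a ∈ Rad := by
    intro a ha hz
    let C : Subgroup X :=
      { carrier := {b | b ∈ U ∧ φ a * φ b = φ b * φ a}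
        one_mem' := ⟨U.one_mem, by rw [map_one, one_mul, mul_one]⟩
        mul_mem' := fun {b b'} hb hb' => ⟨U.mul_mem hb.1 hb'.1, by
          rw [map_mul]
          exact ((show Commute (φ a) (φ b) from hb.2).mul_right hb'.2)⟩
        inv_mem' := fun {b} hb => ⟨U.inv_mem hb.1, by
          rw [map_inv]
          exact (show Commute (φ a) (φ b) from hb.2).inv_right⟩ }
    have hle : ⁅U, Z₀⁆ ≤ C := Subgroup.commutator_le.mpr fun b hb z hzZ => by
      set b' := z * b⁻¹ * z⁻¹ with hb'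
      have hb'U : b' ∈ U := hconjU z (hZR hzZ) _ (U.inv_mem hb)
      have hiff : φ a * φ b' = φ b' * φ a ↔ φ a * φ b⁻¹ = φ b⁻¹ * φ a := by
        rw [← hcomconj z a b⁻¹, ← hb']
        have hd := hz z hzZ
        have h2 : φ (z * a * z⁻¹) = φ a * φ (a⁻¹ * (z * a * z⁻¹)) := by
          rw [← map_mul]; congr 1; group
        rw [h2, mul_assoc (φ a), hd.2 b' hb'U, ← mul_assoc (φ a), ← mul_assoc (φ b'), mul_left_inj]
      have h3 : φ a * φ b⁻¹ = φ b⁻¹ * φ a ↔ φ a * φ b = φ b * φ a := by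
        rw [map_inv]
        exact ⟨fun h => by simpa using (show Commute (φ a) (φ b)⁻¹ from h).inv_right.eq,
          fun h => (show Commute (φ a) (φ b) from h).inv_right⟩
      refine ⟨?_, ?_⟩
      · rw [show ⁅b, z⁆ = b * b' by rw [hb', commutatorElement_def]; group]
        exact U.mul_mem hb hb'U
      · rw [show ⁅b, z⁆ = b * b' by rw [hb', commutatorElement_def]; group, map_mul]
        exact ((Symp.com_mul_iff hq2 (hsign b hb a ha) (hsign b' hb'U a ha)).mpr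
          (eq_comm.trans ((hiff.trans h3).symm.trans eq_comm))).symm
    exact ⟨ha, fun b hb => (hle (hcom.ge hb)).2⟩
  -- the commutator is outside the radical
  have hφy : φ y * φ y = 1 := by rw [← map_mul, hy, map_one]
  have hneg : ∀ g : (End (ZMod q) W)ˣ, g ≠ -g := Symp.smul_ne_neg hq2
  have hwRad : w ∉ Rad := fun h => by
    have h1 := h.2 u' hu'
    rw [hc, commutatorElement_def, map_mul, map_mul, map_mul, h1, map_inv, map_inv, mul_inv_cancel_right,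
      mul_inv_cancel] at hφc
    exact hneg 1 hφc
  -- a second, independent commutator
  obtain ⟨z, hzZ, hzw⟩ : ∃ z ∈ Z₀, w⁻¹ * (z * w * z⁻¹) ∉ Rad := by
    by_contra h
    push Not at h
    exact hwRad (hfpf w hwU h)
  set u₂ := z * u * z⁻¹ with hu₂
  have hu₂U : u₂ ∈ U := hconjU z (hZR hzZ) u hu
  have hyinv : y⁻¹ = y := inv_eq_of_mul_eq_one_right hy
  have hw₂ : z * w * z⁻¹ = u₂ * y * u₂⁻¹ * y := by
    have hd := hyz z hzZ
    set d := ⁅y, z⁆ with hd'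
    have hzy : z * y * z⁻¹ = y * d := by
      rw [hd', commutatorElement_def, hyinv, ← mul_assoc, ← mul_assoc, ← mul_assoc, hy, one_mul]
    have hdu : d * u₂⁻¹ = u₂⁻¹ * d := (hd _ (U.inv_mem hu₂U)).symm
    have hdyd : d * (y * d) = y := by
      have h1 : z * y * z⁻¹ * (z * y * z⁻¹) = 1 := by
        rw [show z * y * z⁻¹ * (z * y * z⁻¹) = z * (y * y) * z⁻¹ by group, hy, mul_one, mul_inv_cancel]
      rw [hzy, mul_assoc y d] at h1
      exact (eq_inv_of_mul_eq_one_right h1).trans hyinv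
    calc z * w * z⁻¹ = z * u * z⁻¹ * (z * y * z⁻¹) * (z * u * z⁻¹)⁻¹ * (z * y * z⁻¹) := by rw [hw]; group
      _ = u₂ * y * (d * u₂⁻¹) * (y * d) := by rw [← hu₂, hzy, ← mul_assoc u₂ y d, mul_assoc (u₂ * y) d u₂⁻¹]
      _ = u₂ * y * u₂⁻¹ * (d * (y * d)) := by
          rw [hdu, ← mul_assoc (u₂ * y) u₂⁻¹ d, mul_assoc (u₂ * y * u₂⁻¹) d (y * d)]
      _ = u₂ * y * u₂⁻¹ * y := by rw [hdyd]
  -- count the cosets of the radical
  have hQ17 : 17 ≤ Nat.card (U ⧸ Rad.subgroupOf U) := by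
    let act := conjQuotAct U Rad R hconjU hRadR
    let : MulAction R (U ⧸ Rad.subgroupOf U) :=
      { smul := fun g a => act g a
        one_smul := fun a => by show act 1 a = a; rw [map_one]; rfl
        mul_smul := fun g h a => by show act (g * h) a = act g (act h a); rw [map_mul]; rfl }
    obtain ⟨d, hd⟩ := (hU2.to_quotient (Rad.subgroupOf U)).exists_card_eq
    have : Nontrivial (U ⧸ Rad.subgroupOf U) := ⟨((⟨w, hwU⟩ : U) : U ⧸ Rad.subgroupOf U), 1, fun h =>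
      hwRad (Subgroup.mem_subgroupOf.mp ((QuotientGroup.eq_one_iff _).mp h))⟩
    refine seventeen_le_card hr2 hR (a₀ := (1 : U ⧸ Rad.subgroupOf U)) (fun g => map_one (act g)) ?_ hd
    intro a ha hle
    induction a using QuotientGroup.induction_on with
    | H a =>
      refine ha ((QuotientGroup.eq_one_iff a).mpr (Subgroup.mem_subgroupOf.mpr (hfpf a a.2 fun z hz => ?_)))
      have hzc : (⟨z, hZR hz⟩ : R) ∈ commutator R := by
        have h1 : z ∈ (commutator R).map R.subtype := by rwa [Subgroup.map_subtype_commutator]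
        obtain ⟨z', hz', rfl⟩ := h1
        exact hz'
      exact (conjQuotAct_fixed U Rad R hconjU hRadR _ a).mp (hle hzc)
  have hbig : ∃ s : Finset (End (ZMod q) W)ˣ, (∀ a ∈ s, a ∈ E) ∧ 17 ≤ s.card ∧
      ∀ a ∈ s, ∀ b ∈ s, a ≠ b → ∃ f ∈ E, a⁻¹ * b * f ≠ f * (a⁻¹ * b) := by
    have : Fintype (U ⧸ Rad.subgroupOf U) := Fintype.ofFinite _
    let rep : U ⧸ Rad.subgroupOf U → (End (ZMod q) W)ˣ := fun o => φ ((o.out : U) : X)
    have hsep : ∀ o o', (∀ f ∈ E, (rep o)⁻¹ * rep o' * f = f * ((rep o)⁻¹ * rep o')) → o = o' := by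
      intro o o' h
      rw [← QuotientGroup.out_eq' o, ← QuotientGroup.out_eq' o', QuotientGroup.eq, Subgroup.mem_subgroupOf]
      refine ⟨((o.out)⁻¹ * o'.out : U).2, fun b hb => ?_⟩
      have h1 := h (φ b) ⟨b, hb, rfl⟩
      simp only [rep, ← map_inv, ← map_mul] at h1
      simp only [Subgroup.coe_mul, Subgroup.coe_inv, ← map_mul]
      exact h1
    have hinj : Function.Injective rep := fun o o' h => hsep o o' fun f _ => by
      rw [h, inv_mul_cancel, one_mul, mul_one]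
    refine ⟨Finset.univ.image rep, fun a ha => ?_, ?_, fun a ha b hb hab => ?_⟩
    · obtain ⟨o, -, rfl⟩ := Finset.mem_image.mp ha
      exact ⟨_, (o.out).2, rfl⟩
    · rwa [Finset.card_image_of_injective _ hinj, Finset.card_univ, ← Nat.card_eq_fintype_card]
    · obtain ⟨o, -, rfl⟩ := Finset.mem_image.mp ha
      obtain ⟨o', -, rfl⟩ := Finset.mem_image.mp hb
      by_contra hne
      push Not at hne
      exact hab (congrArg rep (hsep o o' hne))
  have hSG : Symp.IsSignGroup B E := by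
    refine ⟨?_, ?_, ?_, hbig⟩
    · rintro _ ⟨a, -, rfl⟩; exact hiso a
    · rintro _ ⟨a, ha, rfl⟩
      rw [← map_mul]
      exact hsq a ha
    · rintro _ ⟨a, ha, rfl⟩ _ ⟨b, hb, rfl⟩
      exact hsign a ha b hb
  have hout : ∀ a ∈ U, a ∉ Rad → ∃ f ∈ E, φ a * f ≠ f * φ a := by
    intro a ha hn
    by_contra h
    push Not at h
    exact hn ⟨ha, fun b hb => h _ ⟨b, hb, rfl⟩⟩
  have hw₂U : u₂ * y * u₂⁻¹ * y ∈ U := by rw [← hw₂]; exact hconjU z (hZR hzZ) w hwU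
  have hwsq : w * w ∈ Rad := ⟨U.mul_mem hwU hwU, fun b _ => by
    rcases hsq w hwU with h | h <;> rw [h]
    · rw [one_mul, mul_one]
    · rw [neg_one_mul, mul_neg_one]⟩
  have hv : ∀ a : X, φ a * φ y * (φ a)⁻¹ * φ y = φ (a * y * a⁻¹ * y) := fun a => by
    simp only [map_mul, map_inv]
  refine Symp.core_false hq2 hSG hB hφy (hiso y) hP (by rw [← map_mul, hσy]) (hiso σ) ?_ (φ u) (φ u₂)
    ⟨u, hu, rfl⟩ ⟨u₂, hu₂U, rfl⟩ ?_ ?_ ?_
  · rintro _ ⟨a, ha, rfl⟩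
    exact ⟨σ * a * σ⁻¹, (Subgroup.mem_normalizer_iff.mp hσU a).mp ha, by rw [map_mul, map_mul, map_inv]⟩
  · rw [hv, ← hw]
    exact hout w hwU hwRad
  · rw [hv, ← hw₂]
    refine hout _ (hconjU z (hZR hzZ) w hwU) fun h => hwRad ?_
    have h2 := hRadR z⁻¹ (R.inv_mem (hZR hzZ)) _ h
    rwa [show z⁻¹ * (z * w * z⁻¹) * z⁻¹⁻¹ = w by group] at h2
  · rw [hv, hv, ← map_mul, ← hw, ← hw₂]
    refine hout _ (U.mul_mem hwU (hconjU z (hZR hzZ) w hwU)) fun h => hzw ?_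
    have h2 := Rad.mul_mem (Rad.inv_mem hwsq) h
    rwa [show (w * w)⁻¹ * (w * (z * w * z⁻¹)) = w⁻¹ * (z * w * z⁻¹) by group] at h2

set_option maxHeartbeats 800000 in
/-- All last powers of `2`-elements lie in `O_{2',2}`. -/
theorem pow_mem_pCore_two (hX : Group.IsSolvable X) (h0 : pCore 2 X = ⊥) (γ : X →* End K V)
    (hγ : Function.Injective γ) (m : ℕ)
    (hdeg : ∀ a : X, (∃ k : ℕ, a ^ 2 ^ k = 1) →
      a ^ 2 ^ (m + 1) = 1 ∧ (γ a - 1) ^ (2 ^ (m + 1) - 1) = 0) (x : X) (hx : ∃ k : ℕ, x ^ 2 ^ k = 1) :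
    (QuotientGroup.mk' (pPrimeCore 2 X) x) ^ 2 ^ m ∈ pCore 2 (X ⧸ pPrimeCore 2 X) := by
  classical
  by_contra hcon
  obtain ⟨r, hr, U, R, x', hr2, hU2, hR, hUN, hRN, hRU, hxU, hxR, hx'2, hne, hyz, hgen⟩ :=
    exists_lift hX γ hγ m hdeg x hx hcon
  obtain ⟨U₀, hU₀U, hRU₀, hxU₀, hne₀, hcom, hsq, hcm, habel, hnab⟩ :=
    exists_special_subgroup hr2 U R x' hU2 hR hRU hxU hxR hne
  set y := x' ^ 2 ^ m with hy
  set Z₁ := omegaCentre U₀ with hZ₁
  have hZ₁U : Z₁ ≤ U₀ := fun a ha => ha.1.1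
  have hyN : y ∈ centreKernel X := pow_mem_centreKernel γ hγ x' m (hdeg x' hx'2).1 (hdeg x' hx'2).2
  have hyy : y * y = 1 := by rw [hy, ← pow_add, ← two_mul, ← pow_succ', (hdeg x' hx'2).1]
  have hyinv : y⁻¹ = y := inv_eq_of_mul_eq_one_right hyy
  have hyU₀ : y ∈ Subgroup.normalizer (U₀ : Set X) := Subgroup.pow_mem _ hxU₀ _
  have hyR : y ∈ Subgroup.normalizer (R : Set X) := Subgroup.pow_mem _ hxR _
  have hU₀2 : IsPGroup 2 U₀ := hU2.to_le hU₀U
  have h2el : ∀ a ∈ U, ∃ k : ℕ, a ^ 2 ^ k = 1 := fun a ha => by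
    obtain ⟨k, hk⟩ := hU2 ⟨a, ha⟩
    exact ⟨k, congrArg Subtype.val hk⟩
  -- first step: `y` centralizes `Z₁`
  have hstep1 : ∀ a ∈ Z₁, a * y = y * a := by
    intro a ha
    by_contra hne1
    set c := ⁅a, y⁆ with hc
    have hcZ : c ∈ Z₁ := by
      rw [hc, show ⁅a, y⁆ = a * (y * a⁻¹ * y⁻¹) by simp [commutatorElement_def, mul_assoc]]
      exact Z₁.mul_mem ha (omegaCentre_conj_mem hyU₀ (Z₁.inv_mem ha))
    have hc1 : c ≠ 1 := fun h => hne1 (commutatorElement_eq_one_iff_mul_comm.mp h)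
    have hcN : c ∈ centreKernel X := hUN (hU₀U (hZ₁U hcZ))
    obtain ⟨q, _, hq2, W, _, _, _, B, H, hH, ρ, hB, hiso, hρc, hσ⟩ :=
      exists_separating_rep hX h0 γ hγ hcN (h2el c (hU₀U (hZ₁U hcZ))) hc1
    have haH : a ∈ H := hH (hUN (hU₀U (hZ₁U ha)))
    have hyH : y ∈ H := hH hyN
    have hρy : ρ ⟨y, hyH⟩ ≠ 1 := fun h => hρc (by
      rw [show (⟨c, hH hcN⟩ : H) = ⁅(⟨a, haH⟩ : H), ⟨y, hyH⟩⁆ from Subtype.ext hc, map_commutatorElement, h,
        commutatorElement_one_right])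
    obtain ⟨σ, hσx, hσσ, hrk⟩ := hσ x' m (hdeg x' hx'2).1 (hdeg x' hx'2).2 hyH hρy
    have hσU : (σ : X) ∈ Subgroup.normalizer (U₀ : Set X) := Subgroup.zpowers_le.mpr hxU₀ hσx
    have h1 := Symp.commute_of_abelian hB hq2 (y := ρ ⟨y, hyH⟩) (σ := ρ σ) (by rw [← map_mul, hσσ])
      (by rw [← map_mul, ← map_one ρ]; exact congrArg ρ (Subtype.ext hyy)) hrk (hiso σ)
      ((Z₁.subgroupOf H).map ρ) (by rintro _ ⟨b, -, rfl⟩; exact hiso b)
      (by
        rintro _ ⟨b, hb, rfl⟩ _ ⟨b', hb', rfl⟩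
        exact units_commute_of_eq ρ (Subtype.ext ((hZ₁U hb' |> fun h => hb.1.2 _ h).symm)))
      (by
        rintro _ ⟨b, hb, rfl⟩
        rw [← map_mul, ← map_one ρ]
        exact congrArg ρ (Subtype.ext hb.2))
      (by
        rintro _ ⟨b, hb, rfl⟩
        exact ⟨σ * b * σ⁻¹, omegaCentre_conj_mem hσU hb, by rw [map_mul, map_mul, map_inv]⟩)
      (ρ ⟨a, haH⟩) ⟨⟨a, haH⟩, ha, rfl⟩
    exact hρc (by
      rw [show (⟨c, hH hcN⟩ : H) = ⁅(⟨a, haH⟩ : H), ⟨y, hyH⟩⁆ from Subtype.ext hc, map_commutatorElement,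
        commutatorElement_eq_one_iff_mul_comm]
      exact h1)
  -- hence `R` centralizes `Z₁`
  have hRZ : R ≤ Subgroup.centralizer (Z₁ : Set X) := by
    refine (hgen (R ⊓ Subgroup.centralizer (Z₁ : Set X)) inf_le_left ?_ ?_ ?_).trans inf_le_right
    · intro g hg s hs
      refine ⟨R.mul_mem (R.mul_mem hg hs.1) (R.inv_mem hg), fun b hb => ?_⟩
      have h1 := hs.2 _ (omegaCentre_conj_mem (Subgroup.inv_mem _ (hRU₀ hg)) hb)
      calc b * (g * s * g⁻¹) = g * (g⁻¹ * b * g⁻¹⁻¹ * s) * g⁻¹ := by group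
        _ = g * (s * (g⁻¹ * b * g⁻¹⁻¹)) * g⁻¹ := by rw [h1]
        _ = g * s * g⁻¹ * b := by group
    · exact fun s hs => ⟨hs.1, fun b hb => hs.2 b (hU₀U (hZ₁U hb))⟩
    · intro g hg
      refine ⟨?_, fun b hb => ?_⟩
      · rw [show ⁅g, y⁆ = g * (y * g⁻¹ * y⁻¹) by simp [commutatorElement_def, mul_assoc]]
        exact R.mul_mem hg ((Subgroup.mem_normalizer_iff.mp hyR _).mp (R.inv_mem hg))
      · have h1 := hstep1 _ (omegaCentre_conj_mem (Subgroup.inv_mem _ (hRU₀ hg)) hb)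
        have h2 := hstep1 b hb
        calc b * ⁅g, y⁆ = g * (g⁻¹ * b * g⁻¹⁻¹ * y) * g⁻¹ * y⁻¹ := by rw [commutatorElement_def]; group
          _ = g * (y * (g⁻¹ * b * g⁻¹⁻¹)) * g⁻¹ * y⁻¹ := by rw [h1]
          _ = g * y * g⁻¹ * (b * y⁻¹) := by group
          _ = ⁅g, y⁆ * b := by rw [hyinv, h2, commutatorElement_def, hyinv]; group
  have hZ₀R : ⁅R, R⁆ ≤ R := Subgroup.commutator_le.mpr fun a ha b hb =>
    R.mul_mem (R.mul_mem (R.mul_mem ha hb) (R.inv_mem ha)) (R.inv_mem hb)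
  have hnab' : ¬ ∀ a ∈ U₀, ∀ b ∈ U₀, a * b = b * a := fun hab =>
    hne₀ fun z hz b hb => hRZ (hZ₀R hz) b (habel hab hb)
  -- some commutator with `y` is noncentral
  obtain ⟨u, hu, huy⟩ : ∃ u ∈ U₀, ⁅u, y⁆ ∉ centreOf U₀ := by
    by_contra hall
    push Not at hall
    let T : Subgroup X :=
      { carrier := {g | g ∈ Subgroup.normalizer (U₀ : Set X) ∧ ∀ a ∈ U₀, ⁅g, a⁆ ∈ centreOf U₀}
        one_mem' := ⟨one_mem _, fun a _ => by rw [commutatorElement_one_left]; exact one_mem _⟩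
        mul_mem' := fun {g h} hg hh => ⟨mul_mem hg.1 hh.1, fun a ha => by
          rw [show ⁅g * h, a⁆ = g * ⁅h, a⁆ * g⁻¹ * ⁅g, a⁆ by simp [commutatorElement_def, mul_assoc]]
          exact mul_mem (centreOf_conj_mem hg.1 (hh.2 a ha)) (hg.2 a ha)⟩
        inv_mem' := fun {g} hg => ⟨inv_mem hg.1, fun a ha => by
          rw [show ⁅g⁻¹, a⁆ = g⁻¹ * ⁅g, a⁆⁻¹ * g⁻¹⁻¹ by simp [commutatorElement_def, mul_assoc]]
          exact centreOf_conj_mem (inv_mem hg.1) (inv_mem (hg.2 a ha))⟩ }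
    have hTn : ∀ g ∈ Subgroup.normalizer (U₀ : Set X), ∀ s ∈ T, g * s * g⁻¹ ∈ T := fun g hg s hs =>
      ⟨mul_mem (mul_mem hg hs.1) (inv_mem hg), fun a ha => by
        rw [show ⁅g * s * g⁻¹, a⁆ = g * ⁅s, g⁻¹ * a * g⁆ * g⁻¹ by simp [commutatorElement_def, mul_assoc]]
        exact centreOf_conj_mem hg (hs.2 _ ((Subgroup.mem_normalizer_iff''.mp hg a).mp ha))⟩
    have hyT : y ∈ T := ⟨hyU₀, fun a ha => by
      rw [← commutatorElement_inv]
      exact inv_mem (hall a ha)⟩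
    have hRT : R ≤ R ⊓ T := hgen (R ⊓ T) inf_le_left
      (fun g hg s hs => ⟨R.mul_mem (R.mul_mem hg hs.1) (R.inv_mem hg), hTn g (hRU₀ hg) s hs.2⟩)
      (fun s hs => ⟨hs.1, hRU₀ hs.1, fun a ha => by
        rw [commutatorElement_eq_one_iff_mul_comm.mpr (hs.2 a (hU₀U ha)).symm]
        exact one_mem _⟩)
      (fun g hg => ⟨by
        rw [show ⁅g, y⁆ = g * (y * g⁻¹ * y⁻¹) by simp [commutatorElement_def, mul_assoc]]
        exact R.mul_mem hg ((Subgroup.mem_normalizer_iff.mp hyR _).mp (R.inv_mem hg)),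
        T.mul_mem (hTn g (hRU₀ hg) y hyT) (T.inv_mem hyT)⟩)
    exact hnab' fun a ha b hb => ((hnab hnab' a ha fun z hz => (hRT (hZ₀R hz)).2.2 a ha).2 b hb).symm
  set w := ⁅u, y⁆ with hw
  have hwU : w ∈ U₀ := by
    rw [hw, show ⁅u, y⁆ = u * (y * u⁻¹ * y⁻¹) by simp [commutatorElement_def, mul_assoc]]
    exact U₀.mul_mem hu ((Subgroup.mem_normalizer_iff.mp hyU₀ _).mp (U₀.inv_mem hu))
  obtain ⟨u', hu', hwu'⟩ : ∃ u' ∈ U₀, w * u' ≠ u' * w := by
    by_contra h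
    push Not at h
    exact huy ⟨hwU, fun b hb => (h b hb).symm⟩
  set c := ⁅w, u'⁆ with hc
  have hcZ : c ∈ Z₁ := hcm w hwU u' hu'
  have hc1 : c ≠ 1 := fun h => hwu' (commutatorElement_eq_one_iff_mul_comm.mp h)
  have hcN : c ∈ centreKernel X := hUN (hU₀U (hZ₁U hcZ))
  obtain ⟨q, _, hq2, W, _, _, _, B, H, hH, ρ, hB, hiso, hρc, hσ⟩ :=
    exists_separating_rep hX h0 γ hγ hcN (h2el c (hU₀U (hZ₁U hcZ))) hc1
  have hU₀H : U₀ ≤ H := fun a ha => hH (hUN (hU₀U ha))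
  have hRH : R ≤ H := fun a ha => hH (hRN ha)
  have hyH : y ∈ H := hH hyN
  have hρy : ρ ⟨y, hyH⟩ ≠ 1 := fun h => hρc (by
    have e : (⟨c, hH hcN⟩ : H) = ⁅⁅(⟨u, hU₀H hu⟩ : H), (⟨y, hyH⟩ : H)⁆, (⟨u', hU₀H hu'⟩ : H)⁆ :=
      Subtype.ext rfl
    rw [e, map_commutatorElement, map_commutatorElement, h, commutatorElement_one_right,
      commutatorElement_one_left])
  obtain ⟨σ, hσx, hσσ, hrk⟩ := hσ x' m (hdeg x' hx'2).1 (hdeg x' hx'2).2 hyH hρy
  have hσU : (σ : X) ∈ Subgroup.normalizer (U₀ : Set X) := Subgroup.zpowers_le.mpr hxU₀ hσx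
  -- the weight space
  set E₁ := (Z₁.subgroupOf H).map ρ with hE₁
  have hE₁exp : ∀ z ∈ E₁, z * z = 1 := by
    rintro _ ⟨b, hb, rfl⟩
    rw [← map_mul, ← map_one ρ]
    exact congrArg ρ (Subtype.ext hb.2)
  have hE₁ab : ∀ a ∈ E₁, ∀ b ∈ E₁, a * b = b * a := by
    rintro _ ⟨b, hb, rfl⟩ _ ⟨b', hb', rfl⟩
    exact units_commute_of_eq ρ (Subtype.ext (hb.1.2 _ (hZ₁U hb')).symm)
  have hE₁iso : ∀ z ∈ E₁, Symp.IsIso B z := by rintro _ ⟨b, -, rfl⟩; exact hiso b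
  have hcE : ρ ⟨c, hH hcN⟩ ∈ E₁ := ⟨⟨c, hH hcN⟩, hcZ, rfl⟩
  have hcneg : Symp.minus (ρ ⟨c, hH hcN⟩) ≠ ⊥ := fun h => hρc (Symp.units_ext fun v => by
    obtain ⟨a, b, ha, hb, rfl⟩ := Symp.exists_split hq2 (hE₁exp _ hcE) v
    rw [(Submodule.eq_bot_iff _).mp h b (Symp.mem_minus.mpr hb), add_zero, ha, one_smul])
  obtain ⟨v, hvm, hv0, hv⟩ := Symp.exists_joint_eigen hE₁exp hE₁ab hcneg fun z hz p hp => by
    rw [Symp.mem_minus] at hp ⊢
    rw [← mul_smul, hE₁ab _ hcE z hz, mul_smul, hp, smul_neg]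
  set W' := Symp.weightSpace E₁ v with hW'
  have hvW : v ∈ W' := Symp.self_mem_weightSpace
  have : Nontrivial W' := (Submodule.nontrivial_iff_ne_bot).mpr fun h => hv0 (by
    rwa [h, Submodule.mem_bot] at hvW)
  have : Finite W := Module.finite_of_finite (ZMod q)
  have hWnd := Symp.weightSpace_nondeg hB hq2 hE₁exp hE₁iso hE₁ab hv0 hv
  let γH : H →* End (ZMod q) W := (Units.coeHom _).comp ρ
  let H' := stabSub γH W'
  have hmemH' : ∀ g : H, (∀ b ∈ Z₁, b * (g : X) = g * b) → g ∈ H' := fun g hg v' hv' =>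
    Symp.smul_mem_weightSpace (g := ρ g) (by
      rintro _ ⟨b, hb, rfl⟩
      exact units_commute_of_eq ρ (Subtype.ext (hg b hb))) hv'
  have hUH' : ∀ a (ha : a ∈ U₀), (⟨a, hU₀H ha⟩ : H) ∈ H' := fun a ha =>
    hmemH' _ fun b hb => ((hb.1).2 a ha).symm
  have hRH' : ∀ a (ha : a ∈ R), (⟨a, hRH ha⟩ : H) ∈ H' := fun a ha => hmemH' _ fun b hb => hRZ ha b hb
  have hyH' : (⟨y, hyH⟩ : H) ∈ H' := hmemH' _ fun b hb => hstep1 b hb
  set yρ := ρ ⟨y, hyH⟩ with hyρ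
  have hyρ2 : yρ * yρ = 1 := by
    rw [hyρ, ← map_mul, ← map_one ρ]
    exact congrArg ρ (Subtype.ext hyy)
  -- `y` moves the weight space
  set Mv := Symp.minus yρ ⊓ W' with hMv
  have hsplit : ∀ x₀ ∈ W', ∀ a b : W, yρ • a = a → yρ • b = -b → a + b = x₀ → a ∈ W' ∧ b ∈ W' := by
    intro x₀ hx₀ a b ha hb hab
    have h1 : yρ • x₀ ∈ W' := hyH' x₀ hx₀
    have h2 : (2 : ZMod q) • b ∈ W' := by
      have e : (2 : ZMod q) • b = x₀ - yρ • x₀ := by rw [← hab, smul_add, ha, hb, two_smul]; abel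
      rw [e]; exact sub_mem hx₀ h1
    have hbW : b ∈ W' := by
      have h3 := W'.smul_mem (2 : ZMod q)⁻¹ h2
      rwa [smul_smul, mul_comm, Symp.two_mul_half hq2, one_smul] at h3
    exact ⟨by rw [eq_sub_of_add_eq hab]; exact sub_mem hx₀ hbW, hbW⟩
  have hMvnd : ∀ p ∈ Mv, (∀ p' ∈ Mv, B p p' = 1) → p = 0 := by
    intro p hp h
    refine hWnd p hp.2 fun x₀ hx₀ => ?_
    obtain ⟨a, b, ha, hb, hab⟩ := Symp.exists_split hq2 hyρ2 x₀
    obtain ⟨-, hbW⟩ := hsplit x₀ hx₀ a b ha hb hab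
    rw [← hab, hB.add_right, h b ⟨Symp.mem_minus.mpr hb, hbW⟩, mul_one]
    exact Symp.perp_symm hB (Symp.orth_of_signs hB hq2 (hiso _) ha (Symp.mem_minus.mp hp.1))
  have hMv0 : Mv ≠ ⊥ := by
    intro hbot
    have hyfix : ∀ x₀ ∈ W', yρ • x₀ = x₀ := fun x₀ hx₀ => by
      obtain ⟨a, b, ha, hb, hab⟩ := Symp.exists_split hq2 hyρ2 x₀
      have hb0 : b = 0 := (Submodule.eq_bot_iff _).mp hbot b
        ⟨Symp.mem_minus.mpr hb, (hsplit x₀ hx₀ a b ha hb hab).2⟩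
      rw [← hab, hb0, add_zero, ha]
    have hyfix' : ∀ x₀ ∈ W', yρ⁻¹ • x₀ = x₀ := fun x₀ hx₀ => by
      rw [inv_eq_of_mul_eq_one_right hyρ2]; exact hyfix x₀ hx₀
    set uρ := ρ ⟨u, hU₀H hu⟩ with huρ
    set u'ρ := ρ ⟨u', hU₀H hu'⟩ with hu'ρ
    have hcρ : ρ ⟨c, hH hcN⟩ = ⁅⁅uρ, yρ⁆, u'ρ⁆ := by
      rw [huρ, hu'ρ, hyρ, ← map_commutatorElement, ← map_commutatorElement]
      exact congrArg ρ (Subtype.ext rfl)
    have huW : ∀ x₀ ∈ W', uρ⁻¹ • x₀ ∈ W' := fun x₀ hx₀ => by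
      rw [huρ, ← map_inv]
      exact (stabSub γH W').inv_mem (hUH' u hu) x₀ hx₀
    have hu'W : ∀ x₀ ∈ W', u'ρ⁻¹ • x₀ ∈ W' := fun x₀ hx₀ => by
      rw [hu'ρ, ← map_inv]
      exact (stabSub γH W').inv_mem (hUH' u' hu') x₀ hx₀
    have hwfix : ∀ x₀ ∈ W', ⁅uρ, yρ⁆ • x₀ = x₀ := fun x₀ hx₀ => by
      rw [commutatorElement_def, mul_smul, mul_smul, mul_smul, hyfix' x₀ hx₀, hyfix _ (huW x₀ hx₀),
        smul_inv_smul]
    have hwfix' : ∀ x₀ ∈ W', ⁅uρ, yρ⁆⁻¹ • x₀ = x₀ := fun x₀ hx₀ => by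
      rw [inv_smul_eq_iff, hwfix x₀ hx₀]
    have h1 : ρ ⟨c, hH hcN⟩ • v = v := by
      rw [hcρ, commutatorElement_def ⁅uρ, yρ⁆ u'ρ, mul_smul, mul_smul, mul_smul]
      have h2 : ⁅uρ, yρ⁆⁻¹ • u'ρ⁻¹ • v = u'ρ⁻¹ • v := hwfix' _ (hu'W v hvW)
      rw [h2, smul_inv_smul, hwfix v hvW]
    exact hv0 (Symp.eq_zero_of_eq_neg hq2 (h1.symm.trans (Symp.mem_minus.mp hvm)))
  have hMv2 : 2 ≤ finrank (ZMod q) Mv := Symp.two_le_finrank hB hMv0 hMvnd
  -- `σ` stabilizes the weight space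
  set σρ := ρ σ with hσρ
  have hσσρ : σρ * σρ = yρ := by rw [hσρ, hyρ, ← map_mul, hσσ]
  have hσH' : σ ∈ H' := by
    intro x₀ hx₀ z hz a ha
    show z • σρ • x₀ = a • σρ • x₀
    have hz' : σρ⁻¹ * z * σρ ∈ E₁ := by
      obtain ⟨b, hb, rfl⟩ := hz
      refine ⟨σ⁻¹ * b * σ, ?_, by rw [hσρ, map_mul, map_mul, map_inv]⟩
      have := omegaCentre_conj_mem (Subgroup.inv_mem _ hσU) hb
      show ((σ⁻¹ * b * σ : H) : X) ∈ Z₁
      simpa using this
    obtain ⟨a', ha'⟩ : ∃ a' : ZMod q, (σρ⁻¹ * z * σρ) • v = a' • v := by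
      rcases hv _ hz' with h | h
      · exact ⟨1, by rw [one_smul, h]⟩
      · exact ⟨-1, by rw [neg_one_smul, h]⟩
    have hzσ : ∀ x₁ ∈ W', z • σρ • x₁ = a' • σρ • x₁ := fun x₁ hx₁ => by
      have h2 := hx₁ _ hz' a' ha'
      rw [mul_smul, mul_smul, inv_smul_eq_iff, smul_comm σρ] at h2
      exact h2
    rw [hzσ x₀ hx₀]
    by_contra hne2
    have hne3 : a' ≠ a := fun h => hne2 (by rw [h])
    set Mσ := Mv.map (σρ : End (ZMod q) W) with hMσ
    have hle : Mv ⊔ Mσ ≤ Symp.minus yρ := by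
      refine sup_le inf_le_left ?_
      rintro _ ⟨p, hp, rfl⟩
      show σρ • p ∈ Symp.minus yρ
      have hyσ : yρ * σρ = σρ * yρ := by rw [← hσσρ, mul_assoc]
      rw [Symp.mem_minus, ← mul_smul, hyσ, mul_smul, Symp.mem_minus.mp hp.1, smul_neg]
    have hdis : Mv ⊓ Mσ = ⊥ := by
      rw [Submodule.eq_bot_iff]
      rintro p₁ ⟨hp₁, p₂, hp₂, rfl⟩
      change σρ • p₂ = 0
      have h3 : z • σρ • p₂ = a • σρ • p₂ := hp₁.2 z hz a ha
      rw [hzσ p₂ hp₂.2] at h3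
      have h4 : (a' - a) • σρ • p₂ = 0 := by rw [sub_smul, h3, sub_self]
      exact (smul_eq_zero.mp h4).resolve_left (sub_ne_zero.mpr hne3)
    have h5 := Submodule.finrank_sup_add_finrank_inf_eq Mv Mσ
    rw [hdis, finrank_bot, add_zero, hMσ, Symp.finrank_map_units] at h5
    have h6 := Submodule.finrank_mono hle
    rw [hMσ] at h6
    omega
  -- restriction to the weight space
  let B' : W' → W' → Kˣ := fun a b => B a b
  have hB' : Symp.IsSymp B' := ⟨fun a b c => hB.add_left a b c, fun a b c => hB.add_right a b c,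
    fun a => hB.alt a, fun a ha => Subtype.ext (hWnd a a.2 fun b hb => ha ⟨b, hb⟩)⟩
  let φ := restrictUnits γH W'
  have hφ : ∀ (g : H') (a : W'), ((φ g • a : W') : W) = ρ (g : H) • (a : W) := fun g a => rfl
  have hiso' : ∀ g, Symp.IsIso B' (φ g) := fun g a b => by
    show B (φ g • a : W') (φ g • b : W') = B a b
    rw [hφ, hφ]
    exact hiso _ _ _
  -- transfer into the subgroup `H'`
  let P : Subgroup X := H'.map H.subtype
  let eP : P ≃* H' := (H'.equivMapOfInjective H.subtype H.subtype_injective).symm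
  have hmemP : ∀ {g : X} (hg : g ∈ H), (⟨g, hg⟩ : H) ∈ H' → g ∈ P := fun {g} hg h => ⟨⟨g, hg⟩, h, rfl⟩
  have heP : ∀ g : P, (((eP g : H') : H) : X) = g := fun g => by
    conv_rhs => rw [← eP.symm_apply_apply g]
    rfl
  have hU₀P : U₀ ≤ P := fun a ha => hmemP _ (hUH' a ha)
  have hRP : R ≤ P := fun a ha => hmemP _ (hRH' a ha)
  let ψ : P →* (End (ZMod q) W')ˣ := φ.comp eP.toMonoidHom
  have hψ : ∀ (g : P) (hg : (g : X) ∈ H) (a : W'), ((ψ g • a : W') : W) = ρ ⟨g, hg⟩ • (a : W) := fun g hg a => by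
    have e : ((eP g : H') : H) = ⟨g, hg⟩ := Subtype.ext (heP g)
    rw [← e]
    exact hφ _ a
  set U' := U₀.subgroupOf P with hU'
  set R' := R.subgroupOf P with hR'
  have hmapU : U'.map P.subtype = U₀ := Subgroup.map_subgroupOf_eq_of_le hU₀P
  have hmapR : R'.map P.subtype = R := Subgroup.map_subgroupOf_eq_of_le hRP
  have hnorm : ∀ g : P, (g : X) ∈ Subgroup.normalizer (U₀ : Set X) → g ∈ Subgroup.normalizer (U' : Set P) :=
    fun g hg => mem_normalizer_map_conj.mpr fun b hb =>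
      Subgroup.mem_subgroupOf.mpr ((Subgroup.mem_normalizer_iff.mp hg _).mp (Subgroup.mem_subgroupOf.mp hb))
  have hscal : ∀ (g : P), (g : X) ∈ Z₁ → ψ g = 1 ∨ ψ g = -1 := fun g hg => by
    have hgH : (g : X) ∈ H := hU₀H (hZ₁U hg)
    have hgE : ρ ⟨g, hgH⟩ ∈ E₁ := ⟨⟨g, hgH⟩, hg, rfl⟩
    rcases hv _ hgE with h | h
    · refine Or.inl (Symp.units_ext fun a => Subtype.ext ?_)
      rw [hψ g hgH, one_smul, a.2 _ hgE 1 (by rw [one_smul, h]), one_smul]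
    · refine Or.inr (Symp.units_ext fun a => Subtype.ext ?_)
      rw [hψ g hgH, Units.neg_smul, one_smul, Submodule.coe_neg, a.2 _ hgE (-1) (by rw [neg_one_smul, h]),
        neg_one_smul]
  have hσP : (σ : X) ∈ P := hmemP σ.2 hσH'
  have hyP : y ∈ P := hmemP hyH hyH'
  have hrk' : finrank (ZMod q) (Symp.minus (ψ ⟨y, hyP⟩)) = 2 := by
    have hmap : (Symp.minus (ψ ⟨y, hyP⟩)).map W'.subtype = Mv := by
      ext a
      constructor
      · rintro ⟨a', ha', rfl⟩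
        refine ⟨Symp.mem_minus.mpr ?_, a'.2⟩
        have h1 := congrArg Subtype.val (Symp.mem_minus.mp ha')
        rw [hψ ⟨y, hyP⟩ hyH] at h1
        exact h1
      · rintro ⟨ha, haW⟩
        refine ⟨⟨a, haW⟩, Symp.mem_minus.mpr (Subtype.ext ?_), rfl⟩
        rw [hψ ⟨y, hyP⟩ hyH]
        exact Symp.mem_minus.mp ha
    have h1 := (Submodule.equivMapOfInjective W'.subtype W'.injective_subtype (Symp.minus (ψ ⟨y, hyP⟩))).finrank_eq
    rw [hmap] at h1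
    have h2 : finrank (ZMod q) Mv ≤ finrank (ZMod q) (Symp.minus yρ) := Submodule.finrank_mono inf_le_left
    omega
  have hcomm' : ⁅U', ⁅R', R'⁆⁆ = U' := Subgroup.map_injective P.subtype_injective (by
    rw [Subgroup.map_commutator, Subgroup.map_commutator, hmapU, hmapR, hcom])
  refine false_of_weight hq2 hB' ψ (fun g => hiso' _) hr2 U' R' ⟨σ, hσP⟩ ⟨y, hyP⟩
    ⟨c, hU₀P (hZ₁U hcZ)⟩ ⟨w, hU₀P hwU⟩ ⟨u, hU₀P hu⟩ ⟨u', hU₀P hu'⟩
    (hR.of_equiv (Subgroup.subgroupOfEquivOfLe hRP).symm)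
    (hU₀2.of_equiv (Subgroup.subgroupOfEquivOfLe hU₀P).symm)
    (fun g hg => hnorm g (hRU₀ (Subgroup.mem_subgroupOf.mp hg))) (hnorm _ hσU)
    (Subtype.ext (show (σ : X) * σ = y from congrArg Subtype.val hσσ)) (Subtype.ext hyy) hrk' hcomm'
    (fun a ha => hscal _ (hsq _ (Subgroup.mem_subgroupOf.mp ha)))
    (fun a ha b hb => hscal _ (hcm _ (Subgroup.mem_subgroupOf.mp ha) _ (Subgroup.mem_subgroupOf.mp hb)))
    (fun z hz => ?_) (Subgroup.mem_subgroupOf.mpr hu) ?_ (Subgroup.mem_subgroupOf.mpr hwU)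
    (Subgroup.mem_subgroupOf.mpr hu') (Subtype.ext hc) ?_
  · intro b hb
    refine Subtype.ext ?_
    have hzX : (z : X) ∈ ⁅R, R⁆ := by
      rw [← hmapR, ← Subgroup.map_commutator]
      exact ⟨z, hz, rfl⟩
    exact hyz _ hzX _ (hU₀U (Subgroup.mem_subgroupOf.mp hb))
  · refine Subtype.ext ?_
    show w = u * y * u⁻¹ * y
    rw [hw, commutatorElement_def, hyinv]
  · refine Symp.units_ext fun a => Subtype.ext ?_
    have hgH : c ∈ H := hH hcN
    rw [hψ ⟨c, hU₀P (hZ₁U hcZ)⟩ hgH, Units.neg_smul, one_smul, Submodule.coe_neg,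
      a.2 _ hcE (-1) (by rw [neg_one_smul]; exact Symp.mem_minus.mp hvm), neg_one_smul]

end CfsgLib.HallHigman
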