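import Cfsg.Agent.Lib.HallHigman.SympModel
import Cfsg.Agent.Lib.HallHigman.ExponentTwice
import Cfsg.Agent.Lib.HallHigman.Minimal

/-!
# Lifting a minimal configuration from `X ⧸ O_{2',2}(X)`
-/

namespace CfsgLib.HallHigman

open Module (End)
open Cfsg CfsgLib.PCore CfsgLib.ModuleTrick
open scoped commutatorElement IsMulCommutative

universe u

/-- A Sylow subgroup covers a `p`-group image. -/
theorem exists_sylow_preimage {G H : Type*} [Group G] [Finite G] [Group H] [Finite H] {p : ℕ}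
    [Fact p.Prime] (f : G →* H) (M : Subgroup G) (S : Sylow p M) (hM : IsPGroup p (M.map f)) {g : G}
    (hg : g ∈ M) : ∃ s ∈ (S : Subgroup M).map M.subtype, f s = f g := by
  let φ := f.subgroupMap M
  have hφ : Function.Surjective φ := f.subgroupMap_surjective M
  have htop : ((S.mapSurjective hφ : Sylow p (M.map f)) : Subgroup (M.map f)) = ⊤ :=
    ((S.mapSurjective hφ).3 (hM.to_subgroup ⊤) le_top).symm
  obtain ⟨s, hs, hse⟩ : φ ⟨g, hg⟩ ∈ (S : Subgroup M).map φ := by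
    rw [← Sylow.coe_mapSurjective hφ S, htop]
    exact Subgroup.mem_top _
  exact ⟨s, ⟨s, hs, rfl⟩, congrArg Subtype.val hse⟩

/-- A power congruent to one modulo `2^n` of any element is a `2`-element. -/
theorem exists_two_part {G : Type*} [Group G] [Finite G] (a : G) (n : ℕ) :
    ∃ k i : ℕ, (a ^ k) ^ 2 ^ i = 1 ∧ k ≡ 1 [MOD 2 ^ n] := by
  obtain ⟨i, o, ho, hao⟩ := Nat.exists_eq_pow_mul_and_not_dvd (orderOf_pos a).ne' 2 (by norm_num)
  have hcop : Nat.Coprime o (2 ^ n) :=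
    Nat.Coprime.pow_right n (((Nat.Prime.coprime_iff_not_dvd Nat.prime_two).mpr ho).symm)
  obtain ⟨k, hk0, hk1⟩ := Nat.chineseRemainder hcop 0 1
  refine ⟨k, i, ?_, hk1⟩
  rw [← pow_mul, ← orderOf_dvd_iff_pow_eq_one, hao, mul_comm k]
  exact Nat.mul_dvd_mul_left _ (Nat.modEq_zero_iff_dvd.mp hk0)

theorem conj_mem_commutator {G : Type*} [Group G] {A B : Subgroup G} {g : G}
    (hA : g ∈ Subgroup.normalizer (A : Set G)) (hB : g ∈ Subgroup.normalizer (B : Set G)) :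
    g ∈ Subgroup.normalizer ((⁅A, B⁆ : Subgroup G) : Set G) := by
  refine Subgroup.mem_normalizer_iff.mpr fun h => ?_
  have key : ∀ x : G, x ∈ Subgroup.normalizer (A : Set G) → x ∈ Subgroup.normalizer (B : Set G) →
      ∀ w ∈ ⁅A, B⁆, x * w * x⁻¹ ∈ ⁅A, B⁆ := fun x hxA hxB w hw => by
    have hle : ⁅A, B⁆.map (MulAut.conj x).toMonoidHom ≤ ⁅A, B⁆ := by
      rw [Subgroup.map_commutator]
      refine Subgroup.commutator_mono ?_ ?_ <;> rintro _ ⟨a, ha, rfl⟩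
      · exact (Subgroup.mem_normalizer_iff.mp hxA a).mp ha
      · exact (Subgroup.mem_normalizer_iff.mp hxB a).mp ha
    exact hle ⟨w, hw, rfl⟩
  refine ⟨key g hA hB h, fun hh => ?_⟩
  have := key g⁻¹ (Subgroup.inv_mem _ hA) (Subgroup.inv_mem _ hB) _ hh
  rwa [show g⁻¹ * (g * h * g⁻¹) * g⁻¹⁻¹ = h by group] at this

variable {X : Type u} [Group X] [Finite X] {K : Type*} [Field K] [IsAlgClosed K] [CharP K 2]
  {V : Type*} [AddCommGroup V] [Module K V] [FiniteDimensional K V]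

set_option maxHeartbeats 800000 in
/-- If a last power leaves `O_{2',2}`, a nonabelian configuration lifts to `X`. -/
theorem exists_lift (hX : Group.IsSolvable X) (γ : X →* End K V) (hγ : Function.Injective γ) (m : ℕ)
    (hdeg : ∀ a : X, (∃ k : ℕ, a ^ 2 ^ k = 1) →
      a ^ 2 ^ (m + 1) = 1 ∧ (γ a - 1) ^ (2 ^ (m + 1) - 1) = 0) (x : X) (hx : ∃ k : ℕ, x ^ 2 ^ k = 1)
    (hy : (QuotientGroup.mk' (pPrimeCore 2 X) x) ^ 2 ^ m ∉ pCore 2 (X ⧸ pPrimeCore 2 X)) :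
    ∃ (r : ℕ) (_ : Fact r.Prime) (U R : Subgroup X) (x' : X),
      r ≠ 2 ∧ IsPGroup 2 U ∧ IsPGroup r R ∧ U ≤ centreKernel X ∧ R ≤ centreKernel X ∧
      R ≤ Subgroup.normalizer (U : Set X) ∧ x' ∈ Subgroup.normalizer (U : Set X) ∧
      x' ∈ Subgroup.normalizer (R : Set X) ∧ (∃ k : ℕ, x' ^ 2 ^ k = 1) ∧
      ¬ ⁅R, R⁆ ≤ Subgroup.centralizer (U : Set X) ∧
      (∀ z ∈ ⁅R, R⁆, ⁅x' ^ 2 ^ m, z⁆ ∈ Subgroup.centralizer (U : Set X)) ∧
      ∀ S : Subgroup X, S ≤ R → (∀ g ∈ R, ∀ s ∈ S, g * s * g⁻¹ ∈ S) →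
        R ⊓ Subgroup.centralizer (U : Set X) ≤ S → (∀ g ∈ R, ⁅g, x' ^ 2 ^ m⁆ ∈ S) → R ≤ S := by
  classical
  have := Fact.mk Nat.prime_two
  have hXp : IsPSolvable 2 X := isPSolvable_of_isSolvable
  set K₀ := pPrimeCore 2 X with hK₀
  set π := QuotientGroup.mk' K₀ with hπ
  have hπs : Function.Surjective π := QuotientGroup.mk'_surjective K₀
  have hH : IsPSolvable 2 (X ⧸ K₀) := isPSolvable_quotient hXp _
  have h02 : pPrimeCore 2 (X ⧸ K₀) = ⊥ := pPrimeCore_quotient_eq_bot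
  have : (pCore 2 (X ⧸ K₀)).Normal := CfsgLib.Fitting.pCore_normal 2
  set U₂ := pCore 2 (X ⧸ K₀) with hU₂
  set θ := (QuotientGroup.mk' U₂).comp π with hθ
  have hθs : Function.Surjective θ := (QuotientGroup.mk'_surjective U₂).comp hπs
  have hθker : ∀ g, θ g = 1 ↔ π g ∈ U₂ := fun g => QuotientGroup.eq_one_iff (π g)
  have hYp : IsPSolvable 2 ((X ⧸ K₀) ⧸ U₂) := isPSolvable_quotient hH _
  have hY0 : pCore 2 ((X ⧸ K₀) ⧸ U₂) = ⊥ := pCore_quotient_pCore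
  -- the action on `U₂` modulo its Frattini subgroup
  obtain ⟨hcomm, hpow, hcen⟩ := frattini_quotient_props hH h02
  set f1 := QuotientGroup.mk' (frattiniCore 2 (X ⧸ K₀)) with hf1
  set W := U₂.map f1 with hW
  have : W.Normal := Subgroup.Normal.map inferInstance f1 (QuotientGroup.mk'_surjective _)
  have : IsMulCommutative W := ⟨⟨fun a b => Subtype.ext (hcomm a a.2 b b.2)⟩⟩
  let c := (conjEnd W).comp f1
  have hker : c.ker = U₂ := by
    rw [← MonoidHom.comap_ker, conjEnd_ker, hcen, hW, Subgroup.comap_map_eq, hf1, QuotientGroup.ker_mk',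
      sup_eq_left]
    exact frattiniCore_le 2 (X ⧸ K₀)
  let ρY : (X ⧸ K₀) ⧸ U₂ →* AddMonoid.End (Additive W) := QuotientGroup.lift U₂ c hker.ge
  have hρY : Function.Injective ρY := by
    rw [injective_iff_map_eq_one]
    intro a
    induction a using QuotientGroup.induction_on with
    | H a => exact fun h => (QuotientGroup.eq_one_iff a).mpr (hker.le h)
  have hA : ∀ a : Additive W, 2 • a = 0 := fun a => by
    apply Additive.toMul.injective
    apply Subtype.ext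
    rw [toMul_nsmul, Subgroup.coe_pow]
    exact hpow _ (Additive.toMul a).2
  obtain ⟨V₂, _, _, _, Φ, hΦ⟩ := exists_linear_model hA
  have : CharP (AlgebraicClosure (ZMod 2)) 2 :=
    charP_of_injective_algebraMap (algebraMap (ZMod 2) (AlgebraicClosure (ZMod 2))).injective 2
  let δ : (X ⧸ K₀) ⧸ U₂ →* End (AlgebraicClosure (ZMod 2)) V₂ := Φ.toMonoidHom.comp ρY
  have hδ : Function.Injective δ := hΦ.comp hρY
  have hexp2 : ∀ a : X ⧸ K₀, (∃ k : ℕ, a ^ 2 ^ k = 1) → a ^ 2 ^ (m + 1) = 1 := by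
    rintro a ⟨k, hk⟩
    obtain ⟨a₀, rfl⟩ := hπs a
    obtain ⟨j, i, hji, hj⟩ := exists_two_part a₀ k
    have h1 : π a₀ = π (a₀ ^ j) := by
      rw [map_pow]
      conv_lhs => rw [← pow_one (π a₀)]
      exact (pow_eq_pow_iff_modEq.mpr ((hj.symm).of_dvd (orderOf_dvd_of_pow_eq_one hk)))
    rw [h1, ← map_pow, (hdeg _ ⟨i, hji⟩).1, map_one]
  have hxπ : ∃ k : ℕ, (π x) ^ 2 ^ k = 1 := by
    obtain ⟨k, hk⟩ := hx
    exact ⟨k, by rw [← map_pow, hk, map_one]⟩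
  have hord : (θ x) ^ 2 ^ (m + 1) = 1 := by
    rw [← map_pow, (hdeg x hx).1, map_one]
  have hdegY : (δ (θ x) - 1) ^ (2 ^ (m + 1) - 1) = 0 := by
    have h1 : (conjEnd W (f1 (π x)) - 1) ^ (2 ^ (m + 1) - 1) = 0 := by
      rw [← geom_sum_eq_sub_one_pow 2 (m + 1) (natCast_end_eq_zero W hpow)]
      refine sum_pow_conjEnd_eq_zero W (f1 (π x)) _ ?_
      rintro _ ⟨v, hv, rfl⟩
      rw [← map_mul, ← map_pow, hexp2 (v * π x), map_one]
      obtain ⟨k, hk⟩ := hxπ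
      have hap : IsPGroup 2 (Subgroup.zpowers (π x)) := by
        obtain ⟨j, -, hj⟩ := (Nat.dvd_prime_pow Nat.prime_two).mp (orderOf_dvd_of_pow_eq_one hk)
        exact IsPGroup.of_card (n := j) (by rw [Nat.card_zpowers, hj])
      obtain ⟨j, hj⟩ := (hap.to_sup_of_normal_right (pCore_isPGroup (p := 2) (G := X ⧸ K₀)))
        ⟨v * π x, Subgroup.mul_mem _ (Subgroup.mem_sup_right hv)
          (Subgroup.mem_sup_left (Subgroup.mem_zpowers _))⟩
      exact ⟨j, congrArg Subtype.val hj⟩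
    show (Φ (conjEnd W (f1 (π x))) - 1) ^ (2 ^ (m + 1) - 1) = 0
    rw [← map_one Φ, ← map_sub, ← map_pow, h1, map_zero]
  -- a minimal invariant subgroup
  set X₀ := θ x with hX₀
  set Y₀ := X₀ ^ 2 ^ m with hY₀
  have hY01 : Y₀ ≠ 1 := fun h => hy (by
    rw [← map_pow]
    rw [hY₀, hX₀, ← map_pow] at h
    exact (hθker _).mp h)
  have hY02 : Y₀ ^ 2 = 1 := by rw [hY₀, ← pow_mul, ← pow_succ, hord]
  obtain ⟨r, hr, Q, hr2, hQ, hxQ, hyQ, -, -⟩ := exists_invariant_not_centralized hYp hY0 X₀ Y₀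
    (by
      obtain ⟨j, -, hj⟩ := (Nat.dvd_prime_pow Nat.prime_two).mp (orderOf_dvd_of_pow_eq_one hord)
      exact ⟨j, hj⟩)
    (Subgroup.pow_mem _ (Subgroup.mem_zpowers _) _) hY01
  obtain ⟨R, hRQ, ⟨hxR, hyR⟩, hRmin⟩ := Finite.exists_le_minimal
    (p := fun R : Subgroup ((X ⧸ K₀) ⧸ U₂) => X₀ ∈ Subgroup.normalizer (R : Set _) ∧
      Y₀ ∉ Subgroup.centralizer (R : Set _)) (a := Q) ⟨hxQ, hyQ⟩
  have hRr : IsPGroup r R := hQ.to_le hRQ
  have hna : ¬ ∀ a ∈ R, ∀ b ∈ R, a * b = b * a := fun hab => hyR fun g hg => hδ (by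
    rw [map_mul, map_mul]
    exact commute_of_degree_lt δ X₀ m hord hdegY hr2 R hRr hxR
      (fun a ha b hb => by rw [← map_mul, ← map_mul, hab a ha b hb]) g hg)
  obtain ⟨hRcl, hRiff, hR3, hRY⟩ := minimal_structure hr2 X₀ Y₀ (Subgroup.pow_mem _ (Subgroup.mem_zpowers _) _)
    hY02 R hRr hxR hyR (fun S hS hxS => by_contra fun h => hS.not_ge (hRmin ⟨hxS, h⟩ hS.le)) hna
  -- `R` lies in the image of the kernel on the centres
  set N := centreKernel X with hN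
  have hyN : x ^ 2 ^ m ∈ N := pow_mem_centreKernel γ hγ x m (hdeg x hx).1 (hdeg x hx).2
  have hRN : R ≤ N.map θ := by
    have : (N.map θ).Normal := Subgroup.Normal.map inferInstance θ hθs
    refine hRY.ge.trans ((Subgroup.commutator_mono le_rfl ?_).trans (Subgroup.commutator_le_right R (N.map θ)))
    rw [Subgroup.zpowers_le, hY₀, hX₀, ← map_pow]
    exact ⟨_, hyN, rfl⟩
  -- the Sylow subgroup of `O_{2',2}` within the kernel
  set M₁ := θ.ker ⊓ N with hM₁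
  have : M₁.Normal := inferInstance
  obtain ⟨S₁⟩ : Nonempty (Sylow 2 M₁) := inferInstance
  set U := (S₁ : Subgroup M₁).map M₁.subtype with hU
  have hUM : U ≤ M₁ := Subgroup.map_subtype_le _
  have hU2 : IsPGroup 2 U := S₁.2.map _
  have hfrat : ∀ g : X, ∃ a ∈ Subgroup.normalizer (U : Set X), ∃ b ∈ M₁, a * b = g := fun g => by
    have h1 : g ∈ Subgroup.normalizer (U : Set X) ⊔ M₁ := by
      rw [hU, Sylow.normalizer_sup_eq_top S₁]
      exact Subgroup.mem_top g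
    exact Subgroup.mem_sup_of_normal_right.mp h1
  set L := N ⊓ Subgroup.normalizer (U : Set X) ⊓ R.comap θ with hL
  have hLR : ∀ g ∈ R, ∃ a ∈ L, θ a = g := by
    intro g hg
    obtain ⟨n, hn, rfl⟩ := hRN hg
    obtain ⟨a, ha, b, hb, rfl⟩ := hfrat n
    have hθ' : θ (a * b) = θ a := by rw [map_mul, MonoidHom.mem_ker.mp hb.1, mul_one]
    refine ⟨a, ⟨⟨?_, ha⟩, ?_⟩, hθ'.symm⟩
    · have h1 := N.mul_mem hn (N.inv_mem hb.2)
      rwa [mul_inv_cancel_right] at h1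
    · show θ a ∈ R
      rwa [← hθ']
  obtain ⟨S₂⟩ : Nonempty (Sylow r L) := inferInstance
  set Rt := (S₂ : Subgroup L).map L.subtype with hRt
  have hRtL : Rt ≤ L := Subgroup.map_subtype_le _
  have hRtr : IsPGroup r Rt := S₂.2.map _
  have hmapL : L.map θ ≤ R := by
    rintro _ ⟨a, ha, rfl⟩
    exact ha.2
  have hRtR : ∀ g ∈ R, ∃ s ∈ Rt, θ s = g := fun g hg => by
    obtain ⟨a, ha, rfl⟩ := hLR g hg
    exact exists_sylow_preimage θ L S₂ (hRr.to_le hmapL) ha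
  -- the corrected `2`-element
  obtain ⟨x₁, hx₁U, hx₁⟩ : ∃ x₁ ∈ Subgroup.normalizer (U : Set X), θ x₁ = X₀ := by
    obtain ⟨a, ha, b, hb, hab⟩ := hfrat x
    exact ⟨a, ha, by rw [hX₀, ← hab, map_mul, MonoidHom.mem_ker.mp hb.1, mul_one]⟩
  have hLconj : ∀ g ∈ L, x₁ * g * x₁⁻¹ ∈ L := by
    rintro g ⟨⟨hgN, hgU⟩, hgR⟩
    refine ⟨⟨(inferInstance : N.Normal).conj_mem g hgN x₁,
      Subgroup.mul_mem _ (Subgroup.mul_mem _ hx₁U hgU) (Subgroup.inv_mem _ hx₁U)⟩, ?_⟩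
    show θ (x₁ * g * x₁⁻¹) ∈ R
    rw [map_mul, map_mul, map_inv, hx₁]
    exact (Subgroup.mem_normalizer_iff.mp hxR _).mp hgR
  obtain ⟨u, huL, hux⟩ : ∃ u ∈ L, u * x₁ ∈ Subgroup.normalizer (Rt : Set X) := by
    let φ : L →* L :=
      { toFun := fun g => ⟨x₁ * g * x₁⁻¹, hLconj g g.2⟩
        map_one' := Subtype.ext (by simp)
        map_mul' := fun a b => Subtype.ext (by simp [mul_assoc]) }
    have hφ : Function.Injective φ := fun a b h => Subtype.ext (by simpa [φ] using congrArg Subtype.val h)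
    let S₃ : Sylow r L := Sylow.ofCard ((S₂ : Subgroup L).map φ) (by
      rw [Subgroup.card_map_of_injective hφ, S₂.card_eq_multiplicity])
    obtain ⟨u, hu⟩ := MulAction.exists_smul_eq L S₃ S₂
    refine ⟨u, u.2, mem_normalizer_map_conj.mpr ?_⟩
    rintro _ ⟨s, hs, rfl⟩
    have h1 : u * φ s * u⁻¹ ∈ (S₂ : Subgroup L) := by
      rw [← hu]
      exact ⟨φ s, ⟨s, hs, rfl⟩, rfl⟩
    refine ⟨_, h1, ?_⟩
    show (u : X) * (x₁ * (s : X) * x₁⁻¹) * (u : X)⁻¹ = (u : X) * x₁ * (s : X) * ((u : X) * x₁)⁻¹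
    group
  have hθu : θ u ∈ R := huL.2
  obtain ⟨k, i, hki, hk⟩ := exists_two_part (u * x₁) (m + 1)
  set x' := (u * x₁) ^ k with hx'
  have hx'2 : ∃ i : ℕ, x' ^ 2 ^ i = 1 := ⟨i, hki⟩
  have hpowR : ∀ j : ℕ, ∃ g ∈ R, θ ((u * x₁) ^ j) = g * X₀ ^ j := by
    intro j
    induction j with
    | zero => exact ⟨1, R.one_mem, by simp⟩
    | succ j ih =>
      obtain ⟨g, hg, hgj⟩ := ih
      refine ⟨g * (X₀ ^ j * θ u * (X₀ ^ j)⁻¹), R.mul_mem hg
        ((Subgroup.mem_normalizer_iff.mp (Subgroup.pow_mem _ hxR j) _).mp hθu), ?_⟩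
      rw [pow_succ, map_mul, hgj, map_mul, hx₁, pow_succ]
      group
  obtain ⟨r₁, hr₁, hx'θ⟩ : ∃ g ∈ R, θ x' = g * X₀ := by
    obtain ⟨g, hg, hgk⟩ := hpowR k
    refine ⟨g, hg, ?_⟩
    rw [hx', hgk, pow_eq_pow_iff_modEq.mpr (hk.of_dvd (orderOf_dvd_of_pow_eq_one hord)), pow_one]
  obtain ⟨r₂, hr₂, hy'θ⟩ : ∃ g ∈ R, θ (x' ^ 2 ^ m) = g * Y₀ := by
    have hgen : ∀ j : ℕ, ∃ g ∈ R, (r₁ * X₀) ^ j = g * X₀ ^ j := by
      intro j
      induction j with
      | zero => exact ⟨1, R.one_mem, by simp⟩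
      | succ j ih =>
        obtain ⟨g, hg, hgj⟩ := ih
        refine ⟨g * (X₀ ^ j * r₁ * (X₀ ^ j)⁻¹), R.mul_mem hg
          ((Subgroup.mem_normalizer_iff.mp (Subgroup.pow_mem _ hxR j) _).mp hr₁), ?_⟩
        rw [pow_succ, hgj, pow_succ]
        group
    obtain ⟨g, hg, hgm⟩ := hgen (2 ^ m)
    exact ⟨g, hg, by rw [map_pow, hx'θ, hgm]⟩
  set y' := x' ^ 2 ^ m with hy'
  have hx'U : x' ∈ Subgroup.normalizer (U : Set X) :=
    Subgroup.pow_mem _ (Subgroup.mul_mem _ huL.1.2 hx₁U) _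
  have hx'R : x' ∈ Subgroup.normalizer (Rt : Set X) := Subgroup.pow_mem _ hux _
  -- elements of `Rt` in `O_{2',2}` centralize `U`
  have hP1 : ∀ s ∈ Rt, θ s = 1 → s ∈ Subgroup.centralizer (U : Set X) := by
    intro s hs hs1
    obtain ⟨j, hj⟩ := hRtr ⟨s, hs⟩
    have hs2 : s ^ r ^ j = 1 := congrArg Subtype.val hj
    obtain ⟨i, hi⟩ := (pCore_isPGroup (p := 2) (G := X ⧸ K₀)) ⟨π s, (hθker s).mp hs1⟩
    have hsK : s ∈ K₀ := (QuotientGroup.eq_one_iff s).mp (orderOf_eq_one_iff.mp (Nat.eq_one_of_dvd_coprimes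
      (Nat.Coprime.pow j i ((Nat.coprime_primes hr.out Nat.prime_two).mpr hr2))
      (orderOf_dvd_of_pow_eq_one (show (π s) ^ r ^ j = 1 by rw [← map_pow, hs2, map_one]))
      (orderOf_dvd_of_pow_eq_one (congrArg Subtype.val hi))))
    intro w hw
    have h1 : s * w * s⁻¹ * w⁻¹ ∈ K₀ := by
      rw [show s * w * s⁻¹ * w⁻¹ = s * (w * s⁻¹ * w⁻¹) by group]
      exact K₀.mul_mem hsK ((inferInstance : K₀.Normal).conj_mem _ (K₀.inv_mem hsK) w)
    have h2 : s * w * s⁻¹ * w⁻¹ ∈ U :=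
      U.mul_mem ((Subgroup.mem_normalizer_iff.mp (hRtL hs).1.2 w).mp hw) (U.inv_mem hw)
    obtain ⟨i', hi'⟩ := hU2 ⟨_, h2⟩
    have h3 : orderOf (s * w * s⁻¹ * w⁻¹) ∣ Nat.card K₀ :=
      Subgroup.orderOf_mk _ h1 ▸ orderOf_dvd_natCard (⟨_, h1⟩ : K₀)
    have h4 := orderOf_eq_one_iff.mp (Nat.eq_one_of_dvd_coprimes (pPrimeCore_coprime.pow_right i') h3
      (orderOf_dvd_of_pow_eq_one (congrArg Subtype.val hi')))
    rw [mul_inv_eq_one, mul_inv_eq_iff_eq_mul] at h4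
    exact h4.symm
  have hRtθ : ∀ s ∈ Rt, θ s ∈ R := fun s hs => (hRtL hs).2
  refine ⟨r, hr, U, Rt, x', hr2, hU2, hRtr, fun g hg => (hUM hg).2, fun g hg => (hRtL hg).1.1,
    fun g hg => (hRtL hg).1.2, hx'U, hx'R, hx'2, ?_, fun z hz => ?_, ?_⟩
  · -- the derived subgroup acts nontrivially
    intro hcon
    obtain ⟨a, ha, b, hb, hab⟩ : ∃ a ∈ R, ∃ b ∈ R, a * b ≠ b * a := by
      by_contra h
      push Not at h
      exact hna h
    obtain ⟨a', ha', hae⟩ := hRtR a ha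
    obtain ⟨b', hb', hbe⟩ := hRtR b hb
    set z := ⁅a', b'⁆ with hzdef
    have hzc : z ∈ Subgroup.centralizer (U : Set X) := hcon (Subgroup.commutator_mem_commutator ha' hb')
    have hzN : z ∈ N := by
      rw [hzdef, commutatorElement_def]
      exact N.mul_mem (N.mul_mem (N.mul_mem (hRtL ha').1.1 (hRtL hb').1.1) (N.inv_mem (hRtL ha').1.1))
        (N.inv_mem (hRtL hb').1.1)
    have hzR : z ∈ Rt := by
      rw [hzdef, commutatorElement_def]
      exact Rt.mul_mem (Rt.mul_mem (Rt.mul_mem ha' hb') (Rt.inv_mem ha')) (Rt.inv_mem hb')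
    have hθz : θ z ≠ 1 := by
      rw [hzdef, map_commutatorElement, hae, hbe]
      exact fun h => hab (commutatorElement_eq_one_iff_mul_comm.mp h)
    set A := Subgroup.zpowers (π z) with hA'
    have hAU : ⁅U₂, A⁆ ≤ U.map π := by
      have : (N.map π).Normal := Subgroup.Normal.map inferInstance π hπs
      intro w hw
      have hw1 : w ∈ U₂ := Subgroup.commutator_le_left U₂ A hw
      obtain ⟨n, hn, rfl⟩ : w ∈ N.map π := (Subgroup.commutator_mono le_rfl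
        (Subgroup.zpowers_le.mpr (show π z ∈ N.map π from ⟨z, hzN, rfl⟩)) |>.trans
          (Subgroup.commutator_le_right U₂ (N.map π))) hw
      have hnM : n ∈ M₁ := ⟨(hθker n).mpr hw1, hn⟩
      exact exists_sylow_preimage π M₁ S₁ ((pCore_isPGroup (p := 2) (G := X ⧸ K₀)).to_le (by
        rintro _ ⟨g, hg, rfl⟩
        exact (hθker g).mp hg.1)) hnM
    have hAc : A ≤ Subgroup.centralizer ((U.map π : Subgroup _) : Set (X ⧸ K₀)) := by
      rw [hA', Subgroup.zpowers_le]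
      rintro _ ⟨w, hw, rfl⟩
      rw [← map_mul, ← map_mul, hzc w hw]
    have h2 : ⁅⁅U₂, A⁆, A⁆ = ⊥ := eq_bot_iff.mpr ((Subgroup.commutator_mono hAU le_rfl).trans (le_of_eq
      (Subgroup.commutator_eq_bot_iff_le_centralizer.mpr (Subgroup.le_centralizer_iff.mp hAc))))
    have hcop : (Nat.card A).Coprime (Nat.card U₂) := by
      obtain ⟨j, hj⟩ := hRtr ⟨z, hzR⟩
      obtain ⟨i, hi⟩ := (pCore_isPGroup (p := 2) (G := X ⧸ K₀)).exists_card_eq
      rw [hA', Nat.card_zpowers, hi]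
      refine Nat.Coprime.coprime_dvd_left ?_
        (Nat.Coprime.pow j i ((Nat.coprime_primes hr.out Nat.prime_two).mpr hr2))
      exact (orderOf_map_dvd π z).trans (orderOf_dvd_of_pow_eq_one (congrArg Subtype.val hj))
    have h3 := CfsgLib.Coprime.commutator_eq_bot_of_commutator_commutator_eq_bot A U₂
      Subgroup.le_normalizer_of_normal hcop (Or.inl inferInstance) h2
    rw [Subgroup.commutator_eq_bot_iff_le_centralizer] at h3
    exact hθz ((hθker z).mpr (centralizer_pCore_le hH h02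
      (Subgroup.le_centralizer_iff.mp h3 (Subgroup.mem_zpowers _))))
  · -- `y'` commutes with the derived subgroup on `U`
    have hzRt : z ∈ Rt := Subgroup.commutator_le.mpr (fun a ha b hb =>
      Rt.mul_mem (Rt.mul_mem (Rt.mul_mem ha hb) (Rt.inv_mem ha)) (Rt.inv_mem hb)) hz
    have hle : ⁅Rt, Rt⁆ ≤ (R ⊓ Subgroup.centralizer (R : Set _)).comap θ :=
      Subgroup.commutator_le.mpr fun a ha b hb => by
        rw [Subgroup.mem_comap, map_commutatorElement]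
        exact hRcl _ (hRtθ a ha) _ (hRtθ b hb)
    have hzθ := hle hz
    rw [Subgroup.mem_comap] at hzθ
    have hmem : ⁅y', z⁆ ∈ Rt := by
      rw [commutatorElement_def]
      exact Rt.mul_mem ((Subgroup.mem_normalizer_iff.mp (Subgroup.pow_mem _ hx'R _) z).mp hzRt) (Rt.inv_mem hzRt)
    refine hP1 _ hmem ?_
    rw [map_commutatorElement, hy'θ, commutatorElement_eq_one_iff_mul_comm, mul_assoc,
      (hRiff _ hzθ.1).mpr hzθ, ← mul_assoc, hzθ.2 r₂ hr₂, mul_assoc]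
  · -- generation
    intro S hSR hSn hCS hSy g hg
    set S' := S.map θ with hS'
    have hS'R : S' ≤ R := by
      rintro _ ⟨s, hs, rfl⟩
      exact hRtθ s (hSR hs)
    have hS'n : ∀ g ∈ R, ∀ s ∈ S', g * s * g⁻¹ ∈ S' := by
      intro g hg s' hs'
      obtain ⟨g', hg', rfl⟩ := hRtR g hg
      obtain ⟨s, hs, rfl⟩ := hs'
      exact ⟨g' * s * g'⁻¹, hSn g' hg' s hs, by rw [map_mul, map_mul, map_inv]⟩
    set T := (S'.subgroupOf R) ⊔ commutator R with hT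
    have : (S'.subgroupOf R).Normal := ⟨fun s hs a => hS'n a a.2 s hs⟩
    have hTn : T.Normal := inferInstance
    have hyinv : Y₀⁻¹ = Y₀ := inv_eq_of_mul_eq_one_right (by rw [← pow_two, hY02])
    have hYn : ∀ a ∈ R, Y₀ * a * Y₀⁻¹ ∈ R := fun a ha =>
      (Subgroup.mem_normalizer_iff.mp (Subgroup.pow_mem _ hxR _) a).mp ha
    have hTy : ∀ a : R, ∀ h : ⁅(a : (X ⧸ K₀) ⧸ U₂), Y₀⁆ ∈ R, (⟨_, h⟩ : R) ∈ T := by
      intro a h
      obtain ⟨a', ha', hae⟩ := hRtR a a.2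
      have h1 : θ ⁅a', y'⁆ ∈ S' := ⟨_, hSy a' ha', rfl⟩
      rw [map_commutatorElement, hae, hy'θ] at h1
      let r' : R := ⟨r₂, hr₂⟩
      have h2 : (⟨_, hS'R h1⟩ : R) ∈ T := Subgroup.mem_sup_left (Subgroup.mem_subgroupOf.mpr h1)
      have h3 : ⁅a, r'⁆ ∈ T :=
        Subgroup.mem_sup_right (Subgroup.commutator_mem_commutator (Subgroup.mem_top _) (Subgroup.mem_top _))
      have h4 := hTn.conj_mem _ (T.mul_mem (T.inv_mem h3) h2) r'⁻¹
      have e : (⟨⁅(a : (X ⧸ K₀) ⧸ U₂), Y₀⁆, h⟩ : R) =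
          r'⁻¹ * (⁅a, r'⁆⁻¹ * ⟨_, hS'R h1⟩) * r'⁻¹⁻¹ := by
        refine Subtype.ext ?_
        simp [r', commutatorElement_def, mul_assoc]
      rwa [e]
    have hTtop : T = ⊤ := by
      rw [eq_top_iff]
      intro a _
      have hle : ⁅R, Subgroup.zpowers Y₀⁆ ≤ T.map R.subtype := by
        refine Subgroup.commutator_le.mpr fun b hb e he => ?_
        obtain ⟨j, rfl⟩ := he
        have hbY : ⁅b, Y₀⁆ ∈ R := by
          rw [show ⁅b, Y₀⁆ = b * (Y₀ * b⁻¹ * Y₀⁻¹) by simp [commutatorElement_def, mul_assoc]]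
          exact R.mul_mem hb (hYn _ (R.inv_mem hb))
        rcases Int.even_or_odd j with ⟨i, rfl⟩ | ⟨i, rfl⟩
        · show ⁅b, Y₀ ^ (i + i)⁆ ∈ _
          rw [← two_mul, zpow_mul, zpow_two, ← pow_two, hY02, one_zpow, commutatorElement_one_right]
          exact one_mem _
        · show ⁅b, Y₀ ^ (2 * i + 1)⁆ ∈ _
          rw [zpow_add_one, zpow_mul, zpow_two, ← pow_two, hY02, one_zpow, one_mul]
          exact ⟨⟨_, hbY⟩, hTy ⟨b, hb⟩ hbY, rfl⟩
      rw [hRY] at hle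
      obtain ⟨a', ha', hae⟩ := hle a.2
      rwa [Subtype.ext hae] at ha'
    have hStop : S'.subgroupOf R = ⊤ := by
      refine frattini_nongenerating (top_le_iff.mp (hTtop.ge.trans ?_))
      exact sup_le le_sup_left ((CfsgLib.PGroup.commutator_le_frattini hRr).trans le_sup_right)
    obtain ⟨s, hs, hse⟩ : θ g ∈ S' := Subgroup.mem_subgroupOf.mp
      (show (⟨θ g, hRtθ g hg⟩ : R) ∈ S'.subgroupOf R by rw [hStop]; exact Subgroup.mem_top _)
    have h1 : s⁻¹ * g ∈ S := hCS ⟨Rt.mul_mem (Rt.inv_mem (hSR hs)) hg,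
      hP1 _ (Rt.mul_mem (Rt.inv_mem (hSR hs)) hg) (by rw [map_mul, map_inv, hse, inv_mul_cancel])⟩
    have h2 := S.mul_mem hs h1
    rwa [mul_inv_cancel_left] at h2

end CfsgLib.HallHigman
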