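import Cfsg.Agent.Lib.HallHigman.SympPlane
import Cfsg.Agent.Lib.HallHigman.TwoLengthContra

/-!
# The norm of a bounded-degree element vanishes on class-two sections

For `x` of exceptional degree, `(v x)^{2^m} x^{2^m}` is central in every invariant class-two subgroup `D`
of the kernel containing `v`.
-/

namespace CfsgLib.HallHigman

open Module (End finrank)
open Cfsg CfsgLib.PCore
open scoped commutatorElement

universe u

variable {X : Type u} [Group X]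

/-- A product power differs from the power by an element of an invariant subgroup. -/
theorem mul_pow_mul_inv_mem {A : Subgroup X} {x v : X} (hx : x ∈ Subgroup.normalizer (A : Set X))
    (hv : v ∈ A) (j : ℕ) : (v * x) ^ j * (x ^ j)⁻¹ ∈ A := by
  induction j with
  | zero => simp
  | succ j ih =>
    have e : (v * x) ^ (j + 1) * (x ^ (j + 1))⁻¹ = v * (x * ((v * x) ^ j * (x ^ j)⁻¹) * x⁻¹) := by
      rw [pow_succ' (v * x), pow_succ' x]; group
    rw [e]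
    exact A.mul_mem hv ((Subgroup.mem_normalizer_iff.mp hx _).mp ih)

/-- The normalizer acts on the omega centre. -/
theorem mem_normalizer_omegaCentre {D : Subgroup X} {g : X} (hg : g ∈ Subgroup.normalizer (D : Set X)) :
    g ∈ Subgroup.normalizer (omegaCentre D : Set X) := by
  refine Subgroup.mem_normalizer_iff.mpr fun z => ⟨omegaCentre_conj_mem hg, fun h => ?_⟩
  have h1 := omegaCentre_conj_mem (Subgroup.inv_mem _ hg) h
  rwa [show g⁻¹ * (g * z * g⁻¹) * g⁻¹⁻¹ = z by group] at h1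

variable [Finite X] {K : Type*} [Field K] [IsAlgClosed K] [CharP K 2]
  {V : Type*} [AddCommGroup V] [Module K V] [FiniteDimensional K V]

/-- A last power centralizes the omega centres of invariant `2`-subgroups of the kernel. -/
theorem pow_commute_omegaCentre (hX : Group.IsSolvable X) (h0 : pCore 2 X = ⊥) (γ : X →* End K V)
    (hγ : Function.Injective γ) (m : ℕ) (D : Subgroup X) (hD2 : IsPGroup 2 D)
    (hDN : D ≤ centreKernel X) {g : X} (hgD : g ∈ Subgroup.normalizer (D : Set X))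
    (hg : g ^ 2 ^ (m + 1) = 1) (hgdeg : (γ g - 1) ^ (2 ^ (m + 1) - 1) = 0) :
    ∀ a ∈ omegaCentre D, a * g ^ 2 ^ m = g ^ 2 ^ m * a := by
  intro a ha
  set y := g ^ 2 ^ m with hy
  have hyN : y ∈ centreKernel X := pow_mem_centreKernel γ hγ g m hg hgdeg
  have hyy : y * y = 1 := by rw [hy, ← pow_add, ← two_mul, ← pow_succ', hg]
  have hyD : y ∈ Subgroup.normalizer (D : Set X) := Subgroup.pow_mem _ hgD _
  by_contra hne1
  set c := ⁅a, y⁆ with hc
  have hcZ : c ∈ omegaCentre D := by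
    rw [hc, show ⁅a, y⁆ = a * (y * a⁻¹ * y⁻¹) by simp [commutatorElement_def, mul_assoc]]
    exact mul_mem ha (omegaCentre_conj_mem hyD (inv_mem ha))
  have hc1 : c ≠ 1 := fun h => hne1 (commutatorElement_eq_one_iff_mul_comm.mp h)
  have hcN : c ∈ centreKernel X := hDN hcZ.1.1
  obtain ⟨i, hi⟩ := hD2 ⟨c, hcZ.1.1⟩
  obtain ⟨q, _, hq2, W, _, _, _, B, H, hH, ρ, hB, hiso, hρc, hσ⟩ :=
    exists_separating_rep hX h0 γ hγ hcN ⟨i, congrArg Subtype.val hi⟩ hc1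
  have haH : a ∈ H := hH (hDN ha.1.1)
  have hyH : y ∈ H := hH hyN
  have hρy : ρ ⟨y, hyH⟩ ≠ 1 := fun h => hρc (by
    rw [show (⟨c, hH hcN⟩ : H) = ⁅(⟨a, haH⟩ : H), ⟨y, hyH⟩⁆ from Subtype.ext hc, map_commutatorElement, h,
      commutatorElement_one_right])
  obtain ⟨σ, hσx, hσσ, hrk⟩ := hσ g m hg hgdeg hyH hρy
  have hσD : (σ : X) ∈ Subgroup.normalizer (D : Set X) := Subgroup.zpowers_le.mpr hgD hσx
  have h1 := Symp.commute_of_abelian hB hq2 (y := ρ ⟨y, hyH⟩) (σ := ρ σ) (by rw [← map_mul, hσσ])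
    (by rw [← map_mul, ← map_one ρ]; exact congrArg ρ (Subtype.ext hyy)) hrk (hiso σ)
    (((omegaCentre D).subgroupOf H).map ρ) (by rintro _ ⟨b, -, rfl⟩; exact hiso b)
    (by
      rintro _ ⟨b, hb, rfl⟩ _ ⟨b', hb', rfl⟩
      exact units_commute_of_eq ρ (Subtype.ext (hb.1.2 (b' : X) hb'.1.1).symm))
    (by
      rintro _ ⟨b, hb, rfl⟩
      rw [← map_mul, ← map_one ρ]
      exact congrArg ρ (Subtype.ext hb.2))
    (by
      rintro _ ⟨b, hb, rfl⟩
      exact ⟨σ * b * σ⁻¹, omegaCentre_conj_mem hσD hb, by rw [map_mul, map_mul, map_inv]⟩)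
    (ρ ⟨a, haH⟩) ⟨⟨a, haH⟩, ha, rfl⟩
  exact hρc (by
    rw [show (⟨c, hH hcN⟩ : H) = ⁅(⟨a, haH⟩ : H), ⟨y, hyH⟩⁆ from Subtype.ext hc, map_commutatorElement,
      commutatorElement_eq_one_iff_mul_comm]
    exact h1)

set_option maxHeartbeats 800000 in
/-- The norm is central in `D`, and trivial on the omega centre. -/
theorem norm_mem_centreOf (hX : Group.IsSolvable X) (h0 : pCore 2 X = ⊥) (γ : X →* End K V)
    (hγ : Function.Injective γ) (m : ℕ) (U D : Subgroup X) (x v : X) (hU2 : IsPGroup 2 U) (hDU : D ≤ U)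
    (hUN : U ≤ centreKernel X) (hxD : x ∈ Subgroup.normalizer (D : Set X))
    (hsq : ∀ a ∈ D, a * a ∈ omegaCentre D) (hcm : ∀ a ∈ D, ∀ b ∈ D, ⁅a, b⁆ ∈ omegaCentre D)
    (hUD : ∀ a ∈ D, ∀ b ∈ U, ⁅a, b⁆ ∈ centreOf D) (hv : v ∈ D)
    (hdx : x ^ 2 ^ (m + 1) = 1 ∧ (γ x - 1) ^ (2 ^ (m + 1) - 1) = 0)
    (hdvx : (v * x) ^ 2 ^ (m + 1) = 1 ∧ (γ (v * x) - 1) ^ (2 ^ (m + 1) - 1) = 0)
    (hyU : x ^ 2 ^ m ∈ U) (hy'U : (v * x) ^ 2 ^ m ∈ U) :
    (v * x) ^ 2 ^ m * x ^ 2 ^ m ∈ centreOf D ∧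
      (v ∈ omegaCentre D → (v * x) ^ 2 ^ m * x ^ 2 ^ m = 1) := by
  classical
  rcases m with _ | n
  · have h1 : ∀ g : X, (γ g - 1) ^ (2 ^ (0 + 1) - 1) = 0 → g = 1 := fun g hg => hγ (by
      rw [map_one]
      simpa [sub_eq_zero] using hg)
    have h2 := h1 _ hdvx.2
    obtain rfl := h1 _ hdx.2
    rw [mul_one] at h2
    subst h2
    simp [one_mem]
  set y := x ^ 2 ^ (n + 1) with hy
  set y' := (v * x) ^ 2 ^ (n + 1) with hy'
  set s := x ^ 2 ^ n with hs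
  set s' := (v * x) ^ 2 ^ n with hs'
  have hss : s * s = y := by rw [hs, hy, ← pow_add, ← two_mul, ← pow_succ']
  have hss' : s' * s' = y' := by rw [hs', hy', ← pow_add, ← two_mul, ← pow_succ']
  have hyy : y * y = 1 := by rw [hy, ← pow_add, ← two_mul, ← pow_succ', hdx.1]
  have hyy' : y' * y' = 1 := by rw [hy', ← pow_add, ← two_mul, ← pow_succ', hdvx.1]
  have hyinv : y⁻¹ = y := inv_eq_of_mul_eq_one_right hyy
  have hvxD : v * x ∈ Subgroup.normalizer (D : Set X) := mul_mem (Subgroup.le_normalizer hv) hxD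
  have hsD : s ∈ Subgroup.normalizer (D : Set X) := Subgroup.pow_mem _ hxD _
  have hs'D : s' ∈ Subgroup.normalizer (D : Set X) := Subgroup.pow_mem _ hvxD _
  set Z₁ := omegaCentre D with hZ₁
  have hZ₁D : Z₁ ≤ D := fun a ha => ha.1.1
  set e := y' * y with he
  have he_eq : e = (v * x) ^ 2 ^ (n + 1) * (x ^ 2 ^ (n + 1))⁻¹ := by rw [he, ← hy, hyinv]
  have heD : e ∈ D := he_eq ▸ mul_pow_mul_inv_mem hxD hv _
  have heZ : v ∈ Z₁ → e ∈ Z₁ := fun h => he_eq ▸ mul_pow_mul_inv_mem (mem_normalizer_omegaCentre hxD) h _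
  set b := s' * s⁻¹ with hb
  have hbD : b ∈ D := mul_pow_mul_inv_mem hxD hv _
  have hbZ : v ∈ Z₁ → b ∈ Z₁ := fun h => mul_pow_mul_inv_mem (mem_normalizer_omegaCentre hxD) h _
  have hbs : b * s = s' := inv_mul_cancel_right _ _
  have hD2 : IsPGroup 2 D := hU2.to_le hDU
  have hDN : D ≤ centreKernel X := hDU.trans hUN
  have hyc : ∀ a ∈ Z₁, a * y = y * a :=
    pow_commute_omegaCentre hX h0 γ hγ (n + 1) D hD2 hDN hxD hdx.1 hdx.2
  have hyc' : ∀ a ∈ Z₁, a * y' = y' * a :=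
    pow_commute_omegaCentre hX h0 γ hγ (n + 1) D hD2 hDN hvxD hdvx.1 hdvx.2
  -- commutators with `y` and `y'` have square one
  have hcomZ : ∀ g ∈ U, (∀ a ∈ Z₁, a * g = g * a) → ∀ a ∈ D, ⁅a, g⁆ ∈ Z₁ := by
    intro g hg hgc a ha
    have hw := hUD a ha g hg
    refine ⟨hw, ?_⟩
    have h1 : ⁅a * a, g⁆ = 1 := commutatorElement_eq_one_iff_mul_comm.mpr (hgc _ (hsq a ha))
    have h2 : a * ⁅a, g⁆ = ⁅a, g⁆ * a := hw.2 a ha
    rw [show ⁅a * a, g⁆ = a * ⁅a, g⁆ * a⁻¹ * ⁅a, g⁆ by simp [commutatorElement_def, mul_assoc], h2,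
      mul_inv_cancel_right] at h1
    exact h1
  -- choose the element to separate
  suffices key : ∀ c ∈ Z₁, c ≠ 1 →
      ((v ∈ Z₁ ∧ c = e) ∨ ∃ u' ∈ D, c = ⁅e, u'⁆) → False by
    refine ⟨⟨heD, fun u' hu' => ?_⟩, fun hvZ => ?_⟩
    · by_contra hne
      exact key ⁅e, u'⁆ (hcm e heD u' hu')
        (fun h => hne (commutatorElement_eq_one_iff_mul_comm.mp h).symm) (Or.inr ⟨u', hu', rfl⟩)
    · by_contra hne
      exact key e (heZ hvZ) hne (Or.inl ⟨hvZ, rfl⟩)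
  intro c hcZ hc1 hcase
  have hcN : c ∈ centreKernel X := hDN (hZ₁D hcZ)
  obtain ⟨i, hi⟩ := hD2 ⟨c, hZ₁D hcZ⟩
  obtain ⟨q, _, hq2, W, _, _, _, B, H, hH, ρ, hB, hiso, hρc, hσ⟩ :=
    exists_separating_rep hX h0 γ hγ hcN ⟨i, congrArg Subtype.val hi⟩ hc1
  have hDH : D ≤ H := fun a ha => hH (hDN ha)
  have hyH : y ∈ H := hH (hUN hyU)
  have hy'H : y' ∈ H := hH (hUN hy'U)
  have : Finite W := Module.finite_of_finite (ZMod q)
  -- powers and their ranks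
  have hrk : ∀ (g : X) (hdg : g ^ 2 ^ (n + 1 + 1) = 1 ∧ (γ g - 1) ^ (2 ^ (n + 1 + 1) - 1) = 0)
      (hgH : g ^ 2 ^ (n + 1) ∈ H), finrank (ZMod q) (Symp.minus (ρ ⟨g ^ 2 ^ (n + 1), hgH⟩)) ≤ 2 ∧
        (ρ ⟨g ^ 2 ^ (n + 1), hgH⟩ ≠ 1 → g ^ 2 ^ n ∈ H) := by
    intro g hdg hgH
    by_cases h1 : ρ ⟨g ^ 2 ^ (n + 1), hgH⟩ = 1
    · refine ⟨?_, fun h => absurd h1 h⟩
      have hbot : Symp.minus (ρ ⟨g ^ 2 ^ (n + 1), hgH⟩) = ⊥ := (Submodule.eq_bot_iff _).mpr fun w hw => by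
        have h2 := Symp.mem_minus.mp hw
        rw [h1, one_smul] at h2
        exact Symp.eq_zero_of_eq_neg hq2 h2
      rw [hbot, finrank_bot]
      exact Nat.zero_le 2
    · obtain ⟨σ, hσx, hσσ, hr⟩ := hσ g (n + 1) hdg.1 hdg.2 hgH h1
      refine ⟨hr.le, fun _ => ?_⟩
      have : Fact (Nat.Prime 2) := ⟨Nat.prime_two⟩
      have hne : ¬ g ^ 2 ^ (n + 1) = 1 := fun h => h1 (by
        rw [show (⟨g ^ 2 ^ (n + 1), hgH⟩ : H) = 1 from Subtype.ext h, map_one])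
      have hord : orderOf g = 2 ^ (n + 1 + 1) := orderOf_eq_prime_pow hne hdg.1
      obtain ⟨j, hj⟩ := hσx
      simp only at hj
      have h2 : g ^ (j + j) = g ^ ((2 : ℤ) ^ (n + 1)) := by
        have h := congrArg Subtype.val hσσ
        rw [zpow_add, hj, show ((2 : ℤ) ^ (n + 1)) = ((2 ^ (n + 1) : ℕ) : ℤ) by push_cast; rfl, zpow_natCast]
        exact h
      have h3 := (zpow_eq_zpow_iff_modEq).mp h2
      rw [hord, Int.modEq_iff_dvd] at h3
      obtain ⟨k, hk⟩ := h3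
      push_cast at hk
      have hjk : (2 : ℤ) ^ n = j + 2 ^ (n + 1) * k := by
        rw [show n + 1 + 1 = n + 2 from rfl, pow_succ, pow_succ, pow_succ] at hk
        rw [pow_succ]
        linarith
      have h4 : g ^ 2 ^ n = (σ : X) * (g ^ 2 ^ (n + 1)) ^ k := by
        rw [← hj, ← zpow_natCast g (2 ^ n), ← zpow_natCast g (2 ^ (n + 1)), ← zpow_mul, ← zpow_add]
        congr 1
      rw [h4]
      exact H.mul_mem σ.2 (H.zpow_mem hgH k)
  -- the weight space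
  set E₁ := (Z₁.subgroupOf H).map ρ with hE₁
  have hE₁exp : ∀ z ∈ E₁, z * z = 1 := by
    rintro _ ⟨a, ha, rfl⟩
    rw [← map_mul, ← map_one ρ]
    exact congrArg ρ (Subtype.ext ha.2)
  have hE₁ab : ∀ a ∈ E₁, ∀ a' ∈ E₁, a * a' = a' * a := by
    rintro _ ⟨a, ha, rfl⟩ _ ⟨a', ha', rfl⟩
    exact units_commute_of_eq ρ (Subtype.ext (ha.1.2 _ (hZ₁D ha')).symm)
  have hE₁iso : ∀ z ∈ E₁, Symp.IsIso B z := by rintro _ ⟨a, -, rfl⟩; exact hiso a
  have hcE : ρ ⟨c, hH hcN⟩ ∈ E₁ := ⟨⟨c, hH hcN⟩, hcZ, rfl⟩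
  have hcneg : Symp.minus (ρ ⟨c, hH hcN⟩) ≠ ⊥ := fun h => hρc (Symp.units_ext fun w => by
    obtain ⟨a, a', ha, ha', rfl⟩ := Symp.exists_split hq2 (hE₁exp _ hcE) w
    rw [(Submodule.eq_bot_iff _).mp h a' (Symp.mem_minus.mpr ha'), add_zero, ha, one_smul])
  obtain ⟨v₀, hvm, hv0, hv₀⟩ := Symp.exists_joint_eigen hE₁exp hE₁ab hcneg fun z hz p hp => by
    rw [Symp.mem_minus] at hp ⊢
    rw [← mul_smul, hE₁ab _ hcE z hz, mul_smul, hp, smul_neg]
  set W' := Symp.weightSpace E₁ v₀ with hW'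
  have hvW : v₀ ∈ W' := Symp.self_mem_weightSpace
  have : Nontrivial W' := (Submodule.nontrivial_iff_ne_bot).mpr fun h => hv0 (by
    rwa [h, Submodule.mem_bot] at hvW)
  have hWnd := Symp.weightSpace_nondeg hB hq2 hE₁exp hE₁iso hE₁ab hv0 hv₀
  let γH : H →* End (ZMod q) W := (Units.coeHom _).comp ρ
  let H' := stabSub γH W'
  have hmemH' : ∀ g : H, (∀ a ∈ Z₁, a * (g : X) = g * a) → g ∈ H' := fun g hg v' hv' =>
    Symp.smul_mem_weightSpace (g := ρ g) (by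
      rintro _ ⟨a, ha, rfl⟩
      exact units_commute_of_eq ρ (Subtype.ext (hg a ha))) hv'
  let B' : W' → W' → Kˣ := fun a a' => B a a'
  have hB' : Symp.IsSymp B' := ⟨fun a a' a'' => hB.add_left a a' a'', fun a a' a'' => hB.add_right a a' a'',
    fun a => hB.alt a, fun a ha => Subtype.ext (hWnd a a.2 fun w hw => ha ⟨w, hw⟩)⟩
  let φ := restrictUnits γH W'
  let P : Subgroup X := H'.map H.subtype
  let eP : P ≃* H' := (H'.equivMapOfInjective H.subtype H.subtype_injective).symm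
  have hmemP : ∀ {g : X} (hg : g ∈ H), (⟨g, hg⟩ : H) ∈ H' → g ∈ P := fun {g} hg h => ⟨⟨g, hg⟩, h, rfl⟩
  let ψ : P →* (End (ZMod q) W')ˣ := φ.comp eP.toMonoidHom
  have heP : ∀ g : P, (((eP g : H') : H) : X) = g := fun g => by
    conv_rhs => rw [← eP.symm_apply_apply g]
    rfl
  have hψ : ∀ (g : P) (hg : (g : X) ∈ H) (a : W'), ((ψ g • a : W') : W) = ρ ⟨g, hg⟩ • (a : W) :=
    fun g hg a => by
      have e1 : ((eP g : H') : H) = ⟨g, hg⟩ := Subtype.ext (heP g)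
      rw [← e1]
      rfl
  have hiso' : ∀ g : P, Symp.IsIso B' (ψ g) := fun g a a' => by
    show B (ψ g • a : W') (ψ g • a' : W') = B a a'
    have hgH : (g : X) ∈ H := by rw [← heP g]; exact ((eP g : H') : H).2
    rw [hψ g hgH, hψ g hgH]
    exact hiso _ _ _
  have hDP : D ≤ P := fun a ha => hmemP (hDH ha) (hmemH' _ fun z hz => (hz.1.2 a ha).symm)
  have hyP : y ∈ P := hmemP hyH (hmemH' _ hyc)
  have hy'P : y' ∈ P := hmemP hy'H (hmemH' _ hyc')
  have hscal : ∀ (g : P), (g : X) ∈ Z₁ → ψ g = 1 ∨ ψ g = -1 := fun g hg => by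
    have hgH : (g : X) ∈ H := hDH (hZ₁D hg)
    have hgE : ρ ⟨g, hgH⟩ ∈ E₁ := ⟨⟨g, hgH⟩, hg, rfl⟩
    rcases hv₀ _ hgE with h | h
    · refine Or.inl (Symp.units_ext fun a => Subtype.ext ?_)
      rw [hψ g hgH, one_smul, a.2 _ hgE 1 (by rw [one_smul, h]), one_smul]
    · refine Or.inr (Symp.units_ext fun a => Subtype.ext ?_)
      rw [hψ g hgH, Units.neg_smul, one_smul, Submodule.coe_neg, a.2 _ hgE (-1) (by rw [neg_one_smul, h]),
        neg_one_smul]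
  have hψc : ψ ⟨c, hDP (hZ₁D hcZ)⟩ = -1 := by
    refine Symp.units_ext fun a => Subtype.ext ?_
    rw [hψ ⟨c, _⟩ (hH hcN), Units.neg_smul, one_smul, Submodule.coe_neg,
      a.2 _ hcE (-1) (by rw [neg_one_smul]; exact Symp.mem_minus.mp hvm), neg_one_smul]
  set yP : P := ⟨y, hyP⟩ with hyPdef
  set y'P : P := ⟨y', hy'P⟩ with hy'Pdef
  set bP : P := ⟨b, hDP hbD⟩ with hbPdef
  set eP' : P := ⟨e, hDP heD⟩ with heP'def
  have heyy : ψ y'P * ψ yP = ψ eP' := by rw [← map_mul]; exact congrArg ψ (Subtype.ext he.symm)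
  have hrkψ : ∀ (g : P) (hg : (g : X) ∈ H), finrank (ZMod q) (Symp.minus (ρ ⟨g, hg⟩)) ≤ 2 →
      finrank (ZMod q) (Symp.minus (ψ g)) ≤ 2 := fun g hg h => by
    refine le_trans ?_ h
    rw [(Submodule.equivMapOfInjective W'.subtype W'.injective_subtype (Symp.minus (ψ g))).finrank_eq]
    refine Submodule.finrank_mono ?_
    rintro _ ⟨a, ha, rfl⟩
    have h1 := congrArg Subtype.val (Symp.mem_minus.mp ha)
    rw [hψ g hg] at h1
    exact Symp.mem_minus.mpr h1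
  -- square roots stabilize the weight space
  have hroot : ∀ (g : X) (hdg : g ^ 2 ^ (n + 1 + 1) = 1 ∧ (γ g - 1) ^ (2 ^ (n + 1 + 1) - 1) = 0)
      (hgP : g ^ 2 ^ (n + 1) ∈ P) (hgH : g ^ 2 ^ (n + 1) ∈ H),
      g ^ 2 ^ n ∈ Subgroup.normalizer (D : Set X) → (∀ a ∈ Z₁, a * g ^ 2 ^ (n + 1) = g ^ 2 ^ (n + 1) * a) →
      ψ ⟨_, hgP⟩ ≠ 1 → g ^ 2 ^ n ∈ P := by
    intro g hdg hgP hgH hgD hgc hne
    obtain ⟨hr, hmem⟩ := hrk g hdg hgH
    have hρne : ρ ⟨_, hgH⟩ ≠ 1 := fun h => hne (Symp.units_ext fun a => Subtype.ext (by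
      rw [hψ ⟨_, hgP⟩ hgH, h, one_smul, one_smul]))
    have hgsH := hmem hρne
    refine hmemP hgsH fun w hw => ?_
    refine Symp.smul_mem_weightSpace_of_sq hB hq2 hE₁exp hE₁iso hE₁ab hv0 hv₀ (σ := ρ ⟨_, hgsH⟩)
      (y := ρ ⟨_, hgH⟩) (by
        rw [← map_mul]
        exact congrArg ρ (Subtype.ext (by
          show g ^ 2 ^ n * g ^ 2 ^ n = _
          rw [← pow_add, ← two_mul, ← pow_succ'])))
      (by
        rw [← map_mul, ← map_one ρ]
        exact congrArg ρ (Subtype.ext (by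
          show g ^ 2 ^ (n + 1) * g ^ 2 ^ (n + 1) = 1
          rw [← pow_add, ← two_mul, ← pow_succ', hdg.1])))
      (hiso _) ?_ ?_ hr ?_ w hw
    · rintro _ ⟨a, ha, rfl⟩
      refine ⟨⟨_, hgsH⟩⁻¹ * a * ⟨_, hgsH⟩, ?_, by rw [map_mul, map_mul, map_inv]⟩
      have h1 := omegaCentre_conj_mem (Subgroup.inv_mem _ hgD) ha
      rw [inv_inv] at h1
      exact h1
    · rintro _ ⟨a, ha, rfl⟩
      exact units_commute_of_eq ρ (Subtype.ext (hgc a ha))
    · by_contra hall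
      push Not at hall
      exact hne (Symp.units_ext fun a => Subtype.ext (by
        rw [hψ ⟨_, hgP⟩ hgH, hall a a.2, one_smul]))
  have hne1 : ψ yP ≠ 1 ∨ ψ y'P ≠ 1 := by
    by_contra h
    push Not at h
    have he1 : ψ eP' = 1 := by rw [← heyy, h.1, h.2, one_mul]
    have h1 : ψ ⟨c, hDP (hZ₁D hcZ)⟩ = 1 := by
      rcases hcase with ⟨-, hce⟩ | ⟨u', hu', hce⟩
      · rw [← he1]; exact congrArg ψ (Subtype.ext hce)
      · rw [show (⟨c, hDP (hZ₁D hcZ)⟩ : P) = ⁅eP', ⟨u', hDP hu'⟩⁆ from Subtype.ext hce,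
          map_commutatorElement, he1, commutatorElement_one_left]
    rw [hψc] at h1
    exact Symp.smul_ne_neg hq2 1 h1.symm
  have hsP : s ∈ P ∧ s' ∈ P := by
    rcases hne1 with h | h
    · have h1 : s ∈ P := hroot x hdx hyP hyH hsD hyc h
      exact ⟨h1, hbs ▸ P.mul_mem (hDP hbD) h1⟩
    · have h1 : s' ∈ P := hroot (v * x) hdvx hy'P hy'H hs'D hyc' h
      refine ⟨?_, h1⟩
      have h2 := P.mul_mem (P.inv_mem (hDP hbD)) h1
      rwa [← hbs, inv_mul_cancel_left] at h2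
  set sP : P := ⟨s, hsP.1⟩ with hsPdef
  set s'P : P := ⟨s', hsP.2⟩ with hs'Pdef
  have hψbs : ψ bP * ψ sP = ψ s'P := by rw [← map_mul]; exact congrArg ψ (Subtype.ext hbs)
  have hψss : ψ sP * ψ sP = ψ yP := by rw [← map_mul]; exact congrArg ψ (Subtype.ext hss)
  have hψss' : ψ s'P * ψ s'P = ψ y'P := by rw [← map_mul]; exact congrArg ψ (Subtype.ext hss')
  have hψyy : ψ yP * ψ yP = 1 := by rw [← map_mul, ← map_one ψ]; exact congrArg ψ (Subtype.ext hyy)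
  have hψyy' : ψ y'P * ψ y'P = 1 := by
    rw [← map_mul, ← map_one ψ]; exact congrArg ψ (Subtype.ext hyy')
  rcases hcase with ⟨hvZ, hce⟩ | ⟨u', hu', hce⟩
  · -- `b` is a sign on the weight space
    have hy'eq : ψ y'P = ψ yP := by
      rw [← hψss', ← hψbs]
      rcases hscal bP (hbZ hvZ) with h | h <;> rw [h]
      · rw [one_mul, hψss]
      · rw [neg_one_mul, neg_mul_neg, hψss]
    rw [show (⟨c, hDP (hZ₁D hcZ)⟩ : P) = eP' from Subtype.ext hce, ← heyy, hy'eq, hψyy] at hψc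
    exact Symp.smul_ne_neg hq2 1 hψc
  · set uP : P := ⟨u', hDP hu'⟩ with huPdef
    have hsign : ∀ (g : P) (a : P), ((⁅(a : X), (g : X)⁆) ∈ Z₁) →
        ψ g * ψ a = ψ a * ψ g ∨ ψ g * ψ a = -(ψ a * ψ g) := by
      intro g a hga
      have h1 : ψ a * ψ g = ψ ⁅a, g⁆ * (ψ g * ψ a) := by
        rw [← map_mul, ← map_mul, ← map_mul, commutatorElement_def]
        congr 1
        group
      rcases hscal ⁅a, g⁆ hga with h | h <;> rw [h] at h1
      · exact Or.inl (by rw [h1, one_mul])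
      · exact Or.inr (by rw [h1, neg_one_mul, neg_neg])
    have hanti : ψ y'P * ψ yP * ψ uP = -(ψ uP * (ψ y'P * ψ yP)) := by
      have h1 : ψ eP' * ψ uP = ψ ⁅eP', uP⁆ * (ψ uP * ψ eP') := by
        rw [← map_mul, ← map_mul, ← map_mul, commutatorElement_def]
        congr 1
        group
      rw [show ⁅eP', uP⁆ = (⟨c, hDP (hZ₁D hcZ)⟩ : P) from Subtype.ext hce.symm, hψc, neg_one_mul] at h1
      rw [heyy]
      exact h1
    have hb2 : ψ bP * ψ bP = 1 ∨ ψ bP * ψ bP = -1 := by rw [← map_mul]; exact hscal _ (hsq b hbD)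
    by_cases hy1 : ψ yP = 1
    · -- exchange the roles of `x` and `v * x`
      have hy1' : ψ y'P ≠ 1 := hne1.resolve_left fun h => h hy1
      have hbinv : (ψ bP)⁻¹ * ψ s'P = ψ sP := by rw [← hψbs, inv_mul_cancel_left]
      refine Symp.false_of_plane_squares hB' hq2 (σ := ψ s'P) (b := (ψ bP)⁻¹) (u := ψ uP)
        (y := ψ y'P) (y' := ψ yP) (hiso' _) (hiso' bP).inv hψss' (by rw [hbinv, hψss]) hψyy' hψyy
        (hrkψ y'P hy'H (hrk (v * x) hdvx hy'H).1) (hrkψ yP hyH (hrk x hdx hyH).1) hy1' ?_ ?_ ?_ ?_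
      · rcases hb2 with h | h
        · exact Or.inl (by rw [← mul_inv_rev, h, inv_one])
        · exact Or.inr (by rw [← mul_inv_rev, h]; exact inv_eq_of_mul_eq_one_right (by rw [neg_one_mul, neg_neg]))
      · rw [← map_inv]
        exact hsign y'P bP⁻¹ (hcomZ y' hy'U hyc' _ (D.inv_mem hbD))
      · exact hsign y'P uP (hcomZ y' hy'U hyc' _ hu')
      · rw [hy1, mul_one] at hanti
        rw [hy1, one_mul]
        exact hanti
    · exact Symp.false_of_plane_squares hB' hq2 (σ := ψ sP) (b := ψ bP) (u := ψ uP) (y := ψ yP)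
        (y' := ψ y'P) (hiso' _) (hiso' _) hψss (by rw [hψbs, hψss']) hψyy hψyy'
        (hrkψ yP hyH (hrk x hdx hyH).1) (hrkψ y'P hy'H (hrk (v * x) hdvx hy'H).1) hy1 hb2
        (hsign yP bP (hcomZ y hyU hyc _ hbD)) (hsign yP uP (hcomZ y hyU hyc _ hu')) hanti

end CfsgLib.HallHigman
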