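import Cfsg.Agent.Lib.HallHigman.TwoLengthLift

/-!
# A minimal invariant `2`-subgroup with fixed-point-free derived operator group
-/

namespace CfsgLib.HallHigman

open scoped commutatorElement IsMulCommutative

variable {X : Type*} [Group X] [Finite X]

/-- The elements of order at most two of the centre of `U`. -/
def omegaCentre (U : Subgroup X) : Subgroup X where
  carrier := {u | u ∈ centreOf U ∧ u * u = 1}
  one_mem' := ⟨one_mem _, one_mul 1⟩
  mul_mem' := fun {a b} ha hb => ⟨mul_mem ha.1 hb.1, by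
    have h1 : b * a = a * b := (hb.1.2 a ha.1.1).symm
    rw [mul_assoc a b, ← mul_assoc b a, h1, mul_assoc a b b, hb.2, mul_one, ha.2]⟩
  inv_mem' := fun {a} ha => ⟨inv_mem ha.1, by rw [← mul_inv_rev, ha.2, inv_one]⟩

omit [Finite X] in
theorem mem_omegaCentre {U : Subgroup X} {u : X} : u ∈ omegaCentre U ↔ u ∈ centreOf U ∧ u * u = 1 := Iff.rfl

omit [Finite X] in
theorem centreOf_conj_mem {U : Subgroup X} {g : X} (hg : g ∈ Subgroup.normalizer (U : Set X)) {z : X}
    (hz : z ∈ centreOf U) : g * z * g⁻¹ ∈ centreOf U := by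
  refine ⟨(Subgroup.mem_normalizer_iff.mp hg z).mp hz.1, fun b hb => ?_⟩
  have h1 := hz.2 _ ((Subgroup.mem_normalizer_iff''.mp hg b).mp hb)
  calc b * (g * z * g⁻¹) = g * (g⁻¹ * b * g * z) * g⁻¹ := by group
    _ = g * (z * (g⁻¹ * b * g)) * g⁻¹ := by rw [h1]
    _ = g * z * g⁻¹ * b := by group

omit [Finite X] in
theorem omegaCentre_conj_mem {U : Subgroup X} {g : X} (hg : g ∈ Subgroup.normalizer (U : Set X)) {z : X}
    (hz : z ∈ omegaCentre U) : g * z * g⁻¹ ∈ omegaCentre U := by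
  refine ⟨centreOf_conj_mem hg hz.1, ?_⟩
  rw [show g * z * g⁻¹ * (g * z * g⁻¹) = g * (z * z) * g⁻¹ by group, hz.2, mul_one, mul_inv_cancel]

omit [Finite X] in
/-- The Frattini subgroup of `U` is invariant under the normalizer. -/
theorem frattini_conj_mem {U : Subgroup X} {g : X} (hg : g ∈ Subgroup.normalizer (U : Set X)) {z : X}
    (hz : z ∈ (frattini U).map U.subtype) : g * z * g⁻¹ ∈ (frattini U).map U.subtype := by
  obtain ⟨⟨z, hzU⟩, hz, rfl⟩ := hz
  let e : U ≃* U :=
    { toFun := fun a => ⟨g * a * g⁻¹, (Subgroup.mem_normalizer_iff.mp hg a).mp a.2⟩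
      invFun := fun a => ⟨g⁻¹ * a * g, (Subgroup.mem_normalizer_iff''.mp hg a).mp a.2⟩
      left_inv := fun a => Subtype.ext (by simp [mul_assoc])
      right_inv := fun a => Subtype.ext (by simp [mul_assoc])
      map_mul' := fun a b => Subtype.ext (by simp [mul_assoc]) }
  exact ⟨e ⟨z, hzU⟩, (Subgroup.characteristic_iff_le_comap.mp (inferInstance : (frattini U).Characteristic) e) hz,
    rfl⟩

/-- A minimal invariant subgroup on which the derived operator group acts nontrivially. -/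
theorem exists_special_subgroup {r : ℕ} [Fact r.Prime] (hr2 : r ≠ 2) (U R : Subgroup X) (x' : X)
    (hU : IsPGroup 2 U) (hR : IsPGroup r R) (hRU : R ≤ Subgroup.normalizer (U : Set X))
    (hxU : x' ∈ Subgroup.normalizer (U : Set X)) (hxR : x' ∈ Subgroup.normalizer (R : Set X))
    (hne : ¬ ⁅R, R⁆ ≤ Subgroup.centralizer (U : Set X)) :
    ∃ U₀ : Subgroup X, U₀ ≤ U ∧ R ≤ Subgroup.normalizer (U₀ : Set X) ∧
      x' ∈ Subgroup.normalizer (U₀ : Set X) ∧ ¬ ⁅R, R⁆ ≤ Subgroup.centralizer (U₀ : Set X) ∧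
      ⁅U₀, ⁅R, R⁆⁆ = U₀ ∧ (∀ a ∈ U₀, a * a ∈ omegaCentre U₀) ∧
      (∀ a ∈ U₀, ∀ b ∈ U₀, ⁅a, b⁆ ∈ omegaCentre U₀) ∧
      ((∀ a ∈ U₀, ∀ b ∈ U₀, a * b = b * a) → U₀ ≤ omegaCentre U₀) ∧
      ((¬ ∀ a ∈ U₀, ∀ b ∈ U₀, a * b = b * a) → ∀ a ∈ U₀,
        (∀ z ∈ ⁅R, R⁆, ⁅z, a⁆ ∈ centreOf U₀) → a ∈ centreOf U₀) := by
  classical
  have := Fact.mk Nat.prime_two
  set Z₀ := ⁅R, R⁆ with hZ₀
  have hZR : Z₀ ≤ R := Subgroup.commutator_le.mpr fun a ha b hb =>
    R.mul_mem (R.mul_mem (R.mul_mem ha hb) (R.inv_mem ha)) (R.inv_mem hb)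
  have hZn : ∀ g ∈ Subgroup.normalizer (R : Set X), g ∈ Subgroup.normalizer (Z₀ : Set X) := fun g hg =>
    conj_mem_commutator hg hg
  obtain ⟨U₀, hU₀U, ⟨hRU₀, hxU₀, hne₀⟩, hmin⟩ := Finite.exists_le_minimal
    (p := fun W : Subgroup X => R ≤ Subgroup.normalizer (W : Set X) ∧
      x' ∈ Subgroup.normalizer (W : Set X) ∧ ¬ Z₀ ≤ Subgroup.centralizer (W : Set X)) (a := U) ⟨hRU, hxU, hne⟩
  have hU₀2 : IsPGroup 2 U₀ := hU.to_le hU₀U
  have hcop : (Nat.card Z₀).Coprime (Nat.card U₀) := by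
    obtain ⟨j, hj⟩ := (hR.to_le hZR).exists_card_eq
    obtain ⟨i, hi⟩ := hU₀2.exists_card_eq
    rw [hj, hi]
    exact Nat.Coprime.pow j i ((Nat.coprime_primes Fact.out Nat.prime_two).mpr hr2)
  have hZU₀ : Z₀ ≤ Subgroup.normalizer (U₀ : Set X) := hZR.trans hRU₀
  -- proper invariant subgroups are centralized
  have hsmall : ∀ W : Subgroup X, W ≤ U₀ → ¬ U₀ ≤ W →
      (∀ g ∈ Subgroup.normalizer (U₀ : Set X), g ∈ Subgroup.normalizer (R : Set X) →
        g ∈ Subgroup.normalizer (W : Set X)) → Z₀ ≤ Subgroup.centralizer (W : Set X) := fun W hW hlt hn => by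
    by_contra h
    exact hlt (hmin ⟨fun g hg => hn g (hRU₀ hg) (Subgroup.le_normalizer hg), hn x' hxU₀ hxR, h⟩ hW)
  have hnilZ : Group.IsNilpotent Z₀ := (hR.to_le hZR).isNilpotent
  have hsolv : Group.IsSolvable Z₀ ∨ Group.IsSolvable U₀ := Or.inl inferInstance
  have hcomm : ⁅U₀, Z₀⁆ = U₀ := by
    refine le_antisymm (CfsgLib.Coprime.commutator_le_of_normalizes hZU₀) ?_
    by_contra h
    have h1 := hsmall _ (CfsgLib.Coprime.commutator_le_of_normalizes hZU₀) h
      fun g hgU hgR => conj_mem_commutator hgU (hZn g hgR)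
    have h2 : ⁅⁅U₀, Z₀⁆, Z₀⁆ = ⊥ :=
      Subgroup.commutator_eq_bot_iff_le_centralizer.mpr (Subgroup.le_centralizer_iff.mp h1)
    exact hne₀ (Subgroup.le_centralizer_iff.mp (Subgroup.commutator_eq_bot_iff_le_centralizer.mp
      (CfsgLib.Coprime.commutator_eq_bot_of_commutator_commutator_eq_bot Z₀ U₀ hZU₀ hcop hsolv h2)))
  have hnt : Nontrivial U₀ := (Subgroup.nontrivial_iff_ne_bot U₀).mpr fun h => hne₀ fun z _ w hw => by
    rw [h] at hw
    rw [Subgroup.mem_bot.mp hw, one_mul, mul_one]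
  set Φ := (frattini U₀).map U₀.subtype with hΦ
  have hΦc : Z₀ ≤ Subgroup.centralizer (Φ : Set X) := by
    refine hsmall Φ (Subgroup.map_subtype_le _) (fun h => ?_) fun g hgU _ =>
      mem_normalizer_map_conj.mpr fun z hz => frattini_conj_mem hgU hz
    refine CfsgLib.PGroup.frattini_ne_top (P := U₀) (top_le_iff.mp fun a _ => ?_)
    obtain ⟨b, hb, hbe⟩ := h a.2
    rwa [Subtype.ext hbe] at hb
  have hsq : ∀ a ∈ U₀, a * a ∈ Φ := fun a ha =>
    ⟨⟨a, ha⟩ ^ 2, CfsgLib.PGroup.pow_mem_frattini hU₀2 _, by rw [map_pow]; exact pow_two a⟩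
  have hΦfix : ∀ a ∈ Φ, a ∈ U₀ ∧ ∀ z ∈ Z₀, z * a = a * z := fun a ha =>
    ⟨Subgroup.map_subtype_le _ ha, fun z hz => (hΦc hz a ha).symm⟩
  refine ⟨U₀, hU₀U, hRU₀, hxU₀, hne₀, hcomm, ?_⟩
  by_cases hab : ∀ a ∈ U₀, ∀ b ∈ U₀, a * b = b * a
  · have : IsMulCommutative U₀ := ⟨⟨fun a b => Subtype.ext (hab a a.2 b b.2)⟩⟩
    have hbot := CfsgLib.Coprime.commutator_inf_centralizer_eq_bot Z₀ U₀ hZU₀ hcop
    rw [hcomm] at hbot
    have h1 : ∀ a ∈ U₀, a * a = 1 := fun a ha => by
      have h2 := hΦfix _ (hsq a ha)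
      rw [← Subgroup.mem_bot, ← hbot]
      exact ⟨h2.1, fun z hz => h2.2 z hz⟩
    have hle : U₀ ≤ omegaCentre U₀ := fun a ha => ⟨⟨ha, fun b hb => hab b hb a ha⟩, h1 a ha⟩
    refine ⟨fun a ha => by rw [h1 a ha]; exact one_mem _, fun a ha b hb => ?_, fun _ => hle,
      fun h => absurd hab h⟩
    rw [commutatorElement_eq_one_iff_mul_comm.mpr (hab a ha b hb)]
    exact one_mem _
  -- the nonabelian case
  set C := centreOf U₀ with hC
  have hCc : Z₀ ≤ Subgroup.centralizer (C : Set X) := by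
    refine hsmall C inf_le_left (fun h => hab fun a ha b hb => ((h ha).2 b hb).symm) fun g hgU _ =>
      mem_normalizer_map_conj.mpr fun z hz => centreOf_conj_mem hgU hz
  have hD : ⁅U₀, U₀⁆ ≤ Φ := by
    rw [← Subgroup.map_subtype_commutator]
    exact Subgroup.map_mono (CfsgLib.PGroup.commutator_le_frattini hU₀2)
  -- fixed points are central
  have hP : ∀ a ∈ U₀, (∀ z ∈ Z₀, z * a = a * z) → a ∈ C := by
    intro a ha hfix
    set P := U₀ ⊓ Subgroup.centralizer (Z₀ : Set X) with hPdef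
    have h1 : ⁅⁅U₀, Z₀⁆, P⁆ = ⊥ := by
      refine Subgroup.commutator_commutator_eq_bot_of_rotate ?_ ?_
      · rw [show ⁅Z₀, P⁆ = ⊥ from Subgroup.commutator_eq_bot_iff_le_centralizer.mpr
          (Subgroup.le_centralizer_iff.mp inf_le_right), Subgroup.commutator_bot_left]
      · rw [Subgroup.commutator_eq_bot_iff_le_centralizer]
        refine ((Subgroup.commutator_mono inf_le_left le_rfl).trans hD).trans ?_
        exact Subgroup.le_centralizer_iff.mp hΦc
    rw [hcomm, Subgroup.commutator_eq_bot_iff_le_centralizer] at h1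
    exact ⟨ha, fun b hb => ((h1 hb) a ⟨ha, hfix⟩).symm⟩
  have hsqC : ∀ a ∈ U₀, a * a ∈ C := fun a ha => hP _ (hΦfix _ (hsq a ha)).1 (hΦfix _ (hsq a ha)).2
  have hcC : ∀ a ∈ U₀, ∀ b ∈ U₀, ⁅a, b⁆ ∈ C := fun a ha b hb => by
    have h := hΦfix _ (hD (Subgroup.commutator_mem_commutator ha hb))
    exact hP _ h.1 h.2
  have hc2 : ∀ a ∈ U₀, ∀ b ∈ U₀, ⁅a, b⁆ * ⁅a, b⁆ = 1 := fun a ha b hb => by
    have h1 : Commute a ⁅a, b⁆ := (hcC a ha b hb).2 a ha
    have h2 : ⁅a * a, b⁆ = ⁅a, b⁆ * ⁅a, b⁆ := by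
      rw [show ⁅a * a, b⁆ = a * ⁅a, b⁆ * a⁻¹ * ⁅a, b⁆ by simp [commutatorElement_def, mul_assoc],
        h1.eq, mul_inv_cancel_right]
    rw [← h2, commutatorElement_eq_one_iff_mul_comm]
    exact ((hsqC a ha).2 b hb).symm
  -- the fourth powers vanish
  have h4 : ∀ a ∈ U₀, (a * a) * (a * a) = 1 := by
    let F : Subgroup X :=
      { carrier := {a | a ∈ U₀ ∧ (a * a) * (a * a) = 1}
        one_mem' := ⟨U₀.one_mem, by simp⟩
        mul_mem' := fun {a b} ha hb => ⟨U₀.mul_mem ha.1 hb.1, by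
          set c := ⁅b, a⁆ with hc
          have hcU := hcC b hb.1 a ha.1
          have ca : Commute c a := ((hcU.2 a ha.1)).symm
          have cb : Commute c b := ((hcU.2 b hb.1)).symm
          have hba : b * a = c * (a * b) := by rw [hc, commutatorElement_def]; group
          have hsqe : a * b * (a * b) = c * ((a * a) * (b * b)) := by
            calc a * b * (a * b) = a * (b * a) * b := by group
              _ = a * (c * (a * b)) * b := by rw [hba]
              _ = a * c * (a * b * b) := by group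
              _ = c * a * (a * b * b) := by rw [ca.eq]
              _ = c * ((a * a) * (b * b)) := by group
          have c1 : Commute c ((a * a) * (b * b)) := (ca.mul_right ca).mul_right (cb.mul_right cb)
          have c2 : Commute (b * b) (a * a) :=
            ((hsqC a ha.1).2 (b * b) (U₀.mul_mem hb.1 hb.1))
          rw [hsqe]
          calc c * (a * a * (b * b)) * (c * (a * a * (b * b)))
              = c * c * ((a * a * (b * b)) * (a * a * (b * b))) := by
                rw [mul_assoc c (a * a * (b * b)), ← mul_assoc (a * a * (b * b)) c, c1.eq.symm,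
                  mul_assoc c (a * a * (b * b)) (a * a * (b * b)), ← mul_assoc c c]
            _ = (a * a * (b * b)) * (a * a * (b * b)) := by rw [hc2 b hb.1 a ha.1, one_mul]
            _ = (a * a) * (a * a) * ((b * b) * (b * b)) := by
                rw [mul_assoc (a * a) (b * b), ← mul_assoc (b * b) (a * a), c2.eq,
                  mul_assoc (a * a) (b * b) (b * b), ← mul_assoc (a * a) (a * a)]
            _ = 1 := by rw [ha.2, hb.2, one_mul]⟩
        inv_mem' := fun {a} ha => ⟨U₀.inv_mem ha.1, by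
          rw [← mul_inv_rev a a, ← mul_inv_rev (a * a) (a * a), ha.2, inv_one]⟩ }
    intro a ha
    have hle : ⁅U₀, Z₀⁆ ≤ F := Subgroup.commutator_le.mpr fun b hb z hz => by
      have hzb : z * b⁻¹ * z⁻¹ ∈ U₀ := (Subgroup.mem_normalizer_iff.mp (hZU₀ hz) _).mp (U₀.inv_mem hb)
      have hbC := hsqC b hb
      have hcz : z * (b * b)⁻¹ * z⁻¹ = (b * b)⁻¹ := by
        rw [← hCc hz _ (C.inv_mem hbC), mul_inv_cancel_right]
      set e := z * b⁻¹ * z⁻¹ with he
      have hee : e * e = (b * b)⁻¹ := by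
        rw [he, show z * b⁻¹ * z⁻¹ * (z * b⁻¹ * z⁻¹) = z * (b * b)⁻¹ * z⁻¹ by group, hcz]
      have hbe : ⁅b, z⁆ = b * e := by rw [he, commutatorElement_def]; group
      rw [hbe]
      refine ⟨U₀.mul_mem hb hzb, ?_⟩
      set c := ⁅e, b⁆ with hc
      have hcU := hcC e hzb b hb
      have ca : Commute c b := (hcU.2 b hb).symm
      have hba : e * b = c * (b * e) := by rw [hc, commutatorElement_def]; group
      have hsqe : b * e * (b * e) = c := by
        calc b * e * (b * e) = b * (e * b) * e := by group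
          _ = b * (c * (b * e)) * e := by rw [hba]
          _ = b * c * (b * (e * e)) := by group
          _ = c * b * (b * (b * b)⁻¹) := by rw [ca.eq, hee]
          _ = c := by group
      rw [hsqe, hc2 e hzb b hb]
    exact (hle (hcomm.ge ha)).2
  refine ⟨fun a ha => ⟨hsqC a ha, h4 a ha⟩, fun a ha b hb => ⟨hcC a ha b hb, hc2 a ha b hb⟩,
    fun h => absurd h hab, fun _ a ha hz => hP a ha fun z hzZ => ?_⟩
  set d := ⁅z, a⁆ with hd
  have hdC := hz z hzZ
  have hdz : Commute z d := (hCc hzZ d hdC).symm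
  have hk : ∀ k : ℕ, z ^ k * a * (z ^ k)⁻¹ = d ^ k * a := by
    intro k
    induction k with
    | zero => simp
    | succ k ih =>
      rw [pow_succ' z, show z * z ^ k * a * (z * z ^ k)⁻¹ = z * (z ^ k * a * (z ^ k)⁻¹) * z⁻¹ by group, ih,
        show z * (d ^ k * a) * z⁻¹ = z * d ^ k * z⁻¹ * (z * a * z⁻¹) by group, (hdz.pow_right k).eq,
        mul_inv_cancel_right, show z * a * z⁻¹ = d * a by rw [hd, commutatorElement_def]; group, pow_succ,
        mul_assoc]
  obtain ⟨j, hj⟩ := hR ⟨z, hZR hzZ⟩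
  have h1 := hk (r ^ j)
  rw [show z ^ r ^ j = 1 from congrArg Subtype.val hj, one_mul, inv_one, mul_one, right_eq_mul] at h1
  obtain ⟨i, hi⟩ := hU₀2 ⟨d, hdC.1⟩
  have hd1 : d = 1 := orderOf_eq_one_iff.mp (Nat.eq_one_of_dvd_coprimes
    (Nat.Coprime.pow j i ((Nat.coprime_primes Fact.out Nat.prime_two).mpr hr2))
    (orderOf_dvd_of_pow_eq_one h1) (orderOf_dvd_of_pow_eq_one (congrArg Subtype.val hi)))
  exact commutatorElement_eq_one_iff_mul_comm.mp hd1

/-- A transitive-type count: with no nontrivial fixed point of the derived group, the set has at least 17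
elements. -/
theorem seventeen_le_card {r : ℕ} [Fact r.Prime] (hr2 : r ≠ 2) {R : Type*} [Group R] [Finite R]
    (hR : IsPGroup r R) {A : Type*} [Finite A] [MulAction R A] {a₀ : A} (h₀ : ∀ g : R, g • a₀ = a₀)
    (hfpf : ∀ a : A, a ≠ a₀ → ¬ commutator R ≤ MulAction.stabilizer R a) [Nontrivial A] {d : ℕ}
    (hd : Nat.card A = 2 ^ d) : 17 ≤ Nat.card A := by
  classical
  have : Fintype A := Fintype.ofFinite A
  have : Fintype (MulAction.orbitRel.Quotient R A) := Fintype.ofFinite _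
  have horb : ∀ a : A, a ≠ a₀ → r ^ 2 ∣ Nat.card (MulAction.orbit R a) := by
    intro a ha
    rw [Nat.card_coe_set_eq, ← MulAction.index_stabilizer]
    set H := MulAction.stabilizer R a with hH
    obtain ⟨k, hk⟩ := hR.index H
    rw [hk]
    refine Nat.pow_dvd_pow r ?_
    by_contra hk2
    refine hfpf a ha ?_
    rcases Nat.le_one_iff_eq_zero_or_eq_one.mp (show k ≤ 1 by omega) with rfl | rfl
    · have htop : H = ⊤ := Subgroup.index_eq_one.mp (by rw [hk, pow_zero])
      rw [← hH, htop]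
      exact le_top
    · rw [pow_one] at hk
      obtain ⟨n, hn⟩ := hR.exists_card_eq
      have hn1 : n ≠ 0 := fun h => by
        have h1 := H.index_dvd_card
        rw [hk, hn, h, pow_zero, Nat.dvd_one] at h1
        exact (Fact.out : r.Prime).ne_one h1
      have : H.Normal := Subgroup.normal_of_index_eq_minFac_card
        (by rw [hk, hn, Nat.Prime.pow_minFac Fact.out hn1])
      have : Fact (Nat.card (R ⧸ H)).Prime := ⟨by rw [← Subgroup.index_eq_card, hk]; exact Fact.out⟩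
      have : IsCyclic (R ⧸ H) := isCyclic_of_prime_card rfl
      exact Subgroup.Normal.quotient_commutative_iff_commutator_le.mp
        (let := IsCyclic.commGroup (α := R ⧸ H); ⟨⟨mul_comm⟩⟩)
  have hsum : Nat.card A = ∑ ω : MulAction.orbitRel.Quotient R A, Nat.card ω.orbit := by
    rw [Nat.card_congr (MulAction.selfEquivSigmaOrbits' R A), Nat.card_sigma]
  have hmod : (Nat.card A : ZMod (r ^ 2)) = 1 := by
    rw [hsum, Nat.cast_sum, Finset.sum_eq_single (Quotient.mk'' a₀ : MulAction.orbitRel.Quotient R A)]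
    · rw [MulAction.orbitRel.Quotient.orbit_mk]
      have : MulAction.orbit R a₀ = {a₀} := Set.eq_singleton_iff_unique_mem.mpr
        ⟨MulAction.mem_orbit_self a₀, by rintro _ ⟨g, rfl⟩; exact h₀ g⟩
      rw [this, Nat.card_coe_set_eq, Set.ncard_singleton, Nat.cast_one]
    · intro ω _ hω
      induction ω using Quotient.inductionOn' with
      | h a =>
        rw [MulAction.orbitRel.Quotient.orbit_mk, ZMod.natCast_eq_zero_iff]
        exact horb a fun e => hω (e ▸ rfl)
    · exact fun h => absurd (Finset.mem_univ _) h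
  have hr3 : 3 ≤ r := by have := (Fact.out : r.Prime).two_le; omega
  by_contra hlt
  have h1 : 2 ^ d < 2 ^ 5 := by rw [← hd]; omega
  have hd5 : d < 5 := (Nat.pow_lt_pow_iff_right (by norm_num)).mp h1
  have hd0 : d ≠ 0 := fun h => by
    rw [h, pow_zero] at hd
    exact absurd (Finite.one_lt_card (α := A)) (by omega)
  rw [← Nat.cast_one, ZMod.natCast_eq_natCast_iff] at hmod
  have hdvd : r ^ 2 ∣ 2 ^ d - 1 := by
    rw [← hd]
    exact (Nat.modEq_iff_dvd' (by rw [hd]; exact Nat.one_le_two_pow)).mp hmod.symm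
  have h9 : 9 ≤ r ^ 2 := by nlinarith
  have hpos : 0 < 2 ^ d - 1 := by
    have : 2 ^ 1 ≤ 2 ^ d := Nat.pow_le_pow_right (by norm_num) (by omega)
    omega
  have hle := Nat.le_of_dvd hpos hdvd
  interval_cases d
  all_goals first
    | omega
    | (have h15 : r ^ 2 ∣ 15 := hdvd
       have h15le : r ^ 2 ≤ 15 := Nat.le_of_dvd (by norm_num) h15
       have h3 : r ≤ 3 := by nlinarith
       interval_cases r
       norm_num at h15)

end CfsgLib.HallHigman
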